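import Cfsg.Agent.Helper17.FiQ1TC.Lemmas

set_option autoImplicit false
set_option linter.all false

noncomputable section

namespace Cfsg.Agent.Helper17.FiQ1TC

theorem F1 : act 0 n0 = n0 := d30_0 B0 
theorem F2 : act 1 n0 = n0 := d31_0 B1 
theorem F3 : act 2 n0 = n0 := d32_0 B2 
theorem F4 : act 3 n0 = n0 := d33_0 B3 
theorem F5 : act 4 n0 = n0 := d34_0 B4 
theorem F6 : act 5 n0 = n0 := d35_0 B5 
theorem F7 : act 6 n0 = n0 := d36_0 B6 
def n1 : Q := act 7 n0
theorem D1 : act 7 n0 = n1 := rfl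
theorem F8 : act 0 n1 = n1 := d6_1 D1 (iv D1) F1
theorem F9 : act 1 n1 = n1 := d12_1 D1 (iv D1) F2
theorem F10 : act 2 n1 = n1 := d17_1 D1 (iv D1) F3
theorem F11 : act 3 n1 = n1 := d21_1 D1 (iv D1) F4
theorem F12 : act 4 n1 = n1 := d24_1 D1 (iv D1) F5
theorem F13 : act 5 n1 = n1 := d26_1 D1 (iv D1) F6
def n2 : Q := act 6 n1
theorem D2 : act 6 n1 = n2 := rfl
theorem F14 : act 0 n2 = n2 := d5_1 D2 (iv D2) F8
theorem F15 : act 1 n2 = n2 := d11_1 D2 (iv D2) F9
theorem F16 : act 3 n2 = n2 := d20_1 D2 (iv D2) F11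
theorem F17 : act 4 n2 = n2 := d23_1 D2 (iv D2) F12
theorem F18 : act 5 n2 = n2 := d25_1 D2 (iv D2) F13
theorem F19 : act 7 n2 = n2 := d27_2 D1 D2 (iv D2) (iv D1) F7
def n3 : Q := act 2 n2
theorem D3 : act 2 n2 = n3 := rfl
theorem F20 : act 0 n3 = n3 := d1_1 D3 (iv D3) F14
theorem F21 : act 4 n3 = n3 := d14_2 F17 D3 (iv D3)
theorem F22 : act 5 n3 = n3 := d15_2 F18 D3 (iv D3)
theorem F23 : act 6 n3 = n3 := d16_2 D2 D3 (iv D3) (iv D2) F10
theorem F24 : act 7 n3 = n3 := d17_2 F19 D3 (iv D3)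
def n4 : Q := act 1 n3
theorem D4 : act 1 n3 = n4 := rfl
theorem F25 : act 2 n4 = n4 := d7_2 D3 D4 (iv D4) (iv D3) F15
theorem F26 : act 4 n4 = n4 := d9_2 F21 D4 (iv D4)
theorem F27 : act 5 n4 = n4 := d10_2 F22 D4 (iv D4)
theorem F28 : act 6 n4 = n4 := d11_2 F23 D4 (iv D4)
theorem F29 : act 7 n4 = n4 := d12_2 F24 D4 (iv D4)
def n5 : Q := act 3 n3
theorem D5 : act 3 n3 = n5 := rfl
theorem F30 : act 0 n5 = n5 := d2_1 D5 (iv D5) F20
theorem F31 : act 2 n5 = n5 := d13_1 D5 (iv D5) (iv D3) F16 D3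
theorem F32 : act 5 n5 = n5 := d19_2 F22 D5 (iv D5)
theorem F33 : act 6 n5 = n5 := d20_2 F23 D5 (iv D5)
theorem F34 : act 7 n5 = n5 := d21_2 F24 D5 (iv D5)
def n6 : Q := act 0 n4
theorem D6 : act 0 n4 = n6 := rfl
theorem F35 : act 1 n6 = n6 := d0_2 D4 D6 (iv D6) (iv D4) F20
theorem F36 : act 2 n6 = n6 := d1_2 F25 D6 (iv D6)
theorem F37 : act 4 n6 = n6 := d3_2 F26 D6 (iv D6)
theorem F38 : act 5 n6 = n6 := d4_2 F27 D6 (iv D6)
theorem F39 : act 6 n6 = n6 := d5_2 F28 D6 (iv D6)
theorem F40 : act 7 n6 = n6 := d6_2 F29 D6 (iv D6)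
def n7 : Q := act 3 n4
theorem D7 : act 3 n4 = n7 := rfl
theorem F41 : act 1 n7 = n5 := d8_1 D7 (iv D5) D4
theorem F42 : act 5 n7 = n7 := d19_2 F27 D7 (iv D7)
theorem F43 : act 6 n7 = n7 := d20_2 F28 D7 (iv D7)
theorem F44 : act 7 n7 = n7 := d21_2 F29 D7 (iv D7)
def n8 : Q := act 4 n5
theorem D8 : act 4 n5 = n8 := rfl
theorem F45 : act 0 n8 = n8 := d3_1 D8 (iv D8) F30
theorem F46 : act 2 n8 = n8 := d14_1 D8 (iv D8) F31
theorem F47 : act 3 n8 = n8 := d18_1 D8 (iv D8) (iv D5) F21 D5
theorem F48 : act 6 n8 = n8 := d23_2 F33 D8 (iv D8)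
theorem F49 : act 7 n8 = n8 := d24_2 F34 D8 (iv D8)
def n9 : Q := act 3 n6
theorem D9 : act 3 n6 = n9 := rfl
theorem F50 : act 0 n9 = n7 := d2_1 D9 (iv D7) D6
theorem F51 : act 1 n9 = n9 := d8_1 D9 (iv D9) F35
theorem F52 : act 5 n9 = n9 := d19_2 F38 D9 (iv D9)
theorem F53 : act 6 n9 = n9 := d20_2 F39 D9 (iv D9)
theorem F54 : act 7 n9 = n9 := d21_2 F40 D9 (iv D9)
def n10 : Q := act 2 n7
theorem D10 : act 2 n7 = n10 := rfl
theorem F55 : act 1 n10 = n10 := d7_1 D10 (iv D10) F41 F31 (iv F41)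
theorem F56 : act 3 n10 = n10 := d13_2 D7 D10 (iv D10) (iv D7) F25
theorem F57 : act 5 n10 = n10 := d15_2 F42 D10 (iv D10)
theorem F58 : act 7 n10 = n10 := d17_2 F44 D10 (iv D10)
def n11 : Q := act 4 n7
theorem D11 : act 4 n7 = n11 := rfl
theorem F59 : act 1 n11 = n8 := d9_1 D11 (iv D8) (iv F41)
theorem F60 : act 3 n11 = n11 := d18_1 D11 (iv D11) (iv D7) F26 D7
theorem F61 : act 6 n11 = n11 := d23_2 F43 D11 (iv D11)
theorem F62 : act 7 n11 = n11 := d24_2 F44 D11 (iv D11)
def n12 : Q := act 5 n8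
theorem D12 : act 5 n8 = n12 := rfl
theorem F63 : act 0 n12 = n12 := d4_1 D12 (iv D12) F45
theorem F64 : act 2 n12 = n12 := d15_1 D12 (iv D12) F46
theorem F65 : act 3 n12 = n12 := d19_1 D12 (iv D12) F47
theorem F66 : act 4 n12 = n12 := d22_1 D12 (iv D12) (iv D8) F32 D8
theorem F67 : act 6 n12 = n12 := d25_2 F48 D12 (iv D12)
theorem F68 : act 7 n12 = n12 := d26_2 F49 D12 (iv D12)
def n13 : Q := act 2 n9
theorem D13 : act 2 n9 = n13 := rfl
theorem F69 : act 0 n13 = n10 := d1_1 D13 (iv D10) (iv F50)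
theorem F70 : act 3 n13 = n13 := d13_2 D9 D13 (iv D13) (iv D9) F36
theorem F71 : act 5 n13 = n13 := d15_2 F52 D13 (iv D13)
theorem F72 : act 7 n13 = n13 := d17_2 F54 D13 (iv D13)
def n14 : Q := act 4 n9
theorem D14 : act 4 n9 = n14 := rfl
theorem F73 : act 0 n14 = n11 := d3_1 D14 (iv D11) (iv F50)
theorem F74 : act 1 n14 = n14 := d9_1 D14 (iv D14) F51
theorem F75 : act 3 n14 = n14 := d18_1 D14 (iv D14) (iv D9) F37 D9
theorem F76 : act 6 n14 = n14 := d23_2 F53 D14 (iv D14)
theorem F77 : act 7 n14 = n14 := d24_2 F54 D14 (iv D14)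
def n15 : Q := act 4 n10
theorem D15 : act 4 n10 = n15 := rfl
theorem F78 : act 1 n15 = n15 := d9_1 D15 (iv D15) F55
theorem F79 : act 2 n15 = n11 := d14_1 D15 (iv D11) D10
theorem F80 : act 7 n15 = n15 := d24_2 F58 D15 (iv D15)
def n16 : Q := act 6 n10
theorem D16 : act 6 n10 = n16 := rfl
theorem F81 : act 1 n16 = n16 := d11_1 D16 (iv D16) F55
theorem F82 : act 2 n16 = n16 := d16_1 D16 (iv D16) (iv D10) F43 D10
theorem F83 : act 3 n16 = n16 := d20_1 D16 (iv D16) F56
theorem F84 : act 5 n16 = n16 := d25_1 D16 (iv D16) F57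
def n17 : Q := act 5 n11
theorem D17 : act 5 n11 = n17 := rfl
theorem F85 : act 1 n17 = n12 := d10_1 D17 (iv D12) (iv F59)
theorem F86 : act 3 n17 = n17 := d19_1 D17 (iv D17) F60
theorem F87 : act 4 n17 = n17 := d22_1 D17 (iv D17) (iv D11) F42 D11
theorem F88 : act 6 n17 = n17 := d25_2 F61 D17 (iv D17)
theorem F89 : act 7 n17 = n17 := d26_2 F62 D17 (iv D17)
def n18 : Q := act 1 n13
theorem D18 : act 1 n13 = n18 := rfl
theorem F90 : act 0 n18 = n18 := d0_1 D18 (iv D18) F69 F55 (iv F69)
theorem F91 : act 2 n18 = n18 := d7_2 D13 D18 (iv D18) (iv D13) F51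
theorem F92 : act 3 n18 = n18 := d8_2 F70 D18 (iv D18)
theorem F93 : act 5 n18 = n18 := d10_2 F71 D18 (iv D18)
theorem F94 : act 7 n18 = n18 := d12_2 F72 D18 (iv D18)
def n19 : Q := act 4 n13
theorem D19 : act 4 n13 = n19 := rfl
theorem F95 : act 0 n19 = n15 := d3_1 D19 (iv D15) (iv F69)
theorem F96 : act 2 n19 = n14 := d14_1 D19 (iv D14) D13
theorem F97 : act 7 n19 = n19 := d24_2 F72 D19 (iv D19)
def n20 : Q := act 6 n13
theorem D20 : act 6 n13 = n20 := rfl
theorem F98 : act 0 n20 = n16 := d5_1 D20 (iv D16) (iv F69)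
theorem F99 : act 2 n20 = n20 := d16_1 D20 (iv D20) (iv D13) F53 D13
theorem F100 : act 3 n20 = n20 := d20_1 D20 (iv D20) F70
theorem F101 : act 5 n20 = n20 := d25_1 D20 (iv D20) F71
def n21 : Q := act 5 n14
theorem D21 : act 5 n14 = n21 := rfl
theorem F102 : act 0 n21 = n17 := d4_1 D21 (iv D17) (iv F73)
theorem F103 : act 1 n21 = n21 := d10_1 D21 (iv D21) F74
theorem F104 : act 3 n21 = n21 := d19_1 D21 (iv D21) F75
theorem F105 : act 4 n21 = n21 := d22_1 D21 (iv D21) (iv D14) F52 D14
theorem F106 : act 6 n21 = n21 := d25_2 F76 D21 (iv D21)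
theorem F107 : act 7 n21 = n21 := d26_2 F77 D21 (iv D21)
def n22 : Q := act 3 n15
theorem D22 : act 3 n15 = n22 := rfl
theorem F108 : act 1 n22 = n22 := d8_1 D22 (iv D22) F78
theorem F109 : act 2 n22 = n22 := d13_1 D22 (iv D22) F79 F60 (iv F79)
theorem F110 : act 4 n22 = n22 := d18_2 D15 D22 (iv D22) (iv D15) F56
theorem F111 : act 7 n22 = n22 := d21_2 F80 D22 (iv D22)
def n23 : Q := act 5 n15
theorem D23 : act 5 n15 = n23 := rfl
theorem F112 : act 1 n23 = n23 := d10_1 D23 (iv D23) F78
theorem F113 : act 2 n23 = n17 := d15_1 D23 (iv D17) (iv F79)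
theorem F114 : act 4 n23 = n23 := d22_1 D23 (iv D23) (iv D15) F57 D15
theorem F115 : act 7 n23 = n23 := d26_2 F80 D23 (iv D23)
def n24 : Q := act 6 n15
theorem D24 : act 6 n15 = n24 := rfl
theorem F116 : act 1 n24 = n24 := d11_1 D24 (iv D24) F78
theorem F117 : act 2 n24 = n24 := d16_1 D24 (iv D24) F79 F61 (iv F79)
theorem F118 : act 4 n24 = n16 := d23_1 D24 (iv D16) D15
def n25 : Q := act 7 n16
theorem D25 : act 7 n16 = n25 := rfl
theorem F119 : act 1 n25 = n25 := d12_1 D25 (iv D25) F81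
theorem F120 : act 2 n25 = n25 := d17_1 D25 (iv D25) F82
theorem F121 : act 3 n25 = n25 := d21_1 D25 (iv D25) F83
theorem F122 : act 5 n25 = n25 := d26_1 D25 (iv D25) F84
theorem F123 : act 6 n25 = n25 := d27_1 D25 (iv D25) (iv D16) F58 D16
def n26 : Q := act 4 n18
theorem D26 : act 4 n18 = n26 := rfl
theorem F124 : act 0 n26 = n26 := d3_1 D26 (iv D26) F90
theorem F125 : act 1 n26 = n19 := d9_1 D26 (iv D19) D18
theorem F126 : act 2 n26 = n26 := d14_1 D26 (iv D26) F91
theorem F127 : act 7 n26 = n26 := d24_2 F94 D26 (iv D26)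
def n27 : Q := act 6 n18
theorem D27 : act 6 n18 = n27 := rfl
theorem F128 : act 0 n27 = n27 := d5_1 D27 (iv D27) F90
theorem F129 : act 1 n27 = n20 := d11_1 D27 (iv D20) D18
theorem F130 : act 3 n27 = n27 := d20_1 D27 (iv D27) F92
theorem F131 : act 5 n27 = n27 := d25_1 D27 (iv D27) F93
def n28 : Q := act 3 n19
theorem D28 : act 3 n19 = n28 := rfl
theorem F132 : act 0 n28 = n22 := d2_1 D28 (iv D22) (iv F95)
theorem F133 : act 2 n28 = n28 := d13_1 D28 (iv D28) F96 F75 (iv F96)
theorem F134 : act 4 n28 = n28 := d18_2 D19 D28 (iv D28) (iv D19) F70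
theorem F135 : act 7 n28 = n28 := d21_2 F97 D28 (iv D28)
def n29 : Q := act 5 n19
theorem D29 : act 5 n19 = n29 := rfl
theorem F136 : act 0 n29 = n23 := d4_1 D29 (iv D23) (iv F95)
theorem F137 : act 2 n29 = n21 := d15_1 D29 (iv D21) (iv F96)
theorem F138 : act 4 n29 = n29 := d22_1 D29 (iv D29) (iv D19) F71 D19
theorem F139 : act 7 n29 = n29 := d26_2 F97 D29 (iv D29)
def n30 : Q := act 6 n19
theorem D30 : act 6 n19 = n30 := rfl
theorem F140 : act 0 n30 = n24 := d5_1 D30 (iv D24) (iv F95)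
theorem F141 : act 2 n30 = n30 := d16_1 D30 (iv D30) F96 F76 (iv F96)
theorem F142 : act 4 n30 = n20 := d23_1 D30 (iv D20) D19
def n31 : Q := act 7 n20
theorem D31 : act 7 n20 = n31 := rfl
theorem F143 : act 0 n31 = n25 := d6_1 D31 (iv D25) (iv F98)
theorem F144 : act 2 n31 = n31 := d17_1 D31 (iv D31) F99
theorem F145 : act 3 n31 = n31 := d21_1 D31 (iv D31) F100
theorem F146 : act 5 n31 = n31 := d26_1 D31 (iv D31) F101
theorem F147 : act 6 n31 = n31 := d27_1 D31 (iv D31) (iv D20) F72 D20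
def n32 : Q := act 5 n22
theorem D32 : act 5 n22 = n32 := rfl
theorem F148 : act 1 n32 = n32 := d10_1 D32 (iv D32) F108
theorem F149 : act 2 n32 = n32 := d15_1 D32 (iv D32) F109
theorem F150 : act 3 n32 = n23 := d19_1 D32 (iv D23) D22
theorem F151 : act 7 n32 = n32 := d26_2 F111 D32 (iv D32)
def n33 : Q := act 6 n22
theorem D33 : act 6 n22 = n33 := rfl
theorem F152 : act 1 n33 = n33 := d11_1 D33 (iv D33) F108
theorem F153 : act 3 n33 = n24 := d20_1 D33 (iv D24) D22
theorem F154 : act 4 n33 = n33 := d23_1 D33 (iv D33) F110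
def n34 : Q := act 6 n23
theorem D34 : act 6 n23 = n34 := rfl
theorem F155 : act 1 n34 = n34 := d11_1 D34 (iv D34) F112
theorem F156 : act 2 n34 = n34 := d16_1 D34 (iv D34) F113 F88 (iv F113)
theorem F157 : act 4 n34 = n34 := d23_1 D34 (iv D34) F114
theorem F158 : act 5 n34 = n24 := d25_1 D34 (iv D24) D23
def n35 : Q := act 7 n24
theorem D35 : act 7 n24 = n35 := rfl
theorem F159 : act 1 n35 = n35 := d12_1 D35 (iv D35) F116
theorem F160 : act 2 n35 = n35 := d17_1 D35 (iv D35) F117
theorem F161 : act 4 n35 = n25 := d24_1 D35 (iv D25) (iv F118)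
theorem F162 : act 6 n35 = n35 := d27_1 D35 (iv D35) (iv D24) F80 D24
def n36 : Q := act 3 n26
theorem D36 : act 3 n26 = n36 := rfl
theorem F163 : act 0 n36 = n36 := d2_1 D36 (iv D36) F124
theorem F164 : act 1 n36 = n28 := d8_1 D36 (iv D28) (iv F125)
theorem F165 : act 4 n36 = n36 := d18_2 D26 D36 (iv D36) (iv D26) F92
theorem F166 : act 7 n36 = n36 := d21_2 F127 D36 (iv D36)
def n37 : Q := act 5 n26
theorem D37 : act 5 n26 = n37 := rfl
theorem F167 : act 0 n37 = n37 := d4_1 D37 (iv D37) F124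
theorem F168 : act 1 n37 = n29 := d10_1 D37 (iv D29) (iv F125)
theorem F169 : act 2 n37 = n37 := d15_1 D37 (iv D37) F126
theorem F170 : act 4 n37 = n37 := d22_1 D37 (iv D37) (iv D26) F93 D26
theorem F171 : act 7 n37 = n37 := d26_2 F127 D37 (iv D37)
def n38 : Q := act 6 n26
theorem D38 : act 6 n26 = n38 := rfl
theorem F172 : act 0 n38 = n38 := d5_1 D38 (iv D38) F124
theorem F173 : act 1 n38 = n30 := d11_1 D38 (iv D30) (iv F125)
theorem F174 : act 4 n38 = n27 := d23_1 D38 (iv D27) D26
def n39 : Q := act 2 n27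
theorem D39 : act 2 n27 = n39 := rfl
theorem F175 : act 0 n39 = n39 := d1_1 D39 (iv D39) F128
theorem F176 : act 1 n39 = n39 := d7_1 D39 (iv D39) F129 F99 (iv F129)
theorem F177 : act 5 n39 = n39 := d15_2 F131 D39 (iv D39)
theorem F178 : act 6 n39 = n39 := d16_2 D27 D39 (iv D39) (iv D27) F91
def n40 : Q := act 7 n27
theorem D40 : act 7 n27 = n40 := rfl
theorem F179 : act 0 n40 = n40 := d6_1 D40 (iv D40) F128
theorem F180 : act 1 n40 = n31 := d12_1 D40 (iv D31) (iv F129)
theorem F181 : act 3 n40 = n40 := d21_1 D40 (iv D40) F130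
theorem F182 : act 5 n40 = n40 := d26_1 D40 (iv D40) F131
theorem F183 : act 6 n40 = n40 := d27_1 D40 (iv D40) (iv D27) F94 D27
def n41 : Q := act 5 n28
theorem D41 : act 5 n28 = n41 := rfl
theorem F184 : act 0 n41 = n32 := d4_1 D41 (iv D32) (iv F132)
theorem F185 : act 2 n41 = n41 := d15_1 D41 (iv D41) F133
theorem F186 : act 3 n41 = n29 := d19_1 D41 (iv D29) D28
theorem F187 : act 7 n41 = n41 := d26_2 F135 D41 (iv D41)
def n42 : Q := act 6 n28
theorem D42 : act 6 n28 = n42 := rfl
theorem F188 : act 0 n42 = n33 := d5_1 D42 (iv D33) (iv F132)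
theorem F189 : act 3 n42 = n30 := d20_1 D42 (iv D30) D28
theorem F190 : act 4 n42 = n42 := d23_1 D42 (iv D42) F134
def n43 : Q := act 6 n29
theorem D43 : act 6 n29 = n43 := rfl
theorem F191 : act 0 n43 = n34 := d5_1 D43 (iv D34) (iv F136)
theorem F192 : act 2 n43 = n43 := d16_1 D43 (iv D43) F137 F106 (iv F137)
theorem F193 : act 4 n43 = n43 := d23_1 D43 (iv D43) F138
theorem F194 : act 5 n43 = n30 := d25_1 D43 (iv D30) D29
def n44 : Q := act 7 n30
theorem D44 : act 7 n30 = n44 := rfl
theorem F195 : act 0 n44 = n35 := d6_1 D44 (iv D35) (iv F140)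
theorem F196 : act 2 n44 = n44 := d17_1 D44 (iv D44) F141
theorem F197 : act 4 n44 = n31 := d24_1 D44 (iv D31) (iv F142)
theorem F198 : act 6 n44 = n44 := d27_1 D44 (iv D44) (iv D30) F97 D30
def n45 : Q := act 4 n32
theorem D45 : act 4 n32 = n45 := rfl
theorem F199 : act 1 n45 = n45 := d9_1 D45 (iv D45) F148
theorem F200 : act 2 n45 = n45 := d14_1 D45 (iv D45) F149
theorem F201 : act 3 n45 = n45 := d18_1 D45 (iv D45) F150 F114 (iv F150)
theorem F202 : act 5 n45 = n45 := d22_2 D32 D45 (iv D45) (iv D32) F110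
theorem F203 : act 7 n45 = n45 := d24_2 F151 D45 (iv D45)
def n46 : Q := act 6 n32
theorem D46 : act 6 n32 = n46 := rfl
theorem F204 : act 1 n46 = n46 := d11_1 D46 (iv D46) F148
theorem F205 : act 3 n46 = n34 := d20_1 D46 (iv D34) (iv F150)
theorem F206 : act 5 n46 = n33 := d25_1 D46 (iv D33) D32
def n47 : Q := act 2 n33
theorem D47 : act 2 n33 = n47 := rfl
theorem F207 : act 3 n47 = n47 := d13_2 (iv F153) D47 (iv D47) F153 F117
theorem F208 : act 4 n47 = n47 := d14_2 F154 D47 (iv D47)
theorem F209 : act 6 n47 = n47 := d16_2 D33 D47 (iv D47) (iv D33) F109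
def n48 : Q := act 7 n33
theorem D48 : act 7 n33 = n48 := rfl
theorem F210 : act 1 n48 = n48 := d12_1 D48 (iv D48) F152
theorem F211 : act 3 n48 = n35 := d21_1 D48 (iv D35) (iv F153)
theorem F212 : act 4 n48 = n48 := d24_1 D48 (iv D48) F154
theorem F213 : act 6 n48 = n48 := d27_1 D48 (iv D48) (iv D33) F111 D33
def n49 : Q := act 7 n34
theorem D49 : act 7 n34 = n49 := rfl
theorem F214 : act 1 n49 = n49 := d12_1 D49 (iv D49) F155
theorem F215 : act 2 n49 = n49 := d17_1 D49 (iv D49) F156
theorem F216 : act 4 n49 = n49 := d24_1 D49 (iv D49) F157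
theorem F217 : act 5 n49 = n35 := d26_1 D49 (iv D35) (iv F158)
theorem F218 : act 6 n49 = n49 := d27_1 D49 (iv D49) (iv D34) F115 D34
def n50 : Q := act 2 n36
theorem D50 : act 2 n36 = n50 := rfl
theorem F219 : act 0 n50 = n50 := d1_1 D50 (iv D50) F163
theorem F220 : act 1 n50 = n50 := d7_1 D50 (iv D50) F164 F133 (iv F164)
theorem F221 : act 3 n50 = n50 := d13_2 D36 D50 (iv D50) (iv D36) F126
theorem F222 : act 4 n50 = n50 := d14_2 F165 D50 (iv D50)
theorem F223 : act 7 n50 = n50 := d17_2 F166 D50 (iv D50)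
def n51 : Q := act 5 n36
theorem D51 : act 5 n36 = n51 := rfl
theorem F224 : act 0 n51 = n51 := d4_1 D51 (iv D51) F163
theorem F225 : act 1 n51 = n41 := d10_1 D51 (iv D41) (iv F164)
theorem F226 : act 3 n51 = n37 := d19_1 D51 (iv D37) D36
theorem F227 : act 7 n51 = n51 := d26_2 F166 D51 (iv D51)
def n52 : Q := act 6 n36
theorem D52 : act 6 n36 = n52 := rfl
theorem F228 : act 0 n52 = n52 := d5_1 D52 (iv D52) F163
theorem F229 : act 1 n52 = n42 := d11_1 D52 (iv D42) (iv F164)
theorem F230 : act 3 n52 = n38 := d20_1 D52 (iv D38) D36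
theorem F231 : act 4 n52 = n52 := d23_1 D52 (iv D52) F165
def n53 : Q := act 6 n37
theorem D53 : act 6 n37 = n53 := rfl
theorem F232 : act 0 n53 = n53 := d5_1 D53 (iv D53) F167
theorem F233 : act 1 n53 = n43 := d11_1 D53 (iv D43) (iv F168)
theorem F234 : act 4 n53 = n53 := d23_1 D53 (iv D53) F170
theorem F235 : act 5 n53 = n38 := d25_1 D53 (iv D38) D37
def n54 : Q := act 2 n38
theorem D54 : act 2 n38 = n54 := rfl
theorem F236 : act 0 n54 = n54 := d1_1 D54 (iv D54) F172
theorem F237 : act 1 n54 = n54 := d7_1 D54 (iv D54) F173 F141 (iv F173)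
theorem F238 : act 4 n54 = n39 := d14_2 (iv F174) D54 (iv D39)
theorem F239 : act 6 n54 = n54 := d16_2 D38 D54 (iv D54) (iv D38) F126
def n55 : Q := act 7 n38
theorem D55 : act 7 n38 = n55 := rfl
theorem F240 : act 0 n55 = n55 := d6_1 D55 (iv D55) F172
theorem F241 : act 1 n55 = n44 := d12_1 D55 (iv D44) (iv F173)
theorem F242 : act 4 n55 = n40 := d24_1 D55 (iv D40) (iv F174)
theorem F243 : act 6 n55 = n55 := d27_1 D55 (iv D55) (iv D38) F127 D38
def n56 : Q := act 3 n39
theorem D56 : act 3 n39 = n56 := rfl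
theorem F244 : act 0 n56 = n56 := d2_1 D56 (iv D56) F175
theorem F245 : act 1 n56 = n56 := d8_1 D56 (iv D56) F176
theorem F246 : act 2 n56 = n56 := d13_1 D56 (iv D56) (iv D39) F130 D39
theorem F247 : act 5 n56 = n56 := d19_2 F177 D56 (iv D56)
theorem F248 : act 6 n56 = n56 := d20_2 F178 D56 (iv D56)
def n57 : Q := act 7 n39
theorem D57 : act 7 n39 = n57 := rfl
theorem F249 : act 0 n57 = n57 := d6_1 D57 (iv D57) F175
theorem F250 : act 1 n57 = n57 := d12_1 D57 (iv D57) F176
theorem F251 : act 2 n57 = n40 := d17_1 D57 (iv D40) D39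
theorem F252 : act 5 n57 = n57 := d26_1 D57 (iv D57) F177
def n58 : Q := act 4 n41
theorem D58 : act 4 n41 = n58 := rfl
theorem F253 : act 0 n58 = n45 := d3_1 D58 (iv D45) (iv F184)
theorem F254 : act 2 n58 = n58 := d14_1 D58 (iv D58) F185
theorem F255 : act 3 n58 = n58 := d18_1 D58 (iv D58) F186 F138 (iv F186)
theorem F256 : act 5 n58 = n58 := d22_2 D41 D58 (iv D58) (iv D41) F134
theorem F257 : act 7 n58 = n58 := d24_2 F187 D58 (iv D58)
def n59 : Q := act 6 n41
theorem D59 : act 6 n41 = n59 := rfl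
theorem F258 : act 0 n59 = n46 := d5_1 D59 (iv D46) (iv F184)
theorem F259 : act 3 n59 = n43 := d20_1 D59 (iv D43) (iv F186)
theorem F260 : act 5 n59 = n42 := d25_1 D59 (iv D42) D41
def n60 : Q := act 2 n42
theorem D60 : act 2 n42 = n60 := rfl
theorem F261 : act 0 n60 = n47 := d1_1 D60 (iv D47) (iv F188)
theorem F262 : act 3 n60 = n60 := d13_2 (iv F189) D60 (iv D60) F189 F141
theorem F263 : act 4 n60 = n60 := d14_2 F190 D60 (iv D60)
theorem F264 : act 6 n60 = n60 := d16_2 D42 D60 (iv D60) (iv D42) F133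
def n61 : Q := act 7 n42
theorem D61 : act 7 n42 = n61 := rfl
theorem F265 : act 0 n61 = n48 := d6_1 D61 (iv D48) (iv F188)
theorem F266 : act 3 n61 = n44 := d21_1 D61 (iv D44) (iv F189)
theorem F267 : act 4 n61 = n61 := d24_1 D61 (iv D61) F190
theorem F268 : act 6 n61 = n61 := d27_1 D61 (iv D61) (iv D42) F135 D42
def n62 : Q := act 7 n43
theorem D62 : act 7 n43 = n62 := rfl
theorem F269 : act 0 n62 = n49 := d6_1 D62 (iv D49) (iv F191)
theorem F270 : act 2 n62 = n62 := d17_1 D62 (iv D62) F192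
theorem F271 : act 4 n62 = n62 := d24_1 D62 (iv D62) F193
theorem F272 : act 5 n62 = n44 := d26_1 D62 (iv D44) (iv F194)
theorem F273 : act 6 n62 = n62 := d27_1 D62 (iv D62) (iv D43) F139 D43
def n63 : Q := act 6 n45
theorem D63 : act 6 n45 = n63 := rfl
theorem F274 : act 1 n63 = n63 := d11_1 D63 (iv D63) F199
theorem F275 : act 3 n63 = n63 := d20_1 D63 (iv D63) F201
theorem F276 : act 4 n63 = n46 := d23_1 D63 (iv D46) D45
theorem F277 : act 5 n63 = n63 := d25_1 D63 (iv D63) F202
def n64 : Q := act 2 n46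
theorem D64 : act 2 n46 = n64 := rfl
theorem F278 : act 3 n64 = n64 := d13_2 (iv F205) D64 (iv D64) F205 F156
theorem F279 : act 5 n64 = n47 := d15_2 (iv F206) D64 (iv D47)
theorem F280 : act 6 n64 = n64 := d16_2 D46 D64 (iv D64) (iv D46) F149
def n65 : Q := act 7 n46
theorem D65 : act 7 n46 = n65 := rfl
theorem F281 : act 1 n65 = n65 := d12_1 D65 (iv D65) F204
theorem F282 : act 3 n65 = n49 := d21_1 D65 (iv D49) (iv F205)
theorem F283 : act 5 n65 = n48 := d26_1 D65 (iv D48) (iv F206)
theorem F284 : act 6 n65 = n65 := d27_1 D65 (iv D65) (iv D46) F151 D46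
def n66 : Q := act 1 n47
theorem D66 : act 1 n47 = n66 := rfl
theorem F285 : act 2 n66 = n66 := d7_2 D47 D66 (iv D66) (iv D47) F152
theorem F286 : act 3 n66 = n66 := d8_2 F207 D66 (iv D66)
theorem F287 : act 4 n66 = n66 := d9_2 F208 D66 (iv D66)
theorem F288 : act 6 n66 = n66 := d11_2 F209 D66 (iv D66)
def n67 : Q := act 7 n47
theorem D67 : act 7 n47 = n67 := rfl
theorem F289 : act 2 n67 = n48 := d17_1 D67 (iv D48) D47
theorem F290 : act 3 n67 = n67 := d21_1 D67 (iv D67) F207
theorem F291 : act 4 n67 = n67 := d24_1 D67 (iv D67) F208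
def n68 : Q := act 5 n50
theorem D68 : act 5 n50 = n68 := rfl
theorem F292 : act 0 n68 = n68 := d4_1 D68 (iv D68) F219
theorem F293 : act 1 n68 = n68 := d10_1 D68 (iv D68) F220
theorem F294 : act 2 n68 = n51 := d15_1 D68 (iv D51) D50
theorem F295 : act 3 n68 = n68 := d19_1 D68 (iv D68) F221
theorem F296 : act 7 n68 = n68 := d26_2 F223 D68 (iv D68)
def n69 : Q := act 6 n50
theorem D69 : act 6 n50 = n69 := rfl
theorem F297 : act 0 n69 = n69 := d5_1 D69 (iv D69) F219
theorem F298 : act 1 n69 = n69 := d11_1 D69 (iv D69) F220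
theorem F299 : act 3 n69 = n69 := d20_1 D69 (iv D69) F221
theorem F300 : act 4 n69 = n69 := d23_1 D69 (iv D69) F222
def n70 : Q := act 4 n51
theorem D70 : act 4 n51 = n70 := rfl
theorem F301 : act 0 n70 = n70 := d3_1 D70 (iv D70) F224
theorem F302 : act 1 n70 = n58 := d9_1 D70 (iv D58) (iv F225)
theorem F303 : act 3 n70 = n70 := d18_1 D70 (iv D70) F226 F170 (iv F226)
theorem F304 : act 5 n70 = n70 := d22_2 D51 D70 (iv D70) (iv D51) F165
theorem F305 : act 7 n70 = n70 := d24_2 F227 D70 (iv D70)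
def n71 : Q := act 6 n51
theorem D71 : act 6 n51 = n71 := rfl
theorem F306 : act 0 n71 = n71 := d5_1 D71 (iv D71) F224
theorem F307 : act 1 n71 = n59 := d11_1 D71 (iv D59) (iv F225)
theorem F308 : act 3 n71 = n53 := d20_1 D71 (iv D53) (iv F226)
theorem F309 : act 5 n71 = n52 := d25_1 D71 (iv D52) D51
def n72 : Q := act 2 n52
theorem D72 : act 2 n52 = n72 := rfl
theorem F310 : act 0 n72 = n72 := d1_1 D72 (iv D72) F228
theorem F311 : act 4 n72 = n72 := d14_2 F231 D72 (iv D72)
def n73 : Q := act 7 n52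
theorem D73 : act 7 n52 = n73 := rfl
theorem F312 : act 0 n73 = n73 := d6_1 D73 (iv D73) F228
theorem F313 : act 1 n73 = n61 := d12_1 D73 (iv D61) (iv F229)
theorem F314 : act 3 n73 = n55 := d21_1 D73 (iv D55) (iv F230)
theorem F315 : act 4 n73 = n73 := d24_1 D73 (iv D73) F231
theorem F316 : act 6 n73 = n73 := d27_1 D73 (iv D73) (iv D52) F166 D52
def n74 : Q := act 2 n53
theorem D74 : act 2 n53 = n74 := rfl
theorem F317 : act 0 n74 = n74 := d1_1 D74 (iv D74) F232
theorem F318 : act 1 n74 = n74 := d7_1 D74 (iv D74) F233 F192 (iv F233)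
theorem F319 : act 4 n74 = n74 := d14_2 F234 D74 (iv D74)
theorem F320 : act 5 n74 = n54 := d15_2 (iv F235) D74 (iv D54)
theorem F321 : act 6 n74 = n74 := d16_2 D53 D74 (iv D74) (iv D53) F169
def n75 : Q := act 7 n53
theorem D75 : act 7 n53 = n75 := rfl
theorem F322 : act 0 n75 = n75 := d6_1 D75 (iv D75) F232
theorem F323 : act 1 n75 = n62 := d12_1 D75 (iv D62) (iv F233)
theorem F324 : act 4 n75 = n75 := d24_1 D75 (iv D75) F234
theorem F325 : act 5 n75 = n55 := d26_1 D75 (iv D55) (iv F235)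
theorem F326 : act 6 n75 = n75 := d27_1 D75 (iv D75) (iv D53) F171 D53
def n76 : Q := act 3 n54
theorem D76 : act 3 n54 = n76 := rfl
theorem F327 : act 0 n76 = n76 := d2_1 D76 (iv D76) F236
theorem F328 : act 1 n76 = n76 := d8_1 D76 (iv D76) F237
theorem F329 : act 6 n76 = n76 := d20_2 F239 D76 (iv D76)
def n77 : Q := act 7 n54
theorem D77 : act 7 n54 = n77 := rfl
theorem F330 : act 0 n77 = n77 := d6_1 D77 (iv D77) F236
theorem F331 : act 1 n77 = n77 := d12_1 D77 (iv D77) F237
theorem F332 : act 2 n77 = n55 := d17_1 D77 (iv D55) D54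
theorem F333 : act 4 n77 = n57 := d24_1 D77 (iv D57) (iv F238)
def n78 : Q := act 4 n56
theorem D78 : act 4 n56 = n78 := rfl
theorem F334 : act 0 n78 = n78 := d3_1 D78 (iv D78) F244
theorem F335 : act 1 n78 = n78 := d9_1 D78 (iv D78) F245
theorem F336 : act 2 n78 = n78 := d14_1 D78 (iv D78) F246
theorem F337 : act 6 n78 = n78 := d23_2 F248 D78 (iv D78)
def n79 : Q := act 7 n56
theorem D79 : act 7 n56 = n79 := rfl
theorem F338 : act 0 n79 = n79 := d6_1 D79 (iv D79) F244
theorem F339 : act 1 n79 = n79 := d12_1 D79 (iv D79) F245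
theorem F340 : act 2 n79 = n79 := d17_1 D79 (iv D79) F246
theorem F341 : act 3 n79 = n57 := d21_1 D79 (iv D57) D56
theorem F342 : act 5 n79 = n79 := d26_1 D79 (iv D79) F247
def n80 : Q := act 6 n57
theorem D80 : act 6 n57 = n80 := rfl
theorem F343 : act 0 n80 = n80 := d5_1 D80 (iv D80) F249
theorem F344 : act 1 n80 = n80 := d11_1 D80 (iv D80) F250
theorem F345 : act 2 n80 = n80 := d16_1 D80 (iv D80) F251 F183 (iv F251)
theorem F346 : act 5 n80 = n80 := d25_1 D80 (iv D80) F252
theorem F347 : act 7 n80 = n80 := d27_2 D57 D80 (iv D80) (iv D57) F178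
def n81 : Q := act 6 n58
theorem D81 : act 6 n58 = n81 := rfl
theorem F348 : act 0 n81 = n63 := d5_1 D81 (iv D63) (iv F253)
theorem F349 : act 3 n81 = n81 := d20_1 D81 (iv D81) F255
theorem F350 : act 4 n81 = n59 := d23_1 D81 (iv D59) D58
theorem F351 : act 5 n81 = n81 := d25_1 D81 (iv D81) F256
def n82 : Q := act 2 n59
theorem D82 : act 2 n59 = n82 := rfl
theorem F352 : act 0 n82 = n64 := d1_1 D82 (iv D64) (iv F258)
theorem F353 : act 3 n82 = n82 := d13_2 (iv F259) D82 (iv D82) F259 F192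
theorem F354 : act 5 n82 = n60 := d15_2 (iv F260) D82 (iv D60)
theorem F355 : act 6 n82 = n82 := d16_2 D59 D82 (iv D82) (iv D59) F185
def n83 : Q := act 7 n59
theorem D83 : act 7 n59 = n83 := rfl
theorem F356 : act 0 n83 = n65 := d6_1 D83 (iv D65) (iv F258)
theorem F357 : act 3 n83 = n62 := d21_1 D83 (iv D62) (iv F259)
theorem F358 : act 5 n83 = n61 := d26_1 D83 (iv D61) (iv F260)
theorem F359 : act 6 n83 = n83 := d27_1 D83 (iv D83) (iv D59) F187 D59
def n84 : Q := act 1 n60
theorem D84 : act 1 n60 = n84 := rfl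
theorem F360 : act 3 n84 = n84 := d8_2 F262 D84 (iv D84)
theorem F361 : act 4 n84 = n84 := d9_2 F263 D84 (iv D84)
theorem F362 : act 6 n84 = n84 := d11_2 F264 D84 (iv D84)
def n85 : Q := act 7 n60
theorem D85 : act 7 n60 = n85 := rfl
theorem F363 : act 0 n85 = n67 := d6_1 D85 (iv D67) (iv F261)
theorem F364 : act 2 n85 = n61 := d17_1 D85 (iv D61) D60
theorem F365 : act 3 n85 = n85 := d21_1 D85 (iv D85) F262
theorem F366 : act 4 n85 = n85 := d24_1 D85 (iv D85) F263
def n86 : Q := act 2 n63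
theorem D86 : act 2 n63 = n86 := rfl
theorem F367 : act 4 n86 = n64 := d14_2 (iv F276) D86 (iv D64)
theorem F368 : act 5 n86 = n86 := d15_2 F277 D86 (iv D86)
theorem F369 : act 6 n86 = n86 := d16_2 D63 D86 (iv D86) (iv D63) F200
def n87 : Q := act 7 n63
theorem D87 : act 7 n63 = n87 := rfl
theorem F370 : act 1 n87 = n87 := d12_1 D87 (iv D87) F274
theorem F371 : act 3 n87 = n87 := d21_1 D87 (iv D87) F275
theorem F372 : act 4 n87 = n65 := d24_1 D87 (iv D65) (iv F276)
theorem F373 : act 5 n87 = n87 := d26_1 D87 (iv D87) F277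
theorem F374 : act 6 n87 = n87 := d27_1 D87 (iv D87) (iv D63) F203 D63
def n88 : Q := act 1 n64
theorem D88 : act 1 n64 = n88 := rfl
theorem F375 : act 2 n88 = n88 := d7_2 D64 D88 (iv D88) (iv D64) F204
theorem F376 : act 3 n88 = n88 := d8_2 F278 D88 (iv D88)
theorem F377 : act 5 n88 = n66 := d10_2 (iv F279) D88 (iv D66)
theorem F378 : act 6 n88 = n88 := d11_2 F280 D88 (iv D88)
def n89 : Q := act 7 n64
theorem D89 : act 7 n64 = n89 := rfl
theorem F379 : act 2 n89 = n65 := d17_1 D89 (iv D65) D64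
theorem F380 : act 3 n89 = n89 := d21_1 D89 (iv D89) F278
theorem F381 : act 5 n89 = n67 := d26_1 D89 (iv D67) (iv F279)
def n90 : Q := act 0 n66
theorem D90 : act 0 n66 = n90 := rfl
theorem F382 : act 2 n90 = n90 := d1_2 F285 D90 (iv D90)
theorem F383 : act 3 n90 = n90 := d2_2 F286 D90 (iv D90)
theorem F384 : act 4 n90 = n90 := d3_2 F287 D90 (iv D90)
theorem F385 : act 6 n90 = n90 := d5_2 F288 D90 (iv D90)
def n91 : Q := act 7 n66
theorem D91 : act 7 n66 = n91 := rfl
theorem F386 : act 1 n91 = n67 := d12_1 D91 (iv D67) D66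
theorem F387 : act 2 n91 = n91 := d17_1 D91 (iv D91) F285
theorem F388 : act 3 n91 = n91 := d21_1 D91 (iv D91) F286
theorem F389 : act 4 n91 = n91 := d24_1 D91 (iv D91) F287
def n92 : Q := act 6 n67
theorem D92 : act 6 n67 = n92 := rfl
theorem F390 : act 2 n92 = n92 := d16_1 D92 (iv D92) F289 F213 (iv F289)
theorem F391 : act 3 n92 = n92 := d20_1 D92 (iv D92) F290
theorem F392 : act 4 n92 = n92 := d23_1 D92 (iv D92) F291
theorem F393 : act 7 n92 = n92 := d27_2 D67 D92 (iv D92) (iv D67) F209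
def n93 : Q := act 4 n68
theorem D93 : act 4 n68 = n93 := rfl
theorem F394 : act 0 n93 = n93 := d3_1 D93 (iv D93) F292
theorem F395 : act 1 n93 = n93 := d9_1 D93 (iv D93) F293
theorem F396 : act 2 n93 = n70 := d14_1 D93 (iv D70) (iv F294)
theorem F397 : act 5 n93 = n93 := d22_2 D68 D93 (iv D93) (iv D68) F222
theorem F398 : act 7 n93 = n93 := d24_2 F296 D93 (iv D93)
def n94 : Q := act 6 n68
theorem D94 : act 6 n68 = n94 := rfl
theorem F399 : act 0 n94 = n94 := d5_1 D94 (iv D94) F292
theorem F400 : act 1 n94 = n94 := d11_1 D94 (iv D94) F293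
theorem F401 : act 3 n94 = n94 := d20_1 D94 (iv D94) F295
theorem F402 : act 5 n94 = n69 := d25_1 D94 (iv D69) D68
def n95 : Q := act 2 n69
theorem D95 : act 2 n69 = n95 := rfl
theorem F403 : act 0 n95 = n95 := d1_1 D95 (iv D95) F297
theorem F404 : act 4 n95 = n95 := d14_2 F300 D95 (iv D95)
theorem F405 : act 6 n95 = n72 := d16_2 D69 D95 (iv D72) (iv D52) D50
def n96 : Q := act 7 n69
theorem D96 : act 7 n69 = n96 := rfl
theorem F406 : act 0 n96 = n96 := d6_1 D96 (iv D96) F297
theorem F407 : act 1 n96 = n96 := d12_1 D96 (iv D96) F298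
theorem F408 : act 3 n96 = n96 := d21_1 D96 (iv D96) F299
theorem F409 : act 4 n96 = n96 := d24_1 D96 (iv D96) F300
theorem F410 : act 6 n96 = n96 := d27_1 D96 (iv D96) (iv D69) F223 D69
def n97 : Q := act 6 n70
theorem D97 : act 6 n70 = n97 := rfl
theorem F411 : act 0 n97 = n97 := d5_1 D97 (iv D97) F301
theorem F412 : act 1 n97 = n81 := d11_1 D97 (iv D81) (iv F302)
theorem F413 : act 3 n97 = n97 := d20_1 D97 (iv D97) F303
theorem F414 : act 4 n97 = n71 := d23_1 D97 (iv D71) D70
theorem F415 : act 5 n97 = n97 := d25_1 D97 (iv D97) F304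
def n98 : Q := act 2 n71
theorem D98 : act 2 n71 = n98 := rfl
theorem F416 : act 0 n98 = n98 := d1_1 D98 (iv D98) F306
theorem F417 : act 5 n98 = n72 := d15_2 (iv F309) D98 (iv D72)
def n99 : Q := act 7 n71
theorem D99 : act 7 n71 = n99 := rfl
theorem F418 : act 0 n99 = n99 := d6_1 D99 (iv D99) F306
theorem F419 : act 1 n99 = n83 := d12_1 D99 (iv D83) (iv F307)
theorem F420 : act 3 n99 = n75 := d21_1 D99 (iv D75) (iv F308)
theorem F421 : act 5 n99 = n73 := d26_1 D99 (iv D73) (iv F309)
theorem F422 : act 6 n99 = n99 := d27_1 D99 (iv D99) (iv D71) F227 D71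
def n100 : Q := act 1 n72
theorem D100 : act 1 n72 = n100 := rfl
theorem F423 : act 2 n100 = n84 := d7_2 D72 D100 (iv D84) (iv D60) (iv F229)
theorem F424 : act 4 n100 = n100 := d9_2 F311 D100 (iv D100)
def n101 : Q := act 3 n72
theorem D101 : act 3 n72 = n101 := rfl
theorem F425 : act 0 n101 = n101 := d2_1 D101 (iv D101) F310
theorem F426 : act 2 n101 = n76 := d13_1 D101 (iv D76) (iv D54) (iv F230) D72
def n102 : Q := act 7 n72
theorem D102 : act 7 n72 = n102 := rfl
theorem F427 : act 0 n102 = n102 := d6_1 D102 (iv D102) F310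
theorem F428 : act 2 n102 = n73 := d17_1 D102 (iv D73) D72
theorem F429 : act 4 n102 = n102 := d24_1 D102 (iv D102) F311
def n103 : Q := act 3 n74
theorem D103 : act 3 n74 = n103 := rfl
theorem F430 : act 0 n103 = n103 := d2_1 D103 (iv D103) F317
theorem F431 : act 1 n103 = n103 := d8_1 D103 (iv D103) F318
theorem F432 : act 5 n103 = n76 := d19_2 (iv F320) D103 (iv D76)
theorem F433 : act 6 n103 = n103 := d20_2 F321 D103 (iv D103)
def n104 : Q := act 7 n74
theorem D104 : act 7 n74 = n104 := rfl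
theorem F434 : act 0 n104 = n104 := d6_1 D104 (iv D104) F317
theorem F435 : act 1 n104 = n104 := d12_1 D104 (iv D104) F318
theorem F436 : act 2 n104 = n75 := d17_1 D104 (iv D75) D74
theorem F437 : act 4 n104 = n104 := d24_1 D104 (iv D104) F319
theorem F438 : act 5 n104 = n77 := d26_1 D104 (iv D77) (iv F320)
def n105 : Q := act 4 n76
theorem D105 : act 4 n76 = n105 := rfl
theorem F439 : act 0 n105 = n105 := d3_1 D105 (iv D105) F327
theorem F440 : act 1 n105 = n105 := d9_1 D105 (iv D105) F328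
theorem F441 : act 3 n105 = n78 := d18_1 D105 (iv D78) (iv D56) (iv F238) D76
theorem F442 : act 6 n105 = n105 := d23_2 F329 D105 (iv D105)
def n106 : Q := act 7 n76
theorem D106 : act 7 n76 = n106 := rfl
theorem F443 : act 0 n106 = n106 := d6_1 D106 (iv D106) F327
theorem F444 : act 1 n106 = n106 := d12_1 D106 (iv D106) F328
theorem F445 : act 3 n106 = n77 := d21_1 D106 (iv D77) D76
def n107 : Q := act 6 n77
theorem D107 : act 6 n77 = n107 := rfl
theorem F446 : act 0 n107 = n107 := d5_1 D107 (iv D107) F330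
theorem F447 : act 1 n107 = n107 := d11_1 D107 (iv D107) F331
theorem F448 : act 2 n107 = n107 := d16_1 D107 (iv D107) F332 F243 (iv F332)
theorem F449 : act 4 n107 = n80 := d23_1 D107 (iv D80) (iv F333)
theorem F450 : act 7 n107 = n107 := d27_2 D77 D107 (iv D107) (iv D77) F239
def n108 : Q := act 5 n78
theorem D108 : act 5 n78 = n108 := rfl
theorem F451 : act 0 n108 = n108 := d4_1 D108 (iv D108) F334
theorem F452 : act 1 n108 = n108 := d10_1 D108 (iv D108) F335
theorem F453 : act 2 n108 = n108 := d15_1 D108 (iv D108) F336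
theorem F454 : act 4 n108 = n108 := d22_1 D108 (iv D108) (iv D78) F247 D78
theorem F455 : act 6 n108 = n108 := d25_2 F337 D108 (iv D108)
def n109 : Q := act 7 n78
theorem D109 : act 7 n78 = n109 := rfl
theorem F456 : act 0 n109 = n109 := d6_1 D109 (iv D109) F334
theorem F457 : act 1 n109 = n109 := d12_1 D109 (iv D109) F335
theorem F458 : act 2 n109 = n109 := d17_1 D109 (iv D109) F336
theorem F459 : act 4 n109 = n79 := d24_1 D109 (iv D79) D78
def n110 : Q := act 6 n79
theorem D110 : act 6 n79 = n110 := rfl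
theorem F460 : act 0 n110 = n110 := d5_1 D110 (iv D110) F338
theorem F461 : act 1 n110 = n110 := d11_1 D110 (iv D110) F339
theorem F462 : act 3 n110 = n80 := d20_1 D110 (iv D80) (iv F341)
theorem F463 : act 5 n110 = n110 := d25_1 D110 (iv D110) F342
theorem F464 : act 7 n110 = n110 := d27_2 D79 D110 (iv D110) (iv D79) F248
def n111 : Q := act 2 n81
theorem D111 : act 2 n81 = n111 := rfl
theorem F465 : act 0 n111 = n86 := d1_1 D111 (iv D86) (iv F348)
theorem F466 : act 4 n111 = n82 := d14_2 (iv F350) D111 (iv D82)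
theorem F467 : act 5 n111 = n111 := d15_2 F351 D111 (iv D111)
theorem F468 : act 6 n111 = n111 := d16_2 D81 D111 (iv D111) (iv D81) F254
def n112 : Q := act 7 n81
theorem D112 : act 7 n81 = n112 := rfl
theorem F469 : act 0 n112 = n87 := d6_1 D112 (iv D87) (iv F348)
theorem F470 : act 3 n112 = n112 := d21_1 D112 (iv D112) F349
theorem F471 : act 4 n112 = n83 := d24_1 D112 (iv D83) (iv F350)
theorem F472 : act 5 n112 = n112 := d26_1 D112 (iv D112) F351
theorem F473 : act 6 n112 = n112 := d27_1 D112 (iv D112) (iv D81) F257 D81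
def n113 : Q := act 1 n82
theorem D113 : act 1 n82 = n113 := rfl
theorem F474 : act 3 n113 = n113 := d8_2 F353 D113 (iv D113)
theorem F475 : act 5 n113 = n84 := d10_2 (iv F354) D113 (iv D84)
theorem F476 : act 6 n113 = n113 := d11_2 F355 D113 (iv D113)
def n114 : Q := act 7 n82
theorem D114 : act 7 n82 = n114 := rfl
theorem F477 : act 0 n114 = n89 := d6_1 D114 (iv D89) (iv F352)
theorem F478 : act 2 n114 = n83 := d17_1 D114 (iv D83) D82
theorem F479 : act 3 n114 = n114 := d21_1 D114 (iv D114) F353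
theorem F480 : act 5 n114 = n85 := d26_1 D114 (iv D85) (iv F354)
def n115 : Q := act 0 n84
theorem D115 : act 0 n84 = n115 := rfl
theorem F481 : act 1 n115 = n90 := d0_2 D84 D115 (iv D90) (iv D66) (iv F261)
theorem F482 : act 3 n115 = n115 := d2_2 F360 D115 (iv D115)
theorem F483 : act 4 n115 = n115 := d3_2 F361 D115 (iv D115)
theorem F484 : act 6 n115 = n115 := d5_2 F362 D115 (iv D115)
def n116 : Q := act 7 n84
theorem D116 : act 7 n84 = n116 := rfl
theorem F485 : act 1 n116 = n85 := d12_1 D116 (iv D85) D84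
theorem F486 : act 3 n116 = n116 := d21_1 D116 (iv D116) F360
theorem F487 : act 4 n116 = n116 := d24_1 D116 (iv D116) F361
def n117 : Q := act 6 n85
theorem D117 : act 6 n85 = n117 := rfl
theorem F488 : act 0 n117 = n92 := d5_1 D117 (iv D92) (iv F363)
theorem F489 : act 2 n117 = n117 := d16_1 D117 (iv D117) F364 F268 (iv F364)
theorem F490 : act 3 n117 = n117 := d20_1 D117 (iv D117) F365
theorem F491 : act 4 n117 = n117 := d23_1 D117 (iv D117) F366
theorem F492 : act 7 n117 = n117 := d27_2 D85 D117 (iv D117) (iv D85) F264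
def n118 : Q := act 1 n86
theorem D118 : act 1 n86 = n118 := rfl
theorem F493 : act 2 n118 = n118 := d7_2 D86 D118 (iv D118) (iv D86) F274
theorem F494 : act 4 n118 = n88 := d9_2 (iv F367) D118 (iv D88)
theorem F495 : act 5 n118 = n118 := d10_2 F368 D118 (iv D118)
theorem F496 : act 6 n118 = n118 := d11_2 F369 D118 (iv D118)
def n119 : Q := act 3 n86
theorem D119 : act 3 n86 = n119 := rfl
theorem F497 : act 2 n119 = n119 := d13_1 D119 (iv D119) (iv D86) F275 D86
theorem F498 : act 4 n119 = n119 := d18_2 (iv F367) D119 (iv D119) F367 F278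
theorem F499 : act 5 n119 = n119 := d19_2 F368 D119 (iv D119)
theorem F500 : act 6 n119 = n119 := d20_2 F369 D119 (iv D119)
def n120 : Q := act 7 n86
theorem D120 : act 7 n86 = n120 := rfl
theorem F501 : act 2 n120 = n87 := d17_1 D120 (iv D87) D86
theorem F502 : act 4 n120 = n89 := d24_1 D120 (iv D89) (iv F367)
theorem F503 : act 5 n120 = n120 := d26_1 D120 (iv D120) F368
def n121 : Q := act 0 n88
theorem D121 : act 0 n88 = n121 := rfl
theorem F504 : act 2 n121 = n121 := d1_2 F375 D121 (iv D121)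
theorem F505 : act 3 n121 = n121 := d2_2 F376 D121 (iv D121)
theorem F506 : act 5 n121 = n90 := d4_2 (iv F377) D121 (iv D90)
theorem F507 : act 6 n121 = n121 := d5_2 F378 D121 (iv D121)
def n122 : Q := act 7 n88
theorem D122 : act 7 n88 = n122 := rfl
theorem F508 : act 1 n122 = n89 := d12_1 D122 (iv D89) D88
theorem F509 : act 2 n122 = n122 := d17_1 D122 (iv D122) F375
theorem F510 : act 3 n122 = n122 := d21_1 D122 (iv D122) F376
theorem F511 : act 5 n122 = n91 := d26_1 D122 (iv D91) (iv F377)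
def n123 : Q := act 6 n89
theorem D123 : act 6 n89 = n123 := rfl
theorem F512 : act 2 n123 = n123 := d16_1 D123 (iv D123) F379 F284 (iv F379)
theorem F513 : act 3 n123 = n123 := d20_1 D123 (iv D123) F380
theorem F514 : act 5 n123 = n92 := d25_1 D123 (iv D92) (iv F381)
theorem F515 : act 7 n123 = n123 := d27_2 D89 D123 (iv D123) (iv D89) F280
def n124 : Q := act 7 n90
theorem D124 : act 7 n90 = n124 := rfl
theorem F516 : act 0 n124 = n91 := d6_1 D124 (iv D91) D90
theorem F517 : act 2 n124 = n124 := d17_1 D124 (iv D124) F382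
theorem F518 : act 3 n124 = n124 := d21_1 D124 (iv D124) F383
theorem F519 : act 4 n124 = n124 := d24_1 D124 (iv D124) F384
def n125 : Q := act 6 n91
theorem D125 : act 6 n91 = n125 := rfl
theorem F520 : act 1 n125 = n92 := d11_1 D125 (iv D92) (iv F386)
theorem F521 : act 3 n125 = n125 := d20_1 D125 (iv D125) F388
theorem F522 : act 4 n125 = n125 := d23_1 D125 (iv D125) F389
theorem F523 : act 7 n125 = n125 := d27_2 D91 D125 (iv D125) (iv D91) F288
def n126 : Q := act 3 n93
theorem D126 : act 3 n93 = n126 := rfl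
theorem F524 : act 0 n126 = n126 := d2_1 D126 (iv D126) F394
theorem F525 : act 1 n126 = n126 := d8_1 D126 (iv D126) F395
theorem F526 : act 2 n126 = n126 := d13_1 D126 (iv D126) F396 F303 (iv F396)
theorem F527 : act 4 n126 = n126 := d18_2 D93 D126 (iv D126) (iv D93) F295
theorem F528 : act 5 n126 = n126 := d19_2 F397 D126 (iv D126)
theorem F529 : act 7 n126 = n126 := d21_2 F398 D126 (iv D126)
def n127 : Q := act 6 n93
theorem D127 : act 6 n93 = n127 := rfl
theorem F530 : act 0 n127 = n127 := d5_1 D127 (iv D127) F394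
theorem F531 : act 1 n127 = n127 := d11_1 D127 (iv D127) F395
theorem F532 : act 4 n127 = n94 := d23_1 D127 (iv D94) D93
theorem F533 : act 5 n127 = n127 := d25_1 D127 (iv D127) F397
def n128 : Q := act 2 n94
theorem D128 : act 2 n94 = n128 := rfl
theorem F534 : act 0 n128 = n128 := d1_1 D128 (iv D128) F399
theorem F535 : act 5 n128 = n95 := d15_2 (iv F402) D128 (iv D95)
theorem F536 : act 6 n128 = n98 := d16_2 D94 D128 (iv D98) (iv D71) (iv F294)
def n129 : Q := act 7 n94
theorem D129 : act 7 n94 = n129 := rfl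
theorem F537 : act 0 n129 = n129 := d6_1 D129 (iv D129) F399
theorem F538 : act 1 n129 = n129 := d12_1 D129 (iv D129) F400
theorem F539 : act 3 n129 = n129 := d21_1 D129 (iv D129) F401
theorem F540 : act 5 n129 = n96 := d26_1 D129 (iv D96) (iv F402)
theorem F541 : act 6 n129 = n129 := d27_1 D129 (iv D129) (iv D94) F296 D94
def n130 : Q := act 1 n95
theorem D130 : act 1 n95 = n130 := rfl
theorem F542 : act 2 n130 = n130 := d7_2 D95 D130 (iv D130) (iv D95) F298
theorem F543 : act 4 n130 = n130 := d9_2 F404 D130 (iv D130)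
theorem F544 : act 6 n130 = n100 := d11_2 (iv F405) D130 (iv D100)
def n131 : Q := act 3 n95
theorem D131 : act 3 n95 = n131 := rfl
theorem F545 : act 0 n131 = n131 := d2_1 D131 (iv D131) F403
theorem F546 : act 2 n131 = n131 := d13_1 D131 (iv D131) (iv D95) F299 D95
theorem F547 : act 6 n131 = n101 := d20_2 (iv F405) D131 (iv D101)
def n132 : Q := act 7 n95
theorem D132 : act 7 n95 = n132 := rfl
theorem F548 : act 0 n132 = n132 := d6_1 D132 (iv D132) F403
theorem F549 : act 2 n132 = n96 := d17_1 D132 (iv D96) D95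
theorem F550 : act 4 n132 = n132 := d24_1 D132 (iv D132) F404
def n133 : Q := act 2 n97
theorem D133 : act 2 n97 = n133 := rfl
theorem F551 : act 0 n133 = n133 := d1_1 D133 (iv D133) F411
theorem F552 : act 4 n133 = n98 := d14_2 (iv F414) D133 (iv D98)
theorem F553 : act 5 n133 = n133 := d15_2 F415 D133 (iv D133)
def n134 : Q := act 7 n97
theorem D134 : act 7 n97 = n134 := rfl
theorem F554 : act 0 n134 = n134 := d6_1 D134 (iv D134) F411
theorem F555 : act 1 n134 = n112 := d12_1 D134 (iv D112) (iv F412)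
theorem F556 : act 3 n134 = n134 := d21_1 D134 (iv D134) F413
theorem F557 : act 4 n134 = n99 := d24_1 D134 (iv D99) (iv F414)
theorem F558 : act 5 n134 = n134 := d26_1 D134 (iv D134) F415
theorem F559 : act 6 n134 = n134 := d27_1 D134 (iv D134) (iv D97) F305 D97
def n135 : Q := act 1 n98
theorem D135 : act 1 n98 = n135 := rfl
theorem F560 : act 2 n135 = n113 := d7_2 D98 D135 (iv D113) (iv D82) (iv F307)
theorem F561 : act 5 n135 = n100 := d10_2 (iv F417) D135 (iv D100)
def n136 : Q := act 3 n98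
theorem D136 : act 3 n98 = n136 := rfl
theorem F562 : act 0 n136 = n136 := d2_1 D136 (iv D136) F416
theorem F563 : act 2 n136 = n103 := d13_1 D136 (iv D103) (iv D74) (iv F308) D98
theorem F564 : act 5 n136 = n101 := d19_2 (iv F417) D136 (iv D101)
def n137 : Q := act 7 n98
theorem D137 : act 7 n98 = n137 := rfl
theorem F565 : act 0 n137 = n137 := d6_1 D137 (iv D137) F416
theorem F566 : act 2 n137 = n99 := d17_1 D137 (iv D99) D98
theorem F567 : act 5 n137 = n102 := d26_1 D137 (iv D102) (iv F417)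
def n138 : Q := act 0 n100
theorem D138 : act 0 n100 = n138 := rfl
theorem F568 : act 1 n138 = n138 := d0_2 D100 D138 (iv D138) (iv D100) F310
theorem F569 : act 2 n138 = n115 := d1_2 (iv F423) D138 (iv D115)
theorem F570 : act 4 n138 = n138 := d3_2 F424 D138 (iv D138)
def n139 : Q := act 3 n100
theorem D139 : act 3 n100 = n139 := rfl
theorem F571 : act 1 n139 = n101 := d8_1 D139 (iv D101) D100
theorem F572 : act 2 n139 = n139 := d13_1 D139 (iv D139) F423 F360 (iv F423)
def n140 : Q := act 7 n100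
theorem D140 : act 7 n100 = n140 := rfl
theorem F573 : act 1 n140 = n102 := d12_1 D140 (iv D102) D100
theorem F574 : act 2 n140 = n116 := d17_1 D140 (iv D116) (iv F423)
theorem F575 : act 4 n140 = n140 := d24_1 D140 (iv D140) F424
def n141 : Q := act 4 n101
theorem D141 : act 4 n101 = n141 := rfl
theorem F576 : act 0 n141 = n141 := d3_1 D141 (iv D141) F425
theorem F577 : act 2 n141 = n105 := d14_1 D141 (iv D105) (iv F426)
theorem F578 : act 3 n141 = n141 := d18_1 D141 (iv D141) (iv D101) F311 D101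
def n142 : Q := act 7 n101
theorem D142 : act 7 n101 = n142 := rfl
theorem F579 : act 0 n142 = n142 := d6_1 D142 (iv D142) F425
theorem F580 : act 2 n142 = n106 := d17_1 D142 (iv D106) (iv F426)
theorem F581 : act 3 n142 = n102 := d21_1 D142 (iv D102) D101
def n143 : Q := act 6 n102
theorem D143 : act 6 n102 = n143 := rfl
theorem F582 : act 0 n143 = n143 := d5_1 D143 (iv D143) F427
theorem F583 : act 2 n143 = n143 := d16_1 D143 (iv D143) F428 F316 (iv F428)
theorem F584 : act 4 n143 = n143 := d23_1 D143 (iv D143) F429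
def n144 : Q := act 4 n103
theorem D144 : act 4 n103 = n144 := rfl
theorem F585 : act 0 n144 = n144 := d3_1 D144 (iv D144) F430
theorem F586 : act 1 n144 = n144 := d9_1 D144 (iv D144) F431
theorem F587 : act 3 n144 = n144 := d18_1 D144 (iv D144) (iv D103) F319 D103
theorem F588 : act 6 n144 = n144 := d23_2 F433 D144 (iv D144)
def n145 : Q := act 7 n103
theorem D145 : act 7 n103 = n145 := rfl
theorem F589 : act 0 n145 = n145 := d6_1 D145 (iv D145) F430
theorem F590 : act 1 n145 = n145 := d12_1 D145 (iv D145) F431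
theorem F591 : act 3 n145 = n104 := d21_1 D145 (iv D104) D103
theorem F592 : act 5 n145 = n106 := d26_1 D145 (iv D106) (iv F432)
def n146 : Q := act 6 n104
theorem D146 : act 6 n104 = n146 := rfl
theorem F593 : act 0 n146 = n146 := d5_1 D146 (iv D146) F434
theorem F594 : act 1 n146 = n146 := d11_1 D146 (iv D146) F435
theorem F595 : act 2 n146 = n146 := d16_1 D146 (iv D146) F436 F326 (iv F436)
theorem F596 : act 4 n146 = n146 := d23_1 D146 (iv D146) F437
theorem F597 : act 5 n146 = n107 := d25_1 D146 (iv D107) (iv F438)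
theorem F598 : act 7 n146 = n146 := d27_2 D104 D146 (iv D146) (iv D104) F321
def n147 : Q := act 5 n105
theorem D147 : act 5 n105 = n147 := rfl
theorem F599 : act 0 n147 = n147 := d4_1 D147 (iv D147) F439
theorem F600 : act 1 n147 = n147 := d10_1 D147 (iv D147) F440
theorem F601 : act 3 n147 = n108 := d19_1 D147 (iv D108) (iv F441)
theorem F602 : act 6 n147 = n147 := d25_2 F442 D147 (iv D147)
def n148 : Q := act 7 n105
theorem D148 : act 7 n105 = n148 := rfl
theorem F603 : act 0 n148 = n148 := d6_1 D148 (iv D148) F439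
theorem F604 : act 1 n148 = n148 := d12_1 D148 (iv D148) F440
theorem F605 : act 3 n148 = n109 := d21_1 D148 (iv D109) (iv F441)
theorem F606 : act 4 n148 = n106 := d24_1 D148 (iv D106) D105
def n149 : Q := act 6 n106
theorem D149 : act 6 n106 = n149 := rfl
theorem F607 : act 0 n149 = n149 := d5_1 D149 (iv D149) F443
theorem F608 : act 1 n149 = n149 := d11_1 D149 (iv D149) F444
theorem F609 : act 3 n149 = n107 := d20_1 D149 (iv D107) (iv F445)
theorem F610 : act 7 n149 = n149 := d27_2 D106 D149 (iv D149) (iv D106) F329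
def n150 : Q := act 7 n108
theorem D150 : act 7 n108 = n150 := rfl
theorem F611 : act 0 n150 = n150 := d6_1 D150 (iv D150) F451
theorem F612 : act 1 n150 = n150 := d12_1 D150 (iv D150) F452
theorem F613 : act 2 n150 = n150 := d17_1 D150 (iv D150) F453
theorem F614 : act 4 n150 = n150 := d24_1 D150 (iv D150) F454
theorem F615 : act 5 n150 = n109 := d26_1 D150 (iv D109) D108
def n151 : Q := act 6 n109
theorem D151 : act 6 n109 = n151 := rfl
theorem F616 : act 0 n151 = n151 := d5_1 D151 (iv D151) F456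
theorem F617 : act 1 n151 = n151 := d11_1 D151 (iv D151) F457
theorem F618 : act 4 n151 = n110 := d23_1 D151 (iv D110) (iv F459)
theorem F619 : act 7 n151 = n151 := d27_2 D109 D151 (iv D151) (iv D109) F337
def n152 : Q := act 2 n110
theorem D152 : act 2 n110 = n152 := rfl
theorem F620 : act 0 n152 = n152 := d1_1 D152 (iv D152) F460
theorem F621 : act 3 n152 = n152 := d13_2 (iv F462) D152 (iv D152) F462 F345
theorem F622 : act 5 n152 = n152 := d15_2 F463 D152 (iv D152)
theorem F623 : act 6 n152 = n152 := d16_2 D110 D152 (iv D152) (iv D110) F340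
theorem F624 : act 7 n152 = n152 := d17_2 F464 D152 (iv D152)
def n153 : Q := act 1 n111
theorem D153 : act 1 n111 = n153 := rfl
theorem F625 : act 4 n153 = n113 := d9_2 (iv F466) D153 (iv D113)
theorem F626 : act 5 n153 = n153 := d10_2 F467 D153 (iv D153)
theorem F627 : act 6 n153 = n153 := d11_2 F468 D153 (iv D153)
def n154 : Q := act 3 n111
theorem D154 : act 3 n111 = n154 := rfl
theorem F628 : act 0 n154 = n119 := d2_1 D154 (iv D119) (iv F465)
theorem F629 : act 2 n154 = n154 := d13_1 D154 (iv D154) (iv D111) F349 D111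
theorem F630 : act 4 n154 = n154 := d18_2 (iv F466) D154 (iv D154) F466 F353
theorem F631 : act 5 n154 = n154 := d19_2 F467 D154 (iv D154)
theorem F632 : act 6 n154 = n154 := d20_2 F468 D154 (iv D154)
def n155 : Q := act 7 n111
theorem D155 : act 7 n111 = n155 := rfl
theorem F633 : act 0 n155 = n120 := d6_1 D155 (iv D120) (iv F465)
theorem F634 : act 2 n155 = n112 := d17_1 D155 (iv D112) D111
theorem F635 : act 4 n155 = n114 := d24_1 D155 (iv D114) (iv F466)
theorem F636 : act 5 n155 = n155 := d26_1 D155 (iv D155) F467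
def n156 : Q := act 0 n113
theorem D156 : act 0 n113 = n156 := rfl
theorem F637 : act 1 n156 = n121 := d0_2 D113 D156 (iv D121) (iv D88) (iv F352)
theorem F638 : act 3 n156 = n156 := d2_2 F474 D156 (iv D156)
theorem F639 : act 5 n156 = n115 := d4_2 (iv F475) D156 (iv D115)
theorem F640 : act 6 n156 = n156 := d5_2 F476 D156 (iv D156)
def n157 : Q := act 7 n113
theorem D157 : act 7 n113 = n157 := rfl
theorem F641 : act 1 n157 = n114 := d12_1 D157 (iv D114) D113
theorem F642 : act 3 n157 = n157 := d21_1 D157 (iv D157) F474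
theorem F643 : act 5 n157 = n116 := d26_1 D157 (iv D116) (iv F475)
def n158 : Q := act 6 n114
theorem D158 : act 6 n114 = n158 := rfl
theorem F644 : act 0 n158 = n123 := d5_1 D158 (iv D123) (iv F477)
theorem F645 : act 2 n158 = n158 := d16_1 D158 (iv D158) F478 F359 (iv F478)
theorem F646 : act 3 n158 = n158 := d20_1 D158 (iv D158) F479
theorem F647 : act 5 n158 = n117 := d25_1 D158 (iv D117) (iv F480)
theorem F648 : act 7 n158 = n158 := d27_2 D114 D158 (iv D158) (iv D114) F355
def n159 : Q := act 7 n115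
theorem D159 : act 7 n115 = n159 := rfl
theorem F649 : act 0 n159 = n116 := d6_1 D159 (iv D116) D115
theorem F650 : act 1 n159 = n124 := d12_1 D159 (iv D124) (iv F481)
theorem F651 : act 3 n159 = n159 := d21_1 D159 (iv D159) F482
theorem F652 : act 4 n159 = n159 := d24_1 D159 (iv D159) F483
def n160 : Q := act 6 n116
theorem D160 : act 6 n116 = n160 := rfl
theorem F653 : act 1 n160 = n117 := d11_1 D160 (iv D117) (iv F485)
theorem F654 : act 3 n160 = n160 := d20_1 D160 (iv D160) F486
theorem F655 : act 4 n160 = n160 := d23_1 D160 (iv D160) F487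
theorem F656 : act 7 n160 = n160 := d27_2 D116 D160 (iv D160) (iv D116) F362
def n161 : Q := act 0 n118
theorem D161 : act 0 n118 = n161 := rfl
theorem F657 : act 2 n161 = n161 := d1_2 F493 D161 (iv D161)
theorem F658 : act 4 n161 = n121 := d3_2 (iv F494) D161 (iv D121)
theorem F659 : act 5 n161 = n161 := d4_2 F495 D161 (iv D161)
theorem F660 : act 6 n161 = n161 := d5_2 F496 D161 (iv D161)
def n162 : Q := act 3 n118
theorem D162 : act 3 n118 = n162 := rfl
theorem F661 : act 1 n162 = n119 := d8_1 D162 (iv D119) D118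
theorem F662 : act 4 n162 = n162 := d18_2 (iv F494) D162 (iv D162) F494 F376
theorem F663 : act 5 n162 = n162 := d19_2 F495 D162 (iv D162)
theorem F664 : act 6 n162 = n162 := d20_2 F496 D162 (iv D162)
def n163 : Q := act 7 n118
theorem D163 : act 7 n118 = n163 := rfl
theorem F665 : act 1 n163 = n120 := d12_1 D163 (iv D120) D118
theorem F666 : act 2 n163 = n163 := d17_1 D163 (iv D163) F493
theorem F667 : act 4 n163 = n122 := d24_1 D163 (iv D122) (iv F494)
theorem F668 : act 5 n163 = n163 := d26_1 D163 (iv D163) F495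
def n164 : Q := act 7 n119
theorem D164 : act 7 n119 = n164 := rfl
theorem F669 : act 2 n164 = n164 := d17_1 D164 (iv D164) F497
theorem F670 : act 3 n164 = n120 := d21_1 D164 (iv D120) D119
theorem F671 : act 4 n164 = n164 := d24_1 D164 (iv D164) F498
theorem F672 : act 5 n164 = n164 := d26_1 D164 (iv D164) F499
def n165 : Q := act 6 n120
theorem D165 : act 6 n120 = n165 := rfl
theorem F673 : act 2 n165 = n165 := d16_1 D165 (iv D165) F501 F374 (iv F501)
theorem F674 : act 4 n165 = n123 := d23_1 D165 (iv D123) (iv F502)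
theorem F675 : act 5 n165 = n165 := d25_1 D165 (iv D165) F503
theorem F676 : act 7 n165 = n165 := d27_2 D120 D165 (iv D165) (iv D120) F369
def n166 : Q := act 7 n121
theorem D166 : act 7 n121 = n166 := rfl
theorem F677 : act 0 n166 = n122 := d6_1 D166 (iv D122) D121
theorem F678 : act 2 n166 = n166 := d17_1 D166 (iv D166) F504
theorem F679 : act 3 n166 = n166 := d21_1 D166 (iv D166) F505
theorem F680 : act 5 n166 = n124 := d26_1 D166 (iv D124) (iv F506)
def n167 : Q := act 6 n122
theorem D167 : act 6 n122 = n167 := rfl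
theorem F681 : act 1 n167 = n123 := d11_1 D167 (iv D123) (iv F508)
theorem F682 : act 3 n167 = n167 := d20_1 D167 (iv D167) F510
theorem F683 : act 5 n167 = n125 := d25_1 D167 (iv D125) (iv F511)
theorem F684 : act 7 n167 = n167 := d27_2 D122 D167 (iv D167) (iv D122) F378
def n168 : Q := act 6 n124
theorem D168 : act 6 n124 = n168 := rfl
theorem F685 : act 0 n168 = n125 := d5_1 D168 (iv D125) (iv F516)
theorem F686 : act 3 n168 = n168 := d20_1 D168 (iv D168) F518
theorem F687 : act 4 n168 = n168 := d23_1 D168 (iv D168) F519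
theorem F688 : act 7 n168 = n168 := d27_2 D124 D168 (iv D168) (iv D124) F385
def n169 : Q := act 2 n125
theorem D169 : act 2 n125 = n169 := rfl
theorem F689 : act 1 n169 = n169 := d7_1 D169 (iv D169) F520 F390 (iv F520)
theorem F690 : act 4 n169 = n169 := d14_2 F522 D169 (iv D169)
theorem F691 : act 6 n169 = n169 := d16_2 D125 D169 (iv D169) (iv D125) F387
theorem F692 : act 7 n169 = n169 := d17_2 F523 D169 (iv D169)
def n170 : Q := act 6 n126
theorem D170 : act 6 n126 = n170 := rfl
theorem F693 : act 0 n170 = n170 := d5_1 D170 (iv D170) F524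
theorem F694 : act 1 n170 = n170 := d11_1 D170 (iv D170) F525
theorem F695 : act 3 n170 = n127 := d20_1 D170 (iv D127) D126
theorem F696 : act 4 n170 = n170 := d23_1 D170 (iv D170) F527
theorem F697 : act 5 n170 = n170 := d25_1 D170 (iv D170) F528
def n171 : Q := act 2 n127
theorem D171 : act 2 n127 = n171 := rfl
theorem F698 : act 0 n171 = n171 := d1_1 D171 (iv D171) F530
theorem F699 : act 4 n171 = n128 := d14_2 (iv F532) D171 (iv D128)
theorem F700 : act 5 n171 = n171 := d15_2 F533 D171 (iv D171)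
theorem F701 : act 6 n171 = n133 := d16_2 D127 D171 (iv D133) (iv D97) (iv F396)
def n172 : Q := act 7 n127
theorem D172 : act 7 n127 = n172 := rfl
theorem F702 : act 0 n172 = n172 := d6_1 D172 (iv D172) F530
theorem F703 : act 1 n172 = n172 := d12_1 D172 (iv D172) F531
theorem F704 : act 4 n172 = n129 := d24_1 D172 (iv D129) (iv F532)
theorem F705 : act 5 n172 = n172 := d26_1 D172 (iv D172) F533
theorem F706 : act 6 n172 = n172 := d27_1 D172 (iv D172) (iv D127) F398 D127
def n173 : Q := act 1 n128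
theorem D173 : act 1 n128 = n173 := rfl
theorem F707 : act 2 n173 = n173 := d7_2 D128 D173 (iv D173) (iv D128) F400
theorem F708 : act 5 n173 = n130 := d10_2 (iv F535) D173 (iv D130)
theorem F709 : act 6 n173 = n135 := d11_2 (iv F536) D173 (iv D135)
def n174 : Q := act 3 n128
theorem D174 : act 3 n128 = n174 := rfl
theorem F710 : act 0 n174 = n174 := d2_1 D174 (iv D174) F534
theorem F711 : act 2 n174 = n174 := d13_1 D174 (iv D174) (iv D128) F401 D128
theorem F712 : act 5 n174 = n131 := d19_2 (iv F535) D174 (iv D131)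
theorem F713 : act 6 n174 = n136 := d20_2 (iv F536) D174 (iv D136)
def n175 : Q := act 7 n128
theorem D175 : act 7 n128 = n175 := rfl
theorem F714 : act 0 n175 = n175 := d6_1 D175 (iv D175) F534
theorem F715 : act 2 n175 = n129 := d17_1 D175 (iv D129) D128
theorem F716 : act 5 n175 = n132 := d26_1 D175 (iv D132) (iv F535)
def n176 : Q := act 0 n130
theorem D176 : act 0 n130 = n176 := rfl
theorem F717 : act 1 n176 = n176 := d0_2 D130 D176 (iv D176) (iv D130) F403
theorem F718 : act 2 n176 = n176 := d1_2 F542 D176 (iv D176)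
theorem F719 : act 4 n176 = n176 := d3_2 F543 D176 (iv D176)
theorem F720 : act 6 n176 = n138 := d5_2 (iv F544) D176 (iv D138)
def n177 : Q := act 3 n130
theorem D177 : act 3 n130 = n177 := rfl
theorem F721 : act 1 n177 = n131 := d8_1 D177 (iv D131) D130
theorem F722 : act 6 n177 = n139 := d20_2 (iv F544) D177 (iv D139)
def n178 : Q := act 7 n130
theorem D178 : act 7 n130 = n178 := rfl
theorem F723 : act 1 n178 = n132 := d12_1 D178 (iv D132) D130
theorem F724 : act 2 n178 = n178 := d17_1 D178 (iv D178) F542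
theorem F725 : act 4 n178 = n178 := d24_1 D178 (iv D178) F543
def n179 : Q := act 4 n131
theorem D179 : act 4 n131 = n179 := rfl
theorem F726 : act 0 n179 = n179 := d3_1 D179 (iv D179) F545
theorem F727 : act 2 n179 = n179 := d14_1 D179 (iv D179) F546
theorem F728 : act 3 n179 = n179 := d18_1 D179 (iv D179) (iv D131) F404 D131
theorem F729 : act 6 n179 = n141 := d23_2 (iv F547) D179 (iv D141)
def n180 : Q := act 7 n131
theorem D180 : act 7 n131 = n180 := rfl
theorem F730 : act 0 n180 = n180 := d6_1 D180 (iv D180) F545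
theorem F731 : act 2 n180 = n180 := d17_1 D180 (iv D180) F546
theorem F732 : act 3 n180 = n132 := d21_1 D180 (iv D132) D131
def n181 : Q := act 6 n132
theorem D181 : act 6 n132 = n181 := rfl
theorem F733 : act 0 n181 = n181 := d5_1 D181 (iv D181) F548
theorem F734 : act 2 n181 = n181 := d16_1 D181 (iv D181) F549 F410 (iv F549)
theorem F735 : act 4 n181 = n181 := d23_1 D181 (iv D181) F550
theorem F736 : act 7 n181 = n143 := d27_2 D132 D181 (iv D143) (iv D102) (iv F405)
def n182 : Q := act 1 n133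
theorem D182 : act 1 n133 = n182 := rfl
theorem F737 : act 2 n182 = n153 := d7_2 D133 D182 (iv D153) (iv D111) (iv F412)
theorem F738 : act 4 n182 = n135 := d9_2 (iv F552) D182 (iv D135)
theorem F739 : act 5 n182 = n182 := d10_2 F553 D182 (iv D182)
def n183 : Q := act 3 n133
theorem D183 : act 3 n133 = n183 := rfl
theorem F740 : act 0 n183 = n183 := d2_1 D183 (iv D183) F551
theorem F741 : act 2 n183 = n183 := d13_1 D183 (iv D183) (iv D133) F413 D133
theorem F742 : act 5 n183 = n183 := d19_2 F553 D183 (iv D183)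
def n184 : Q := act 7 n133
theorem D184 : act 7 n133 = n184 := rfl
theorem F743 : act 0 n184 = n184 := d6_1 D184 (iv D184) F551
theorem F744 : act 2 n184 = n134 := d17_1 D184 (iv D134) D133
theorem F745 : act 4 n184 = n137 := d24_1 D184 (iv D137) (iv F552)
theorem F746 : act 5 n184 = n184 := d26_1 D184 (iv D184) F553
def n185 : Q := act 0 n135
theorem D185 : act 0 n135 = n185 := rfl
theorem F747 : act 1 n185 = n185 := d0_2 D135 D185 (iv D185) (iv D135) F416
theorem F748 : act 2 n185 = n156 := d1_2 (iv F560) D185 (iv D156)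
theorem F749 : act 5 n185 = n138 := d4_2 (iv F561) D185 (iv D138)
def n186 : Q := act 3 n135
theorem D186 : act 3 n135 = n186 := rfl
theorem F750 : act 1 n186 = n136 := d8_1 D186 (iv D136) D135
theorem F751 : act 2 n186 = n186 := d13_1 D186 (iv D186) F560 F474 (iv F560)
theorem F752 : act 5 n186 = n139 := d19_2 (iv F561) D186 (iv D139)
def n187 : Q := act 7 n135
theorem D187 : act 7 n135 = n187 := rfl
theorem F753 : act 1 n187 = n137 := d12_1 D187 (iv D137) D135
theorem F754 : act 2 n187 = n157 := d17_1 D187 (iv D157) (iv F560)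
theorem F755 : act 5 n187 = n140 := d26_1 D187 (iv D140) (iv F561)
def n188 : Q := act 4 n136
theorem D188 : act 4 n136 = n188 := rfl
theorem F756 : act 0 n188 = n188 := d3_1 D188 (iv D188) F562
theorem F757 : act 2 n188 = n144 := d14_1 D188 (iv D144) (iv F563)
def n189 : Q := act 7 n136
theorem D189 : act 7 n136 = n189 := rfl
theorem F758 : act 0 n189 = n189 := d6_1 D189 (iv D189) F562
theorem F759 : act 2 n189 = n145 := d17_1 D189 (iv D145) (iv F563)
theorem F760 : act 3 n189 = n137 := d21_1 D189 (iv D137) D136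
theorem F761 : act 5 n189 = n142 := d26_1 D189 (iv D142) (iv F564)
def n190 : Q := act 6 n137
theorem D190 : act 6 n137 = n190 := rfl
theorem F762 : act 0 n190 = n190 := d5_1 D190 (iv D190) F565
theorem F763 : act 2 n190 = n190 := d16_1 D190 (iv D190) F566 F422 (iv F566)
theorem F764 : act 5 n190 = n143 := d25_1 D190 (iv D143) (iv F567)
def n191 : Q := act 3 n138
theorem D191 : act 3 n138 = n191 := rfl
theorem F765 : act 0 n191 = n139 := d2_1 D191 (iv D139) D138
theorem F766 : act 1 n191 = n191 := d8_1 D191 (iv D191) F568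
theorem F767 : act 2 n191 = n191 := d13_1 D191 (iv D191) F569 F482 (iv F569)
def n192 : Q := act 7 n138
theorem D192 : act 7 n138 = n192 := rfl
theorem F768 : act 0 n192 = n140 := d6_1 D192 (iv D140) D138
theorem F769 : act 1 n192 = n192 := d12_1 D192 (iv D192) F568
theorem F770 : act 2 n192 = n159 := d17_1 D192 (iv D159) (iv F569)
theorem F771 : act 4 n192 = n192 := d24_1 D192 (iv D192) F570
def n193 : Q := act 4 n139
theorem D193 : act 4 n139 = n193 := rfl
theorem F772 : act 1 n193 = n141 := d9_1 D193 (iv D141) (iv F571)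
theorem F773 : act 2 n193 = n193 := d14_1 D193 (iv D193) F572
theorem F774 : act 3 n193 = n193 := d18_1 D193 (iv D193) (iv D139) F424 D139
def n194 : Q := act 7 n139
theorem D194 : act 7 n139 = n194 := rfl
theorem F775 : act 1 n194 = n142 := d12_1 D194 (iv D142) (iv F571)
theorem F776 : act 2 n194 = n194 := d17_1 D194 (iv D194) F572
theorem F777 : act 3 n194 = n140 := d21_1 D194 (iv D140) D139
def n195 : Q := act 6 n140
theorem D195 : act 6 n140 = n195 := rfl
theorem F778 : act 1 n195 = n143 := d11_1 D195 (iv D143) (iv F573)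
theorem F779 : act 4 n195 = n195 := d23_1 D195 (iv D195) F575
def n196 : Q := act 5 n141
theorem D196 : act 5 n141 = n196 := rfl
theorem F780 : act 0 n196 = n196 := d4_1 D196 (iv D196) F576
theorem F781 : act 2 n196 = n147 := d15_1 D196 (iv D147) (iv F577)
theorem F782 : act 3 n196 = n196 := d19_1 D196 (iv D196) F578
def n197 : Q := act 7 n141
theorem D197 : act 7 n141 = n197 := rfl
theorem F783 : act 0 n197 = n197 := d6_1 D197 (iv D197) F576
theorem F784 : act 2 n197 = n148 := d17_1 D197 (iv D148) (iv F577)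
theorem F785 : act 3 n197 = n197 := d21_1 D197 (iv D197) F578
theorem F786 : act 4 n197 = n142 := d24_1 D197 (iv D142) D141
def n198 : Q := act 6 n142
theorem D198 : act 6 n142 = n198 := rfl
theorem F787 : act 0 n198 = n198 := d5_1 D198 (iv D198) F579
theorem F788 : act 3 n198 = n143 := d20_1 D198 (iv D143) (iv F581)
def n199 : Q := act 5 n144
theorem D199 : act 5 n144 = n199 := rfl
theorem F789 : act 0 n199 = n199 := d4_1 D199 (iv D199) F585
theorem F790 : act 1 n199 = n199 := d10_1 D199 (iv D199) F586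
theorem F791 : act 3 n199 = n199 := d19_1 D199 (iv D199) F587
theorem F792 : act 4 n199 = n147 := d22_1 D199 (iv D147) (iv D105) (iv F432) D144
theorem F793 : act 6 n199 = n199 := d25_2 F588 D199 (iv D199)
def n200 : Q := act 7 n144
theorem D200 : act 7 n144 = n200 := rfl
theorem F794 : act 0 n200 = n200 := d6_1 D200 (iv D200) F585
theorem F795 : act 1 n200 = n200 := d12_1 D200 (iv D200) F586
theorem F796 : act 3 n200 = n200 := d21_1 D200 (iv D200) F587
theorem F797 : act 4 n200 = n145 := d24_1 D200 (iv D145) D144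
def n201 : Q := act 6 n145
theorem D201 : act 6 n145 = n201 := rfl
theorem F798 : act 0 n201 = n201 := d5_1 D201 (iv D201) F589
theorem F799 : act 1 n201 = n201 := d11_1 D201 (iv D201) F590
theorem F800 : act 3 n201 = n146 := d20_1 D201 (iv D146) (iv F591)
theorem F801 : act 5 n201 = n149 := d25_1 D201 (iv D149) (iv F592)
theorem F802 : act 7 n201 = n201 := d27_2 D145 D201 (iv D201) (iv D145) F433
def n202 : Q := act 7 n147
theorem D202 : act 7 n147 = n202 := rfl
theorem F803 : act 0 n202 = n202 := d6_1 D202 (iv D202) F599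
theorem F804 : act 1 n202 = n202 := d12_1 D202 (iv D202) F600
theorem F805 : act 3 n202 = n150 := d21_1 D202 (iv D150) (iv F601)
theorem F806 : act 5 n202 = n148 := d26_1 D202 (iv D148) D147
def n203 : Q := act 6 n148
theorem D203 : act 6 n148 = n203 := rfl
theorem F807 : act 0 n203 = n203 := d5_1 D203 (iv D203) F603
theorem F808 : act 1 n203 = n203 := d11_1 D203 (iv D203) F604
theorem F809 : act 3 n203 = n151 := d20_1 D203 (iv D151) (iv F605)
theorem F810 : act 4 n203 = n149 := d23_1 D203 (iv D149) (iv F606)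
theorem F811 : act 7 n203 = n203 := d27_2 D148 D203 (iv D203) (iv D148) F442
def n204 : Q := act 2 n149
theorem D204 : act 2 n149 = n204 := rfl
theorem F812 : act 0 n204 = n204 := d1_1 D204 (iv D204) F607
theorem F813 : act 3 n204 = n204 := d13_2 (iv F609) D204 (iv D204) F609 F448
theorem F814 : act 7 n204 = n204 := d17_2 F610 D204 (iv D204)
def n205 : Q := act 6 n150
theorem D205 : act 6 n150 = n205 := rfl
theorem F815 : act 0 n205 = n205 := d5_1 D205 (iv D205) F611
theorem F816 : act 1 n205 = n205 := d11_1 D205 (iv D205) F612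
theorem F817 : act 4 n205 = n205 := d23_1 D205 (iv D205) F614
theorem F818 : act 5 n205 = n151 := d25_1 D205 (iv D151) (iv F615)
theorem F819 : act 7 n205 = n205 := d27_2 D150 D205 (iv D205) (iv D150) F455
def n206 : Q := act 2 n151
theorem D206 : act 2 n151 = n206 := rfl
theorem F820 : act 0 n206 = n206 := d1_1 D206 (iv D206) F616
theorem F821 : act 4 n206 = n152 := d14_2 (iv F618) D206 (iv D152)
theorem F822 : act 6 n206 = n206 := d16_2 D151 D206 (iv D206) (iv D151) F458
theorem F823 : act 7 n206 = n206 := d17_2 F619 D206 (iv D206)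
def n207 : Q := act 1 n152
theorem D207 : act 1 n152 = n207 := rfl
theorem F824 : act 2 n207 = n207 := d7_2 D152 D207 (iv D207) (iv D152) F461
theorem F825 : act 3 n207 = n207 := d8_2 F621 D207 (iv D207)
theorem F826 : act 5 n207 = n207 := d10_2 F622 D207 (iv D207)
theorem F827 : act 6 n207 = n207 := d11_2 F623 D207 (iv D207)
theorem F828 : act 7 n207 = n207 := d12_2 F624 D207 (iv D207)
def n208 : Q := act 0 n153
theorem D208 : act 0 n153 = n208 := rfl
theorem F829 : act 1 n208 = n161 := d0_2 D153 D208 (iv D161) (iv D118) (iv F465)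
theorem F830 : act 4 n208 = n156 := d3_2 (iv F625) D208 (iv D156)
theorem F831 : act 5 n208 = n208 := d4_2 F626 D208 (iv D208)
theorem F832 : act 6 n208 = n208 := d5_2 F627 D208 (iv D208)
def n209 : Q := act 3 n153
theorem D209 : act 3 n153 = n209 := rfl
theorem F833 : act 1 n209 = n154 := d8_1 D209 (iv D154) D153
theorem F834 : act 4 n209 = n209 := d18_2 (iv F625) D209 (iv D209) F625 F474
theorem F835 : act 5 n209 = n209 := d19_2 F626 D209 (iv D209)
theorem F836 : act 6 n209 = n209 := d20_2 F627 D209 (iv D209)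
def n210 : Q := act 7 n153
theorem D210 : act 7 n153 = n210 := rfl
theorem F837 : act 1 n210 = n155 := d12_1 D210 (iv D155) D153
theorem F838 : act 4 n210 = n157 := d24_1 D210 (iv D157) (iv F625)
theorem F839 : act 5 n210 = n210 := d26_1 D210 (iv D210) F626
def n211 : Q := act 7 n154
theorem D211 : act 7 n154 = n211 := rfl
theorem F840 : act 0 n211 = n164 := d6_1 D211 (iv D164) (iv F628)
theorem F841 : act 2 n211 = n211 := d17_1 D211 (iv D211) F629
theorem F842 : act 3 n211 = n155 := d21_1 D211 (iv D155) D154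
theorem F843 : act 4 n211 = n211 := d24_1 D211 (iv D211) F630
theorem F844 : act 5 n211 = n211 := d26_1 D211 (iv D211) F631
def n212 : Q := act 6 n155
theorem D212 : act 6 n155 = n212 := rfl
theorem F845 : act 0 n212 = n165 := d5_1 D212 (iv D165) (iv F633)
theorem F846 : act 2 n212 = n212 := d16_1 D212 (iv D212) F634 F473 (iv F634)
theorem F847 : act 4 n212 = n158 := d23_1 D212 (iv D158) (iv F635)
theorem F848 : act 5 n212 = n212 := d25_1 D212 (iv D212) F636
theorem F849 : act 7 n212 = n212 := d27_2 D155 D212 (iv D212) (iv D155) F468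
def n213 : Q := act 7 n156
theorem D213 : act 7 n156 = n213 := rfl
theorem F850 : act 0 n213 = n157 := d6_1 D213 (iv D157) D156
theorem F851 : act 1 n213 = n166 := d12_1 D213 (iv D166) (iv F637)
theorem F852 : act 3 n213 = n213 := d21_1 D213 (iv D213) F638
theorem F853 : act 5 n213 = n159 := d26_1 D213 (iv D159) (iv F639)
def n214 : Q := act 6 n157
theorem D214 : act 6 n157 = n214 := rfl
theorem F854 : act 1 n214 = n158 := d11_1 D214 (iv D158) (iv F641)
theorem F855 : act 3 n214 = n214 := d20_1 D214 (iv D214) F642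
theorem F856 : act 5 n214 = n160 := d25_1 D214 (iv D160) (iv F643)
theorem F857 : act 7 n214 = n214 := d27_2 D157 D214 (iv D214) (iv D157) F476
def n215 : Q := act 6 n159
theorem D215 : act 6 n159 = n215 := rfl
theorem F858 : act 0 n215 = n160 := d5_1 D215 (iv D160) (iv F649)
theorem F859 : act 1 n215 = n168 := d11_1 D215 (iv D168) (iv F650)
theorem F860 : act 3 n215 = n215 := d20_1 D215 (iv D215) F651
theorem F861 : act 4 n215 = n215 := d23_1 D215 (iv D215) F652
theorem F862 : act 7 n215 = n215 := d27_2 D159 D215 (iv D215) (iv D159) F484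
def n216 : Q := act 2 n160
theorem D216 : act 2 n160 = n216 := rfl
theorem F863 : act 1 n216 = n216 := d7_1 D216 (iv D216) F653 F489 (iv F653)
theorem F864 : act 4 n216 = n216 := d14_2 F655 D216 (iv D216)
theorem F865 : act 7 n216 = n216 := d17_2 F656 D216 (iv D216)
def n217 : Q := act 3 n161
theorem D217 : act 3 n161 = n217 := rfl
theorem F866 : act 0 n217 = n162 := d2_1 D217 (iv D162) D161
theorem F867 : act 4 n217 = n217 := d18_2 (iv F658) D217 (iv D217) F658 F505
theorem F868 : act 5 n217 = n217 := d19_2 F659 D217 (iv D217)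
theorem F869 : act 6 n217 = n217 := d20_2 F660 D217 (iv D217)
def n218 : Q := act 7 n161
theorem D218 : act 7 n161 = n218 := rfl
theorem F870 : act 0 n218 = n163 := d6_1 D218 (iv D163) D161
theorem F871 : act 2 n218 = n218 := d17_1 D218 (iv D218) F657
theorem F872 : act 4 n218 = n166 := d24_1 D218 (iv D166) (iv F658)
theorem F873 : act 5 n218 = n218 := d26_1 D218 (iv D218) F659
def n219 : Q := act 2 n162
theorem D219 : act 2 n162 = n219 := rfl
theorem F874 : act 1 n219 = n219 := d7_1 D219 (iv D219) F661 F497 (iv F661)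
theorem F875 : act 3 n219 = n219 := d13_2 D162 D219 (iv D219) (iv D162) F493
theorem F876 : act 4 n219 = n219 := d14_2 F662 D219 (iv D219)
theorem F877 : act 5 n219 = n219 := d15_2 F663 D219 (iv D219)
def n220 : Q := act 7 n162
theorem D220 : act 7 n162 = n220 := rfl
theorem F878 : act 1 n220 = n164 := d12_1 D220 (iv D164) (iv F661)
theorem F879 : act 3 n220 = n163 := d21_1 D220 (iv D163) D162
theorem F880 : act 4 n220 = n220 := d24_1 D220 (iv D220) F662
theorem F881 : act 5 n220 = n220 := d26_1 D220 (iv D220) F663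
def n221 : Q := act 6 n163
theorem D221 : act 6 n163 = n221 := rfl
theorem F882 : act 1 n221 = n165 := d11_1 D221 (iv D165) (iv F665)
theorem F883 : act 4 n221 = n167 := d23_1 D221 (iv D167) (iv F667)
theorem F884 : act 5 n221 = n221 := d25_1 D221 (iv D221) F668
theorem F885 : act 7 n221 = n221 := d27_2 D163 D221 (iv D221) (iv D163) F496
def n222 : Q := act 6 n164
theorem D222 : act 6 n164 = n222 := rfl
theorem F886 : act 3 n222 = n165 := d20_1 D222 (iv D165) (iv F670)
theorem F887 : act 4 n222 = n222 := d23_1 D222 (iv D222) F671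
theorem F888 : act 5 n222 = n222 := d25_1 D222 (iv D222) F672
theorem F889 : act 7 n222 = n222 := d27_2 D164 D222 (iv D222) (iv D164) F500
def n223 : Q := act 6 n166
theorem D223 : act 6 n166 = n223 := rfl
theorem F890 : act 0 n223 = n167 := d5_1 D223 (iv D167) (iv F677)
theorem F891 : act 3 n223 = n223 := d20_1 D223 (iv D223) F679
theorem F892 : act 5 n223 = n168 := d25_1 D223 (iv D168) (iv F680)
theorem F893 : act 7 n223 = n223 := d27_2 D166 D223 (iv D223) (iv D166) F507
def n224 : Q := act 2 n167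
theorem D224 : act 2 n167 = n224 := rfl
theorem F894 : act 1 n224 = n224 := d7_1 D224 (iv D224) F681 F512 (iv F681)
theorem F895 : act 5 n224 = n169 := d15_2 (iv F683) D224 (iv D169)
theorem F896 : act 6 n224 = n224 := d16_2 D167 D224 (iv D224) (iv D167) F509
theorem F897 : act 7 n224 = n224 := d17_2 F684 D224 (iv D224)
def n225 : Q := act 2 n168
theorem D225 : act 2 n168 = n225 := rfl
theorem F898 : act 0 n225 = n169 := d1_1 D225 (iv D169) (iv F685)
theorem F899 : act 4 n225 = n225 := d14_2 F687 D225 (iv D225)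
theorem F900 : act 6 n225 = n225 := d16_2 D168 D225 (iv D225) (iv D168) F517
theorem F901 : act 7 n225 = n225 := d17_2 F688 D225 (iv D225)
def n226 : Q := act 3 n169
theorem D226 : act 3 n169 = n226 := rfl
theorem F902 : act 1 n226 = n226 := d8_1 D226 (iv D226) F689
theorem F903 : act 2 n226 = n226 := d13_1 D226 (iv D226) (iv D169) F521 D169
theorem F904 : act 6 n226 = n226 := d20_2 F691 D226 (iv D226)
theorem F905 : act 7 n226 = n226 := d21_2 F692 D226 (iv D226)
def n227 : Q := act 2 n170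
theorem D227 : act 2 n170 = n227 := rfl
theorem F906 : act 0 n227 = n227 := d1_1 D227 (iv D227) F693
theorem F907 : act 4 n227 = n227 := d14_2 F696 D227 (iv D227)
theorem F908 : act 5 n227 = n227 := d15_2 F697 D227 (iv D227)
theorem F909 : act 6 n227 = n227 := d16_2 D170 D227 (iv D227) (iv D170) F526
def n228 : Q := act 7 n170
theorem D228 : act 7 n170 = n228 := rfl
theorem F910 : act 0 n228 = n228 := d6_1 D228 (iv D228) F693
theorem F911 : act 1 n228 = n228 := d12_1 D228 (iv D228) F694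
theorem F912 : act 3 n228 = n172 := d21_1 D228 (iv D172) (iv F695)
theorem F913 : act 4 n228 = n228 := d24_1 D228 (iv D228) F696
theorem F914 : act 5 n228 = n228 := d26_1 D228 (iv D228) F697
theorem F915 : act 6 n228 = n228 := d27_1 D228 (iv D228) (iv D170) F529 D170
def n229 : Q := act 1 n171
theorem D229 : act 1 n171 = n229 := rfl
theorem F916 : act 2 n229 = n229 := d7_2 D171 D229 (iv D229) (iv D171) F531
theorem F917 : act 4 n229 = n173 := d9_2 (iv F699) D229 (iv D173)
theorem F918 : act 5 n229 = n229 := d10_2 F700 D229 (iv D229)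
theorem F919 : act 6 n229 = n182 := d11_2 (iv F701) D229 (iv D182)
def n230 : Q := act 3 n171
theorem D230 : act 3 n171 = n230 := rfl
theorem F920 : act 0 n230 = n230 := d2_1 D230 (iv D230) F698
theorem F921 : act 5 n230 = n230 := d19_2 F700 D230 (iv D230)
theorem F922 : act 6 n230 = n183 := d20_2 (iv F701) D230 (iv D183)
def n231 : Q := act 7 n171
theorem D231 : act 7 n171 = n231 := rfl
theorem F923 : act 0 n231 = n231 := d6_1 D231 (iv D231) F698
theorem F924 : act 2 n231 = n172 := d17_1 D231 (iv D172) D171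
theorem F925 : act 4 n231 = n175 := d24_1 D231 (iv D175) (iv F699)
theorem F926 : act 5 n231 = n231 := d26_1 D231 (iv D231) F700
def n232 : Q := act 0 n173
theorem D232 : act 0 n173 = n232 := rfl
theorem F927 : act 1 n232 = n232 := d0_2 D173 D232 (iv D232) (iv D173) F534
theorem F928 : act 2 n232 = n232 := d1_2 F707 D232 (iv D232)
theorem F929 : act 5 n232 = n176 := d4_2 (iv F708) D232 (iv D176)
theorem F930 : act 6 n232 = n185 := d5_2 (iv F709) D232 (iv D185)
def n233 : Q := act 3 n173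
theorem D233 : act 3 n173 = n233 := rfl
theorem F931 : act 1 n233 = n174 := d8_1 D233 (iv D174) D173
theorem F932 : act 5 n233 = n177 := d19_2 (iv F708) D233 (iv D177)
theorem F933 : act 6 n233 = n186 := d20_2 (iv F709) D233 (iv D186)
def n234 : Q := act 7 n173
theorem D234 : act 7 n173 = n234 := rfl
theorem F934 : act 1 n234 = n175 := d12_1 D234 (iv D175) D173
theorem F935 : act 2 n234 = n234 := d17_1 D234 (iv D234) F707
theorem F936 : act 5 n234 = n178 := d26_1 D234 (iv D178) (iv F708)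
def n235 : Q := act 4 n174
theorem D235 : act 4 n174 = n235 := rfl
theorem F937 : act 0 n235 = n235 := d3_1 D235 (iv D235) F710
theorem F938 : act 2 n235 = n235 := d14_1 D235 (iv D235) F711
theorem F939 : act 6 n235 = n188 := d23_2 (iv F713) D235 (iv D188)
def n236 : Q := act 7 n174
theorem D236 : act 7 n174 = n236 := rfl
theorem F940 : act 0 n236 = n236 := d6_1 D236 (iv D236) F710
theorem F941 : act 2 n236 = n236 := d17_1 D236 (iv D236) F711
theorem F942 : act 3 n236 = n175 := d21_1 D236 (iv D175) D174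
theorem F943 : act 5 n236 = n180 := d26_1 D236 (iv D180) (iv F712)
def n237 : Q := act 6 n175
theorem D237 : act 6 n175 = n237 := rfl
theorem F944 : act 0 n237 = n237 := d5_1 D237 (iv D237) F714
theorem F945 : act 2 n237 = n237 := d16_1 D237 (iv D237) F715 F541 (iv F715)
theorem F946 : act 5 n237 = n181 := d25_1 D237 (iv D181) (iv F716)
theorem F947 : act 7 n237 = n190 := d27_2 D175 D237 (iv D190) (iv D137) (iv F536)
def n238 : Q := act 3 n176
theorem D238 : act 3 n176 = n238 := rfl
theorem F948 : act 0 n238 = n177 := d2_1 D238 (iv D177) D176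
theorem F949 : act 1 n238 = n238 := d8_1 D238 (iv D238) F717
theorem F950 : act 6 n238 = n191 := d20_2 (iv F720) D238 (iv D191)
def n239 : Q := act 7 n176
theorem D239 : act 7 n176 = n239 := rfl
theorem F951 : act 0 n239 = n178 := d6_1 D239 (iv D178) D176
theorem F952 : act 1 n239 = n239 := d12_1 D239 (iv D239) F717
theorem F953 : act 2 n239 = n239 := d17_1 D239 (iv D239) F718
theorem F954 : act 4 n239 = n239 := d24_1 D239 (iv D239) F719
def n240 : Q := act 2 n177
theorem D240 : act 2 n177 = n240 := rfl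
theorem F955 : act 1 n240 = n240 := d7_1 D240 (iv D240) F721 F546 (iv F721)
theorem F956 : act 3 n240 = n240 := d13_2 D177 D240 (iv D240) (iv D177) F542
theorem F957 : act 6 n240 = n240 := d16_2 (iv F722) D240 (iv D240) F722 F572
def n241 : Q := act 4 n177
theorem D241 : act 4 n177 = n241 := rfl
theorem F958 : act 1 n241 = n179 := d9_1 D241 (iv D179) (iv F721)
theorem F959 : act 3 n241 = n241 := d18_1 D241 (iv D241) (iv D177) F543 D177
theorem F960 : act 6 n241 = n193 := d23_2 (iv F722) D241 (iv D193)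
def n242 : Q := act 7 n177
theorem D242 : act 7 n177 = n242 := rfl
theorem F961 : act 1 n242 = n180 := d12_1 D242 (iv D180) (iv F721)
theorem F962 : act 3 n242 = n178 := d21_1 D242 (iv D178) D177
def n243 : Q := act 6 n178
theorem D243 : act 6 n178 = n243 := rfl
theorem F963 : act 1 n243 = n181 := d11_1 D243 (iv D181) (iv F723)
theorem F964 : act 4 n243 = n243 := d23_1 D243 (iv D243) F725
theorem F965 : act 7 n243 = n195 := d27_2 D178 D243 (iv D195) (iv D140) (iv F544)
def n244 : Q := act 5 n179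
theorem D244 : act 5 n179 = n244 := rfl
theorem F966 : act 0 n244 = n244 := d4_1 D244 (iv D244) F726
theorem F967 : act 2 n244 = n244 := d15_1 D244 (iv D244) F727
theorem F968 : act 3 n244 = n244 := d19_1 D244 (iv D244) F728
theorem F969 : act 6 n244 = n196 := d25_2 (iv F729) D244 (iv D196)
def n245 : Q := act 7 n179
theorem D245 : act 7 n179 = n245 := rfl
theorem F970 : act 0 n245 = n245 := d6_1 D245 (iv D245) F726
theorem F971 : act 2 n245 = n245 := d17_1 D245 (iv D245) F727
theorem F972 : act 3 n245 = n245 := d21_1 D245 (iv D245) F728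
theorem F973 : act 4 n245 = n180 := d24_1 D245 (iv D180) D179
def n246 : Q := act 6 n180
theorem D246 : act 6 n180 = n246 := rfl
theorem F974 : act 0 n246 = n246 := d5_1 D246 (iv D246) F730
theorem F975 : act 3 n246 = n181 := d20_1 D246 (iv D181) (iv F732)
theorem F976 : act 7 n246 = n198 := d27_2 D180 D246 (iv D198) (iv D142) (iv F547)
def n247 : Q := act 0 n182
theorem D247 : act 0 n182 = n247 := rfl
theorem F977 : act 1 n247 = n247 := d0_2 D182 D247 (iv D247) (iv D182) F551
theorem F978 : act 2 n247 = n208 := d1_2 (iv F737) D247 (iv D208)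
theorem F979 : act 4 n247 = n185 := d3_2 (iv F738) D247 (iv D185)
theorem F980 : act 5 n247 = n247 := d4_2 F739 D247 (iv D247)
def n248 : Q := act 3 n182
theorem D248 : act 3 n182 = n248 := rfl
theorem F981 : act 1 n248 = n183 := d8_1 D248 (iv D183) D182
theorem F982 : act 5 n248 = n248 := d19_2 F739 D248 (iv D248)
def n249 : Q := act 7 n182
theorem D249 : act 7 n182 = n249 := rfl
theorem F983 : act 1 n249 = n184 := d12_1 D249 (iv D184) D182
theorem F984 : act 2 n249 = n210 := d17_1 D249 (iv D210) (iv F737)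
theorem F985 : act 4 n249 = n187 := d24_1 D249 (iv D187) (iv F738)
theorem F986 : act 5 n249 = n249 := d26_1 D249 (iv D249) F739
def n250 : Q := act 4 n183
theorem D250 : act 4 n183 = n250 := rfl
theorem F987 : act 0 n250 = n250 := d3_1 D250 (iv D250) F740
theorem F988 : act 2 n250 = n250 := d14_1 D250 (iv D250) F741
theorem F989 : act 3 n250 = n188 := d18_1 D250 (iv D188) (iv D136) (iv F552) D183
def n251 : Q := act 7 n183
theorem D251 : act 7 n183 = n251 := rfl
theorem F990 : act 0 n251 = n251 := d6_1 D251 (iv D251) F740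
theorem F991 : act 2 n251 = n251 := d17_1 D251 (iv D251) F741
theorem F992 : act 3 n251 = n184 := d21_1 D251 (iv D184) D183
theorem F993 : act 5 n251 = n251 := d26_1 D251 (iv D251) F742
def n252 : Q := act 6 n184
theorem D252 : act 6 n184 = n252 := rfl
theorem F994 : act 0 n252 = n252 := d5_1 D252 (iv D252) F743
theorem F995 : act 2 n252 = n252 := d16_1 D252 (iv D252) F744 F559 (iv F744)
theorem F996 : act 4 n252 = n190 := d23_1 D252 (iv D190) (iv F745)
theorem F997 : act 5 n252 = n252 := d25_1 D252 (iv D252) F746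
def n253 : Q := act 3 n185
theorem D253 : act 3 n185 = n253 := rfl
theorem F998 : act 0 n253 = n186 := d2_1 D253 (iv D186) D185
theorem F999 : act 1 n253 = n253 := d8_1 D253 (iv D253) F747
theorem F1000 : act 2 n253 = n253 := d13_1 D253 (iv D253) F748 F638 (iv F748)
theorem F1001 : act 5 n253 = n191 := d19_2 (iv F749) D253 (iv D191)
def n254 : Q := act 7 n185
theorem D254 : act 7 n185 = n254 := rfl
theorem F1002 : act 0 n254 = n187 := d6_1 D254 (iv D187) D185
theorem F1003 : act 1 n254 = n254 := d12_1 D254 (iv D254) F747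
theorem F1004 : act 2 n254 = n213 := d17_1 D254 (iv D213) (iv F748)
theorem F1005 : act 5 n254 = n192 := d26_1 D254 (iv D192) (iv F749)
def n255 : Q := act 4 n186
theorem D255 : act 4 n186 = n255 := rfl
theorem F1006 : act 1 n255 = n188 := d9_1 D255 (iv D188) (iv F750)
theorem F1007 : act 2 n255 = n255 := d14_1 D255 (iv D255) F751
def n256 : Q := act 7 n186
theorem D256 : act 7 n186 = n256 := rfl
theorem F1008 : act 1 n256 = n189 := d12_1 D256 (iv D189) (iv F750)
theorem F1009 : act 2 n256 = n256 := d17_1 D256 (iv D256) F751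
theorem F1010 : act 3 n256 = n187 := d21_1 D256 (iv D187) D186
theorem F1011 : act 5 n256 = n194 := d26_1 D256 (iv D194) (iv F752)
def n257 : Q := act 6 n187
theorem D257 : act 6 n187 = n257 := rfl
theorem F1012 : act 1 n257 = n190 := d11_1 D257 (iv D190) (iv F753)
theorem F1013 : act 5 n257 = n195 := d25_1 D257 (iv D195) (iv F755)
def n258 : Q := act 5 n188
theorem D258 : act 5 n188 = n258 := rfl
theorem F1014 : act 0 n258 = n258 := d4_1 D258 (iv D258) F756
theorem F1015 : act 2 n258 = n199 := d15_1 D258 (iv D199) (iv F757)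
theorem F1016 : act 4 n258 = n196 := d22_1 D258 (iv D196) (iv D141) (iv F564) D188
def n259 : Q := act 7 n188
theorem D259 : act 7 n188 = n259 := rfl
theorem F1017 : act 0 n259 = n259 := d6_1 D259 (iv D259) F756
theorem F1018 : act 2 n259 = n200 := d17_1 D259 (iv D200) (iv F757)
theorem F1019 : act 4 n259 = n189 := d24_1 D259 (iv D189) D188
def n260 : Q := act 6 n189
theorem D260 : act 6 n189 = n260 := rfl
theorem F1020 : act 0 n260 = n260 := d5_1 D260 (iv D260) F758
theorem F1021 : act 3 n260 = n190 := d20_1 D260 (iv D190) (iv F760)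
theorem F1022 : act 5 n260 = n198 := d25_1 D260 (iv D198) (iv F761)
def n261 : Q := act 4 n191
theorem D261 : act 4 n191 = n261 := rfl
theorem F1023 : act 0 n261 = n193 := d3_1 D261 (iv D193) (iv F765)
theorem F1024 : act 1 n261 = n261 := d9_1 D261 (iv D261) F766
theorem F1025 : act 2 n261 = n261 := d14_1 D261 (iv D261) F767
theorem F1026 : act 3 n261 = n261 := d18_1 D261 (iv D261) (iv D191) F570 D191
def n262 : Q := act 7 n191
theorem D262 : act 7 n191 = n262 := rfl
theorem F1027 : act 0 n262 = n194 := d6_1 D262 (iv D194) (iv F765)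
theorem F1028 : act 1 n262 = n262 := d12_1 D262 (iv D262) F766
theorem F1029 : act 2 n262 = n262 := d17_1 D262 (iv D262) F767
theorem F1030 : act 3 n262 = n192 := d21_1 D262 (iv D192) D191
def n263 : Q := act 6 n192
theorem D263 : act 6 n192 = n263 := rfl
theorem F1031 : act 0 n263 = n195 := d5_1 D263 (iv D195) (iv F768)
theorem F1032 : act 1 n263 = n263 := d11_1 D263 (iv D263) F769
theorem F1033 : act 4 n263 = n263 := d23_1 D263 (iv D263) F771
def n264 : Q := act 5 n193
theorem D264 : act 5 n193 = n264 := rfl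
theorem F1034 : act 1 n264 = n196 := d10_1 D264 (iv D196) (iv F772)
theorem F1035 : act 2 n264 = n264 := d15_1 D264 (iv D264) F773
theorem F1036 : act 3 n264 = n264 := d19_1 D264 (iv D264) F774
def n265 : Q := act 7 n193
theorem D265 : act 7 n193 = n265 := rfl
theorem F1037 : act 1 n265 = n197 := d12_1 D265 (iv D197) (iv F772)
theorem F1038 : act 2 n265 = n265 := d17_1 D265 (iv D265) F773
theorem F1039 : act 3 n265 = n265 := d21_1 D265 (iv D265) F774
theorem F1040 : act 4 n265 = n194 := d24_1 D265 (iv D194) D193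
def n266 : Q := act 6 n194
theorem D266 : act 6 n194 = n266 := rfl
theorem F1041 : act 1 n266 = n198 := d11_1 D266 (iv D198) (iv F775)
theorem F1042 : act 3 n266 = n195 := d20_1 D266 (iv D195) (iv F777)
def n267 : Q := act 2 n195
theorem D267 : act 2 n195 = n267 := rfl
theorem F1043 : act 1 n267 = n267 := d7_1 D267 (iv D267) F778 F583 (iv F778)
theorem F1044 : act 4 n267 = n267 := d14_2 F779 D267 (iv D267)
theorem F1045 : act 6 n267 = n216 := d16_2 D195 D267 (iv D216) (iv D160) (iv F574)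
def n268 : Q := act 7 n196
theorem D268 : act 7 n196 = n268 := rfl
theorem F1046 : act 0 n268 = n268 := d6_1 D268 (iv D268) F780
theorem F1047 : act 2 n268 = n202 := d17_1 D268 (iv D202) (iv F781)
theorem F1048 : act 3 n268 = n268 := d21_1 D268 (iv D268) F782
theorem F1049 : act 5 n268 = n197 := d26_1 D268 (iv D197) D196
def n269 : Q := act 6 n197
theorem D269 : act 6 n197 = n269 := rfl
theorem F1050 : act 0 n269 = n269 := d5_1 D269 (iv D269) F783
theorem F1051 : act 3 n269 = n269 := d20_1 D269 (iv D269) F785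
theorem F1052 : act 4 n269 = n198 := d23_1 D269 (iv D198) (iv F786)
def n270 : Q := act 2 n198
theorem D270 : act 2 n198 = n270 := rfl
theorem F1053 : act 0 n270 = n270 := d1_1 D270 (iv D270) F787
theorem F1054 : act 3 n270 = n270 := d13_2 (iv F788) D270 (iv D270) F788 F583
theorem F1055 : act 6 n270 = n204 := d16_2 D198 D270 (iv D204) (iv D149) (iv F580)
def n271 : Q := act 7 n199
theorem D271 : act 7 n199 = n271 := rfl
theorem F1056 : act 0 n271 = n271 := d6_1 D271 (iv D271) F789
theorem F1057 : act 1 n271 = n271 := d12_1 D271 (iv D271) F790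
theorem F1058 : act 3 n271 = n271 := d21_1 D271 (iv D271) F791
theorem F1059 : act 4 n271 = n202 := d24_1 D271 (iv D202) (iv F792)
theorem F1060 : act 5 n271 = n200 := d26_1 D271 (iv D200) D199
def n272 : Q := act 6 n200
theorem D272 : act 6 n200 = n272 := rfl
theorem F1061 : act 0 n272 = n272 := d5_1 D272 (iv D272) F794
theorem F1062 : act 1 n272 = n272 := d11_1 D272 (iv D272) F795
theorem F1063 : act 3 n272 = n272 := d20_1 D272 (iv D272) F796
theorem F1064 : act 4 n272 = n201 := d23_1 D272 (iv D201) (iv F797)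
theorem F1065 : act 7 n272 = n272 := d27_2 D200 D272 (iv D272) (iv D200) F588
def n273 : Q := act 2 n201
theorem D273 : act 2 n201 = n273 := rfl
theorem F1066 : act 0 n273 = n273 := d1_1 D273 (iv D273) F798
theorem F1067 : act 3 n273 = n273 := d13_2 (iv F800) D273 (iv D273) F800 F595
theorem F1068 : act 5 n273 = n204 := d15_2 (iv F801) D273 (iv D204)
theorem F1069 : act 7 n273 = n273 := d17_2 F802 D273 (iv D273)
def n274 : Q := act 6 n202
theorem D274 : act 6 n202 = n274 := rfl
theorem F1070 : act 0 n274 = n274 := d5_1 D274 (iv D274) F803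
theorem F1071 : act 1 n274 = n274 := d11_1 D274 (iv D274) F804
theorem F1072 : act 3 n274 = n205 := d20_1 D274 (iv D205) (iv F805)
theorem F1073 : act 5 n274 = n203 := d25_1 D274 (iv D203) (iv F806)
theorem F1074 : act 7 n274 = n274 := d27_2 D202 D274 (iv D274) (iv D202) F602
def n275 : Q := act 2 n203
theorem D275 : act 2 n203 = n275 := rfl
theorem F1075 : act 0 n275 = n275 := d1_1 D275 (iv D275) F807
theorem F1076 : act 4 n275 = n204 := d14_2 (iv F810) D275 (iv D204)
theorem F1077 : act 7 n275 = n275 := d17_2 F811 D275 (iv D275)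
def n276 : Q := act 1 n204
theorem D276 : act 1 n204 = n276 := rfl
theorem F1078 : act 2 n276 = n276 := d7_2 D204 D276 (iv D276) (iv D204) F608
theorem F1079 : act 3 n276 = n276 := d8_2 F813 D276 (iv D276)
theorem F1080 : act 7 n276 = n276 := d12_2 F814 D276 (iv D276)
def n277 : Q := act 2 n205
theorem D277 : act 2 n205 = n277 := rfl
theorem F1081 : act 0 n277 = n277 := d1_1 D277 (iv D277) F815
theorem F1082 : act 4 n277 = n277 := d14_2 F817 D277 (iv D277)
theorem F1083 : act 5 n277 = n206 := d15_2 (iv F818) D277 (iv D206)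
theorem F1084 : act 6 n277 = n277 := d16_2 D205 D277 (iv D277) (iv D205) F613
theorem F1085 : act 7 n277 = n277 := d17_2 F819 D277 (iv D277)
def n278 : Q := act 1 n206
theorem D278 : act 1 n206 = n278 := rfl
theorem F1086 : act 2 n278 = n278 := d7_2 D206 D278 (iv D278) (iv D206) F617
theorem F1087 : act 4 n278 = n207 := d9_2 (iv F821) D278 (iv D207)
theorem F1088 : act 6 n278 = n278 := d11_2 F822 D278 (iv D278)
theorem F1089 : act 7 n278 = n278 := d12_2 F823 D278 (iv D278)
def n279 : Q := act 3 n206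
theorem D279 : act 3 n206 = n279 := rfl
theorem F1090 : act 0 n279 = n279 := d2_1 D279 (iv D279) F820
theorem F1091 : act 4 n279 = n279 := d18_2 (iv F821) D279 (iv D279) F821 F621
theorem F1092 : act 6 n279 = n279 := d20_2 F822 D279 (iv D279)
theorem F1093 : act 7 n279 = n279 := d21_2 F823 D279 (iv D279)
def n280 : Q := act 0 n207
theorem D280 : act 0 n207 = n280 := rfl
theorem F1094 : act 1 n280 = n280 := d0_2 D207 D280 (iv D280) (iv D207) F620
theorem F1095 : act 2 n280 = n280 := d1_2 F824 D280 (iv D280)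
theorem F1096 : act 3 n280 = n280 := d2_2 F825 D280 (iv D280)
theorem F1097 : act 5 n280 = n280 := d4_2 F826 D280 (iv D280)
theorem F1098 : act 6 n280 = n280 := d5_2 F827 D280 (iv D280)
theorem F1099 : act 7 n280 = n280 := d6_2 F828 D280 (iv D280)
def n281 : Q := act 3 n208
theorem D281 : act 3 n208 = n281 := rfl
theorem F1100 : act 0 n281 = n209 := d2_1 D281 (iv D209) D208
theorem F1101 : act 1 n281 = n217 := d8_1 D281 (iv D217) (iv F829)
theorem F1102 : act 4 n281 = n281 := d18_2 (iv F830) D281 (iv D281) F830 F638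
theorem F1103 : act 5 n281 = n281 := d19_2 F831 D281 (iv D281)
theorem F1104 : act 6 n281 = n281 := d20_2 F832 D281 (iv D281)
def n282 : Q := act 7 n208
theorem D282 : act 7 n208 = n282 := rfl
theorem F1105 : act 0 n282 = n210 := d6_1 D282 (iv D210) D208
theorem F1106 : act 1 n282 = n218 := d12_1 D282 (iv D218) (iv F829)
theorem F1107 : act 4 n282 = n213 := d24_1 D282 (iv D213) (iv F830)
theorem F1108 : act 5 n282 = n282 := d26_1 D282 (iv D282) F831
def n283 : Q := act 2 n209
theorem D283 : act 2 n209 = n283 := rfl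
theorem F1109 : act 1 n283 = n283 := d7_1 D283 (iv D283) F833 F629 (iv F833)
theorem F1110 : act 4 n283 = n283 := d14_2 F834 D283 (iv D283)
theorem F1111 : act 5 n283 = n283 := d15_2 F835 D283 (iv D283)
def n284 : Q := act 7 n209
theorem D284 : act 7 n209 = n284 := rfl
theorem F1112 : act 1 n284 = n211 := d12_1 D284 (iv D211) (iv F833)
theorem F1113 : act 3 n284 = n210 := d21_1 D284 (iv D210) D209
theorem F1114 : act 4 n284 = n284 := d24_1 D284 (iv D284) F834
theorem F1115 : act 5 n284 = n284 := d26_1 D284 (iv D284) F835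
def n285 : Q := act 6 n210
theorem D285 : act 6 n210 = n285 := rfl
theorem F1116 : act 1 n285 = n212 := d11_1 D285 (iv D212) (iv F837)
theorem F1117 : act 4 n285 = n214 := d23_1 D285 (iv D214) (iv F838)
theorem F1118 : act 5 n285 = n285 := d25_1 D285 (iv D285) F839
theorem F1119 : act 7 n285 = n285 := d27_2 D210 D285 (iv D285) (iv D210) F627
def n286 : Q := act 6 n211
theorem D286 : act 6 n211 = n286 := rfl
theorem F1120 : act 0 n286 = n222 := d5_1 D286 (iv D222) (iv F840)
theorem F1121 : act 3 n286 = n212 := d20_1 D286 (iv D212) (iv F842)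
theorem F1122 : act 4 n286 = n286 := d23_1 D286 (iv D286) F843
theorem F1123 : act 5 n286 = n286 := d25_1 D286 (iv D286) F844
theorem F1124 : act 7 n286 = n286 := d27_2 D211 D286 (iv D286) (iv D211) F632
def n287 : Q := act 6 n213
theorem D287 : act 6 n213 = n287 := rfl
theorem F1125 : act 0 n287 = n214 := d5_1 D287 (iv D214) (iv F850)
theorem F1126 : act 1 n287 = n223 := d11_1 D287 (iv D223) (iv F851)
theorem F1127 : act 3 n287 = n287 := d20_1 D287 (iv D287) F852
theorem F1128 : act 5 n287 = n215 := d25_1 D287 (iv D215) (iv F853)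
theorem F1129 : act 7 n287 = n287 := d27_2 D213 D287 (iv D287) (iv D213) F640
def n288 : Q := act 2 n214
theorem D288 : act 2 n214 = n288 := rfl
theorem F1130 : act 1 n288 = n288 := d7_1 D288 (iv D288) F854 F645 (iv F854)
theorem F1131 : act 5 n288 = n216 := d15_2 (iv F856) D288 (iv D216)
theorem F1132 : act 7 n288 = n288 := d17_2 F857 D288 (iv D288)
def n289 : Q := act 2 n215
theorem D289 : act 2 n215 = n289 := rfl
theorem F1133 : act 0 n289 = n216 := d1_1 D289 (iv D216) (iv F858)
theorem F1134 : act 4 n289 = n289 := d14_2 F861 D289 (iv D289)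
theorem F1135 : act 7 n289 = n289 := d17_2 F862 D289 (iv D289)
def n290 : Q := act 3 n216
theorem D290 : act 3 n216 = n290 := rfl
theorem F1136 : act 1 n290 = n290 := d8_1 D290 (iv D290) F863
theorem F1137 : act 2 n290 = n290 := d13_1 D290 (iv D290) (iv D216) F654 D216
theorem F1138 : act 7 n290 = n290 := d21_2 F865 D290 (iv D290)
def n291 : Q := act 2 n217
theorem D291 : act 2 n217 = n291 := rfl
theorem F1139 : act 0 n291 = n219 := d1_1 D291 (iv D219) (iv F866)
theorem F1140 : act 3 n291 = n291 := d13_2 D217 D291 (iv D291) (iv D217) F657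
theorem F1141 : act 4 n291 = n291 := d14_2 F867 D291 (iv D291)
theorem F1142 : act 5 n291 = n291 := d15_2 F868 D291 (iv D291)
def n292 : Q := act 7 n217
theorem D292 : act 7 n217 = n292 := rfl
theorem F1143 : act 0 n292 = n220 := d6_1 D292 (iv D220) (iv F866)
theorem F1144 : act 3 n292 = n218 := d21_1 D292 (iv D218) D217
theorem F1145 : act 4 n292 = n292 := d24_1 D292 (iv D292) F867
theorem F1146 : act 5 n292 = n292 := d26_1 D292 (iv D292) F868
def n293 : Q := act 6 n218
theorem D293 : act 6 n218 = n293 := rfl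
theorem F1147 : act 0 n293 = n221 := d5_1 D293 (iv D221) (iv F870)
theorem F1148 : act 4 n293 = n223 := d23_1 D293 (iv D223) (iv F872)
theorem F1149 : act 5 n293 = n293 := d25_1 D293 (iv D293) F873
theorem F1150 : act 7 n293 = n293 := d27_2 D218 D293 (iv D293) (iv D218) F660
def n294 : Q := act 6 n219
theorem D294 : act 6 n219 = n294 := rfl
theorem F1151 : act 1 n294 = n294 := d11_1 D294 (iv D294) F874
theorem F1152 : act 2 n294 = n294 := d16_1 D294 (iv D294) (iv D219) F664 D219
theorem F1153 : act 3 n294 = n294 := d20_1 D294 (iv D294) F875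
theorem F1154 : act 4 n294 = n294 := d23_1 D294 (iv D294) F876
theorem F1155 : act 5 n294 = n294 := d25_1 D294 (iv D294) F877
def n295 : Q := act 7 n219
theorem D295 : act 7 n219 = n295 := rfl
theorem F1156 : act 1 n295 = n295 := d12_1 D295 (iv D295) F874
theorem F1157 : act 2 n295 = n220 := d17_1 D295 (iv D220) D219
theorem F1158 : act 3 n295 = n295 := d21_1 D295 (iv D295) F875
theorem F1159 : act 4 n295 = n295 := d24_1 D295 (iv D295) F876
theorem F1160 : act 5 n295 = n295 := d26_1 D295 (iv D295) F877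
def n296 : Q := act 6 n220
theorem D296 : act 6 n220 = n296 := rfl
theorem F1161 : act 1 n296 = n222 := d11_1 D296 (iv D222) (iv F878)
theorem F1162 : act 3 n296 = n221 := d20_1 D296 (iv D221) (iv F879)
theorem F1163 : act 4 n296 = n296 := d23_1 D296 (iv D296) F880
theorem F1164 : act 5 n296 = n296 := d25_1 D296 (iv D296) F881
theorem F1165 : act 7 n296 = n296 := d27_2 D220 D296 (iv D296) (iv D220) F664
def n297 : Q := act 2 n221
theorem D297 : act 2 n221 = n297 := rfl
theorem F1166 : act 1 n297 = n297 := d7_1 D297 (iv D297) F882 F673 (iv F882)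
theorem F1167 : act 4 n297 = n224 := d14_2 (iv F883) D297 (iv D224)
theorem F1168 : act 5 n297 = n297 := d15_2 F884 D297 (iv D297)
theorem F1169 : act 6 n297 = n297 := d16_2 D221 D297 (iv D297) (iv D221) F666
theorem F1170 : act 7 n297 = n297 := d17_2 F885 D297 (iv D297)
def n298 : Q := act 2 n222
theorem D298 : act 2 n222 = n298 := rfl
theorem F1171 : act 3 n298 = n298 := d13_2 (iv F886) D298 (iv D298) F886 F673
theorem F1172 : act 4 n298 = n298 := d14_2 F887 D298 (iv D298)
theorem F1173 : act 5 n298 = n298 := d15_2 F888 D298 (iv D298)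
theorem F1174 : act 6 n298 = n298 := d16_2 D222 D298 (iv D298) (iv D222) F669
theorem F1175 : act 7 n298 = n298 := d17_2 F889 D298 (iv D298)
def n299 : Q := act 2 n223
theorem D299 : act 2 n223 = n299 := rfl
theorem F1176 : act 0 n299 = n224 := d1_1 D299 (iv D224) (iv F890)
theorem F1177 : act 5 n299 = n225 := d15_2 (iv F892) D299 (iv D225)
theorem F1178 : act 6 n299 = n299 := d16_2 D223 D299 (iv D299) (iv D223) F678
theorem F1179 : act 7 n299 = n299 := d17_2 F893 D299 (iv D299)
def n300 : Q := act 3 n224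
theorem D300 : act 3 n224 = n300 := rfl
theorem F1180 : act 1 n300 = n300 := d8_1 D300 (iv D300) F894
theorem F1181 : act 2 n300 = n300 := d13_1 D300 (iv D300) (iv D224) F682 D224
theorem F1182 : act 5 n300 = n226 := d19_2 (iv F895) D300 (iv D226)
theorem F1183 : act 6 n300 = n300 := d20_2 F896 D300 (iv D300)
theorem F1184 : act 7 n300 = n300 := d21_2 F897 D300 (iv D300)
def n301 : Q := act 1 n225
theorem D301 : act 1 n225 = n301 := rfl
def n302 : Q := act 3 n225
theorem D302 : act 3 n225 = n302 := rfl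
theorem F1189 : act 0 n302 = n226 := d2_1 D302 (iv D226) (iv F898)
def n303 : Q := act 4 n226
theorem D303 : act 4 n226 = n303 := rfl
def n304 : Q := act 1 n227
theorem D304 : act 1 n227 = n304 := rfl
theorem F1198 : act 2 n304 = n304 := d7_2 D227 D304 (iv D304) (iv D227) F694
theorem F1199 : act 4 n304 = n304 := d9_2 F907 D304 (iv D304)
theorem F1200 : act 5 n304 = n304 := d10_2 F908 D304 (iv D304)
theorem F1201 : act 6 n304 = n304 := d11_2 F909 D304 (iv D304)
def n305 : Q := act 3 n227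
theorem D305 : act 3 n227 = n305 := rfl
theorem F1202 : act 0 n305 = n305 := d2_1 D305 (iv D305) F906
theorem F1203 : act 2 n305 = n230 := d13_1 D305 (iv D230) (iv D171) (iv F695) D227
theorem F1204 : act 5 n305 = n305 := d19_2 F908 D305 (iv D305)
theorem F1205 : act 6 n305 = n305 := d20_2 F909 D305 (iv D305)
def n306 : Q := act 7 n227
theorem D306 : act 7 n227 = n306 := rfl
theorem F1206 : act 0 n306 = n306 := d6_1 D306 (iv D306) F906
theorem F1207 : act 2 n306 = n228 := d17_1 D306 (iv D228) D227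
theorem F1208 : act 4 n306 = n306 := d24_1 D306 (iv D306) F907
theorem F1209 : act 5 n306 = n306 := d26_1 D306 (iv D306) F908
def n307 : Q := act 0 n229
theorem D307 : act 0 n229 = n307 := rfl
theorem F1210 : act 1 n307 = n307 := d0_2 D229 D307 (iv D307) (iv D229) F698
theorem F1211 : act 2 n307 = n307 := d1_2 F916 D307 (iv D307)
theorem F1212 : act 4 n307 = n232 := d3_2 (iv F917) D307 (iv D232)
theorem F1213 : act 5 n307 = n307 := d4_2 F918 D307 (iv D307)
theorem F1214 : act 6 n307 = n247 := d5_2 (iv F919) D307 (iv D247)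
def n308 : Q := act 3 n229
theorem D308 : act 3 n229 = n308 := rfl
theorem F1215 : act 1 n308 = n230 := d8_1 D308 (iv D230) D229
theorem F1216 : act 5 n308 = n308 := d19_2 F918 D308 (iv D308)
theorem F1217 : act 6 n308 = n248 := d20_2 (iv F919) D308 (iv D248)
def n309 : Q := act 7 n229
theorem D309 : act 7 n229 = n309 := rfl
theorem F1218 : act 1 n309 = n231 := d12_1 D309 (iv D231) D229
theorem F1219 : act 2 n309 = n309 := d17_1 D309 (iv D309) F916
theorem F1220 : act 4 n309 = n234 := d24_1 D309 (iv D234) (iv F917)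
theorem F1221 : act 5 n309 = n309 := d26_1 D309 (iv D309) F918
def n310 : Q := act 4 n230
theorem D310 : act 4 n230 = n310 := rfl
theorem F1222 : act 0 n310 = n310 := d3_1 D310 (iv D310) F920
theorem F1223 : act 3 n310 = n235 := d18_1 D310 (iv D235) (iv D174) (iv F699) D230
theorem F1224 : act 6 n310 = n250 := d23_2 (iv F922) D310 (iv D250)
def n311 : Q := act 7 n230
theorem D311 : act 7 n230 = n311 := rfl
theorem F1225 : act 0 n311 = n311 := d6_1 D311 (iv D311) F920
theorem F1226 : act 3 n311 = n231 := d21_1 D311 (iv D231) D230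
theorem F1227 : act 5 n311 = n311 := d26_1 D311 (iv D311) F921
def n312 : Q := act 6 n231
theorem D312 : act 6 n231 = n312 := rfl
theorem F1228 : act 0 n312 = n312 := d5_1 D312 (iv D312) F923
theorem F1229 : act 2 n312 = n312 := d16_1 D312 (iv D312) F924 F706 (iv F924)
theorem F1230 : act 4 n312 = n237 := d23_1 D312 (iv D237) (iv F925)
theorem F1231 : act 5 n312 = n312 := d25_1 D312 (iv D312) F926
theorem F1232 : act 7 n312 = n252 := d27_2 D231 D312 (iv D252) (iv D184) (iv F701)
def n313 : Q := act 3 n232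
theorem D313 : act 3 n232 = n313 := rfl
theorem F1233 : act 0 n313 = n233 := d2_1 D313 (iv D233) D232
theorem F1234 : act 1 n313 = n313 := d8_1 D313 (iv D313) F927
theorem F1235 : act 5 n313 = n238 := d19_2 (iv F929) D313 (iv D238)
theorem F1236 : act 6 n313 = n253 := d20_2 (iv F930) D313 (iv D253)
def n314 : Q := act 7 n232
theorem D314 : act 7 n232 = n314 := rfl
theorem F1237 : act 0 n314 = n234 := d6_1 D314 (iv D234) D232
theorem F1238 : act 1 n314 = n314 := d12_1 D314 (iv D314) F927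
theorem F1239 : act 2 n314 = n314 := d17_1 D314 (iv D314) F928
theorem F1240 : act 5 n314 = n239 := d26_1 D314 (iv D239) (iv F929)
def n315 : Q := act 2 n233
theorem D315 : act 2 n233 = n315 := rfl
theorem F1241 : act 1 n315 = n315 := d7_1 D315 (iv D315) F931 F711 (iv F931)
theorem F1242 : act 3 n315 = n315 := d13_2 D233 D315 (iv D315) (iv D233) F707
theorem F1243 : act 5 n315 = n240 := d15_2 (iv F932) D315 (iv D240)
theorem F1244 : act 6 n315 = n315 := d16_2 (iv F933) D315 (iv D315) F933 F751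
def n316 : Q := act 4 n233
theorem D316 : act 4 n233 = n316 := rfl
theorem F1245 : act 1 n316 = n235 := d9_1 D316 (iv D235) (iv F931)
theorem F1246 : act 6 n316 = n255 := d23_2 (iv F933) D316 (iv D255)
def n317 : Q := act 7 n233
theorem D317 : act 7 n233 = n317 := rfl
theorem F1247 : act 1 n317 = n236 := d12_1 D317 (iv D236) (iv F931)
theorem F1248 : act 3 n317 = n234 := d21_1 D317 (iv D234) D233
theorem F1249 : act 5 n317 = n242 := d26_1 D317 (iv D242) (iv F932)
def n318 : Q := act 6 n234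
theorem D318 : act 6 n234 = n318 := rfl
theorem F1250 : act 1 n318 = n237 := d11_1 D318 (iv D237) (iv F934)
theorem F1251 : act 5 n318 = n243 := d25_1 D318 (iv D243) (iv F936)
theorem F1252 : act 7 n318 = n257 := d27_2 D234 D318 (iv D257) (iv D187) (iv F709)
def n319 : Q := act 5 n235
theorem D319 : act 5 n235 = n319 := rfl
theorem F1253 : act 0 n319 = n319 := d4_1 D319 (iv D319) F937
theorem F1254 : act 2 n319 = n319 := d15_1 D319 (iv D319) F938
theorem F1255 : act 4 n319 = n244 := d22_1 D319 (iv D244) (iv D179) (iv F712) D235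
theorem F1256 : act 6 n319 = n258 := d25_2 (iv F939) D319 (iv D258)
def n320 : Q := act 7 n235
theorem D320 : act 7 n235 = n320 := rfl
theorem F1257 : act 0 n320 = n320 := d6_1 D320 (iv D320) F937
theorem F1258 : act 2 n320 = n320 := d17_1 D320 (iv D320) F938
theorem F1259 : act 4 n320 = n236 := d24_1 D320 (iv D236) D235
def n321 : Q := act 6 n236
theorem D321 : act 6 n236 = n321 := rfl
theorem F1260 : act 0 n321 = n321 := d5_1 D321 (iv D321) F940
theorem F1261 : act 3 n321 = n237 := d20_1 D321 (iv D237) (iv F942)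
theorem F1262 : act 5 n321 = n246 := d25_1 D321 (iv D246) (iv F943)
theorem F1263 : act 7 n321 = n260 := d27_2 D236 D321 (iv D260) (iv D189) (iv F713)
def n322 : Q := act 2 n238
theorem D322 : act 2 n238 = n322 := rfl
theorem F1264 : act 0 n322 = n240 := d1_1 D322 (iv D240) (iv F948)
theorem F1265 : act 3 n322 = n322 := d13_2 D238 D322 (iv D322) (iv D238) F718
theorem F1266 : act 6 n322 = n322 := d16_2 (iv F950) D322 (iv D322) F950 F767
def n323 : Q := act 4 n238
theorem D323 : act 4 n238 = n323 := rfl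
theorem F1267 : act 0 n323 = n241 := d3_1 D323 (iv D241) (iv F948)
theorem F1268 : act 1 n323 = n323 := d9_1 D323 (iv D323) F949
theorem F1269 : act 3 n323 = n323 := d18_1 D323 (iv D323) (iv D238) F719 D238
theorem F1270 : act 6 n323 = n261 := d23_2 (iv F950) D323 (iv D261)
def n324 : Q := act 7 n238
theorem D324 : act 7 n238 = n324 := rfl
theorem F1271 : act 0 n324 = n242 := d6_1 D324 (iv D242) (iv F948)
theorem F1272 : act 1 n324 = n324 := d12_1 D324 (iv D324) F949
theorem F1273 : act 3 n324 = n239 := d21_1 D324 (iv D239) D238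
def n325 : Q := act 6 n239
theorem D325 : act 6 n239 = n325 := rfl
theorem F1274 : act 0 n325 = n243 := d5_1 D325 (iv D243) (iv F951)
theorem F1275 : act 1 n325 = n325 := d11_1 D325 (iv D325) F952
theorem F1276 : act 4 n325 = n325 := d23_1 D325 (iv D325) F954
theorem F1277 : act 7 n325 = n263 := d27_2 D239 D325 (iv D263) (iv D192) (iv F720)
def n326 : Q := act 4 n240
theorem D326 : act 4 n240 = n326 := rfl
theorem F1278 : act 1 n326 = n326 := d9_1 D326 (iv D326) F955
theorem F1279 : act 2 n326 = n241 := d14_1 D326 (iv D241) D240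
theorem F1280 : act 6 n326 = n326 := d23_2 F957 D326 (iv D326)
def n327 : Q := act 7 n240
theorem D327 : act 7 n240 = n327 := rfl
theorem F1281 : act 1 n327 = n327 := d12_1 D327 (iv D327) F955
theorem F1282 : act 2 n327 = n242 := d17_1 D327 (iv D242) D240
theorem F1283 : act 3 n327 = n327 := d21_1 D327 (iv D327) F956
def n328 : Q := act 5 n241
theorem D328 : act 5 n241 = n328 := rfl
theorem F1284 : act 1 n328 = n244 := d10_1 D328 (iv D244) (iv F958)
theorem F1285 : act 3 n328 = n328 := d19_1 D328 (iv D328) F959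
theorem F1286 : act 6 n328 = n264 := d25_2 (iv F960) D328 (iv D264)
def n329 : Q := act 7 n241
theorem D329 : act 7 n241 = n329 := rfl
theorem F1287 : act 1 n329 = n245 := d12_1 D329 (iv D245) (iv F958)
theorem F1288 : act 3 n329 = n329 := d21_1 D329 (iv D329) F959
theorem F1289 : act 4 n329 = n242 := d24_1 D329 (iv D242) D241
def n330 : Q := act 6 n242
theorem D330 : act 6 n242 = n330 := rfl
theorem F1290 : act 1 n330 = n246 := d11_1 D330 (iv D246) (iv F961)
theorem F1291 : act 3 n330 = n243 := d20_1 D330 (iv D243) (iv F962)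
theorem F1292 : act 7 n330 = n266 := d27_2 D242 D330 (iv D266) (iv D194) (iv F722)
def n331 : Q := act 2 n243
theorem D331 : act 2 n243 = n331 := rfl
theorem F1293 : act 1 n331 = n331 := d7_1 D331 (iv D331) F963 F734 (iv F963)
theorem F1294 : act 4 n331 = n331 := d14_2 F964 D331 (iv D331)
theorem F1295 : act 6 n331 = n331 := d16_2 D243 D331 (iv D331) (iv D243) F724
theorem F1296 : act 7 n331 = n267 := d17_2 (iv F965) D331 (iv D267)
def n332 : Q := act 7 n244
theorem D332 : act 7 n244 = n332 := rfl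
theorem F1297 : act 0 n332 = n332 := d6_1 D332 (iv D332) F966
theorem F1298 : act 2 n332 = n332 := d17_1 D332 (iv D332) F967
theorem F1299 : act 3 n332 = n332 := d21_1 D332 (iv D332) F968
theorem F1300 : act 5 n332 = n245 := d26_1 D332 (iv D245) D244
def n333 : Q := act 6 n245
theorem D333 : act 6 n245 = n333 := rfl
theorem F1301 : act 0 n333 = n333 := d5_1 D333 (iv D333) F970
theorem F1302 : act 3 n333 = n333 := d20_1 D333 (iv D333) F972
theorem F1303 : act 4 n333 = n246 := d23_1 D333 (iv D246) (iv F973)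
theorem F1304 : act 7 n333 = n269 := d27_2 D245 D333 (iv D269) (iv D197) (iv F729)
def n334 : Q := act 2 n246
theorem D334 : act 2 n246 = n334 := rfl
theorem F1305 : act 0 n334 = n334 := d1_1 D334 (iv D334) F974
theorem F1306 : act 3 n334 = n334 := d13_2 (iv F975) D334 (iv D334) F975 F734
theorem F1307 : act 6 n334 = n334 := d16_2 D246 D334 (iv D334) (iv D246) F731
theorem F1308 : act 7 n334 = n270 := d17_2 (iv F976) D334 (iv D270)
def n335 : Q := act 3 n247
theorem D335 : act 3 n247 = n335 := rfl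
theorem F1309 : act 0 n335 = n248 := d2_1 D335 (iv D248) D247
theorem F1310 : act 1 n335 = n335 := d8_1 D335 (iv D335) F977
theorem F1311 : act 5 n335 = n335 := d19_2 F980 D335 (iv D335)
def n336 : Q := act 7 n247
theorem D336 : act 7 n247 = n336 := rfl
theorem F1312 : act 0 n336 = n249 := d6_1 D336 (iv D249) D247
theorem F1313 : act 1 n336 = n336 := d12_1 D336 (iv D336) F977
theorem F1314 : act 2 n336 = n282 := d17_1 D336 (iv D282) (iv F978)
theorem F1315 : act 4 n336 = n254 := d24_1 D336 (iv D254) (iv F979)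
theorem F1316 : act 5 n336 = n336 := d26_1 D336 (iv D336) F980
def n337 : Q := act 2 n248
theorem D337 : act 2 n248 = n337 := rfl
theorem F1317 : act 1 n337 = n337 := d7_1 D337 (iv D337) F981 F741 (iv F981)
theorem F1318 : act 3 n337 = n283 := d13_2 D248 D337 (iv D283) (iv D209) (iv F737)
theorem F1319 : act 5 n337 = n337 := d15_2 F982 D337 (iv D337)
def n338 : Q := act 4 n248
theorem D338 : act 4 n248 = n338 := rfl
theorem F1320 : act 1 n338 = n250 := d9_1 D338 (iv D250) (iv F981)
theorem F1321 : act 3 n338 = n255 := d18_1 D338 (iv D255) (iv D186) (iv F738) D248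
def n339 : Q := act 7 n248
theorem D339 : act 7 n248 = n339 := rfl
theorem F1322 : act 1 n339 = n251 := d12_1 D339 (iv D251) (iv F981)
theorem F1323 : act 3 n339 = n249 := d21_1 D339 (iv D249) D248
theorem F1324 : act 5 n339 = n339 := d26_1 D339 (iv D339) F982
def n340 : Q := act 6 n249
theorem D340 : act 6 n249 = n340 := rfl
theorem F1325 : act 1 n340 = n252 := d11_1 D340 (iv D252) (iv F983)
theorem F1326 : act 4 n340 = n257 := d23_1 D340 (iv D257) (iv F985)
theorem F1327 : act 5 n340 = n340 := d25_1 D340 (iv D340) F986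
def n341 : Q := act 5 n250
theorem D341 : act 5 n250 = n341 := rfl
theorem F1328 : act 0 n341 = n341 := d4_1 D341 (iv D341) F987
theorem F1329 : act 2 n341 = n341 := d15_1 D341 (iv D341) F988
theorem F1330 : act 3 n341 = n258 := d19_1 D341 (iv D258) (iv F989)
theorem F1331 : act 4 n341 = n341 := d22_1 D341 (iv D341) (iv D250) F742 D250
def n342 : Q := act 7 n250
theorem D342 : act 7 n250 = n342 := rfl
theorem F1332 : act 0 n342 = n342 := d6_1 D342 (iv D342) F987
theorem F1333 : act 2 n342 = n342 := d17_1 D342 (iv D342) F988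
theorem F1334 : act 3 n342 = n259 := d21_1 D342 (iv D259) (iv F989)
theorem F1335 : act 4 n342 = n251 := d24_1 D342 (iv D251) D250
def n343 : Q := act 6 n251
theorem D343 : act 6 n251 = n343 := rfl
theorem F1336 : act 0 n343 = n343 := d5_1 D343 (iv D343) F990
theorem F1337 : act 3 n343 = n252 := d20_1 D343 (iv D252) (iv F992)
theorem F1338 : act 5 n343 = n343 := d25_1 D343 (iv D343) F993
def n344 : Q := act 4 n253
theorem D344 : act 4 n253 = n344 := rfl
theorem F1339 : act 0 n344 = n255 := d3_1 D344 (iv D255) (iv F998)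
theorem F1340 : act 1 n344 = n344 := d9_1 D344 (iv D344) F999
theorem F1341 : act 2 n344 = n344 := d14_1 D344 (iv D344) F1000
def n345 : Q := act 7 n253
theorem D345 : act 7 n253 = n345 := rfl
theorem F1342 : act 0 n345 = n256 := d6_1 D345 (iv D256) (iv F998)
theorem F1343 : act 1 n345 = n345 := d12_1 D345 (iv D345) F999
theorem F1344 : act 2 n345 = n345 := d17_1 D345 (iv D345) F1000
theorem F1345 : act 3 n345 = n254 := d21_1 D345 (iv D254) D253
theorem F1346 : act 5 n345 = n262 := d26_1 D345 (iv D262) (iv F1001)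
def n346 : Q := act 6 n254
theorem D346 : act 6 n254 = n346 := rfl
theorem F1347 : act 0 n346 = n257 := d5_1 D346 (iv D257) (iv F1002)
theorem F1348 : act 1 n346 = n346 := d11_1 D346 (iv D346) F1003
theorem F1349 : act 5 n346 = n263 := d25_1 D346 (iv D263) (iv F1005)
def n347 : Q := act 5 n255
theorem D347 : act 5 n255 = n347 := rfl
theorem F1350 : act 1 n347 = n258 := d10_1 D347 (iv D258) (iv F1006)
theorem F1351 : act 2 n347 = n347 := d15_1 D347 (iv D347) F1007
theorem F1352 : act 4 n347 = n264 := d22_1 D347 (iv D264) (iv D193) (iv F752) D255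
def n348 : Q := act 7 n255
theorem D348 : act 7 n255 = n348 := rfl
theorem F1353 : act 1 n348 = n259 := d12_1 D348 (iv D259) (iv F1006)
theorem F1354 : act 2 n348 = n348 := d17_1 D348 (iv D348) F1007
theorem F1355 : act 4 n348 = n256 := d24_1 D348 (iv D256) D255
def n349 : Q := act 6 n256
theorem D349 : act 6 n256 = n349 := rfl
theorem F1356 : act 1 n349 = n260 := d11_1 D349 (iv D260) (iv F1008)
theorem F1357 : act 3 n349 = n257 := d20_1 D349 (iv D257) (iv F1010)
theorem F1358 : act 5 n349 = n266 := d25_1 D349 (iv D266) (iv F1011)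
def n350 : Q := act 2 n257
theorem D350 : act 2 n257 = n350 := rfl
theorem F1359 : act 1 n350 = n350 := d7_1 D350 (iv D350) F1012 F763 (iv F1012)
theorem F1360 : act 5 n350 = n267 := d15_2 (iv F1013) D350 (iv D267)
theorem F1361 : act 6 n350 = n288 := d16_2 D257 D350 (iv D288) (iv D214) (iv F754)
def n351 : Q := act 7 n258
theorem D351 : act 7 n258 = n351 := rfl
theorem F1362 : act 0 n351 = n351 := d6_1 D351 (iv D351) F1014
theorem F1363 : act 2 n351 = n271 := d17_1 D351 (iv D271) (iv F1015)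
theorem F1364 : act 4 n351 = n268 := d24_1 D351 (iv D268) (iv F1016)
theorem F1365 : act 5 n351 = n259 := d26_1 D351 (iv D259) D258
def n352 : Q := act 6 n259
theorem D352 : act 6 n259 = n352 := rfl
theorem F1366 : act 0 n352 = n352 := d5_1 D352 (iv D352) F1017
theorem F1367 : act 4 n352 = n260 := d23_1 D352 (iv D260) (iv F1019)
def n353 : Q := act 2 n260
theorem D353 : act 2 n260 = n353 := rfl
theorem F1368 : act 0 n353 = n353 := d1_1 D353 (iv D353) F1020
theorem F1369 : act 3 n353 = n353 := d13_2 (iv F1021) D353 (iv D353) F1021 F763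
theorem F1370 : act 5 n353 = n270 := d15_2 (iv F1022) D353 (iv D270)
theorem F1371 : act 6 n353 = n273 := d16_2 D260 D353 (iv D273) (iv D201) (iv F759)
def n354 : Q := act 5 n261
theorem D354 : act 5 n261 = n354 := rfl
theorem F1372 : act 0 n354 = n264 := d4_1 D354 (iv D264) (iv F1023)
theorem F1373 : act 1 n354 = n354 := d10_1 D354 (iv D354) F1024
theorem F1374 : act 2 n354 = n354 := d15_1 D354 (iv D354) F1025
theorem F1375 : act 3 n354 = n354 := d19_1 D354 (iv D354) F1026
def n355 : Q := act 7 n261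
theorem D355 : act 7 n261 = n355 := rfl
theorem F1376 : act 0 n355 = n265 := d6_1 D355 (iv D265) (iv F1023)
theorem F1377 : act 1 n355 = n355 := d12_1 D355 (iv D355) F1024
theorem F1378 : act 2 n355 = n355 := d17_1 D355 (iv D355) F1025
theorem F1379 : act 3 n355 = n355 := d21_1 D355 (iv D355) F1026
theorem F1380 : act 4 n355 = n262 := d24_1 D355 (iv D262) D261
def n356 : Q := act 6 n262
theorem D356 : act 6 n262 = n356 := rfl
theorem F1381 : act 0 n356 = n266 := d5_1 D356 (iv D266) (iv F1027)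
theorem F1382 : act 1 n356 = n356 := d11_1 D356 (iv D356) F1028
theorem F1383 : act 3 n356 = n263 := d20_1 D356 (iv D263) (iv F1030)
def n357 : Q := act 2 n263
theorem D357 : act 2 n263 = n357 := rfl
theorem F1384 : act 0 n357 = n267 := d1_1 D357 (iv D267) (iv F1031)
theorem F1385 : act 4 n357 = n357 := d14_2 F1033 D357 (iv D357)
theorem F1386 : act 6 n357 = n289 := d16_2 D263 D357 (iv D289) (iv D215) (iv F770)
def n358 : Q := act 7 n264
theorem D358 : act 7 n264 = n358 := rfl
theorem F1387 : act 1 n358 = n268 := d12_1 D358 (iv D268) (iv F1034)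
theorem F1388 : act 2 n358 = n358 := d17_1 D358 (iv D358) F1035
theorem F1389 : act 3 n358 = n358 := d21_1 D358 (iv D358) F1036
theorem F1390 : act 5 n358 = n265 := d26_1 D358 (iv D265) D264
def n359 : Q := act 6 n265
theorem D359 : act 6 n265 = n359 := rfl
theorem F1391 : act 1 n359 = n269 := d11_1 D359 (iv D269) (iv F1037)
theorem F1392 : act 3 n359 = n359 := d20_1 D359 (iv D359) F1039
theorem F1393 : act 4 n359 = n266 := d23_1 D359 (iv D266) (iv F1040)
def n360 : Q := act 2 n266
theorem D360 : act 2 n266 = n360 := rfl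
theorem F1394 : act 6 n360 = n360 := d16_2 D266 D360 (iv D360) (iv D266) F776
def n361 : Q := act 3 n267
theorem D361 : act 3 n267 = n361 := rfl
theorem F1395 : act 1 n361 = n361 := d8_1 D361 (iv D361) F1043
theorem F1396 : act 6 n361 = n290 := d20_2 (iv F1045) D361 (iv D290)
def n362 : Q := act 6 n268
theorem D362 : act 6 n268 = n362 := rfl
theorem F1397 : act 0 n362 = n362 := d5_1 D362 (iv D362) F1046
theorem F1398 : act 3 n362 = n362 := d20_1 D362 (iv D362) F1048
theorem F1399 : act 5 n362 = n269 := d25_1 D362 (iv D269) (iv F1049)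
def n363 : Q := act 2 n269
theorem D363 : act 2 n269 = n363 := rfl
theorem F1400 : act 0 n363 = n363 := d1_1 D363 (iv D363) F1050
theorem F1401 : act 4 n363 = n270 := d14_2 (iv F1052) D363 (iv D270)
theorem F1402 : act 6 n363 = n275 := d16_2 D269 D363 (iv D275) (iv D203) (iv F784)
def n364 : Q := act 1 n270
theorem D364 : act 1 n270 = n364 := rfl
theorem F1403 : act 3 n364 = n364 := d8_2 F1054 D364 (iv D364)
theorem F1404 : act 6 n364 = n276 := d11_2 (iv F1055) D364 (iv D276)
def n365 : Q := act 6 n271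
theorem D365 : act 6 n271 = n365 := rfl
theorem F1405 : act 0 n365 = n365 := d5_1 D365 (iv D365) F1056
theorem F1406 : act 1 n365 = n365 := d11_1 D365 (iv D365) F1057
theorem F1407 : act 3 n365 = n365 := d20_1 D365 (iv D365) F1058
theorem F1408 : act 4 n365 = n274 := d23_1 D365 (iv D274) (iv F1059)
theorem F1409 : act 5 n365 = n272 := d25_1 D365 (iv D272) (iv F1060)
theorem F1410 : act 7 n365 = n365 := d27_2 D271 D365 (iv D365) (iv D271) F793
def n366 : Q := act 2 n272
theorem D366 : act 2 n272 = n366 := rfl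
theorem F1411 : act 0 n366 = n366 := d1_1 D366 (iv D366) F1061
theorem F1412 : act 4 n366 = n273 := d14_2 (iv F1064) D366 (iv D273)
theorem F1413 : act 7 n366 = n366 := d17_2 F1065 D366 (iv D366)
def n367 : Q := act 1 n273
theorem D367 : act 1 n273 = n367 := rfl
theorem F1414 : act 2 n367 = n367 := d7_2 D273 D367 (iv D367) (iv D273) F799
theorem F1415 : act 3 n367 = n367 := d8_2 F1067 D367 (iv D367)
theorem F1416 : act 5 n367 = n276 := d10_2 (iv F1068) D367 (iv D276)
theorem F1417 : act 7 n367 = n367 := d12_2 F1069 D367 (iv D367)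
def n368 : Q := act 2 n274
theorem D368 : act 2 n274 = n368 := rfl
theorem F1418 : act 0 n368 = n368 := d1_1 D368 (iv D368) F1070
theorem F1419 : act 5 n368 = n275 := d15_2 (iv F1073) D368 (iv D275)
theorem F1420 : act 7 n368 = n368 := d17_2 F1074 D368 (iv D368)
def n369 : Q := act 1 n275
theorem D369 : act 1 n275 = n369 := rfl
theorem F1421 : act 2 n369 = n369 := d7_2 D275 D369 (iv D369) (iv D275) F808
theorem F1422 : act 4 n369 = n276 := d9_2 (iv F1076) D369 (iv D276)
theorem F1423 : act 7 n369 = n369 := d12_2 F1077 D369 (iv D369)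
def n370 : Q := act 3 n275
theorem D370 : act 3 n275 = n370 := rfl
theorem F1424 : act 0 n370 = n370 := d2_1 D370 (iv D370) F1075
theorem F1425 : act 2 n370 = n279 := d13_1 D370 (iv D279) (iv D206) (iv F809) D275
theorem F1426 : act 4 n370 = n370 := d18_2 (iv F1076) D370 (iv D370) F1076 F813
theorem F1427 : act 7 n370 = n370 := d21_2 F1077 D370 (iv D370)
def n371 : Q := act 0 n276
theorem D371 : act 0 n276 = n371 := rfl
theorem F1428 : act 1 n371 = n371 := d0_2 D276 D371 (iv D371) (iv D276) F812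
theorem F1429 : act 2 n371 = n371 := d1_2 F1078 D371 (iv D371)
theorem F1430 : act 3 n371 = n371 := d2_2 F1079 D371 (iv D371)
theorem F1431 : act 7 n371 = n371 := d6_2 F1080 D371 (iv D371)
def n372 : Q := act 1 n277
theorem D372 : act 1 n277 = n372 := rfl
theorem F1432 : act 2 n372 = n372 := d7_2 D277 D372 (iv D372) (iv D277) F816
theorem F1433 : act 4 n372 = n372 := d9_2 F1082 D372 (iv D372)
theorem F1434 : act 5 n372 = n278 := d10_2 (iv F1083) D372 (iv D278)
theorem F1435 : act 6 n372 = n372 := d11_2 F1084 D372 (iv D372)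
theorem F1436 : act 7 n372 = n372 := d12_2 F1085 D372 (iv D372)
def n373 : Q := act 3 n277
theorem D373 : act 3 n277 = n373 := rfl
theorem F1437 : act 0 n373 = n373 := d2_1 D373 (iv D373) F1081
theorem F1438 : act 5 n373 = n279 := d19_2 (iv F1083) D373 (iv D279)
theorem F1439 : act 6 n373 = n373 := d20_2 F1084 D373 (iv D373)
theorem F1440 : act 7 n373 = n373 := d21_2 F1085 D373 (iv D373)
def n374 : Q := act 0 n278
theorem D374 : act 0 n278 = n374 := rfl
theorem F1441 : act 1 n374 = n374 := d0_2 D278 D374 (iv D374) (iv D278) F820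
theorem F1442 : act 2 n374 = n374 := d1_2 F1086 D374 (iv D374)
theorem F1443 : act 4 n374 = n280 := d3_2 (iv F1087) D374 (iv D280)
theorem F1444 : act 6 n374 = n374 := d5_2 F1088 D374 (iv D374)
theorem F1445 : act 7 n374 = n374 := d6_2 F1089 D374 (iv D374)
def n375 : Q := act 3 n278
theorem D375 : act 3 n278 = n375 := rfl
theorem F1446 : act 1 n375 = n279 := d8_1 D375 (iv D279) D278
theorem F1447 : act 4 n375 = n375 := d18_2 (iv F1087) D375 (iv D375) F1087 F825
theorem F1448 : act 6 n375 = n375 := d20_2 F1088 D375 (iv D375)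
def n376 : Q := act 2 n281
theorem D376 : act 2 n281 = n376 := rfl
theorem F1450 : act 0 n376 = n283 := d1_1 D376 (iv D283) (iv F1100)
theorem F1451 : act 4 n376 = n376 := d14_2 F1102 D376 (iv D376)
theorem F1452 : act 5 n376 = n376 := d15_2 F1103 D376 (iv D376)
def n377 : Q := act 7 n281
theorem D377 : act 7 n281 = n377 := rfl
theorem F1453 : act 0 n377 = n284 := d6_1 D377 (iv D284) (iv F1100)
theorem F1454 : act 1 n377 = n292 := d12_1 D377 (iv D292) (iv F1101)
theorem F1455 : act 3 n377 = n282 := d21_1 D377 (iv D282) D281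
theorem F1456 : act 4 n377 = n377 := d24_1 D377 (iv D377) F1102
theorem F1457 : act 5 n377 = n377 := d26_1 D377 (iv D377) F1103
def n378 : Q := act 6 n282
theorem D378 : act 6 n282 = n378 := rfl
theorem F1458 : act 0 n378 = n285 := d5_1 D378 (iv D285) (iv F1105)
theorem F1459 : act 1 n378 = n293 := d11_1 D378 (iv D293) (iv F1106)
theorem F1460 : act 4 n378 = n287 := d23_1 D378 (iv D287) (iv F1107)
theorem F1461 : act 5 n378 = n378 := d25_1 D378 (iv D378) F1108
theorem F1462 : act 7 n378 = n378 := d27_2 D282 D378 (iv D378) (iv D282) F832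
def n379 : Q := act 6 n283
theorem D379 : act 6 n283 = n379 := rfl
theorem F1463 : act 1 n379 = n379 := d11_1 D379 (iv D379) F1109
theorem F1464 : act 2 n379 = n379 := d16_1 D379 (iv D379) (iv D283) F836 D283
theorem F1465 : act 4 n379 = n379 := d23_1 D379 (iv D379) F1110
theorem F1466 : act 5 n379 = n379 := d25_1 D379 (iv D379) F1111
def n380 : Q := act 7 n283
theorem D380 : act 7 n283 = n380 := rfl
theorem F1467 : act 1 n380 = n380 := d12_1 D380 (iv D380) F1109
theorem F1468 : act 2 n380 = n284 := d17_1 D380 (iv D284) D283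
theorem F1469 : act 4 n380 = n380 := d24_1 D380 (iv D380) F1110
theorem F1470 : act 5 n380 = n380 := d26_1 D380 (iv D380) F1111
def n381 : Q := act 6 n284
theorem D381 : act 6 n284 = n381 := rfl
theorem F1471 : act 1 n381 = n286 := d11_1 D381 (iv D286) (iv F1112)
theorem F1472 : act 3 n381 = n285 := d20_1 D381 (iv D285) (iv F1113)
theorem F1473 : act 4 n381 = n381 := d23_1 D381 (iv D381) F1114
theorem F1474 : act 5 n381 = n381 := d25_1 D381 (iv D381) F1115
theorem F1475 : act 7 n381 = n381 := d27_2 D284 D381 (iv D381) (iv D284) F836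
def n382 : Q := act 2 n285
theorem D382 : act 2 n285 = n382 := rfl
theorem F1476 : act 1 n382 = n382 := d7_1 D382 (iv D382) F1116 F846 (iv F1116)
theorem F1477 : act 4 n382 = n288 := d14_2 (iv F1117) D382 (iv D288)
theorem F1478 : act 5 n382 = n382 := d15_2 F1118 D382 (iv D382)
theorem F1479 : act 7 n382 = n382 := d17_2 F1119 D382 (iv D382)
def n383 : Q := act 2 n286
theorem D383 : act 2 n286 = n383 := rfl
theorem F1480 : act 0 n383 = n298 := d1_1 D383 (iv D298) (iv F1120)
theorem F1481 : act 3 n383 = n383 := d13_2 (iv F1121) D383 (iv D383) F1121 F846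
theorem F1482 : act 4 n383 = n383 := d14_2 F1122 D383 (iv D383)
theorem F1483 : act 5 n383 = n383 := d15_2 F1123 D383 (iv D383)
theorem F1484 : act 6 n383 = n383 := d16_2 D286 D383 (iv D383) (iv D286) F841
theorem F1485 : act 7 n383 = n383 := d17_2 F1124 D383 (iv D383)
def n384 : Q := act 2 n287
theorem D384 : act 2 n287 = n384 := rfl
theorem F1486 : act 0 n384 = n288 := d1_1 D384 (iv D288) (iv F1125)
theorem F1487 : act 5 n384 = n289 := d15_2 (iv F1128) D384 (iv D289)
theorem F1488 : act 7 n384 = n384 := d17_2 F1129 D384 (iv D384)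
def n385 : Q := act 3 n288
theorem D385 : act 3 n288 = n385 := rfl
theorem F1489 : act 1 n385 = n385 := d8_1 D385 (iv D385) F1130
theorem F1490 : act 2 n385 = n385 := d13_1 D385 (iv D385) (iv D288) F855 D288
theorem F1491 : act 5 n385 = n290 := d19_2 (iv F1131) D385 (iv D290)
theorem F1492 : act 7 n385 = n385 := d21_2 F1132 D385 (iv D385)
def n386 : Q := act 1 n289
theorem D386 : act 1 n289 = n386 := rfl
theorem F1494 : act 2 n386 = n301 := d7_2 D289 D386 (iv D301) (iv D225) (iv F859)
def n387 : Q := act 3 n289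
theorem D387 : act 3 n289 = n387 := rfl
def n388 : Q := act 4 n290
theorem D388 : act 4 n290 = n388 := rfl
def n389 : Q := act 1 n291
theorem D389 : act 1 n291 = n389 := rfl
theorem F1504 : act 0 n389 = n389 := d0_1 D389 (iv D389) F1139 F874 (iv F1139)
theorem F1505 : act 3 n389 = n389 := d8_2 F1140 D389 (iv D389)
theorem F1506 : act 4 n389 = n389 := d9_2 F1141 D389 (iv D389)
theorem F1507 : act 5 n389 = n389 := d10_2 F1142 D389 (iv D389)
def n390 : Q := act 6 n291
theorem D390 : act 6 n291 = n390 := rfl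
theorem F1508 : act 0 n390 = n294 := d5_1 D390 (iv D294) (iv F1139)
theorem F1509 : act 2 n390 = n390 := d16_1 D390 (iv D390) (iv D291) F869 D291
theorem F1510 : act 3 n390 = n390 := d20_1 D390 (iv D390) F1140
theorem F1511 : act 4 n390 = n390 := d23_1 D390 (iv D390) F1141
theorem F1512 : act 5 n390 = n390 := d25_1 D390 (iv D390) F1142
def n391 : Q := act 7 n291
theorem D391 : act 7 n291 = n391 := rfl
theorem F1513 : act 0 n391 = n295 := d6_1 D391 (iv D295) (iv F1139)
theorem F1514 : act 2 n391 = n292 := d17_1 D391 (iv D292) D291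
theorem F1515 : act 3 n391 = n391 := d21_1 D391 (iv D391) F1140
theorem F1516 : act 4 n391 = n391 := d24_1 D391 (iv D391) F1141
theorem F1517 : act 5 n391 = n391 := d26_1 D391 (iv D391) F1142
def n392 : Q := act 6 n292
theorem D392 : act 6 n292 = n392 := rfl
theorem F1518 : act 0 n392 = n296 := d5_1 D392 (iv D296) (iv F1143)
theorem F1519 : act 3 n392 = n293 := d20_1 D392 (iv D293) (iv F1144)
theorem F1520 : act 4 n392 = n392 := d23_1 D392 (iv D392) F1145
theorem F1521 : act 5 n392 = n392 := d25_1 D392 (iv D392) F1146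
theorem F1522 : act 7 n392 = n392 := d27_2 D292 D392 (iv D392) (iv D292) F869
def n393 : Q := act 2 n293
theorem D393 : act 2 n293 = n393 := rfl
theorem F1523 : act 0 n393 = n297 := d1_1 D393 (iv D297) (iv F1147)
theorem F1524 : act 4 n393 = n299 := d14_2 (iv F1148) D393 (iv D299)
theorem F1525 : act 5 n393 = n393 := d15_2 F1149 D393 (iv D393)
theorem F1526 : act 6 n393 = n393 := d16_2 D293 D393 (iv D393) (iv D293) F871
theorem F1527 : act 7 n393 = n393 := d17_2 F1150 D393 (iv D393)
def n394 : Q := act 7 n294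
theorem D394 : act 7 n294 = n394 := rfl
def n395 : Q := act 6 n295
theorem D395 : act 6 n295 = n395 := rfl
def n396 : Q := act 2 n296
theorem D396 : act 2 n296 = n396 := rfl
def n397 : Q := act 3 n297
theorem D397 : act 3 n297 = n397 := rfl
def n398 : Q := act 1 n298
theorem D398 : act 1 n298 = n398 := rfl
def n400 : Q := act 3 n299
theorem D400 : act 3 n299 = n400 := rfl
theorem F1553 : act 0 n400 = n300 := d2_1 D400 (iv D300) (iv F1176)
theorem F1555 : act 5 n400 = n302 := d19_2 (iv F1177) D400 (iv D302)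
def n401 : Q := act 4 n300
theorem D401 : act 4 n300 = n401 := rfl
def n402 : Q := act 3 n301
theorem D402 : act 3 n301 = n402 := rfl
theorem F1563 : act 1 n402 = n302 := d8_1 D402 (iv D302) D301
def n403 : Q := act 4 n302
theorem D403 : act 4 n302 = n403 := rfl
theorem F1566 : act 0 n403 = n303 := d3_1 D403 (iv D303) (iv F1189)
def n405 : Q := act 0 n304
theorem D405 : act 0 n304 = n405 := rfl
theorem F1576 : act 1 n405 = n405 := d0_2 D304 D405 (iv D405) (iv D304) F906
theorem F1577 : act 2 n405 = n405 := d1_2 F1198 D405 (iv D405)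
theorem F1578 : act 4 n405 = n405 := d3_2 F1199 D405 (iv D405)
theorem F1579 : act 5 n405 = n405 := d4_2 F1200 D405 (iv D405)
theorem F1580 : act 6 n405 = n405 := d5_2 F1201 D405 (iv D405)
def n406 : Q := act 3 n304
theorem D406 : act 3 n304 = n406 := rfl
theorem F1581 : act 1 n406 = n305 := d8_1 D406 (iv D305) D304
theorem F1582 : act 5 n406 = n406 := d19_2 F1200 D406 (iv D406)
theorem F1583 : act 6 n406 = n406 := d20_2 F1201 D406 (iv D406)
def n407 : Q := act 7 n304
theorem D407 : act 7 n304 = n407 := rfl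
theorem F1584 : act 1 n407 = n306 := d12_1 D407 (iv D306) D304
theorem F1585 : act 2 n407 = n407 := d17_1 D407 (iv D407) F1198
theorem F1586 : act 4 n407 = n407 := d24_1 D407 (iv D407) F1199
theorem F1587 : act 5 n407 = n407 := d26_1 D407 (iv D407) F1200
def n408 : Q := act 4 n305
theorem D408 : act 4 n305 = n408 := rfl
theorem F1588 : act 0 n408 = n408 := d3_1 D408 (iv D408) F1202
theorem F1589 : act 2 n408 = n310 := d14_1 D408 (iv D310) (iv F1203)
theorem F1590 : act 3 n408 = n408 := d18_1 D408 (iv D408) (iv D305) F907 D305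
theorem F1591 : act 6 n408 = n408 := d23_2 F1205 D408 (iv D408)
def n409 : Q := act 7 n305
theorem D409 : act 7 n305 = n409 := rfl
theorem F1592 : act 0 n409 = n409 := d6_1 D409 (iv D409) F1202
theorem F1593 : act 2 n409 = n311 := d17_1 D409 (iv D311) (iv F1203)
theorem F1594 : act 3 n409 = n306 := d21_1 D409 (iv D306) D305
theorem F1595 : act 5 n409 = n409 := d26_1 D409 (iv D409) F1204
def n410 : Q := act 6 n306
theorem D410 : act 6 n306 = n410 := rfl
theorem F1596 : act 0 n410 = n410 := d5_1 D410 (iv D410) F1206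
theorem F1597 : act 2 n410 = n410 := d16_1 D410 (iv D410) F1207 F915 (iv F1207)
theorem F1598 : act 4 n410 = n410 := d23_1 D410 (iv D410) F1208
theorem F1599 : act 5 n410 = n410 := d25_1 D410 (iv D410) F1209
theorem F1600 : act 7 n410 = n410 := d27_2 D306 D410 (iv D410) (iv D306) F909
def n411 : Q := act 3 n307
theorem D411 : act 3 n307 = n411 := rfl
theorem F1601 : act 0 n411 = n308 := d2_1 D411 (iv D308) D307
theorem F1602 : act 1 n411 = n411 := d8_1 D411 (iv D411) F1210
theorem F1603 : act 5 n411 = n411 := d19_2 F1213 D411 (iv D411)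
theorem F1604 : act 6 n411 = n335 := d20_2 (iv F1214) D411 (iv D335)
def n412 : Q := act 7 n307
theorem D412 : act 7 n307 = n412 := rfl
theorem F1605 : act 0 n412 = n309 := d6_1 D412 (iv D309) D307
theorem F1606 : act 1 n412 = n412 := d12_1 D412 (iv D412) F1210
theorem F1607 : act 2 n412 = n412 := d17_1 D412 (iv D412) F1211
theorem F1608 : act 4 n412 = n314 := d24_1 D412 (iv D314) (iv F1212)
theorem F1609 : act 5 n412 = n412 := d26_1 D412 (iv D412) F1213
def n413 : Q := act 2 n308
theorem D413 : act 2 n308 = n413 := rfl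
theorem F1610 : act 3 n413 = n413 := d13_2 D308 D413 (iv D413) (iv D308) F916
theorem F1611 : act 5 n413 = n413 := d15_2 F1216 D413 (iv D413)
def n414 : Q := act 4 n308
theorem D414 : act 4 n308 = n414 := rfl
theorem F1612 : act 1 n414 = n310 := d9_1 D414 (iv D310) (iv F1215)
theorem F1613 : act 3 n414 = n316 := d18_1 D414 (iv D316) (iv D233) (iv F917) D308
theorem F1614 : act 6 n414 = n338 := d23_2 (iv F1217) D414 (iv D338)
def n415 : Q := act 7 n308
theorem D415 : act 7 n308 = n415 := rfl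
theorem F1615 : act 1 n415 = n311 := d12_1 D415 (iv D311) (iv F1215)
theorem F1616 : act 3 n415 = n309 := d21_1 D415 (iv D309) D308
theorem F1617 : act 5 n415 = n415 := d26_1 D415 (iv D415) F1216
def n416 : Q := act 6 n309
theorem D416 : act 6 n309 = n416 := rfl
theorem F1618 : act 1 n416 = n312 := d11_1 D416 (iv D312) (iv F1218)
theorem F1619 : act 4 n416 = n318 := d23_1 D416 (iv D318) (iv F1220)
theorem F1620 : act 5 n416 = n416 := d25_1 D416 (iv D416) F1221
theorem F1621 : act 7 n416 = n340 := d27_2 D309 D416 (iv D340) (iv D249) (iv F919)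
def n417 : Q := act 5 n310
theorem D417 : act 5 n310 = n417 := rfl
theorem F1622 : act 0 n417 = n417 := d4_1 D417 (iv D417) F1222
theorem F1623 : act 3 n417 = n319 := d19_1 D417 (iv D319) (iv F1223)
theorem F1624 : act 4 n417 = n417 := d22_1 D417 (iv D417) (iv D310) F921 D310
theorem F1625 : act 6 n417 = n341 := d25_2 (iv F1224) D417 (iv D341)
def n418 : Q := act 7 n310
theorem D418 : act 7 n310 = n418 := rfl
theorem F1626 : act 0 n418 = n418 := d6_1 D418 (iv D418) F1222
theorem F1627 : act 3 n418 = n320 := d21_1 D418 (iv D320) (iv F1223)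
theorem F1628 : act 4 n418 = n311 := d24_1 D418 (iv D311) D310
def n419 : Q := act 6 n311
theorem D419 : act 6 n311 = n419 := rfl
theorem F1629 : act 0 n419 = n419 := d5_1 D419 (iv D419) F1225
theorem F1630 : act 3 n419 = n312 := d20_1 D419 (iv D312) (iv F1226)
theorem F1631 : act 5 n419 = n419 := d25_1 D419 (iv D419) F1227
theorem F1632 : act 7 n419 = n343 := d27_2 D311 D419 (iv D343) (iv D251) (iv F922)
def n420 : Q := act 2 n313
theorem D420 : act 2 n313 = n420 := rfl
theorem F1633 : act 0 n420 = n315 := d1_1 D420 (iv D315) (iv F1233)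
theorem F1634 : act 3 n420 = n420 := d13_2 D313 D420 (iv D420) (iv D313) F928
theorem F1635 : act 5 n420 = n322 := d15_2 (iv F1235) D420 (iv D322)
theorem F1636 : act 6 n420 = n420 := d16_2 (iv F1236) D420 (iv D420) F1236 F1000
def n421 : Q := act 4 n313
theorem D421 : act 4 n313 = n421 := rfl
theorem F1637 : act 0 n421 = n316 := d3_1 D421 (iv D316) (iv F1233)
theorem F1638 : act 1 n421 = n421 := d9_1 D421 (iv D421) F1234
theorem F1639 : act 6 n421 = n344 := d23_2 (iv F1236) D421 (iv D344)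
def n422 : Q := act 7 n313
theorem D422 : act 7 n313 = n422 := rfl
theorem F1640 : act 0 n422 = n317 := d6_1 D422 (iv D317) (iv F1233)
theorem F1641 : act 1 n422 = n422 := d12_1 D422 (iv D422) F1234
theorem F1642 : act 3 n422 = n314 := d21_1 D422 (iv D314) D313
theorem F1643 : act 5 n422 = n324 := d26_1 D422 (iv D324) (iv F1235)
def n423 : Q := act 6 n314
theorem D423 : act 6 n314 = n423 := rfl
theorem F1644 : act 0 n423 = n318 := d5_1 D423 (iv D318) (iv F1237)
theorem F1645 : act 1 n423 = n423 := d11_1 D423 (iv D423) F1238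
theorem F1646 : act 5 n423 = n325 := d25_1 D423 (iv D325) (iv F1240)
theorem F1647 : act 7 n423 = n346 := d27_2 D314 D423 (iv D346) (iv D254) (iv F930)
def n424 : Q := act 4 n315
theorem D424 : act 4 n315 = n424 := rfl
theorem F1648 : act 1 n424 = n424 := d9_1 D424 (iv D424) F1241
theorem F1649 : act 2 n424 = n316 := d14_1 D424 (iv D316) D315
theorem F1650 : act 6 n424 = n424 := d23_2 F1244 D424 (iv D424)
def n425 : Q := act 7 n315
theorem D425 : act 7 n315 = n425 := rfl
theorem F1651 : act 1 n425 = n425 := d12_1 D425 (iv D425) F1241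
theorem F1652 : act 2 n425 = n317 := d17_1 D425 (iv D317) D315
theorem F1653 : act 3 n425 = n425 := d21_1 D425 (iv D425) F1242
theorem F1654 : act 5 n425 = n327 := d26_1 D425 (iv D327) (iv F1243)
def n426 : Q := act 5 n316
theorem D426 : act 5 n316 = n426 := rfl
theorem F1655 : act 1 n426 = n319 := d10_1 D426 (iv D319) (iv F1245)
theorem F1656 : act 4 n426 = n328 := d22_1 D426 (iv D328) (iv D241) (iv F932) D316
theorem F1657 : act 6 n426 = n347 := d25_2 (iv F1246) D426 (iv D347)
def n427 : Q := act 7 n316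
theorem D427 : act 7 n316 = n427 := rfl
theorem F1658 : act 1 n427 = n320 := d12_1 D427 (iv D320) (iv F1245)
theorem F1659 : act 4 n427 = n317 := d24_1 D427 (iv D317) D316
def n428 : Q := act 6 n317
theorem D428 : act 6 n317 = n428 := rfl
theorem F1660 : act 1 n428 = n321 := d11_1 D428 (iv D321) (iv F1247)
theorem F1661 : act 3 n428 = n318 := d20_1 D428 (iv D318) (iv F1248)
theorem F1662 : act 5 n428 = n330 := d25_1 D428 (iv D330) (iv F1249)
theorem F1663 : act 7 n428 = n349 := d27_2 D317 D428 (iv D349) (iv D256) (iv F933)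
def n429 : Q := act 2 n318
theorem D429 : act 2 n318 = n429 := rfl
theorem F1664 : act 1 n429 = n429 := d7_1 D429 (iv D429) F1250 F945 (iv F1250)
theorem F1665 : act 5 n429 = n331 := d15_2 (iv F1251) D429 (iv D331)
theorem F1666 : act 6 n429 = n429 := d16_2 D318 D429 (iv D429) (iv D318) F935
theorem F1667 : act 7 n429 = n350 := d17_2 (iv F1252) D429 (iv D350)
def n430 : Q := act 7 n319
theorem D430 : act 7 n319 = n430 := rfl
theorem F1668 : act 0 n430 = n430 := d6_1 D430 (iv D430) F1253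
theorem F1669 : act 2 n430 = n430 := d17_1 D430 (iv D430) F1254
theorem F1670 : act 4 n430 = n332 := d24_1 D430 (iv D332) (iv F1255)
theorem F1671 : act 5 n430 = n320 := d26_1 D430 (iv D320) D319
def n431 : Q := act 6 n320
theorem D431 : act 6 n320 = n431 := rfl
theorem F1672 : act 0 n431 = n431 := d5_1 D431 (iv D431) F1257
theorem F1673 : act 4 n431 = n321 := d23_1 D431 (iv D321) (iv F1259)
theorem F1674 : act 7 n431 = n352 := d27_2 D320 D431 (iv D352) (iv D259) (iv F939)
def n432 : Q := act 2 n321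
theorem D432 : act 2 n321 = n432 := rfl
theorem F1675 : act 0 n432 = n432 := d1_1 D432 (iv D432) F1260
theorem F1676 : act 3 n432 = n432 := d13_2 (iv F1261) D432 (iv D432) F1261 F945
theorem F1677 : act 5 n432 = n334 := d15_2 (iv F1262) D432 (iv D334)
theorem F1678 : act 6 n432 = n432 := d16_2 D321 D432 (iv D432) (iv D321) F941
theorem F1679 : act 7 n432 = n353 := d17_2 (iv F1263) D432 (iv D353)
def n433 : Q := act 1 n322
theorem D433 : act 1 n322 = n433 := rfl
theorem F1680 : act 0 n433 = n433 := d0_1 D433 (iv D433) F1264 F955 (iv F1264)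
theorem F1681 : act 2 n433 = n433 := d7_2 D322 D433 (iv D433) (iv D322) F949
theorem F1682 : act 3 n433 = n433 := d8_2 F1265 D433 (iv D433)
theorem F1683 : act 6 n433 = n433 := d11_2 F1266 D433 (iv D433)
def n434 : Q := act 4 n322
theorem D434 : act 4 n322 = n434 := rfl
theorem F1684 : act 0 n434 = n326 := d3_1 D434 (iv D326) (iv F1264)
theorem F1685 : act 2 n434 = n323 := d14_1 D434 (iv D323) D322
theorem F1686 : act 6 n434 = n434 := d23_2 F1266 D434 (iv D434)
def n435 : Q := act 7 n322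
theorem D435 : act 7 n322 = n435 := rfl
theorem F1687 : act 0 n435 = n327 := d6_1 D435 (iv D327) (iv F1264)
theorem F1688 : act 2 n435 = n324 := d17_1 D435 (iv D324) D322
theorem F1689 : act 3 n435 = n435 := d21_1 D435 (iv D435) F1265
def n436 : Q := act 5 n323
theorem D436 : act 5 n323 = n436 := rfl
theorem F1690 : act 0 n436 = n328 := d4_1 D436 (iv D328) (iv F1267)
theorem F1691 : act 1 n436 = n436 := d10_1 D436 (iv D436) F1268
theorem F1692 : act 3 n436 = n436 := d19_1 D436 (iv D436) F1269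
theorem F1693 : act 6 n436 = n354 := d25_2 (iv F1270) D436 (iv D354)
def n437 : Q := act 7 n323
theorem D437 : act 7 n323 = n437 := rfl
theorem F1694 : act 0 n437 = n329 := d6_1 D437 (iv D329) (iv F1267)
theorem F1695 : act 1 n437 = n437 := d12_1 D437 (iv D437) F1268
theorem F1696 : act 3 n437 = n437 := d21_1 D437 (iv D437) F1269
theorem F1697 : act 4 n437 = n324 := d24_1 D437 (iv D324) D323
def n438 : Q := act 6 n324
theorem D438 : act 6 n324 = n438 := rfl
theorem F1698 : act 0 n438 = n330 := d5_1 D438 (iv D330) (iv F1271)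
theorem F1699 : act 1 n438 = n438 := d11_1 D438 (iv D438) F1272
theorem F1700 : act 3 n438 = n325 := d20_1 D438 (iv D325) (iv F1273)
theorem F1701 : act 7 n438 = n356 := d27_2 D324 D438 (iv D356) (iv D262) (iv F950)
def n439 : Q := act 2 n325
theorem D439 : act 2 n325 = n439 := rfl
theorem F1702 : act 0 n439 = n331 := d1_1 D439 (iv D331) (iv F1274)
theorem F1703 : act 4 n439 = n439 := d14_2 F1276 D439 (iv D439)
theorem F1704 : act 6 n439 = n439 := d16_2 D325 D439 (iv D439) (iv D325) F953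
theorem F1705 : act 7 n439 = n357 := d17_2 (iv F1277) D439 (iv D357)
def n440 : Q := act 3 n326
theorem D440 : act 3 n326 = n440 := rfl
theorem F1706 : act 1 n440 = n440 := d8_1 D440 (iv D440) F1278
theorem F1707 : act 2 n440 = n440 := d13_1 D440 (iv D440) F1279 F959 (iv F1279)
theorem F1708 : act 4 n440 = n440 := d18_2 D326 D440 (iv D440) (iv D326) F956
theorem F1709 : act 6 n440 = n440 := d20_2 F1280 D440 (iv D440)
def n441 : Q := act 5 n326
theorem D441 : act 5 n326 = n441 := rfl
theorem F1710 : act 1 n441 = n441 := d10_1 D441 (iv D441) F1278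
theorem F1711 : act 2 n441 = n328 := d15_1 D441 (iv D328) (iv F1279)
theorem F1712 : act 6 n441 = n441 := d25_2 F1280 D441 (iv D441)
def n442 : Q := act 7 n326
theorem D442 : act 7 n326 = n442 := rfl
theorem F1713 : act 1 n442 = n442 := d12_1 D442 (iv D442) F1278
theorem F1714 : act 2 n442 = n329 := d17_1 D442 (iv D329) (iv F1279)
theorem F1715 : act 4 n442 = n327 := d24_1 D442 (iv D327) D326
def n443 : Q := act 6 n327
theorem D443 : act 6 n327 = n443 := rfl
theorem F1716 : act 1 n443 = n443 := d11_1 D443 (iv D443) F1281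
theorem F1717 : act 3 n443 = n443 := d20_1 D443 (iv D443) F1283
theorem F1718 : act 7 n443 = n443 := d27_2 D327 D443 (iv D443) (iv D327) F957
def n444 : Q := act 7 n328
theorem D444 : act 7 n328 = n444 := rfl
theorem F1719 : act 1 n444 = n332 := d12_1 D444 (iv D332) (iv F1284)
theorem F1720 : act 3 n444 = n444 := d21_1 D444 (iv D444) F1285
theorem F1721 : act 5 n444 = n329 := d26_1 D444 (iv D329) D328
def n445 : Q := act 6 n329
theorem D445 : act 6 n329 = n445 := rfl
theorem F1722 : act 1 n445 = n333 := d11_1 D445 (iv D333) (iv F1287)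
theorem F1723 : act 3 n445 = n445 := d20_1 D445 (iv D445) F1288
theorem F1724 : act 4 n445 = n330 := d23_1 D445 (iv D330) (iv F1289)
theorem F1725 : act 7 n445 = n359 := d27_2 D329 D445 (iv D359) (iv D265) (iv F960)
def n446 : Q := act 2 n330
theorem D446 : act 2 n330 = n446 := rfl
theorem F1726 : act 7 n446 = n360 := d17_2 (iv F1292) D446 (iv D360)
def n447 : Q := act 3 n331
theorem D447 : act 3 n331 = n447 := rfl
theorem F1727 : act 1 n447 = n447 := d8_1 D447 (iv D447) F1293
theorem F1728 : act 6 n447 = n447 := d20_2 F1295 D447 (iv D447)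
theorem F1729 : act 7 n447 = n361 := d21_2 (iv F1296) D447 (iv D361)
def n448 : Q := act 6 n332
theorem D448 : act 6 n332 = n448 := rfl
theorem F1730 : act 0 n448 = n448 := d5_1 D448 (iv D448) F1297
theorem F1731 : act 3 n448 = n448 := d20_1 D448 (iv D448) F1299
theorem F1732 : act 5 n448 = n333 := d25_1 D448 (iv D333) (iv F1300)
theorem F1733 : act 7 n448 = n362 := d27_2 D332 D448 (iv D362) (iv D268) (iv F969)
def n449 : Q := act 2 n333
theorem D449 : act 2 n333 = n449 := rfl
theorem F1734 : act 0 n449 = n449 := d1_1 D449 (iv D449) F1301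
theorem F1735 : act 4 n449 = n334 := d14_2 (iv F1303) D449 (iv D334)
theorem F1736 : act 6 n449 = n449 := d16_2 D333 D449 (iv D449) (iv D333) F971
theorem F1737 : act 7 n449 = n363 := d17_2 (iv F1304) D449 (iv D363)
def n450 : Q := act 1 n334
theorem D450 : act 1 n334 = n450 := rfl
theorem F1738 : act 3 n450 = n450 := d8_2 F1306 D450 (iv D450)
theorem F1739 : act 6 n450 = n450 := d11_2 F1307 D450 (iv D450)
theorem F1740 : act 7 n450 = n364 := d12_2 (iv F1308) D450 (iv D364)
def n451 : Q := act 2 n335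
theorem D451 : act 2 n335 = n451 := rfl
theorem F1741 : act 0 n451 = n337 := d1_1 D451 (iv D337) (iv F1309)
theorem F1742 : act 3 n451 = n376 := d13_2 D335 D451 (iv D376) (iv D281) (iv F978)
theorem F1743 : act 5 n451 = n451 := d15_2 F1311 D451 (iv D451)
def n452 : Q := act 4 n335
theorem D452 : act 4 n335 = n452 := rfl
theorem F1744 : act 0 n452 = n338 := d3_1 D452 (iv D338) (iv F1309)
theorem F1745 : act 1 n452 = n452 := d9_1 D452 (iv D452) F1310
theorem F1746 : act 3 n452 = n344 := d18_1 D452 (iv D344) (iv D253) (iv F979) D335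
def n453 : Q := act 7 n335
theorem D453 : act 7 n335 = n453 := rfl
theorem F1747 : act 0 n453 = n339 := d6_1 D453 (iv D339) (iv F1309)
theorem F1748 : act 1 n453 = n453 := d12_1 D453 (iv D453) F1310
theorem F1749 : act 3 n453 = n336 := d21_1 D453 (iv D336) D335
theorem F1750 : act 5 n453 = n453 := d26_1 D453 (iv D453) F1311
def n454 : Q := act 6 n336
theorem D454 : act 6 n336 = n454 := rfl
theorem F1751 : act 0 n454 = n340 := d5_1 D454 (iv D340) (iv F1312)
theorem F1752 : act 1 n454 = n454 := d11_1 D454 (iv D454) F1313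
theorem F1753 : act 4 n454 = n346 := d23_1 D454 (iv D346) (iv F1315)
theorem F1754 : act 5 n454 = n454 := d25_1 D454 (iv D454) F1316
def n455 : Q := act 4 n337
theorem D455 : act 4 n337 = n455 := rfl
theorem F1755 : act 1 n455 = n455 := d9_1 D455 (iv D455) F1317
theorem F1756 : act 2 n455 = n338 := d14_1 D455 (iv D338) D337
theorem F1757 : act 3 n455 = n455 := d18_1 D455 (iv D455) F1318 F1110 (iv F1318)
def n456 : Q := act 6 n337
theorem D456 : act 6 n337 = n456 := rfl
theorem F1758 : act 1 n456 = n456 := d11_1 D456 (iv D456) F1317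
theorem F1759 : act 3 n456 = n379 := d20_1 D456 (iv D379) (iv F1318)
theorem F1760 : act 5 n456 = n456 := d25_1 D456 (iv D456) F1319
def n457 : Q := act 7 n337
theorem D457 : act 7 n337 = n457 := rfl
theorem F1761 : act 1 n457 = n457 := d12_1 D457 (iv D457) F1317
theorem F1762 : act 2 n457 = n339 := d17_1 D457 (iv D339) D337
theorem F1763 : act 3 n457 = n380 := d21_1 D457 (iv D380) (iv F1318)
theorem F1764 : act 5 n457 = n457 := d26_1 D457 (iv D457) F1319
def n458 : Q := act 5 n338
theorem D458 : act 5 n338 = n458 := rfl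
theorem F1765 : act 1 n458 = n341 := d10_1 D458 (iv D341) (iv F1320)
theorem F1766 : act 3 n458 = n347 := d19_1 D458 (iv D347) (iv F1321)
theorem F1767 : act 4 n458 = n458 := d22_1 D458 (iv D458) (iv D338) F982 D338
def n459 : Q := act 7 n338
theorem D459 : act 7 n338 = n459 := rfl
theorem F1768 : act 1 n459 = n342 := d12_1 D459 (iv D342) (iv F1320)
theorem F1769 : act 3 n459 = n348 := d21_1 D459 (iv D348) (iv F1321)
theorem F1770 : act 4 n459 = n339 := d24_1 D459 (iv D339) D338
def n460 : Q := act 6 n339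
theorem D460 : act 6 n339 = n460 := rfl
theorem F1771 : act 1 n460 = n343 := d11_1 D460 (iv D343) (iv F1322)
theorem F1772 : act 3 n460 = n340 := d20_1 D460 (iv D340) (iv F1323)
theorem F1773 : act 5 n460 = n460 := d25_1 D460 (iv D460) F1324
def n461 : Q := act 2 n340
theorem D461 : act 2 n340 = n461 := rfl
theorem F1774 : act 1 n461 = n461 := d7_1 D461 (iv D461) F1325 F995 (iv F1325)
theorem F1775 : act 4 n461 = n350 := d14_2 (iv F1326) D461 (iv D350)
theorem F1776 : act 5 n461 = n461 := d15_2 F1327 D461 (iv D461)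
theorem F1777 : act 6 n461 = n382 := d16_2 D340 D461 (iv D382) (iv D285) (iv F984)
def n462 : Q := act 7 n341
theorem D462 : act 7 n341 = n462 := rfl
theorem F1778 : act 0 n462 = n462 := d6_1 D462 (iv D462) F1328
theorem F1779 : act 2 n462 = n462 := d17_1 D462 (iv D462) F1329
theorem F1780 : act 3 n462 = n351 := d21_1 D462 (iv D351) (iv F1330)
theorem F1781 : act 4 n462 = n462 := d24_1 D462 (iv D462) F1331
theorem F1782 : act 5 n462 = n342 := d26_1 D462 (iv D342) D341
def n463 : Q := act 6 n342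
theorem D463 : act 6 n342 = n463 := rfl
theorem F1783 : act 0 n463 = n463 := d5_1 D463 (iv D463) F1332
theorem F1784 : act 3 n463 = n352 := d20_1 D463 (iv D352) (iv F1334)
theorem F1785 : act 4 n463 = n343 := d23_1 D463 (iv D343) (iv F1335)
def n464 : Q := act 2 n343
theorem D464 : act 2 n343 = n464 := rfl
theorem F1786 : act 0 n464 = n464 := d1_1 D464 (iv D464) F1336
theorem F1787 : act 3 n464 = n464 := d13_2 (iv F1337) D464 (iv D464) F1337 F995
theorem F1788 : act 5 n464 = n464 := d15_2 F1338 D464 (iv D464)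
theorem F1789 : act 6 n464 = n464 := d16_2 D343 D464 (iv D464) (iv D343) F991
def n465 : Q := act 5 n344
theorem D465 : act 5 n344 = n465 := rfl
theorem F1790 : act 0 n465 = n347 := d4_1 D465 (iv D347) (iv F1339)
theorem F1791 : act 1 n465 = n465 := d10_1 D465 (iv D465) F1340
theorem F1792 : act 2 n465 = n465 := d15_1 D465 (iv D465) F1341
theorem F1793 : act 4 n465 = n354 := d22_1 D465 (iv D354) (iv D261) (iv F1001) D344
def n466 : Q := act 7 n344
theorem D466 : act 7 n344 = n466 := rfl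
theorem F1794 : act 0 n466 = n348 := d6_1 D466 (iv D348) (iv F1339)
theorem F1795 : act 1 n466 = n466 := d12_1 D466 (iv D466) F1340
theorem F1796 : act 2 n466 = n466 := d17_1 D466 (iv D466) F1341
theorem F1797 : act 4 n466 = n345 := d24_1 D466 (iv D345) D344
def n467 : Q := act 6 n345
theorem D467 : act 6 n345 = n467 := rfl
theorem F1798 : act 0 n467 = n349 := d5_1 D467 (iv D349) (iv F1342)
theorem F1799 : act 1 n467 = n467 := d11_1 D467 (iv D467) F1343
theorem F1800 : act 3 n467 = n346 := d20_1 D467 (iv D346) (iv F1345)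
theorem F1801 : act 5 n467 = n356 := d25_1 D467 (iv D356) (iv F1346)
def n468 : Q := act 2 n346
theorem D468 : act 2 n346 = n468 := rfl
theorem F1802 : act 0 n468 = n350 := d1_1 D468 (iv D350) (iv F1347)
theorem F1803 : act 5 n468 = n357 := d15_2 (iv F1349) D468 (iv D357)
theorem F1804 : act 6 n468 = n384 := d16_2 D346 D468 (iv D384) (iv D287) (iv F1004)
def n469 : Q := act 7 n347
theorem D469 : act 7 n347 = n469 := rfl
theorem F1805 : act 1 n469 = n351 := d12_1 D469 (iv D351) (iv F1350)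
theorem F1806 : act 2 n469 = n469 := d17_1 D469 (iv D469) F1351
theorem F1807 : act 4 n469 = n358 := d24_1 D469 (iv D358) (iv F1352)
theorem F1808 : act 5 n469 = n348 := d26_1 D469 (iv D348) D347
def n470 : Q := act 6 n348
theorem D470 : act 6 n348 = n470 := rfl
theorem F1809 : act 1 n470 = n352 := d11_1 D470 (iv D352) (iv F1353)
theorem F1810 : act 4 n470 = n349 := d23_1 D470 (iv D349) (iv F1355)
def n471 : Q := act 2 n349
theorem D471 : act 2 n349 = n471 := rfl
theorem F1811 : act 5 n471 = n360 := d15_2 (iv F1358) D471 (iv D360)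
theorem F1812 : act 6 n471 = n471 := d16_2 D349 D471 (iv D471) (iv D349) F1009
def n472 : Q := act 3 n350
theorem D472 : act 3 n350 = n472 := rfl
theorem F1813 : act 1 n472 = n472 := d8_1 D472 (iv D472) F1359
theorem F1814 : act 5 n472 = n361 := d19_2 (iv F1360) D472 (iv D361)
theorem F1815 : act 6 n472 = n385 := d20_2 (iv F1361) D472 (iv D385)
def n473 : Q := act 6 n351
theorem D473 : act 6 n351 = n473 := rfl
theorem F1816 : act 0 n473 = n473 := d5_1 D473 (iv D473) F1362
theorem F1817 : act 4 n473 = n362 := d23_1 D473 (iv D362) (iv F1364)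
theorem F1818 : act 5 n473 = n352 := d25_1 D473 (iv D352) (iv F1365)
def n474 : Q := act 2 n352
theorem D474 : act 2 n352 = n474 := rfl
theorem F1819 : act 0 n474 = n474 := d1_1 D474 (iv D474) F1366
theorem F1820 : act 4 n474 = n353 := d14_2 (iv F1367) D474 (iv D353)
theorem F1821 : act 6 n474 = n366 := d16_2 D352 D474 (iv D366) (iv D272) (iv F1018)
def n475 : Q := act 1 n353
theorem D475 : act 1 n353 = n475 := rfl
theorem F1822 : act 3 n475 = n475 := d8_2 F1369 D475 (iv D475)
theorem F1823 : act 5 n475 = n364 := d10_2 (iv F1370) D475 (iv D364)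
theorem F1824 : act 6 n475 = n367 := d11_2 (iv F1371) D475 (iv D367)
def n476 : Q := act 7 n354
theorem D476 : act 7 n354 = n476 := rfl
theorem F1825 : act 0 n476 = n358 := d6_1 D476 (iv D358) (iv F1372)
theorem F1826 : act 1 n476 = n476 := d12_1 D476 (iv D476) F1373
theorem F1827 : act 2 n476 = n476 := d17_1 D476 (iv D476) F1374
theorem F1828 : act 3 n476 = n476 := d21_1 D476 (iv D476) F1375
theorem F1829 : act 5 n476 = n355 := d26_1 D476 (iv D355) D354
def n477 : Q := act 6 n355
theorem D477 : act 6 n355 = n477 := rfl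
theorem F1830 : act 0 n477 = n359 := d5_1 D477 (iv D359) (iv F1376)
theorem F1831 : act 1 n477 = n477 := d11_1 D477 (iv D477) F1377
theorem F1832 : act 3 n477 = n477 := d20_1 D477 (iv D477) F1379
theorem F1833 : act 4 n477 = n356 := d23_1 D477 (iv D356) (iv F1380)
def n478 : Q := act 2 n356
theorem D478 : act 2 n356 = n478 := rfl
theorem F1834 : act 0 n478 = n360 := d1_1 D478 (iv D360) (iv F1381)
theorem F1835 : act 6 n478 = n478 := d16_2 D356 D478 (iv D478) (iv D356) F1029
def n479 : Q := act 1 n357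
theorem D479 : act 1 n357 = n479 := rfl
theorem F1836 : act 0 n479 = n479 := d0_1 D479 (iv D479) F1384 F1043 (iv F1384)
theorem F1837 : act 2 n479 = n479 := d7_2 D357 D479 (iv D479) (iv D357) F1032
theorem F1838 : act 4 n479 = n479 := d9_2 F1385 D479 (iv D479)
theorem F1839 : act 6 n479 = n386 := d11_2 (iv F1386) D479 (iv D386)
def n480 : Q := act 3 n357
theorem D480 : act 3 n357 = n480 := rfl
theorem F1840 : act 0 n480 = n361 := d2_1 D480 (iv D361) (iv F1384)
theorem F1841 : act 6 n480 = n387 := d20_2 (iv F1386) D480 (iv D387)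
def n481 : Q := act 6 n358
theorem D481 : act 6 n358 = n481 := rfl
theorem F1842 : act 1 n481 = n362 := d11_1 D481 (iv D362) (iv F1387)
theorem F1843 : act 3 n481 = n481 := d20_1 D481 (iv D481) F1389
theorem F1844 : act 5 n481 = n359 := d25_1 D481 (iv D359) (iv F1390)
def n482 : Q := act 2 n359
theorem D482 : act 2 n359 = n482 := rfl
theorem F1845 : act 4 n482 = n360 := d14_2 (iv F1393) D482 (iv D360)
theorem F1846 : act 6 n482 = n482 := d16_2 D359 D482 (iv D482) (iv D359) F1038
def n483 : Q := act 1 n360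
theorem D483 : act 1 n360 = n483 := rfl
theorem F1847 : act 2 n483 = n364 := d7_2 D360 D483 (iv D364) (iv D270) (iv F1041)
theorem F1848 : act 6 n483 = n483 := d11_2 F1394 D483 (iv D483)
def n484 : Q := act 3 n360
theorem D484 : act 3 n360 = n484 := rfl
theorem F1849 : act 2 n484 = n361 := d13_1 D484 (iv D361) (iv D267) (iv F1042) D360
theorem F1850 : act 6 n484 = n484 := d20_2 F1394 D484 (iv D484)
def n485 : Q := act 4 n361
theorem D485 : act 4 n361 = n485 := rfl
theorem F1851 : act 1 n485 = n485 := d9_1 D485 (iv D485) F1395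
theorem F1852 : act 3 n485 = n485 := d18_1 D485 (iv D485) (iv D361) F1044 D361
theorem F1853 : act 6 n485 = n388 := d23_2 (iv F1396) D485 (iv D388)
def n486 : Q := act 2 n362
theorem D486 : act 2 n362 = n486 := rfl
theorem F1854 : act 0 n486 = n486 := d1_1 D486 (iv D486) F1397
theorem F1855 : act 5 n486 = n363 := d15_2 (iv F1399) D486 (iv D363)
theorem F1856 : act 6 n486 = n368 := d16_2 D362 D486 (iv D368) (iv D274) (iv F1047)
def n487 : Q := act 1 n363
theorem D487 : act 1 n363 = n487 := rfl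
theorem F1857 : act 4 n487 = n364 := d9_2 (iv F1401) D487 (iv D364)
theorem F1858 : act 6 n487 = n369 := d11_2 (iv F1402) D487 (iv D369)
def n488 : Q := act 3 n363
theorem D488 : act 3 n363 = n488 := rfl
def n489 : Q := act 0 n364
theorem D489 : act 0 n364 = n489 := rfl
theorem F1865 : act 6 n489 = n371 := d5_2 (iv F1404) D489 (iv D371)
def n490 : Q := act 2 n365
theorem D490 : act 2 n365 = n490 := rfl
theorem F1866 : act 0 n490 = n490 := d1_1 D490 (iv D490) F1405
theorem F1867 : act 4 n490 = n368 := d14_2 (iv F1408) D490 (iv D368)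
theorem F1868 : act 5 n490 = n366 := d15_2 (iv F1409) D490 (iv D366)
theorem F1869 : act 7 n490 = n490 := d17_2 F1410 D490 (iv D490)
def n491 : Q := act 1 n366
theorem D491 : act 1 n366 = n491 := rfl
theorem F1870 : act 2 n491 = n491 := d7_2 D366 D491 (iv D491) (iv D366) F1062
theorem F1871 : act 4 n491 = n367 := d9_2 (iv F1412) D491 (iv D367)
theorem F1872 : act 7 n491 = n491 := d12_2 F1413 D491 (iv D491)
def n492 : Q := act 3 n366
theorem D492 : act 3 n366 = n492 := rfl
theorem F1873 : act 0 n492 = n492 := d2_1 D492 (iv D492) F1411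
theorem F1874 : act 2 n492 = n492 := d13_1 D492 (iv D492) (iv D366) F1063 D366
theorem F1875 : act 4 n492 = n492 := d18_2 (iv F1412) D492 (iv D492) F1412 F1067
theorem F1876 : act 7 n492 = n492 := d21_2 F1413 D492 (iv D492)
def n493 : Q := act 0 n367
theorem D493 : act 0 n367 = n493 := rfl
theorem F1877 : act 1 n493 = n493 := d0_2 D367 D493 (iv D493) (iv D367) F1066
theorem F1878 : act 2 n493 = n493 := d1_2 F1414 D493 (iv D493)
theorem F1879 : act 3 n493 = n493 := d2_2 F1415 D493 (iv D493)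
theorem F1880 : act 5 n493 = n371 := d4_2 (iv F1416) D493 (iv D371)
theorem F1881 : act 7 n493 = n493 := d6_2 F1417 D493 (iv D493)
def n494 : Q := act 1 n368
theorem D494 : act 1 n368 = n494 := rfl
theorem F1882 : act 2 n494 = n494 := d7_2 D368 D494 (iv D494) (iv D368) F1071
theorem F1883 : act 5 n494 = n369 := d10_2 (iv F1419) D494 (iv D369)
theorem F1884 : act 7 n494 = n494 := d12_2 F1420 D494 (iv D494)
def n495 : Q := act 3 n368
theorem D495 : act 3 n368 = n495 := rfl
theorem F1885 : act 0 n495 = n495 := d2_1 D495 (iv D495) F1418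
theorem F1886 : act 2 n495 = n373 := d13_1 D495 (iv D373) (iv D277) (iv F1072) D368
theorem F1887 : act 5 n495 = n370 := d19_2 (iv F1419) D495 (iv D370)
theorem F1888 : act 7 n495 = n495 := d21_2 F1420 D495 (iv D495)
def n496 : Q := act 0 n369
theorem D496 : act 0 n369 = n496 := rfl
theorem F1891 : act 4 n496 = n371 := d3_2 (iv F1422) D496 (iv D371)
def n497 : Q := act 3 n369
theorem D497 : act 3 n369 = n497 := rfl
theorem F1893 : act 1 n497 = n370 := d8_1 D497 (iv D370) D369
def n498 : Q := act 0 n372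
theorem D498 : act 0 n372 = n498 := rfl
theorem F1898 : act 4 n498 = n498 := d3_2 F1433 D498 (iv D498)
theorem F1899 : act 5 n498 = n374 := d4_2 (iv F1434) D498 (iv D374)
def n499 : Q := act 3 n372
theorem D499 : act 3 n372 = n499 := rfl
theorem F1902 : act 1 n499 = n373 := d8_1 D499 (iv D373) D372
theorem F1903 : act 5 n499 = n375 := d19_2 (iv F1434) D499 (iv D375)
def n500 : Q := act 4 n373
theorem D500 : act 4 n373 = n500 := rfl
theorem F1906 : act 0 n500 = n500 := d3_1 D500 (iv D500) F1437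
theorem F1907 : act 3 n500 = n500 := d18_1 D500 (iv D500) (iv D373) F1082 D373
theorem F1908 : act 5 n500 = n500 := d22_2 (iv F1438) D500 (iv D500) F1438 F1091
theorem F1909 : act 6 n500 = n500 := d23_2 F1439 D500 (iv D500)
theorem F1910 : act 7 n500 = n500 := d24_2 F1440 D500 (iv D500)
def n501 : Q := act 3 n374
theorem D501 : act 3 n374 = n501 := rfl
theorem F1911 : act 0 n501 = n375 := d2_1 D501 (iv D375) D374
def n502 : Q := act 2 n375
theorem D502 : act 2 n375 = n502 := rfl
def n503 : Q := act 1 n376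
theorem D503 : act 1 n376 = n503 := rfl
theorem F1919 : act 0 n503 = n503 := d0_1 D503 (iv D503) F1450 F1109 (iv F1450)
theorem F1920 : act 2 n503 = n389 := d7_2 D376 D503 (iv D389) (iv D291) (iv F1101)
theorem F1921 : act 4 n503 = n503 := d9_2 F1451 D503 (iv D503)
theorem F1922 : act 5 n503 = n503 := d10_2 F1452 D503 (iv D503)
def n504 : Q := act 6 n376
theorem D504 : act 6 n376 = n504 := rfl
theorem F1923 : act 0 n504 = n379 := d5_1 D504 (iv D379) (iv F1450)
theorem F1924 : act 2 n504 = n504 := d16_1 D504 (iv D504) (iv D376) F1104 D376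
theorem F1925 : act 4 n504 = n504 := d23_1 D504 (iv D504) F1451
theorem F1926 : act 5 n504 = n504 := d25_1 D504 (iv D504) F1452
def n505 : Q := act 7 n376
theorem D505 : act 7 n376 = n505 := rfl
theorem F1927 : act 0 n505 = n380 := d6_1 D505 (iv D380) (iv F1450)
theorem F1928 : act 2 n505 = n377 := d17_1 D505 (iv D377) D376
theorem F1929 : act 4 n505 = n505 := d24_1 D505 (iv D505) F1451
theorem F1930 : act 5 n505 = n505 := d26_1 D505 (iv D505) F1452
def n506 : Q := act 6 n377
theorem D506 : act 6 n377 = n506 := rfl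
theorem F1931 : act 0 n506 = n381 := d5_1 D506 (iv D381) (iv F1453)
theorem F1932 : act 1 n506 = n392 := d11_1 D506 (iv D392) (iv F1454)
theorem F1933 : act 3 n506 = n378 := d20_1 D506 (iv D378) (iv F1455)
theorem F1934 : act 4 n506 = n506 := d23_1 D506 (iv D506) F1456
theorem F1935 : act 5 n506 = n506 := d25_1 D506 (iv D506) F1457
theorem F1936 : act 7 n506 = n506 := d27_2 D377 D506 (iv D506) (iv D377) F1104
def n507 : Q := act 2 n378
theorem D507 : act 2 n378 = n507 := rfl
theorem F1937 : act 0 n507 = n382 := d1_1 D507 (iv D382) (iv F1458)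
theorem F1938 : act 4 n507 = n384 := d14_2 (iv F1460) D507 (iv D384)
theorem F1939 : act 5 n507 = n507 := d15_2 F1461 D507 (iv D507)
theorem F1940 : act 7 n507 = n507 := d17_2 F1462 D507 (iv D507)
def n508 : Q := act 7 n379
theorem D508 : act 7 n379 = n508 := rfl
theorem F1941 : act 1 n508 = n508 := d12_1 D508 (iv D508) F1463
theorem F1942 : act 2 n508 = n508 := d17_1 D508 (iv D508) F1464
theorem F1943 : act 4 n508 = n508 := d24_1 D508 (iv D508) F1465
theorem F1944 : act 5 n508 = n508 := d26_1 D508 (iv D508) F1466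
def n509 : Q := act 6 n380
theorem D509 : act 6 n380 = n509 := rfl
theorem F1945 : act 1 n509 = n509 := d11_1 D509 (iv D509) F1467
theorem F1946 : act 4 n509 = n509 := d23_1 D509 (iv D509) F1469
theorem F1947 : act 5 n509 = n509 := d25_1 D509 (iv D509) F1470
def n510 : Q := act 2 n381
theorem D510 : act 2 n381 = n510 := rfl
theorem F1948 : act 4 n510 = n510 := d14_2 F1473 D510 (iv D510)
theorem F1949 : act 5 n510 = n510 := d15_2 F1474 D510 (iv D510)
theorem F1950 : act 7 n510 = n510 := d17_2 F1475 D510 (iv D510)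
def n511 : Q := act 3 n382
theorem D511 : act 3 n382 = n511 := rfl
theorem F1951 : act 1 n511 = n511 := d8_1 D511 (iv D511) F1476
theorem F1952 : act 5 n511 = n511 := d19_2 F1478 D511 (iv D511)
theorem F1953 : act 7 n511 = n511 := d21_2 F1479 D511 (iv D511)
def n512 : Q := act 1 n383
theorem D512 : act 1 n383 = n512 := rfl
theorem F1954 : act 3 n512 = n512 := d8_2 F1481 D512 (iv D512)
theorem F1955 : act 4 n512 = n512 := d9_2 F1482 D512 (iv D512)
theorem F1956 : act 5 n512 = n512 := d10_2 F1483 D512 (iv D512)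
theorem F1957 : act 6 n512 = n512 := d11_2 F1484 D512 (iv D512)
theorem F1958 : act 7 n512 = n512 := d12_2 F1485 D512 (iv D512)
def n513 : Q := act 1 n384
theorem D513 : act 1 n384 = n513 := rfl
theorem F1961 : act 5 n513 = n386 := d10_2 (iv F1487) D513 (iv D386)
def n514 : Q := act 3 n384
theorem D514 : act 3 n384 = n514 := rfl
def n515 : Q := act 4 n385
theorem D515 : act 4 n385 = n515 := rfl
theorem F1967 : act 1 n515 = n515 := d9_1 D515 (iv D515) F1489
theorem F1968 : act 2 n515 = n515 := d14_1 D515 (iv D515) F1490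
theorem F1969 : act 7 n515 = n515 := d24_2 F1492 D515 (iv D515)
def n516 : Q := act 3 n386
theorem D516 : act 3 n386 = n516 := rfl
def n519 : Q := act 6 n389
theorem D519 : act 6 n389 = n519 := rfl
theorem F1981 : act 0 n519 = n519 := d5_1 D519 (iv D519) F1504
theorem F1982 : act 1 n519 = n390 := d11_1 D519 (iv D390) D389
theorem F1983 : act 3 n519 = n519 := d20_1 D519 (iv D519) F1505
theorem F1984 : act 4 n519 = n519 := d23_1 D519 (iv D519) F1506
theorem F1985 : act 5 n519 = n519 := d25_1 D519 (iv D519) F1507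
def n520 : Q := act 7 n389
theorem D520 : act 7 n389 = n520 := rfl
theorem F1986 : act 0 n520 = n520 := d6_1 D520 (iv D520) F1504
theorem F1987 : act 1 n520 = n391 := d12_1 D520 (iv D391) D389
theorem F1988 : act 3 n520 = n520 := d21_1 D520 (iv D520) F1505
theorem F1989 : act 4 n520 = n520 := d24_1 D520 (iv D520) F1506
theorem F1990 : act 5 n520 = n520 := d26_1 D520 (iv D520) F1507
def n521 : Q := act 7 n390
theorem D521 : act 7 n390 = n521 := rfl
theorem F1991 : act 0 n521 = n394 := d6_1 D521 (iv D394) (iv F1508)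
def n522 : Q := act 6 n391
theorem D522 : act 6 n391 = n522 := rfl
def n523 : Q := act 2 n392
theorem D523 : act 2 n392 = n523 := rfl
def n525 : Q := act 3 n393
theorem D525 : act 3 n393 = n525 := rfl
def n535 : Q := act 2 n402
theorem D535 : act 2 n402 = n535 := rfl
def n536 : Q := act 4 n402
theorem D536 : act 4 n402 = n536 := rfl
theorem F2055 : act 1 n536 = n403 := d9_1 D536 (iv D403) (iv F1563)
def n538 : Q := act 3 n405
theorem D538 : act 3 n405 = n538 := rfl
theorem F2064 : act 0 n538 = n406 := d2_1 D538 (iv D406) D405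
theorem F2065 : act 1 n538 = n538 := d8_1 D538 (iv D538) F1576
theorem F2066 : act 5 n538 = n538 := d19_2 F1579 D538 (iv D538)
theorem F2067 : act 6 n538 = n538 := d20_2 F1580 D538 (iv D538)
def n539 : Q := act 7 n405
theorem D539 : act 7 n405 = n539 := rfl
theorem F2068 : act 0 n539 = n407 := d6_1 D539 (iv D407) D405
theorem F2069 : act 1 n539 = n539 := d12_1 D539 (iv D539) F1576
theorem F2070 : act 2 n539 = n539 := d17_1 D539 (iv D539) F1577
theorem F2071 : act 4 n539 = n539 := d24_1 D539 (iv D539) F1578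
theorem F2072 : act 5 n539 = n539 := d26_1 D539 (iv D539) F1579
def n540 : Q := act 2 n406
theorem D540 : act 2 n406 = n540 := rfl
theorem F2073 : act 1 n540 = n413 := d7_1 D540 (iv D413) F1215 (iv F1203) (iv F1581)
theorem F2074 : act 3 n540 = n540 := d13_2 D406 D540 (iv D540) (iv D406) F1198
theorem F2075 : act 5 n540 = n540 := d15_2 F1582 D540 (iv D540)
def n541 : Q := act 4 n406
theorem D541 : act 4 n406 = n541 := rfl
theorem F2076 : act 1 n541 = n408 := d9_1 D541 (iv D408) (iv F1581)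
theorem F2077 : act 3 n541 = n541 := d18_1 D541 (iv D541) (iv D406) F1199 D406
theorem F2078 : act 6 n541 = n541 := d23_2 F1583 D541 (iv D541)
def n542 : Q := act 7 n406
theorem D542 : act 7 n406 = n542 := rfl
theorem F2079 : act 1 n542 = n409 := d12_1 D542 (iv D409) (iv F1581)
theorem F2080 : act 3 n542 = n407 := d21_1 D542 (iv D407) D406
theorem F2081 : act 5 n542 = n542 := d26_1 D542 (iv D542) F1582
def n543 : Q := act 6 n407
theorem D543 : act 6 n407 = n543 := rfl
theorem F2082 : act 1 n543 = n410 := d11_1 D543 (iv D410) (iv F1584)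
theorem F2083 : act 4 n543 = n543 := d23_1 D543 (iv D543) F1586
theorem F2084 : act 5 n543 = n543 := d25_1 D543 (iv D543) F1587
theorem F2085 : act 7 n543 = n543 := d27_2 D407 D543 (iv D543) (iv D407) F1201
def n544 : Q := act 5 n408
theorem D544 : act 5 n408 = n544 := rfl
theorem F2086 : act 0 n544 = n544 := d4_1 D544 (iv D544) F1588
theorem F2087 : act 2 n544 = n417 := d15_1 D544 (iv D417) (iv F1589)
theorem F2088 : act 3 n544 = n544 := d19_1 D544 (iv D544) F1590
theorem F2089 : act 4 n544 = n544 := d22_1 D544 (iv D544) (iv D408) F1204 D408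
theorem F2090 : act 6 n544 = n544 := d25_2 F1591 D544 (iv D544)
def n545 : Q := act 7 n408
theorem D545 : act 7 n408 = n545 := rfl
theorem F2091 : act 0 n545 = n545 := d6_1 D545 (iv D545) F1588
theorem F2092 : act 2 n545 = n418 := d17_1 D545 (iv D418) (iv F1589)
theorem F2093 : act 3 n545 = n545 := d21_1 D545 (iv D545) F1590
theorem F2094 : act 4 n545 = n409 := d24_1 D545 (iv D409) D408
def n546 : Q := act 6 n409
theorem D546 : act 6 n409 = n546 := rfl
theorem F2095 : act 0 n546 = n546 := d5_1 D546 (iv D546) F1592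
theorem F2096 : act 3 n546 = n410 := d20_1 D546 (iv D410) (iv F1594)
theorem F2097 : act 5 n546 = n546 := d25_1 D546 (iv D546) F1595
theorem F2098 : act 7 n546 = n546 := d27_2 D409 D546 (iv D546) (iv D409) F1205
def n547 : Q := act 2 n411
theorem D547 : act 2 n411 = n547 := rfl
theorem F2099 : act 0 n547 = n413 := d1_1 D547 (iv D413) (iv F1601)
theorem F2100 : act 3 n547 = n547 := d13_2 D411 D547 (iv D547) (iv D411) F1211
theorem F2101 : act 5 n547 = n547 := d15_2 F1603 D547 (iv D547)
def n548 : Q := act 4 n411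
theorem D548 : act 4 n411 = n548 := rfl
theorem F2102 : act 0 n548 = n414 := d3_1 D548 (iv D414) (iv F1601)
theorem F2103 : act 1 n548 = n548 := d9_1 D548 (iv D548) F1602
theorem F2104 : act 3 n548 = n421 := d18_1 D548 (iv D421) (iv D313) (iv F1212) D411
theorem F2105 : act 6 n548 = n452 := d23_2 (iv F1604) D548 (iv D452)
def n549 : Q := act 7 n411
theorem D549 : act 7 n411 = n549 := rfl
theorem F2106 : act 0 n549 = n415 := d6_1 D549 (iv D415) (iv F1601)
theorem F2107 : act 1 n549 = n549 := d12_1 D549 (iv D549) F1602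
theorem F2108 : act 3 n549 = n412 := d21_1 D549 (iv D412) D411
theorem F2109 : act 5 n549 = n549 := d26_1 D549 (iv D549) F1603
def n550 : Q := act 6 n412
theorem D550 : act 6 n412 = n550 := rfl
theorem F2110 : act 0 n550 = n416 := d5_1 D550 (iv D416) (iv F1605)
theorem F2111 : act 1 n550 = n550 := d11_1 D550 (iv D550) F1606
theorem F2112 : act 4 n550 = n423 := d23_1 D550 (iv D423) (iv F1608)
theorem F2113 : act 5 n550 = n550 := d25_1 D550 (iv D550) F1609
theorem F2114 : act 7 n550 = n454 := d27_2 D412 D550 (iv D454) (iv D336) (iv F1214)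
def n551 : Q := act 4 n413
theorem D551 : act 4 n413 = n551 := rfl
theorem F2115 : act 2 n551 = n414 := d14_1 D551 (iv D414) D413
def n552 : Q := act 6 n413
theorem D552 : act 6 n413 = n552 := rfl
theorem F2116 : act 2 n552 = n456 := d16_1 D552 (iv D456) (iv D337) (iv F1217) D413
theorem F2117 : act 3 n552 = n552 := d20_1 D552 (iv D552) F1610
theorem F2118 : act 5 n552 = n552 := d25_1 D552 (iv D552) F1611
def n553 : Q := act 7 n413
theorem D553 : act 7 n413 = n553 := rfl
theorem F2119 : act 2 n553 = n415 := d17_1 D553 (iv D415) D413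
theorem F2120 : act 3 n553 = n553 := d21_1 D553 (iv D553) F1610
theorem F2121 : act 5 n553 = n553 := d26_1 D553 (iv D553) F1611
def n554 : Q := act 5 n414
theorem D554 : act 5 n414 = n554 := rfl
theorem F2122 : act 1 n554 = n417 := d10_1 D554 (iv D417) (iv F1612)
theorem F2123 : act 3 n554 = n426 := d19_1 D554 (iv D426) (iv F1613)
theorem F2124 : act 4 n554 = n554 := d22_1 D554 (iv D554) (iv D414) F1216 D414
theorem F2125 : act 6 n554 = n458 := d25_2 (iv F1614) D554 (iv D458)
def n555 : Q := act 7 n414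
theorem D555 : act 7 n414 = n555 := rfl
theorem F2126 : act 1 n555 = n418 := d12_1 D555 (iv D418) (iv F1612)
theorem F2127 : act 3 n555 = n427 := d21_1 D555 (iv D427) (iv F1613)
theorem F2128 : act 4 n555 = n415 := d24_1 D555 (iv D415) D414
def n556 : Q := act 6 n415
theorem D556 : act 6 n415 = n556 := rfl
theorem F2129 : act 1 n556 = n419 := d11_1 D556 (iv D419) (iv F1615)
theorem F2130 : act 3 n556 = n416 := d20_1 D556 (iv D416) (iv F1616)
theorem F2131 : act 5 n556 = n556 := d25_1 D556 (iv D556) F1617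
theorem F2132 : act 7 n556 = n460 := d27_2 D415 D556 (iv D460) (iv D339) (iv F1217)
def n557 : Q := act 2 n416
theorem D557 : act 2 n416 = n557 := rfl
theorem F2133 : act 1 n557 = n557 := d7_1 D557 (iv D557) F1618 F1229 (iv F1618)
theorem F2134 : act 4 n557 = n429 := d14_2 (iv F1619) D557 (iv D429)
theorem F2135 : act 5 n557 = n557 := d15_2 F1620 D557 (iv D557)
theorem F2136 : act 6 n557 = n557 := d16_2 D416 D557 (iv D557) (iv D416) F1219
theorem F2137 : act 7 n557 = n461 := d17_2 (iv F1621) D557 (iv D461)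
def n558 : Q := act 7 n417
theorem D558 : act 7 n417 = n558 := rfl
theorem F2138 : act 0 n558 = n558 := d6_1 D558 (iv D558) F1622
theorem F2139 : act 3 n558 = n430 := d21_1 D558 (iv D430) (iv F1623)
theorem F2140 : act 4 n558 = n558 := d24_1 D558 (iv D558) F1624
theorem F2141 : act 5 n558 = n418 := d26_1 D558 (iv D418) D417
def n559 : Q := act 6 n418
theorem D559 : act 6 n418 = n559 := rfl
theorem F2142 : act 0 n559 = n559 := d5_1 D559 (iv D559) F1626
theorem F2143 : act 3 n559 = n431 := d20_1 D559 (iv D431) (iv F1627)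
theorem F2144 : act 4 n559 = n419 := d23_1 D559 (iv D419) (iv F1628)
theorem F2145 : act 7 n559 = n463 := d27_2 D418 D559 (iv D463) (iv D342) (iv F1224)
def n560 : Q := act 2 n419
theorem D560 : act 2 n419 = n560 := rfl
theorem F2146 : act 0 n560 = n560 := d1_1 D560 (iv D560) F1629
theorem F2147 : act 3 n560 = n560 := d13_2 (iv F1630) D560 (iv D560) F1630 F1229
theorem F2148 : act 5 n560 = n560 := d15_2 F1631 D560 (iv D560)
theorem F2149 : act 7 n560 = n464 := d17_2 (iv F1632) D560 (iv D464)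
def n561 : Q := act 1 n420
theorem D561 : act 1 n420 = n561 := rfl
theorem F2150 : act 0 n561 = n561 := d0_1 D561 (iv D561) F1633 F1241 (iv F1633)
theorem F2151 : act 2 n561 = n561 := d7_2 D420 D561 (iv D561) (iv D420) F1234
theorem F2152 : act 3 n561 = n561 := d8_2 F1634 D561 (iv D561)
theorem F2153 : act 5 n561 = n433 := d10_2 (iv F1635) D561 (iv D433)
theorem F2154 : act 6 n561 = n561 := d11_2 F1636 D561 (iv D561)
def n562 : Q := act 4 n420
theorem D562 : act 4 n420 = n562 := rfl
theorem F2155 : act 0 n562 = n424 := d3_1 D562 (iv D424) (iv F1633)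
theorem F2156 : act 2 n562 = n421 := d14_1 D562 (iv D421) D420
theorem F2157 : act 6 n562 = n562 := d23_2 F1636 D562 (iv D562)
def n563 : Q := act 7 n420
theorem D563 : act 7 n420 = n563 := rfl
theorem F2158 : act 0 n563 = n425 := d6_1 D563 (iv D425) (iv F1633)
theorem F2159 : act 2 n563 = n422 := d17_1 D563 (iv D422) D420
theorem F2160 : act 3 n563 = n563 := d21_1 D563 (iv D563) F1634
theorem F2161 : act 5 n563 = n435 := d26_1 D563 (iv D435) (iv F1635)
def n564 : Q := act 5 n421
theorem D564 : act 5 n421 = n564 := rfl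
theorem F2162 : act 0 n564 = n426 := d4_1 D564 (iv D426) (iv F1637)
theorem F2163 : act 1 n564 = n564 := d10_1 D564 (iv D564) F1638
theorem F2164 : act 4 n564 = n436 := d22_1 D564 (iv D436) (iv D323) (iv F1235) D421
theorem F2165 : act 6 n564 = n465 := d25_2 (iv F1639) D564 (iv D465)
def n565 : Q := act 7 n421
theorem D565 : act 7 n421 = n565 := rfl
theorem F2166 : act 0 n565 = n427 := d6_1 D565 (iv D427) (iv F1637)
theorem F2167 : act 1 n565 = n565 := d12_1 D565 (iv D565) F1638
theorem F2168 : act 4 n565 = n422 := d24_1 D565 (iv D422) D421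
def n566 : Q := act 6 n422
theorem D566 : act 6 n422 = n566 := rfl
theorem F2169 : act 0 n566 = n428 := d5_1 D566 (iv D428) (iv F1640)
theorem F2170 : act 1 n566 = n566 := d11_1 D566 (iv D566) F1641
theorem F2171 : act 3 n566 = n423 := d20_1 D566 (iv D423) (iv F1642)
theorem F2172 : act 5 n566 = n438 := d25_1 D566 (iv D438) (iv F1643)
theorem F2173 : act 7 n566 = n467 := d27_2 D422 D566 (iv D467) (iv D345) (iv F1236)
def n567 : Q := act 2 n423
theorem D567 : act 2 n423 = n567 := rfl
theorem F2174 : act 0 n567 = n429 := d1_1 D567 (iv D429) (iv F1644)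
theorem F2175 : act 5 n567 = n439 := d15_2 (iv F1646) D567 (iv D439)
theorem F2176 : act 6 n567 = n567 := d16_2 D423 D567 (iv D567) (iv D423) F1239
theorem F2177 : act 7 n567 = n468 := d17_2 (iv F1647) D567 (iv D468)
def n568 : Q := act 3 n424
theorem D568 : act 3 n424 = n568 := rfl
theorem F2178 : act 1 n568 = n568 := d8_1 D568 (iv D568) F1648
theorem F2179 : act 4 n568 = n568 := d18_2 D424 D568 (iv D568) (iv D424) F1242
theorem F2180 : act 6 n568 = n568 := d20_2 F1650 D568 (iv D568)
def n569 : Q := act 5 n424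
theorem D569 : act 5 n424 = n569 := rfl
theorem F2181 : act 1 n569 = n569 := d10_1 D569 (iv D569) F1648
theorem F2182 : act 2 n569 = n426 := d15_1 D569 (iv D426) (iv F1649)
theorem F2183 : act 4 n569 = n441 := d22_1 D569 (iv D441) (iv D326) (iv F1243) D424
theorem F2184 : act 6 n569 = n569 := d25_2 F1650 D569 (iv D569)
def n570 : Q := act 7 n424
theorem D570 : act 7 n424 = n570 := rfl
theorem F2185 : act 1 n570 = n570 := d12_1 D570 (iv D570) F1648
theorem F2186 : act 2 n570 = n427 := d17_1 D570 (iv D427) (iv F1649)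
theorem F2187 : act 4 n570 = n425 := d24_1 D570 (iv D425) D424
def n571 : Q := act 6 n425
theorem D571 : act 6 n425 = n571 := rfl
theorem F2188 : act 1 n571 = n571 := d11_1 D571 (iv D571) F1651
theorem F2189 : act 3 n571 = n571 := d20_1 D571 (iv D571) F1653
theorem F2190 : act 5 n571 = n443 := d25_1 D571 (iv D443) (iv F1654)
theorem F2191 : act 7 n571 = n571 := d27_2 D425 D571 (iv D571) (iv D425) F1244
def n572 : Q := act 7 n426
theorem D572 : act 7 n426 = n572 := rfl
theorem F2192 : act 1 n572 = n430 := d12_1 D572 (iv D430) (iv F1655)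
theorem F2193 : act 4 n572 = n444 := d24_1 D572 (iv D444) (iv F1656)
theorem F2194 : act 5 n572 = n427 := d26_1 D572 (iv D427) D426
def n573 : Q := act 6 n427
theorem D573 : act 6 n427 = n573 := rfl
theorem F2195 : act 1 n573 = n431 := d11_1 D573 (iv D431) (iv F1658)
theorem F2196 : act 4 n573 = n428 := d23_1 D573 (iv D428) (iv F1659)
theorem F2197 : act 7 n573 = n470 := d27_2 D427 D573 (iv D470) (iv D348) (iv F1246)
def n574 : Q := act 2 n428
theorem D574 : act 2 n428 = n574 := rfl
theorem F2198 : act 5 n574 = n446 := d15_2 (iv F1662) D574 (iv D446)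
theorem F2199 : act 7 n574 = n471 := d17_2 (iv F1663) D574 (iv D471)
def n575 : Q := act 3 n429
theorem D575 : act 3 n429 = n575 := rfl
theorem F2200 : act 1 n575 = n575 := d8_1 D575 (iv D575) F1664
theorem F2201 : act 5 n575 = n447 := d19_2 (iv F1665) D575 (iv D447)
theorem F2202 : act 6 n575 = n575 := d20_2 F1666 D575 (iv D575)
theorem F2203 : act 7 n575 = n472 := d21_2 (iv F1667) D575 (iv D472)
def n576 : Q := act 6 n430
theorem D576 : act 6 n430 = n576 := rfl
theorem F2204 : act 0 n576 = n576 := d5_1 D576 (iv D576) F1668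
theorem F2205 : act 4 n576 = n448 := d23_1 D576 (iv D448) (iv F1670)
theorem F2206 : act 5 n576 = n431 := d25_1 D576 (iv D431) (iv F1671)
theorem F2207 : act 7 n576 = n473 := d27_2 D430 D576 (iv D473) (iv D351) (iv F1256)
def n577 : Q := act 2 n431
theorem D577 : act 2 n431 = n577 := rfl
theorem F2208 : act 0 n577 = n577 := d1_1 D577 (iv D577) F1672
theorem F2209 : act 4 n577 = n432 := d14_2 (iv F1673) D577 (iv D432)
theorem F2210 : act 6 n577 = n577 := d16_2 D431 D577 (iv D577) (iv D431) F1258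
theorem F2211 : act 7 n577 = n474 := d17_2 (iv F1674) D577 (iv D474)
def n578 : Q := act 1 n432
theorem D578 : act 1 n432 = n578 := rfl
theorem F2212 : act 3 n578 = n578 := d8_2 F1676 D578 (iv D578)
theorem F2213 : act 5 n578 = n450 := d10_2 (iv F1677) D578 (iv D450)
theorem F2214 : act 6 n578 = n578 := d11_2 F1678 D578 (iv D578)
theorem F2215 : act 7 n578 = n475 := d12_2 (iv F1679) D578 (iv D475)
def n579 : Q := act 4 n433
theorem D579 : act 4 n433 = n579 := rfl
theorem F2216 : act 0 n579 = n579 := d3_1 D579 (iv D579) F1680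
theorem F2217 : act 1 n579 = n434 := d9_1 D579 (iv D434) D433
theorem F2218 : act 2 n579 = n579 := d14_1 D579 (iv D579) F1681
theorem F2219 : act 6 n579 = n579 := d23_2 F1683 D579 (iv D579)
def n580 : Q := act 7 n433
theorem D580 : act 7 n433 = n580 := rfl
theorem F2220 : act 0 n580 = n580 := d6_1 D580 (iv D580) F1680
theorem F2221 : act 1 n580 = n435 := d12_1 D580 (iv D435) D433
theorem F2222 : act 2 n580 = n580 := d17_1 D580 (iv D580) F1681
theorem F2223 : act 3 n580 = n580 := d21_1 D580 (iv D580) F1682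
def n581 : Q := act 3 n434
theorem D581 : act 3 n434 = n581 := rfl
theorem F2224 : act 0 n581 = n440 := d2_1 D581 (iv D440) (iv F1684)
theorem F2225 : act 2 n581 = n581 := d13_1 D581 (iv D581) F1685 F1269 (iv F1685)
theorem F2226 : act 4 n581 = n581 := d18_2 D434 D581 (iv D581) (iv D434) F1265
theorem F2227 : act 6 n581 = n581 := d20_2 F1686 D581 (iv D581)
def n582 : Q := act 5 n434
theorem D582 : act 5 n434 = n582 := rfl
theorem F2228 : act 0 n582 = n441 := d4_1 D582 (iv D441) (iv F1684)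
theorem F2229 : act 2 n582 = n436 := d15_1 D582 (iv D436) (iv F1685)
theorem F2230 : act 6 n582 = n582 := d25_2 F1686 D582 (iv D582)
def n583 : Q := act 7 n434
theorem D583 : act 7 n434 = n583 := rfl
theorem F2231 : act 0 n583 = n442 := d6_1 D583 (iv D442) (iv F1684)
theorem F2232 : act 2 n583 = n437 := d17_1 D583 (iv D437) (iv F1685)
theorem F2233 : act 4 n583 = n435 := d24_1 D583 (iv D435) D434
def n584 : Q := act 6 n435
theorem D584 : act 6 n435 = n584 := rfl
theorem F2234 : act 0 n584 = n443 := d5_1 D584 (iv D443) (iv F1687)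
theorem F2235 : act 3 n584 = n584 := d20_1 D584 (iv D584) F1689
theorem F2236 : act 7 n584 = n584 := d27_2 D435 D584 (iv D584) (iv D435) F1266
def n585 : Q := act 7 n436
theorem D585 : act 7 n436 = n585 := rfl
theorem F2237 : act 0 n585 = n444 := d6_1 D585 (iv D444) (iv F1690)
theorem F2238 : act 1 n585 = n585 := d12_1 D585 (iv D585) F1691
theorem F2239 : act 3 n585 = n585 := d21_1 D585 (iv D585) F1692
theorem F2240 : act 5 n585 = n437 := d26_1 D585 (iv D437) D436
def n586 : Q := act 6 n437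
theorem D586 : act 6 n437 = n586 := rfl
theorem F2241 : act 0 n586 = n445 := d5_1 D586 (iv D445) (iv F1694)
theorem F2242 : act 1 n586 = n586 := d11_1 D586 (iv D586) F1695
theorem F2243 : act 3 n586 = n586 := d20_1 D586 (iv D586) F1696
theorem F2244 : act 4 n586 = n438 := d23_1 D586 (iv D438) (iv F1697)
theorem F2245 : act 7 n586 = n477 := d27_2 D437 D586 (iv D477) (iv D355) (iv F1270)
def n587 : Q := act 2 n438
theorem D587 : act 2 n438 = n587 := rfl
theorem F2246 : act 0 n587 = n446 := d1_1 D587 (iv D446) (iv F1698)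
theorem F2247 : act 7 n587 = n478 := d17_2 (iv F1701) D587 (iv D478)
def n588 : Q := act 1 n439
theorem D588 : act 1 n439 = n588 := rfl
theorem F2248 : act 0 n588 = n588 := d0_1 D588 (iv D588) F1702 F1293 (iv F1702)
theorem F2249 : act 2 n588 = n588 := d7_2 D439 D588 (iv D588) (iv D439) F1275
theorem F2250 : act 4 n588 = n588 := d9_2 F1703 D588 (iv D588)
theorem F2251 : act 6 n588 = n588 := d11_2 F1704 D588 (iv D588)
theorem F2252 : act 7 n588 = n479 := d12_2 (iv F1705) D588 (iv D479)
def n589 : Q := act 3 n439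
theorem D589 : act 3 n439 = n589 := rfl
theorem F2253 : act 0 n589 = n447 := d2_1 D589 (iv D447) (iv F1702)
theorem F2254 : act 6 n589 = n589 := d20_2 F1704 D589 (iv D589)
theorem F2255 : act 7 n589 = n480 := d21_2 (iv F1705) D589 (iv D480)
def n590 : Q := act 5 n440
theorem D590 : act 5 n440 = n590 := rfl
theorem F2256 : act 1 n590 = n590 := d10_1 D590 (iv D590) F1706
theorem F2257 : act 2 n590 = n590 := d15_1 D590 (iv D590) F1707
theorem F2258 : act 3 n590 = n441 := d19_1 D590 (iv D441) D440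
theorem F2259 : act 6 n590 = n590 := d25_2 F1709 D590 (iv D590)
def n591 : Q := act 7 n440
theorem D591 : act 7 n440 = n591 := rfl
theorem F2260 : act 1 n591 = n591 := d12_1 D591 (iv D591) F1706
theorem F2261 : act 2 n591 = n591 := d17_1 D591 (iv D591) F1707
theorem F2262 : act 3 n591 = n442 := d21_1 D591 (iv D442) D440
theorem F2263 : act 4 n591 = n591 := d24_1 D591 (iv D591) F1708
def n592 : Q := act 7 n441
theorem D592 : act 7 n441 = n592 := rfl
theorem F2264 : act 1 n592 = n592 := d12_1 D592 (iv D592) F1710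
theorem F2265 : act 2 n592 = n444 := d17_1 D592 (iv D444) (iv F1711)
theorem F2266 : act 5 n592 = n442 := d26_1 D592 (iv D442) D441
def n593 : Q := act 6 n442
theorem D593 : act 6 n442 = n593 := rfl
theorem F2267 : act 1 n593 = n593 := d11_1 D593 (iv D593) F1713
theorem F2268 : act 4 n593 = n443 := d23_1 D593 (iv D443) (iv F1715)
theorem F2269 : act 7 n593 = n593 := d27_2 D442 D593 (iv D593) (iv D442) F1280
def n594 : Q := act 2 n443
theorem D594 : act 2 n443 = n594 := rfl
theorem F2270 : act 6 n594 = n446 := d16_2 D443 D594 (iv D446) (iv D330) (iv F1282)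
theorem F2271 : act 7 n594 = n594 := d17_2 F1718 D594 (iv D594)
def n595 : Q := act 6 n444
theorem D595 : act 6 n444 = n595 := rfl
theorem F2272 : act 1 n595 = n448 := d11_1 D595 (iv D448) (iv F1719)
theorem F2273 : act 3 n595 = n595 := d20_1 D595 (iv D595) F1720
theorem F2274 : act 5 n595 = n445 := d25_1 D595 (iv D445) (iv F1721)
theorem F2275 : act 7 n595 = n481 := d27_2 D444 D595 (iv D481) (iv D358) (iv F1286)
def n596 : Q := act 2 n445
theorem D596 : act 2 n445 = n596 := rfl
theorem F2276 : act 4 n596 = n446 := d14_2 (iv F1724) D596 (iv D446)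
theorem F2277 : act 7 n596 = n482 := d17_2 (iv F1725) D596 (iv D482)
def n597 : Q := act 1 n446
theorem D597 : act 1 n446 = n597 := rfl
theorem F2278 : act 2 n597 = n450 := d7_2 D446 D597 (iv D450) (iv D334) (iv F1290)
theorem F2279 : act 7 n597 = n483 := d12_2 (iv F1726) D597 (iv D483)
def n598 : Q := act 3 n446
theorem D598 : act 3 n446 = n598 := rfl
theorem F2280 : act 2 n598 = n447 := d13_1 D598 (iv D447) (iv D331) (iv F1291) D446
theorem F2281 : act 7 n598 = n484 := d21_2 (iv F1726) D598 (iv D484)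
def n599 : Q := act 4 n447
theorem D599 : act 4 n447 = n599 := rfl
theorem F2282 : act 1 n599 = n599 := d9_1 D599 (iv D599) F1727
theorem F2283 : act 3 n599 = n599 := d18_1 D599 (iv D599) (iv D447) F1294 D447
theorem F2284 : act 6 n599 = n599 := d23_2 F1728 D599 (iv D599)
theorem F2285 : act 7 n599 = n485 := d24_2 (iv F1729) D599 (iv D485)
def n600 : Q := act 2 n448
theorem D600 : act 2 n448 = n600 := rfl
theorem F2286 : act 0 n600 = n600 := d1_1 D600 (iv D600) F1730
theorem F2287 : act 5 n600 = n449 := d15_2 (iv F1732) D600 (iv D449)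
theorem F2288 : act 6 n600 = n600 := d16_2 D448 D600 (iv D600) (iv D448) F1298
theorem F2289 : act 7 n600 = n486 := d17_2 (iv F1733) D600 (iv D486)
def n601 : Q := act 1 n449
theorem D601 : act 1 n449 = n601 := rfl
theorem F2290 : act 4 n601 = n450 := d9_2 (iv F1735) D601 (iv D450)
theorem F2291 : act 6 n601 = n601 := d11_2 F1736 D601 (iv D601)
theorem F2292 : act 7 n601 = n487 := d12_2 (iv F1737) D601 (iv D487)
def n602 : Q := act 3 n449
theorem D602 : act 3 n449 = n602 := rfl
theorem F2294 : act 2 n602 = n602 := d13_1 D602 (iv D602) (iv D449) F1302 D449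
def n603 : Q := act 0 n450
theorem D603 : act 0 n450 = n603 := rfl
theorem F2299 : act 3 n603 = n603 := d2_2 F1738 D603 (iv D603)
def n604 : Q := act 1 n451
theorem D604 : act 1 n451 = n604 := rfl
theorem F2302 : act 0 n604 = n604 := d0_1 D604 (iv D604) F1741 F1317 (iv F1741)
theorem F2303 : act 2 n604 = n604 := d7_2 D451 D604 (iv D604) (iv D451) F1310
theorem F2304 : act 3 n604 = n503 := d8_2 (iv F1742) D604 (iv D503)
theorem F2305 : act 5 n604 = n604 := d10_2 F1743 D604 (iv D604)
def n605 : Q := act 4 n451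
theorem D605 : act 4 n451 = n605 := rfl
theorem F2306 : act 0 n605 = n455 := d3_1 D605 (iv D455) (iv F1741)
theorem F2307 : act 2 n605 = n452 := d14_1 D605 (iv D452) D451
theorem F2308 : act 3 n605 = n605 := d18_1 D605 (iv D605) F1742 F1451 (iv F1742)
def n606 : Q := act 6 n451
theorem D606 : act 6 n451 = n606 := rfl
theorem F2309 : act 0 n606 = n456 := d5_1 D606 (iv D456) (iv F1741)
theorem F2310 : act 3 n606 = n504 := d20_1 D606 (iv D504) (iv F1742)
theorem F2311 : act 5 n606 = n606 := d25_1 D606 (iv D606) F1743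
def n607 : Q := act 7 n451
theorem D607 : act 7 n451 = n607 := rfl
theorem F2312 : act 0 n607 = n457 := d6_1 D607 (iv D457) (iv F1741)
theorem F2313 : act 2 n607 = n453 := d17_1 D607 (iv D453) D451
theorem F2314 : act 3 n607 = n505 := d21_1 D607 (iv D505) (iv F1742)
theorem F2315 : act 5 n607 = n607 := d26_1 D607 (iv D607) F1743
def n608 : Q := act 5 n452
theorem D608 : act 5 n452 = n608 := rfl
theorem F2316 : act 0 n608 = n458 := d4_1 D608 (iv D458) (iv F1744)
theorem F2317 : act 1 n608 = n608 := d10_1 D608 (iv D608) F1745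
theorem F2318 : act 3 n608 = n465 := d19_1 D608 (iv D465) (iv F1746)
theorem F2319 : act 4 n608 = n608 := d22_1 D608 (iv D608) (iv D452) F1311 D452
def n609 : Q := act 7 n452
theorem D609 : act 7 n452 = n609 := rfl
theorem F2320 : act 0 n609 = n459 := d6_1 D609 (iv D459) (iv F1744)
theorem F2321 : act 1 n609 = n609 := d12_1 D609 (iv D609) F1745
theorem F2322 : act 3 n609 = n466 := d21_1 D609 (iv D466) (iv F1746)
theorem F2323 : act 4 n609 = n453 := d24_1 D609 (iv D453) D452
def n610 : Q := act 6 n453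
theorem D610 : act 6 n453 = n610 := rfl
theorem F2324 : act 0 n610 = n460 := d5_1 D610 (iv D460) (iv F1747)
theorem F2325 : act 1 n610 = n610 := d11_1 D610 (iv D610) F1748
theorem F2326 : act 3 n610 = n454 := d20_1 D610 (iv D454) (iv F1749)
theorem F2327 : act 5 n610 = n610 := d25_1 D610 (iv D610) F1750
def n611 : Q := act 2 n454
theorem D611 : act 2 n454 = n611 := rfl
theorem F2328 : act 0 n611 = n461 := d1_1 D611 (iv D461) (iv F1751)
theorem F2329 : act 4 n611 = n468 := d14_2 (iv F1753) D611 (iv D468)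
theorem F2330 : act 5 n611 = n611 := d15_2 F1754 D611 (iv D611)
theorem F2331 : act 6 n611 = n507 := d16_2 D454 D611 (iv D507) (iv D378) (iv F1314)
def n612 : Q := act 5 n455
theorem D612 : act 5 n455 = n612 := rfl
theorem F2332 : act 1 n612 = n612 := d10_1 D612 (iv D612) F1755
theorem F2333 : act 2 n612 = n458 := d15_1 D612 (iv D458) (iv F1756)
theorem F2334 : act 3 n612 = n612 := d19_1 D612 (iv D612) F1757
theorem F2335 : act 4 n612 = n612 := d22_1 D612 (iv D612) (iv D455) F1319 D455
def n613 : Q := act 6 n455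
theorem D613 : act 6 n455 = n613 := rfl
theorem F2336 : act 1 n613 = n613 := d11_1 D613 (iv D613) F1755
theorem F2337 : act 3 n613 = n613 := d20_1 D613 (iv D613) F1757
theorem F2338 : act 4 n613 = n456 := d23_1 D613 (iv D456) D455
def n614 : Q := act 7 n455
theorem D614 : act 7 n455 = n614 := rfl
theorem F2339 : act 1 n614 = n614 := d12_1 D614 (iv D614) F1755
theorem F2340 : act 2 n614 = n459 := d17_1 D614 (iv D459) (iv F1756)
theorem F2341 : act 3 n614 = n614 := d21_1 D614 (iv D614) F1757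
theorem F2342 : act 4 n614 = n457 := d24_1 D614 (iv D457) D455
def n615 : Q := act 7 n456
theorem D615 : act 7 n456 = n615 := rfl
theorem F2343 : act 1 n615 = n615 := d12_1 D615 (iv D615) F1758
theorem F2344 : act 3 n615 = n508 := d21_1 D615 (iv D508) (iv F1759)
theorem F2345 : act 5 n615 = n615 := d26_1 D615 (iv D615) F1760
def n616 : Q := act 6 n457
theorem D616 : act 6 n457 = n616 := rfl
theorem F2346 : act 1 n616 = n616 := d11_1 D616 (iv D616) F1761
theorem F2347 : act 3 n616 = n509 := d20_1 D616 (iv D509) (iv F1763)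
theorem F2348 : act 5 n616 = n616 := d25_1 D616 (iv D616) F1764
def n617 : Q := act 7 n458
theorem D617 : act 7 n458 = n617 := rfl
theorem F2349 : act 1 n617 = n462 := d12_1 D617 (iv D462) (iv F1765)
theorem F2350 : act 3 n617 = n469 := d21_1 D617 (iv D469) (iv F1766)
theorem F2351 : act 4 n617 = n617 := d24_1 D617 (iv D617) F1767
theorem F2352 : act 5 n617 = n459 := d26_1 D617 (iv D459) D458
def n618 : Q := act 6 n459
theorem D618 : act 6 n459 = n618 := rfl
theorem F2353 : act 1 n618 = n463 := d11_1 D618 (iv D463) (iv F1768)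
theorem F2354 : act 3 n618 = n470 := d20_1 D618 (iv D470) (iv F1769)
theorem F2355 : act 4 n618 = n460 := d23_1 D618 (iv D460) (iv F1770)
def n619 : Q := act 2 n460
theorem D619 : act 2 n460 = n619 := rfl
theorem F2356 : act 5 n619 = n619 := d15_2 F1773 D619 (iv D619)
def n620 : Q := act 3 n461
theorem D620 : act 3 n461 = n620 := rfl
theorem F2357 : act 1 n620 = n620 := d8_1 D620 (iv D620) F1774
theorem F2358 : act 5 n620 = n620 := d19_2 F1776 D620 (iv D620)
theorem F2359 : act 6 n620 = n511 := d20_2 (iv F1777) D620 (iv D511)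
def n621 : Q := act 6 n462
theorem D621 : act 6 n462 = n621 := rfl
theorem F2360 : act 0 n621 = n621 := d5_1 D621 (iv D621) F1778
theorem F2361 : act 3 n621 = n473 := d20_1 D621 (iv D473) (iv F1780)
theorem F2362 : act 4 n621 = n621 := d23_1 D621 (iv D621) F1781
theorem F2363 : act 5 n621 = n463 := d25_1 D621 (iv D463) (iv F1782)
def n622 : Q := act 2 n463
theorem D622 : act 2 n463 = n622 := rfl
theorem F2364 : act 0 n622 = n622 := d1_1 D622 (iv D622) F1783
theorem F2365 : act 4 n622 = n464 := d14_2 (iv F1785) D622 (iv D464)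
theorem F2366 : act 6 n622 = n622 := d16_2 D463 D622 (iv D622) (iv D463) F1333
def n623 : Q := act 1 n464
theorem D623 : act 1 n464 = n623 := rfl
theorem F2367 : act 3 n623 = n623 := d8_2 F1787 D623 (iv D623)
theorem F2368 : act 5 n623 = n623 := d10_2 F1788 D623 (iv D623)
theorem F2369 : act 6 n623 = n623 := d11_2 F1789 D623 (iv D623)
def n624 : Q := act 7 n465
theorem D624 : act 7 n465 = n624 := rfl
theorem F2370 : act 0 n624 = n469 := d6_1 D624 (iv D469) (iv F1790)
theorem F2371 : act 1 n624 = n624 := d12_1 D624 (iv D624) F1791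
theorem F2372 : act 2 n624 = n624 := d17_1 D624 (iv D624) F1792
theorem F2373 : act 4 n624 = n476 := d24_1 D624 (iv D476) (iv F1793)
theorem F2374 : act 5 n624 = n466 := d26_1 D624 (iv D466) D465
def n625 : Q := act 6 n466
theorem D625 : act 6 n466 = n625 := rfl
theorem F2375 : act 0 n625 = n470 := d5_1 D625 (iv D470) (iv F1794)
theorem F2376 : act 1 n625 = n625 := d11_1 D625 (iv D625) F1795
theorem F2377 : act 4 n625 = n467 := d23_1 D625 (iv D467) (iv F1797)
def n626 : Q := act 2 n467
theorem D626 : act 2 n467 = n626 := rfl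
theorem F2378 : act 0 n626 = n471 := d1_1 D626 (iv D471) (iv F1798)
theorem F2379 : act 5 n626 = n478 := d15_2 (iv F1801) D626 (iv D478)
theorem F2380 : act 6 n626 = n626 := d16_2 D467 D626 (iv D626) (iv D467) F1344
def n627 : Q := act 1 n468
theorem D627 : act 1 n468 = n627 := rfl
theorem F2381 : act 0 n627 = n627 := d0_1 D627 (iv D627) F1802 F1359 (iv F1802)
theorem F2382 : act 2 n627 = n627 := d7_2 D468 D627 (iv D627) (iv D468) F1348
theorem F2383 : act 5 n627 = n479 := d10_2 (iv F1803) D627 (iv D479)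
theorem F2384 : act 6 n627 = n513 := d11_2 (iv F1804) D627 (iv D513)
def n628 : Q := act 3 n468
theorem D628 : act 3 n468 = n628 := rfl
theorem F2385 : act 0 n628 = n472 := d2_1 D628 (iv D472) (iv F1802)
theorem F2386 : act 5 n628 = n480 := d19_2 (iv F1803) D628 (iv D480)
theorem F2387 : act 6 n628 = n514 := d20_2 (iv F1804) D628 (iv D514)
def n629 : Q := act 6 n469
theorem D629 : act 6 n469 = n629 := rfl
theorem F2388 : act 1 n629 = n473 := d11_1 D629 (iv D473) (iv F1805)
theorem F2389 : act 4 n629 = n481 := d23_1 D629 (iv D481) (iv F1807)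
theorem F2390 : act 5 n629 = n470 := d25_1 D629 (iv D470) (iv F1808)
def n630 : Q := act 2 n470
theorem D630 : act 2 n470 = n630 := rfl
theorem F2391 : act 4 n630 = n471 := d14_2 (iv F1810) D630 (iv D471)
theorem F2392 : act 6 n630 = n630 := d16_2 D470 D630 (iv D630) (iv D470) F1354
def n631 : Q := act 1 n471
theorem D631 : act 1 n471 = n631 := rfl
theorem F2393 : act 2 n631 = n475 := d7_2 D471 D631 (iv D475) (iv D353) (iv F1356)
theorem F2394 : act 5 n631 = n483 := d10_2 (iv F1811) D631 (iv D483)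
theorem F2395 : act 6 n631 = n631 := d11_2 F1812 D631 (iv D631)
def n632 : Q := act 3 n471
theorem D632 : act 3 n471 = n632 := rfl
theorem F2396 : act 2 n632 = n472 := d13_1 D632 (iv D472) (iv D350) (iv F1357) D471
theorem F2397 : act 5 n632 = n484 := d19_2 (iv F1811) D632 (iv D484)
theorem F2398 : act 6 n632 = n632 := d20_2 F1812 D632 (iv D632)
def n633 : Q := act 4 n472
theorem D633 : act 4 n472 = n633 := rfl
theorem F2399 : act 1 n633 = n633 := d9_1 D633 (iv D633) F1813
theorem F2400 : act 6 n633 = n515 := d23_2 (iv F1815) D633 (iv D515)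
def n634 : Q := act 2 n473
theorem D634 : act 2 n473 = n634 := rfl
theorem F2401 : act 0 n634 = n634 := d1_1 D634 (iv D634) F1816
theorem F2402 : act 4 n634 = n486 := d14_2 (iv F1817) D634 (iv D486)
theorem F2403 : act 5 n634 = n474 := d15_2 (iv F1818) D634 (iv D474)
theorem F2404 : act 6 n634 = n490 := d16_2 D473 D634 (iv D490) (iv D365) (iv F1363)
def n635 : Q := act 1 n474
theorem D635 : act 1 n474 = n635 := rfl
theorem F2405 : act 4 n635 = n475 := d9_2 (iv F1820) D635 (iv D475)
theorem F2406 : act 6 n635 = n491 := d11_2 (iv F1821) D635 (iv D491)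
def n636 : Q := act 3 n474
theorem D636 : act 3 n474 = n636 := rfl
theorem F2407 : act 0 n636 = n636 := d2_1 D636 (iv D636) F1819
theorem F2408 : act 4 n636 = n636 := d18_2 (iv F1820) D636 (iv D636) F1820 F1369
theorem F2409 : act 6 n636 = n492 := d20_2 (iv F1821) D636 (iv D492)
def n637 : Q := act 0 n475
theorem D637 : act 0 n475 = n637 := rfl
theorem F2410 : act 1 n637 = n637 := d0_2 D475 D637 (iv D637) (iv D475) F1368
theorem F2411 : act 3 n637 = n637 := d2_2 F1822 D637 (iv D637)
theorem F2412 : act 5 n637 = n489 := d4_2 (iv F1823) D637 (iv D489)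
theorem F2413 : act 6 n637 = n493 := d5_2 (iv F1824) D637 (iv D493)
def n638 : Q := act 6 n476
theorem D638 : act 6 n476 = n638 := rfl
theorem F2414 : act 0 n638 = n481 := d5_1 D638 (iv D481) (iv F1825)
theorem F2415 : act 1 n638 = n638 := d11_1 D638 (iv D638) F1826
theorem F2416 : act 3 n638 = n638 := d20_1 D638 (iv D638) F1828
theorem F2417 : act 5 n638 = n477 := d25_1 D638 (iv D477) (iv F1829)
def n639 : Q := act 2 n477
theorem D639 : act 2 n477 = n639 := rfl
theorem F2418 : act 0 n639 = n482 := d1_1 D639 (iv D482) (iv F1830)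
theorem F2419 : act 4 n639 = n478 := d14_2 (iv F1833) D639 (iv D478)
theorem F2420 : act 6 n639 = n639 := d16_2 D477 D639 (iv D639) (iv D477) F1378
def n640 : Q := act 1 n478
theorem D640 : act 1 n478 = n640 := rfl
theorem F2421 : act 2 n640 = n640 := d7_2 D478 D640 (iv D640) (iv D478) F1382
theorem F2422 : act 6 n640 = n640 := d11_2 F1835 D640 (iv D640)
def n641 : Q := act 3 n478
theorem D641 : act 3 n478 = n641 := rfl
theorem F2423 : act 0 n641 = n484 := d2_1 D641 (iv D484) (iv F1834)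
theorem F2424 : act 2 n641 = n480 := d13_1 D641 (iv D480) (iv D357) (iv F1383) D478
theorem F2425 : act 6 n641 = n641 := d20_2 F1835 D641 (iv D641)
def n642 : Q := act 3 n479
theorem D642 : act 3 n479 = n642 := rfl
theorem F2427 : act 1 n642 = n480 := d8_1 D642 (iv D480) D479
theorem F2428 : act 6 n642 = n516 := d20_2 (iv F1839) D642 (iv D516)
def n644 : Q := act 2 n481
theorem D644 : act 2 n481 = n644 := rfl
theorem F2432 : act 5 n644 = n482 := d15_2 (iv F1844) D644 (iv D482)
theorem F2433 : act 6 n644 = n644 := d16_2 D481 D644 (iv D644) (iv D481) F1388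
def n645 : Q := act 1 n482
theorem D645 : act 1 n482 = n645 := rfl
theorem F2434 : act 2 n645 = n487 := d7_2 D482 D645 (iv D487) (iv D363) (iv F1391)
theorem F2435 : act 4 n645 = n483 := d9_2 (iv F1845) D645 (iv D483)
theorem F2436 : act 6 n645 = n645 := d11_2 F1846 D645 (iv D645)
def n646 : Q := act 3 n482
theorem D646 : act 3 n482 = n646 := rfl
def n647 : Q := act 0 n483
theorem D647 : act 0 n483 = n647 := rfl
theorem F2439 : act 2 n647 = n489 := d1_2 (iv F1847) D647 (iv D489)
theorem F2440 : act 6 n647 = n647 := d5_2 F1848 D647 (iv D647)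
def n648 : Q := act 3 n483
theorem D648 : act 3 n483 = n648 := rfl
theorem F2441 : act 1 n648 = n484 := d8_1 D648 (iv D484) D483
theorem F2442 : act 2 n648 = n648 := d13_1 D648 (iv D648) F1847 F1403 (iv F1847)
theorem F2443 : act 6 n648 = n648 := d20_2 F1848 D648 (iv D648)
def n649 : Q := act 4 n484
theorem D649 : act 4 n484 = n649 := rfl
theorem F2444 : act 2 n649 = n485 := d14_1 D649 (iv D485) (iv F1849)
def n650 : Q := act 5 n485
theorem D650 : act 5 n485 = n650 := rfl
def n651 : Q := act 1 n486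
theorem D651 : act 1 n486 = n651 := rfl
theorem F2450 : act 6 n651 = n494 := d11_2 (iv F1856) D651 (iv D494)
def n652 : Q := act 3 n486
theorem D652 : act 3 n486 = n652 := rfl
def n653 : Q := act 0 n487
theorem D653 : act 0 n487 = n653 := rfl
theorem F2457 : act 6 n653 = n496 := d5_2 (iv F1858) D653 (iv D496)
def n654 : Q := act 3 n487
theorem D654 : act 3 n487 = n654 := rfl
theorem F2460 : act 6 n654 = n497 := d20_2 (iv F1858) D654 (iv D497)
def n655 : Q := act 1 n490
theorem D655 : act 1 n490 = n655 := rfl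
theorem F2461 : act 2 n655 = n655 := d7_2 D490 D655 (iv D655) (iv D490) F1406
theorem F2462 : act 4 n655 = n494 := d9_2 (iv F1867) D655 (iv D494)
theorem F2463 : act 5 n655 = n491 := d10_2 (iv F1868) D655 (iv D491)
theorem F2464 : act 7 n655 = n655 := d12_2 F1869 D655 (iv D655)
def n656 : Q := act 3 n490
theorem D656 : act 3 n490 = n656 := rfl
theorem F2465 : act 0 n656 = n656 := d2_1 D656 (iv D656) F1866
theorem F2466 : act 2 n656 = n656 := d13_1 D656 (iv D656) (iv D490) F1407 D490
theorem F2467 : act 5 n656 = n492 := d19_2 (iv F1868) D656 (iv D492)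
theorem F2468 : act 7 n656 = n656 := d21_2 F1869 D656 (iv D656)
def n657 : Q := act 0 n491
theorem D657 : act 0 n491 = n657 := rfl
theorem F2469 : act 1 n657 = n657 := d0_2 D491 D657 (iv D657) (iv D491) F1411
theorem F2470 : act 2 n657 = n657 := d1_2 F1870 D657 (iv D657)
theorem F2471 : act 4 n657 = n493 := d3_2 (iv F1871) D657 (iv D493)
theorem F2472 : act 7 n657 = n657 := d6_2 F1872 D657 (iv D657)
def n658 : Q := act 3 n491
theorem D658 : act 3 n491 = n658 := rfl
theorem F2473 : act 1 n658 = n492 := d8_1 D658 (iv D492) D491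
theorem F2474 : act 4 n658 = n658 := d18_2 (iv F1871) D658 (iv D658) F1871 F1415
theorem F2475 : act 7 n658 = n658 := d21_2 F1872 D658 (iv D658)
def n659 : Q := act 0 n494
theorem D659 : act 0 n494 = n659 := rfl
theorem F2478 : act 5 n659 = n496 := d4_2 (iv F1883) D659 (iv D496)
def n660 : Q := act 3 n494
theorem D660 : act 3 n494 = n660 := rfl
theorem F2480 : act 1 n660 = n495 := d8_1 D660 (iv D495) D494
def n661 : Q := act 4 n495
theorem D661 : act 4 n495 = n661 := rfl
theorem F2483 : act 0 n661 = n661 := d3_1 D661 (iv D661) F1885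
theorem F2484 : act 2 n661 = n500 := d14_1 D661 (iv D500) (iv F1886)
theorem F2485 : act 5 n661 = n661 := d22_2 (iv F1887) D661 (iv D661) F1887 F1426
theorem F2486 : act 7 n661 = n661 := d24_2 F1888 D661 (iv D661)
def n662 : Q := act 3 n496
theorem D662 : act 3 n496 = n662 := rfl
theorem F2487 : act 0 n662 = n497 := d2_1 D662 (iv D497) D496
def n663 : Q := act 2 n497
theorem D663 : act 2 n497 = n663 := rfl
theorem F2491 : act 1 n663 = n502 := d7_1 D663 (iv D502) F1446 (iv F1425) (iv F1893)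
def n664 : Q := act 3 n498
theorem D664 : act 3 n498 = n664 := rfl
theorem F2495 : act 0 n664 = n499 := d2_1 D664 (iv D499) D498
theorem F2497 : act 5 n664 = n501 := d19_2 (iv F1899) D664 (iv D501)
def n665 : Q := act 2 n499
theorem D665 : act 2 n499 = n665 := rfl
def n666 : Q := act 4 n499
theorem D666 : act 4 n499 = n666 := rfl
theorem F2503 : act 1 n666 = n500 := d9_1 D666 (iv D500) (iv F1902)
theorem F2504 : act 3 n666 = n666 := d18_1 D666 (iv D666) (iv D499) F1433 D499
def n667 : Q := act 2 n501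
theorem D667 : act 2 n501 = n667 := rfl
theorem F2508 : act 0 n667 = n502 := d1_1 D667 (iv D502) (iv F1911)
def n668 : Q := act 6 n502
theorem D668 : act 6 n502 = n668 := rfl
theorem F2512 : act 2 n668 = n668 := d16_1 D668 (iv D668) (iv D502) F1448 D502
def n669 : Q := act 6 n503
theorem D669 : act 6 n503 = n669 := rfl
theorem F2515 : act 0 n669 = n669 := d5_1 D669 (iv D669) F1919
theorem F2516 : act 1 n669 = n504 := d11_1 D669 (iv D504) D503
theorem F2517 : act 4 n669 = n669 := d23_1 D669 (iv D669) F1921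
theorem F2518 : act 5 n669 = n669 := d25_1 D669 (iv D669) F1922
def n670 : Q := act 7 n503
theorem D670 : act 7 n503 = n670 := rfl
theorem F2519 : act 0 n670 = n670 := d6_1 D670 (iv D670) F1919
theorem F2520 : act 1 n670 = n505 := d12_1 D670 (iv D505) D503
theorem F2521 : act 2 n670 = n520 := d17_1 D670 (iv D520) (iv F1920)
theorem F2522 : act 4 n670 = n670 := d24_1 D670 (iv D670) F1921
theorem F2523 : act 5 n670 = n670 := d26_1 D670 (iv D670) F1922
def n671 : Q := act 7 n504
theorem D671 : act 7 n504 = n671 := rfl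
theorem F2524 : act 0 n671 = n508 := d6_1 D671 (iv D508) (iv F1923)
theorem F2525 : act 2 n671 = n671 := d17_1 D671 (iv D671) F1924
theorem F2526 : act 4 n671 = n671 := d24_1 D671 (iv D671) F1925
theorem F2527 : act 5 n671 = n671 := d26_1 D671 (iv D671) F1926
def n672 : Q := act 6 n505
theorem D672 : act 6 n505 = n672 := rfl
theorem F2528 : act 0 n672 = n509 := d5_1 D672 (iv D509) (iv F1927)
theorem F2529 : act 4 n672 = n672 := d23_1 D672 (iv D672) F1929
theorem F2530 : act 5 n672 = n672 := d25_1 D672 (iv D672) F1930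
def n673 : Q := act 2 n506
theorem D673 : act 2 n506 = n673 := rfl
theorem F2531 : act 0 n673 = n510 := d1_1 D673 (iv D510) (iv F1931)
theorem F2532 : act 4 n673 = n673 := d14_2 F1934 D673 (iv D673)
theorem F2533 : act 5 n673 = n673 := d15_2 F1935 D673 (iv D673)
theorem F2534 : act 7 n673 = n673 := d17_2 F1936 D673 (iv D673)
def n674 : Q := act 1 n507
theorem D674 : act 1 n507 = n674 := rfl
theorem F2537 : act 4 n674 = n513 := d9_2 (iv F1938) D674 (iv D513)
def n675 : Q := act 3 n507
theorem D675 : act 3 n507 = n675 := rfl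
theorem F2540 : act 0 n675 = n511 := d2_1 D675 (iv D511) (iv F1937)
theorem F2541 : act 5 n675 = n675 := d19_2 F1939 D675 (iv D675)
theorem F2542 : act 7 n675 = n675 := d21_2 F1940 D675 (iv D675)
def n676 : Q := act 6 n508
theorem D676 : act 6 n508 = n676 := rfl
theorem F2543 : act 1 n676 = n676 := d11_1 D676 (iv D676) F1941
theorem F2544 : act 4 n676 = n676 := d23_1 D676 (iv D676) F1943
theorem F2545 : act 5 n676 = n676 := d25_1 D676 (iv D676) F1944
theorem F2546 : act 7 n676 = n509 := d27_2 D508 D676 (iv D509) (iv D380) D379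
def n677 : Q := act 2 n509
theorem D677 : act 2 n509 = n677 := rfl
theorem F2547 : act 4 n677 = n677 := d14_2 F1946 D677 (iv D677)
theorem F2548 : act 5 n677 = n677 := d15_2 F1947 D677 (iv D677)
theorem F2549 : act 6 n677 = n510 := d16_2 D509 D677 (iv D510) (iv D381) (iv F1468)
def n678 : Q := act 1 n510
theorem D678 : act 1 n510 = n678 := rfl
theorem F2550 : act 2 n678 = n512 := d7_2 D510 D678 (iv D512) (iv D383) (iv F1471)
theorem F2551 : act 4 n678 = n678 := d9_2 F1948 D678 (iv D678)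
theorem F2552 : act 5 n678 = n678 := d10_2 F1949 D678 (iv D678)
theorem F2553 : act 7 n678 = n678 := d12_2 F1950 D678 (iv D678)
def n679 : Q := act 3 n510
theorem D679 : act 3 n510 = n679 := rfl
theorem F2554 : act 2 n679 = n511 := d13_1 D679 (iv D511) (iv D382) (iv F1472) D510
theorem F2555 : act 5 n679 = n679 := d19_2 F1949 D679 (iv D679)
theorem F2556 : act 7 n679 = n679 := d21_2 F1950 D679 (iv D679)
def n680 : Q := act 4 n511
theorem D680 : act 4 n511 = n680 := rfl
theorem F2557 : act 1 n680 = n680 := d9_1 D680 (iv D680) F1951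
theorem F2558 : act 3 n680 = n515 := d18_1 D680 (iv D515) (iv D385) (iv F1477) D511
theorem F2559 : act 7 n680 = n680 := d24_2 F1953 D680 (iv D680)
def n681 : Q := act 0 n512
theorem D681 : act 0 n512 = n681 := rfl
def n683 : Q := act 4 n514
theorem D683 : act 4 n514 = n683 := rfl
def n684 : Q := act 5 n515
theorem D684 : act 5 n515 = n684 := rfl
def n685 : Q := act 2 n516
theorem D685 : act 2 n516 = n685 := rfl
theorem F2579 : act 3 n685 = n535 := d13_2 D516 D685 (iv D535) (iv D402) (iv F1494)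
def n686 : Q := act 4 n516
theorem D686 : act 4 n516 = n686 := rfl
def n688 : Q := act 2 n519
theorem D688 : act 2 n519 = n688 := rfl
theorem F2589 : act 0 n688 = n688 := d1_1 D688 (iv D688) F1981
theorem F2590 : act 1 n688 = n688 := d7_1 D688 (iv D688) F1982 F1509 (iv F1982)
theorem F2591 : act 4 n688 = n688 := d14_2 F1984 D688 (iv D688)
theorem F2592 : act 5 n688 = n688 := d15_2 F1985 D688 (iv D688)
def n689 : Q := act 7 n519
theorem D689 : act 7 n519 = n689 := rfl
theorem F2594 : act 1 n689 = n521 := d12_1 D689 (iv D521) (iv F1982)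
def n690 : Q := act 6 n520
theorem D690 : act 6 n520 = n690 := rfl
def n707 : Q := act 4 n535
theorem D707 : act 4 n535 = n707 := rfl
theorem F2670 : act 2 n707 = n536 := d14_1 D707 (iv D536) D535
def n710 : Q := act 2 n538
theorem D710 : act 2 n538 = n710 := rfl
theorem F2680 : act 0 n710 = n540 := d1_1 D710 (iv D540) (iv F2064)
theorem F2681 : act 3 n710 = n710 := d13_2 D538 D710 (iv D710) (iv D538) F1577
theorem F2682 : act 5 n710 = n710 := d15_2 F2066 D710 (iv D710)
def n711 : Q := act 4 n538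
theorem D711 : act 4 n538 = n711 := rfl
theorem F2683 : act 0 n711 = n541 := d3_1 D711 (iv D541) (iv F2064)
theorem F2684 : act 1 n711 = n711 := d9_1 D711 (iv D711) F2065
theorem F2685 : act 3 n711 = n711 := d18_1 D711 (iv D711) (iv D538) F1578 D538
theorem F2686 : act 6 n711 = n711 := d23_2 F2067 D711 (iv D711)
def n712 : Q := act 7 n538
theorem D712 : act 7 n538 = n712 := rfl
theorem F2687 : act 0 n712 = n542 := d6_1 D712 (iv D542) (iv F2064)
theorem F2688 : act 1 n712 = n712 := d12_1 D712 (iv D712) F2065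
theorem F2689 : act 3 n712 = n539 := d21_1 D712 (iv D539) D538
theorem F2690 : act 5 n712 = n712 := d26_1 D712 (iv D712) F2066
def n713 : Q := act 6 n539
theorem D713 : act 6 n539 = n713 := rfl
theorem F2691 : act 0 n713 = n543 := d5_1 D713 (iv D543) (iv F2068)
theorem F2692 : act 1 n713 = n713 := d11_1 D713 (iv D713) F2069
theorem F2693 : act 4 n713 = n713 := d23_1 D713 (iv D713) F2071
theorem F2694 : act 5 n713 = n713 := d25_1 D713 (iv D713) F2072
theorem F2695 : act 7 n713 = n713 := d27_2 D539 D713 (iv D713) (iv D539) F1580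
def n714 : Q := act 4 n540
theorem D714 : act 4 n540 = n714 := rfl
theorem F2696 : act 1 n714 = n551 := d9_1 D714 (iv D551) (iv F2073)
theorem F2697 : act 2 n714 = n541 := d14_1 D714 (iv D541) D540
def n715 : Q := act 6 n540
theorem D715 : act 6 n540 = n715 := rfl
theorem F2698 : act 1 n715 = n552 := d11_1 D715 (iv D552) (iv F2073)
theorem F2699 : act 2 n715 = n715 := d16_1 D715 (iv D715) (iv D540) F1583 D540
theorem F2700 : act 3 n715 = n715 := d20_1 D715 (iv D715) F2074
theorem F2701 : act 5 n715 = n715 := d25_1 D715 (iv D715) F2075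
def n716 : Q := act 7 n540
theorem D716 : act 7 n540 = n716 := rfl
theorem F2702 : act 1 n716 = n553 := d12_1 D716 (iv D553) (iv F2073)
theorem F2703 : act 2 n716 = n542 := d17_1 D716 (iv D542) D540
theorem F2704 : act 3 n716 = n716 := d21_1 D716 (iv D716) F2074
theorem F2705 : act 5 n716 = n716 := d26_1 D716 (iv D716) F2075
def n717 : Q := act 5 n541
theorem D717 : act 5 n541 = n717 := rfl
theorem F2706 : act 1 n717 = n544 := d10_1 D717 (iv D544) (iv F2076)
theorem F2707 : act 3 n717 = n717 := d19_1 D717 (iv D717) F2077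
theorem F2708 : act 4 n717 = n717 := d22_1 D717 (iv D717) (iv D541) F1582 D541
theorem F2709 : act 6 n717 = n717 := d25_2 F2078 D717 (iv D717)
def n718 : Q := act 7 n541
theorem D718 : act 7 n541 = n718 := rfl
theorem F2710 : act 1 n718 = n545 := d12_1 D718 (iv D545) (iv F2076)
theorem F2711 : act 3 n718 = n718 := d21_1 D718 (iv D718) F2077
theorem F2712 : act 4 n718 = n542 := d24_1 D718 (iv D542) D541
def n719 : Q := act 6 n542
theorem D719 : act 6 n542 = n719 := rfl
theorem F2713 : act 1 n719 = n546 := d11_1 D719 (iv D546) (iv F2079)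
theorem F2714 : act 3 n719 = n543 := d20_1 D719 (iv D543) (iv F2080)
theorem F2715 : act 5 n719 = n719 := d25_1 D719 (iv D719) F2081
theorem F2716 : act 7 n719 = n719 := d27_2 D542 D719 (iv D719) (iv D542) F1583
def n720 : Q := act 2 n543
theorem D720 : act 2 n543 = n720 := rfl
theorem F2717 : act 1 n720 = n720 := d7_1 D720 (iv D720) F2082 F1597 (iv F2082)
theorem F2718 : act 4 n720 = n720 := d14_2 F2083 D720 (iv D720)
theorem F2719 : act 5 n720 = n720 := d15_2 F2084 D720 (iv D720)
theorem F2720 : act 6 n720 = n720 := d16_2 D543 D720 (iv D720) (iv D543) F1585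
theorem F2721 : act 7 n720 = n720 := d17_2 F2085 D720 (iv D720)
def n721 : Q := act 7 n544
theorem D721 : act 7 n544 = n721 := rfl
theorem F2722 : act 0 n721 = n721 := d6_1 D721 (iv D721) F2086
theorem F2723 : act 2 n721 = n558 := d17_1 D721 (iv D558) (iv F2087)
theorem F2724 : act 3 n721 = n721 := d21_1 D721 (iv D721) F2088
theorem F2725 : act 4 n721 = n721 := d24_1 D721 (iv D721) F2089
theorem F2726 : act 5 n721 = n545 := d26_1 D721 (iv D545) D544
def n722 : Q := act 6 n545
theorem D722 : act 6 n545 = n722 := rfl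
theorem F2727 : act 0 n722 = n722 := d5_1 D722 (iv D722) F2091
theorem F2728 : act 3 n722 = n722 := d20_1 D722 (iv D722) F2093
theorem F2729 : act 4 n722 = n546 := d23_1 D722 (iv D546) (iv F2094)
theorem F2730 : act 7 n722 = n722 := d27_2 D545 D722 (iv D722) (iv D545) F1591
def n723 : Q := act 2 n546
theorem D723 : act 2 n546 = n723 := rfl
theorem F2731 : act 0 n723 = n723 := d1_1 D723 (iv D723) F2095
theorem F2732 : act 3 n723 = n723 := d13_2 (iv F2096) D723 (iv D723) F2096 F1597
theorem F2733 : act 5 n723 = n723 := d15_2 F2097 D723 (iv D723)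
theorem F2734 : act 6 n723 = n560 := d16_2 D546 D723 (iv D560) (iv D419) (iv F1593)
theorem F2735 : act 7 n723 = n723 := d17_2 F2098 D723 (iv D723)
def n724 : Q := act 1 n547
theorem D724 : act 1 n547 = n724 := rfl
theorem F2736 : act 2 n724 = n724 := d7_2 D547 D724 (iv D724) (iv D547) F1602
theorem F2737 : act 3 n724 = n724 := d8_2 F2100 D724 (iv D724)
theorem F2738 : act 5 n724 = n724 := d10_2 F2101 D724 (iv D724)
def n725 : Q := act 4 n547
theorem D725 : act 4 n547 = n725 := rfl
theorem F2739 : act 0 n725 = n551 := d3_1 D725 (iv D551) (iv F2099)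
theorem F2740 : act 2 n725 = n548 := d14_1 D725 (iv D548) D547
def n726 : Q := act 6 n547
theorem D726 : act 6 n547 = n726 := rfl
theorem F2741 : act 0 n726 = n552 := d5_1 D726 (iv D552) (iv F2099)
theorem F2742 : act 2 n726 = n606 := d16_1 D726 (iv D606) (iv D451) (iv F1604) D547
theorem F2743 : act 3 n726 = n726 := d20_1 D726 (iv D726) F2100
theorem F2744 : act 5 n726 = n726 := d25_1 D726 (iv D726) F2101
def n727 : Q := act 7 n547
theorem D727 : act 7 n547 = n727 := rfl
theorem F2745 : act 0 n727 = n553 := d6_1 D727 (iv D553) (iv F2099)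
theorem F2746 : act 2 n727 = n549 := d17_1 D727 (iv D549) D547
theorem F2747 : act 3 n727 = n727 := d21_1 D727 (iv D727) F2100
theorem F2748 : act 5 n727 = n727 := d26_1 D727 (iv D727) F2101
def n728 : Q := act 5 n548
theorem D728 : act 5 n548 = n728 := rfl
theorem F2749 : act 0 n728 = n554 := d4_1 D728 (iv D554) (iv F2102)
theorem F2750 : act 1 n728 = n728 := d10_1 D728 (iv D728) F2103
theorem F2751 : act 3 n728 = n564 := d19_1 D728 (iv D564) (iv F2104)
theorem F2752 : act 4 n728 = n728 := d22_1 D728 (iv D728) (iv D548) F1603 D548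
theorem F2753 : act 6 n728 = n608 := d25_2 (iv F2105) D728 (iv D608)
def n729 : Q := act 7 n548
theorem D729 : act 7 n548 = n729 := rfl
theorem F2754 : act 0 n729 = n555 := d6_1 D729 (iv D555) (iv F2102)
theorem F2755 : act 1 n729 = n729 := d12_1 D729 (iv D729) F2103
theorem F2756 : act 3 n729 = n565 := d21_1 D729 (iv D565) (iv F2104)
theorem F2757 : act 4 n729 = n549 := d24_1 D729 (iv D549) D548
def n730 : Q := act 6 n549
theorem D730 : act 6 n549 = n730 := rfl
theorem F2758 : act 0 n730 = n556 := d5_1 D730 (iv D556) (iv F2106)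
theorem F2759 : act 1 n730 = n730 := d11_1 D730 (iv D730) F2107
theorem F2760 : act 3 n730 = n550 := d20_1 D730 (iv D550) (iv F2108)
theorem F2761 : act 5 n730 = n730 := d25_1 D730 (iv D730) F2109
theorem F2762 : act 7 n730 = n610 := d27_2 D549 D730 (iv D610) (iv D453) (iv F1604)
def n731 : Q := act 2 n550
theorem D731 : act 2 n550 = n731 := rfl
theorem F2763 : act 0 n731 = n557 := d1_1 D731 (iv D557) (iv F2110)
theorem F2764 : act 4 n731 = n567 := d14_2 (iv F2112) D731 (iv D567)
theorem F2765 : act 5 n731 = n731 := d15_2 F2113 D731 (iv D731)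
theorem F2766 : act 6 n731 = n731 := d16_2 D550 D731 (iv D731) (iv D550) F1607
theorem F2767 : act 7 n731 = n611 := d17_2 (iv F2114) D731 (iv D611)
def n732 : Q := act 3 n551
theorem D732 : act 3 n551 = n732 := rfl
theorem F2768 : act 2 n732 = n568 := d13_1 D732 (iv D568) F1649 (iv F1613) (iv F2115)
theorem F2769 : act 4 n732 = n732 := d18_2 D551 D732 (iv D732) (iv D551) F1610
def n733 : Q := act 5 n551
theorem D733 : act 5 n551 = n733 := rfl
theorem F2770 : act 2 n733 = n554 := d15_1 D733 (iv D554) (iv F2115)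
theorem F2771 : act 4 n733 = n733 := d22_1 D733 (iv D733) (iv D551) F1611 D551
def n734 : Q := act 6 n551
theorem D734 : act 6 n551 = n734 := rfl
theorem F2772 : act 2 n734 = n613 := d16_1 D734 (iv D613) F1756 (iv F1614) (iv F2115)
theorem F2773 : act 4 n734 = n552 := d23_1 D734 (iv D552) D551
def n735 : Q := act 7 n551
theorem D735 : act 7 n551 = n735 := rfl
theorem F2774 : act 2 n735 = n555 := d17_1 D735 (iv D555) (iv F2115)
theorem F2775 : act 4 n735 = n553 := d24_1 D735 (iv D553) D551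
def n736 : Q := act 7 n552
theorem D736 : act 7 n552 = n736 := rfl
theorem F2776 : act 2 n736 = n615 := d17_1 D736 (iv D615) (iv F2116)
theorem F2777 : act 3 n736 = n736 := d21_1 D736 (iv D736) F2117
theorem F2778 : act 5 n736 = n736 := d26_1 D736 (iv D736) F2118
def n737 : Q := act 6 n553
theorem D737 : act 6 n553 = n737 := rfl
theorem F2779 : act 3 n737 = n737 := d20_1 D737 (iv D737) F2120
theorem F2780 : act 5 n737 = n737 := d25_1 D737 (iv D737) F2121
def n738 : Q := act 7 n554
theorem D738 : act 7 n554 = n738 := rfl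
theorem F2781 : act 1 n738 = n558 := d12_1 D738 (iv D558) (iv F2122)
theorem F2782 : act 3 n738 = n572 := d21_1 D738 (iv D572) (iv F2123)
theorem F2783 : act 4 n738 = n738 := d24_1 D738 (iv D738) F2124
theorem F2784 : act 5 n738 = n555 := d26_1 D738 (iv D555) D554
def n739 : Q := act 6 n555
theorem D739 : act 6 n555 = n739 := rfl
theorem F2785 : act 1 n739 = n559 := d11_1 D739 (iv D559) (iv F2126)
theorem F2786 : act 3 n739 = n573 := d20_1 D739 (iv D573) (iv F2127)
theorem F2787 : act 4 n739 = n556 := d23_1 D739 (iv D556) (iv F2128)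
theorem F2788 : act 7 n739 = n618 := d27_2 D555 D739 (iv D618) (iv D459) (iv F1614)
def n740 : Q := act 2 n556
theorem D740 : act 2 n556 = n740 := rfl
theorem F2789 : act 5 n740 = n740 := d15_2 F2131 D740 (iv D740)
theorem F2790 : act 7 n740 = n619 := d17_2 (iv F2132) D740 (iv D619)
def n741 : Q := act 3 n557
theorem D741 : act 3 n557 = n741 := rfl
theorem F2791 : act 1 n741 = n741 := d8_1 D741 (iv D741) F2133
theorem F2792 : act 5 n741 = n741 := d19_2 F2135 D741 (iv D741)
theorem F2793 : act 6 n741 = n741 := d20_2 F2136 D741 (iv D741)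
theorem F2794 : act 7 n741 = n620 := d21_2 (iv F2137) D741 (iv D620)
def n742 : Q := act 6 n558
theorem D742 : act 6 n558 = n742 := rfl
theorem F2795 : act 0 n742 = n742 := d5_1 D742 (iv D742) F2138
theorem F2796 : act 3 n742 = n576 := d20_1 D742 (iv D576) (iv F2139)
theorem F2797 : act 4 n742 = n742 := d23_1 D742 (iv D742) F2140
theorem F2798 : act 5 n742 = n559 := d25_1 D742 (iv D559) (iv F2141)
theorem F2799 : act 7 n742 = n621 := d27_2 D558 D742 (iv D621) (iv D462) (iv F1625)
def n743 : Q := act 2 n559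
theorem D743 : act 2 n559 = n743 := rfl
theorem F2800 : act 0 n743 = n743 := d1_1 D743 (iv D743) F2142
theorem F2801 : act 4 n743 = n560 := d14_2 (iv F2144) D743 (iv D560)
theorem F2802 : act 7 n743 = n622 := d17_2 (iv F2145) D743 (iv D622)
def n744 : Q := act 1 n560
theorem D744 : act 1 n560 = n744 := rfl
theorem F2803 : act 3 n744 = n744 := d8_2 F2147 D744 (iv D744)
theorem F2804 : act 5 n744 = n744 := d10_2 F2148 D744 (iv D744)
theorem F2805 : act 7 n744 = n623 := d12_2 (iv F2149) D744 (iv D623)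
def n745 : Q := act 4 n561
theorem D745 : act 4 n561 = n745 := rfl
theorem F2806 : act 0 n745 = n745 := d3_1 D745 (iv D745) F2150
theorem F2807 : act 1 n745 = n562 := d9_1 D745 (iv D562) D561
theorem F2808 : act 2 n745 = n745 := d14_1 D745 (iv D745) F2151
theorem F2809 : act 6 n745 = n745 := d23_2 F2154 D745 (iv D745)
def n746 : Q := act 7 n561
theorem D746 : act 7 n561 = n746 := rfl
theorem F2810 : act 0 n746 = n746 := d6_1 D746 (iv D746) F2150
theorem F2811 : act 1 n746 = n563 := d12_1 D746 (iv D563) D561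
theorem F2812 : act 2 n746 = n746 := d17_1 D746 (iv D746) F2151
theorem F2813 : act 3 n746 = n746 := d21_1 D746 (iv D746) F2152
theorem F2814 : act 5 n746 = n580 := d26_1 D746 (iv D580) (iv F2153)
def n747 : Q := act 3 n562
theorem D747 : act 3 n562 = n747 := rfl
theorem F2815 : act 0 n747 = n568 := d2_1 D747 (iv D568) (iv F2155)
theorem F2816 : act 4 n747 = n747 := d18_2 D562 D747 (iv D747) (iv D562) F1634
theorem F2817 : act 6 n747 = n747 := d20_2 F2157 D747 (iv D747)
def n748 : Q := act 5 n562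
theorem D748 : act 5 n562 = n748 := rfl
theorem F2818 : act 0 n748 = n569 := d4_1 D748 (iv D569) (iv F2155)
theorem F2819 : act 2 n748 = n564 := d15_1 D748 (iv D564) (iv F2156)
theorem F2820 : act 4 n748 = n582 := d22_1 D748 (iv D582) (iv D434) (iv F1635) D562
theorem F2821 : act 6 n748 = n748 := d25_2 F2157 D748 (iv D748)
def n749 : Q := act 7 n562
theorem D749 : act 7 n562 = n749 := rfl
theorem F2822 : act 0 n749 = n570 := d6_1 D749 (iv D570) (iv F2155)
theorem F2823 : act 2 n749 = n565 := d17_1 D749 (iv D565) (iv F2156)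
theorem F2824 : act 4 n749 = n563 := d24_1 D749 (iv D563) D562
def n750 : Q := act 6 n563
theorem D750 : act 6 n563 = n750 := rfl
theorem F2825 : act 0 n750 = n571 := d5_1 D750 (iv D571) (iv F2158)
theorem F2826 : act 3 n750 = n750 := d20_1 D750 (iv D750) F2160
theorem F2827 : act 5 n750 = n584 := d25_1 D750 (iv D584) (iv F2161)
theorem F2828 : act 7 n750 = n750 := d27_2 D563 D750 (iv D750) (iv D563) F1636
def n751 : Q := act 7 n564
theorem D751 : act 7 n564 = n751 := rfl
theorem F2829 : act 0 n751 = n572 := d6_1 D751 (iv D572) (iv F2162)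
theorem F2830 : act 1 n751 = n751 := d12_1 D751 (iv D751) F2163
theorem F2831 : act 4 n751 = n585 := d24_1 D751 (iv D585) (iv F2164)
theorem F2832 : act 5 n751 = n565 := d26_1 D751 (iv D565) D564
def n752 : Q := act 6 n565
theorem D752 : act 6 n565 = n752 := rfl
theorem F2833 : act 0 n752 = n573 := d5_1 D752 (iv D573) (iv F2166)
theorem F2834 : act 1 n752 = n752 := d11_1 D752 (iv D752) F2167
theorem F2835 : act 4 n752 = n566 := d23_1 D752 (iv D566) (iv F2168)
theorem F2836 : act 7 n752 = n625 := d27_2 D565 D752 (iv D625) (iv D466) (iv F1639)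
def n753 : Q := act 2 n566
theorem D753 : act 2 n566 = n753 := rfl
theorem F2837 : act 0 n753 = n574 := d1_1 D753 (iv D574) (iv F2169)
theorem F2838 : act 5 n753 = n587 := d15_2 (iv F2172) D753 (iv D587)
theorem F2839 : act 7 n753 = n626 := d17_2 (iv F2173) D753 (iv D626)
def n754 : Q := act 1 n567
theorem D754 : act 1 n567 = n754 := rfl
theorem F2840 : act 0 n754 = n754 := d0_1 D754 (iv D754) F2174 F1664 (iv F2174)
theorem F2841 : act 2 n754 = n754 := d7_2 D567 D754 (iv D754) (iv D567) F1645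
theorem F2842 : act 5 n754 = n588 := d10_2 (iv F2175) D754 (iv D588)
theorem F2843 : act 6 n754 = n754 := d11_2 F2176 D754 (iv D754)
theorem F2844 : act 7 n754 = n627 := d12_2 (iv F2177) D754 (iv D627)
def n755 : Q := act 3 n567
theorem D755 : act 3 n567 = n755 := rfl
theorem F2845 : act 0 n755 = n575 := d2_1 D755 (iv D575) (iv F2174)
theorem F2846 : act 5 n755 = n589 := d19_2 (iv F2175) D755 (iv D589)
theorem F2847 : act 6 n755 = n755 := d20_2 F2176 D755 (iv D755)
theorem F2848 : act 7 n755 = n628 := d21_2 (iv F2177) D755 (iv D628)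
def n756 : Q := act 5 n568
theorem D756 : act 5 n568 = n756 := rfl
theorem F2849 : act 1 n756 = n756 := d10_1 D756 (iv D756) F2178
theorem F2850 : act 3 n756 = n569 := d19_1 D756 (iv D569) D568
theorem F2851 : act 6 n756 = n756 := d25_2 F2180 D756 (iv D756)
def n757 : Q := act 7 n568
theorem D757 : act 7 n568 = n757 := rfl
theorem F2852 : act 1 n757 = n757 := d12_1 D757 (iv D757) F2178
theorem F2853 : act 3 n757 = n570 := d21_1 D757 (iv D570) D568
theorem F2854 : act 4 n757 = n757 := d24_1 D757 (iv D757) F2179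
def n758 : Q := act 7 n569
theorem D758 : act 7 n569 = n758 := rfl
theorem F2855 : act 1 n758 = n758 := d12_1 D758 (iv D758) F2181
theorem F2856 : act 2 n758 = n572 := d17_1 D758 (iv D572) (iv F2182)
theorem F2857 : act 4 n758 = n592 := d24_1 D758 (iv D592) (iv F2183)
theorem F2858 : act 5 n758 = n570 := d26_1 D758 (iv D570) D569
def n759 : Q := act 6 n570
theorem D759 : act 6 n570 = n759 := rfl
theorem F2859 : act 1 n759 = n759 := d11_1 D759 (iv D759) F2185
theorem F2860 : act 4 n759 = n571 := d23_1 D759 (iv D571) (iv F2187)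
theorem F2861 : act 7 n759 = n759 := d27_2 D570 D759 (iv D759) (iv D570) F1650
def n760 : Q := act 2 n571
theorem D760 : act 2 n571 = n760 := rfl
theorem F2862 : act 5 n760 = n594 := d15_2 (iv F2190) D760 (iv D594)
theorem F2863 : act 6 n760 = n574 := d16_2 D571 D760 (iv D574) (iv D428) (iv F1652)
theorem F2864 : act 7 n760 = n760 := d17_2 F2191 D760 (iv D760)
def n761 : Q := act 6 n572
theorem D761 : act 6 n572 = n761 := rfl
theorem F2865 : act 1 n761 = n576 := d11_1 D761 (iv D576) (iv F2192)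
theorem F2866 : act 4 n761 = n595 := d23_1 D761 (iv D595) (iv F2193)
theorem F2867 : act 5 n761 = n573 := d25_1 D761 (iv D573) (iv F2194)
theorem F2868 : act 7 n761 = n629 := d27_2 D572 D761 (iv D629) (iv D469) (iv F1657)
def n762 : Q := act 2 n573
theorem D762 : act 2 n573 = n762 := rfl
theorem F2869 : act 4 n762 = n574 := d14_2 (iv F2196) D762 (iv D574)
theorem F2870 : act 7 n762 = n630 := d17_2 (iv F2197) D762 (iv D630)
def n763 : Q := act 1 n574
theorem D763 : act 1 n574 = n763 := rfl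
theorem F2871 : act 2 n763 = n578 := d7_2 D574 D763 (iv D578) (iv D432) (iv F1660)
theorem F2872 : act 5 n763 = n597 := d10_2 (iv F2198) D763 (iv D597)
theorem F2873 : act 7 n763 = n631 := d12_2 (iv F2199) D763 (iv D631)
def n764 : Q := act 3 n574
theorem D764 : act 3 n574 = n764 := rfl
theorem F2874 : act 2 n764 = n575 := d13_1 D764 (iv D575) (iv D429) (iv F1661) D574
theorem F2875 : act 5 n764 = n598 := d19_2 (iv F2198) D764 (iv D598)
theorem F2876 : act 7 n764 = n632 := d21_2 (iv F2199) D764 (iv D632)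
def n765 : Q := act 4 n575
theorem D765 : act 4 n575 = n765 := rfl
theorem F2877 : act 1 n765 = n765 := d9_1 D765 (iv D765) F2200
theorem F2878 : act 6 n765 = n765 := d23_2 F2202 D765 (iv D765)
theorem F2879 : act 7 n765 = n633 := d24_2 (iv F2203) D765 (iv D633)
def n766 : Q := act 2 n576
theorem D766 : act 2 n576 = n766 := rfl
theorem F2880 : act 0 n766 = n766 := d1_1 D766 (iv D766) F2204
theorem F2881 : act 4 n766 = n600 := d14_2 (iv F2205) D766 (iv D600)
theorem F2882 : act 5 n766 = n577 := d15_2 (iv F2206) D766 (iv D577)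
theorem F2883 : act 6 n766 = n766 := d16_2 D576 D766 (iv D766) (iv D576) F1669
theorem F2884 : act 7 n766 = n634 := d17_2 (iv F2207) D766 (iv D634)
def n767 : Q := act 1 n577
theorem D767 : act 1 n577 = n767 := rfl
theorem F2885 : act 4 n767 = n578 := d9_2 (iv F2209) D767 (iv D578)
theorem F2886 : act 6 n767 = n767 := d11_2 F2210 D767 (iv D767)
theorem F2887 : act 7 n767 = n635 := d12_2 (iv F2211) D767 (iv D635)
def n768 : Q := act 3 n577
theorem D768 : act 3 n577 = n768 := rfl
theorem F2888 : act 0 n768 = n768 := d2_1 D768 (iv D768) F2208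
theorem F2889 : act 4 n768 = n768 := d18_2 (iv F2209) D768 (iv D768) F2209 F1676
theorem F2890 : act 6 n768 = n768 := d20_2 F2210 D768 (iv D768)
theorem F2891 : act 7 n768 = n636 := d21_2 (iv F2211) D768 (iv D636)
def n769 : Q := act 0 n578
theorem D769 : act 0 n578 = n769 := rfl
theorem F2892 : act 1 n769 = n769 := d0_2 D578 D769 (iv D769) (iv D578) F1675
theorem F2893 : act 3 n769 = n769 := d2_2 F2212 D769 (iv D769)
theorem F2894 : act 5 n769 = n603 := d4_2 (iv F2213) D769 (iv D603)
theorem F2895 : act 6 n769 = n769 := d5_2 F2214 D769 (iv D769)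
theorem F2896 : act 7 n769 = n637 := d6_2 (iv F2215) D769 (iv D637)
def n770 : Q := act 3 n579
theorem D770 : act 3 n579 = n770 := rfl
theorem F2897 : act 0 n770 = n770 := d2_1 D770 (iv D770) F2216
theorem F2898 : act 1 n770 = n581 := d8_1 D770 (iv D581) (iv F2217)
theorem F2899 : act 4 n770 = n770 := d18_2 D579 D770 (iv D770) (iv D579) F1682
theorem F2900 : act 6 n770 = n770 := d20_2 F2219 D770 (iv D770)
def n771 : Q := act 5 n579
theorem D771 : act 5 n579 = n771 := rfl
theorem F2901 : act 0 n771 = n771 := d4_1 D771 (iv D771) F2216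
theorem F2902 : act 1 n771 = n582 := d10_1 D771 (iv D582) (iv F2217)
theorem F2903 : act 2 n771 = n771 := d15_1 D771 (iv D771) F2218
theorem F2904 : act 6 n771 = n771 := d25_2 F2219 D771 (iv D771)
def n772 : Q := act 7 n579
theorem D772 : act 7 n579 = n772 := rfl
theorem F2905 : act 0 n772 = n772 := d6_1 D772 (iv D772) F2216
theorem F2906 : act 1 n772 = n583 := d12_1 D772 (iv D583) (iv F2217)
theorem F2907 : act 2 n772 = n772 := d17_1 D772 (iv D772) F2218
theorem F2908 : act 4 n772 = n580 := d24_1 D772 (iv D580) D579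
def n773 : Q := act 6 n580
theorem D773 : act 6 n580 = n773 := rfl
theorem F2909 : act 0 n773 = n773 := d5_1 D773 (iv D773) F2220
theorem F2910 : act 1 n773 = n584 := d11_1 D773 (iv D584) (iv F2221)
theorem F2911 : act 3 n773 = n773 := d20_1 D773 (iv D773) F2223
theorem F2912 : act 7 n773 = n773 := d27_2 D580 D773 (iv D773) (iv D580) F1683
def n774 : Q := act 5 n581
theorem D774 : act 5 n581 = n774 := rfl
theorem F2913 : act 0 n774 = n590 := d4_1 D774 (iv D590) (iv F2224)
theorem F2914 : act 2 n774 = n774 := d15_1 D774 (iv D774) F2225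
theorem F2915 : act 3 n774 = n582 := d19_1 D774 (iv D582) D581
theorem F2916 : act 6 n774 = n774 := d25_2 F2227 D774 (iv D774)
def n775 : Q := act 7 n581
theorem D775 : act 7 n581 = n775 := rfl
theorem F2917 : act 0 n775 = n591 := d6_1 D775 (iv D591) (iv F2224)
theorem F2918 : act 2 n775 = n775 := d17_1 D775 (iv D775) F2225
theorem F2919 : act 3 n775 = n583 := d21_1 D775 (iv D583) D581
theorem F2920 : act 4 n775 = n775 := d24_1 D775 (iv D775) F2226
def n776 : Q := act 7 n582
theorem D776 : act 7 n582 = n776 := rfl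
theorem F2921 : act 0 n776 = n592 := d6_1 D776 (iv D592) (iv F2228)
theorem F2922 : act 2 n776 = n585 := d17_1 D776 (iv D585) (iv F2229)
theorem F2923 : act 5 n776 = n583 := d26_1 D776 (iv D583) D582
def n777 : Q := act 6 n583
theorem D777 : act 6 n583 = n777 := rfl
theorem F2924 : act 0 n777 = n593 := d5_1 D777 (iv D593) (iv F2231)
theorem F2925 : act 4 n777 = n584 := d23_1 D777 (iv D584) (iv F2233)
theorem F2926 : act 7 n777 = n777 := d27_2 D583 D777 (iv D777) (iv D583) F1686
def n778 : Q := act 2 n584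
theorem D778 : act 2 n584 = n778 := rfl
theorem F2927 : act 0 n778 = n594 := d1_1 D778 (iv D594) (iv F2234)
theorem F2928 : act 6 n778 = n587 := d16_2 D584 D778 (iv D587) (iv D438) (iv F1688)
theorem F2929 : act 7 n778 = n778 := d17_2 F2236 D778 (iv D778)
def n779 : Q := act 6 n585
theorem D779 : act 6 n585 = n779 := rfl
theorem F2930 : act 0 n779 = n595 := d5_1 D779 (iv D595) (iv F2237)
theorem F2931 : act 1 n779 = n779 := d11_1 D779 (iv D779) F2238
theorem F2932 : act 3 n779 = n779 := d20_1 D779 (iv D779) F2239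
theorem F2933 : act 5 n779 = n586 := d25_1 D779 (iv D586) (iv F2240)
theorem F2934 : act 7 n779 = n638 := d27_2 D585 D779 (iv D638) (iv D476) (iv F1693)
def n780 : Q := act 2 n586
theorem D780 : act 2 n586 = n780 := rfl
theorem F2935 : act 0 n780 = n596 := d1_1 D780 (iv D596) (iv F2241)
theorem F2936 : act 4 n780 = n587 := d14_2 (iv F2244) D780 (iv D587)
theorem F2937 : act 7 n780 = n639 := d17_2 (iv F2245) D780 (iv D639)
def n781 : Q := act 1 n587
theorem D781 : act 1 n587 = n781 := rfl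
theorem F2938 : act 2 n781 = n781 := d7_2 D587 D781 (iv D781) (iv D587) F1699
theorem F2939 : act 7 n781 = n640 := d12_2 (iv F2247) D781 (iv D640)
def n782 : Q := act 3 n587
theorem D782 : act 3 n587 = n782 := rfl
theorem F2940 : act 0 n782 = n598 := d2_1 D782 (iv D598) (iv F2246)
theorem F2941 : act 2 n782 = n589 := d13_1 D782 (iv D589) (iv D439) (iv F1700) D587
theorem F2942 : act 7 n782 = n641 := d21_2 (iv F2247) D782 (iv D641)
def n783 : Q := act 3 n588
theorem D783 : act 3 n588 = n783 := rfl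
theorem F2944 : act 1 n783 = n589 := d8_1 D783 (iv D589) D588
theorem F2946 : act 7 n783 = n642 := d21_2 (iv F2252) D783 (iv D642)
def n784 : Q := act 4 n589
theorem D784 : act 4 n589 = n784 := rfl
theorem F2947 : act 0 n784 = n599 := d3_1 D784 (iv D599) (iv F2253)
def n785 : Q := act 4 n590
theorem D785 : act 4 n590 = n785 := rfl
theorem F2951 : act 1 n785 = n785 := d9_1 D785 (iv D785) F2256
theorem F2952 : act 2 n785 = n785 := d14_1 D785 (iv D785) F2257
theorem F2953 : act 5 n785 = n785 := d22_2 D590 D785 (iv D785) (iv D590) F1708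
theorem F2954 : act 6 n785 = n785 := d23_2 F2259 D785 (iv D785)
def n786 : Q := act 7 n590
theorem D786 : act 7 n590 = n786 := rfl
theorem F2955 : act 1 n786 = n786 := d12_1 D786 (iv D786) F2256
theorem F2956 : act 2 n786 = n786 := d17_1 D786 (iv D786) F2257
theorem F2957 : act 3 n786 = n592 := d21_1 D786 (iv D592) (iv F2258)
theorem F2958 : act 5 n786 = n591 := d26_1 D786 (iv D591) D590
def n787 : Q := act 6 n591
theorem D787 : act 6 n591 = n787 := rfl
theorem F2959 : act 1 n787 = n787 := d11_1 D787 (iv D787) F2260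
theorem F2960 : act 3 n787 = n593 := d20_1 D787 (iv D593) (iv F2262)
theorem F2961 : act 4 n787 = n787 := d23_1 D787 (iv D787) F2263
theorem F2962 : act 7 n787 = n787 := d27_2 D591 D787 (iv D787) (iv D591) F1709
def n788 : Q := act 6 n592
theorem D788 : act 6 n592 = n788 := rfl
theorem F2963 : act 1 n788 = n788 := d11_1 D788 (iv D788) F2264
theorem F2964 : act 5 n788 = n593 := d25_1 D788 (iv D593) (iv F2266)
theorem F2965 : act 7 n788 = n788 := d27_2 D592 D788 (iv D788) (iv D592) F1712
def n789 : Q := act 2 n593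
theorem D789 : act 2 n593 = n789 := rfl
theorem F2966 : act 4 n789 = n594 := d14_2 (iv F2268) D789 (iv D594)
theorem F2967 : act 6 n789 = n596 := d16_2 D593 D789 (iv D596) (iv D445) (iv F1714)
theorem F2968 : act 7 n789 = n789 := d17_2 F2269 D789 (iv D789)
def n790 : Q := act 1 n594
theorem D790 : act 1 n594 = n790 := rfl
theorem F2969 : act 2 n790 = n790 := d7_2 D594 D790 (iv D790) (iv D594) F1716
theorem F2970 : act 6 n790 = n597 := d11_2 (iv F2270) D790 (iv D597)
theorem F2971 : act 7 n790 = n790 := d12_2 F2271 D790 (iv D790)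
def n791 : Q := act 3 n594
theorem D791 : act 3 n594 = n791 := rfl
theorem F2972 : act 2 n791 = n791 := d13_1 D791 (iv D791) (iv D594) F1717 D594
theorem F2973 : act 6 n791 = n598 := d20_2 (iv F2270) D791 (iv D598)
theorem F2974 : act 7 n791 = n791 := d21_2 F2271 D791 (iv D791)
def n792 : Q := act 2 n595
theorem D792 : act 2 n595 = n792 := rfl
theorem F2975 : act 5 n792 = n596 := d15_2 (iv F2274) D792 (iv D596)
theorem F2976 : act 7 n792 = n644 := d17_2 (iv F2275) D792 (iv D644)
def n793 : Q := act 1 n596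
theorem D793 : act 1 n596 = n793 := rfl
theorem F2977 : act 2 n793 = n601 := d7_2 D596 D793 (iv D601) (iv D449) (iv F1722)
theorem F2978 : act 4 n793 = n597 := d9_2 (iv F2276) D793 (iv D597)
theorem F2979 : act 7 n793 = n645 := d12_2 (iv F2277) D793 (iv D645)
def n794 : Q := act 3 n596
theorem D794 : act 3 n596 = n794 := rfl
theorem F2980 : act 2 n794 = n794 := d13_1 D794 (iv D794) (iv D596) F1723 D596
theorem F2981 : act 7 n794 = n646 := d21_2 (iv F2277) D794 (iv D646)
def n795 : Q := act 0 n597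
theorem D795 : act 0 n597 = n795 := rfl
theorem F2982 : act 2 n795 = n603 := d1_2 (iv F2278) D795 (iv D603)
theorem F2983 : act 7 n795 = n647 := d6_2 (iv F2279) D795 (iv D647)
def n796 : Q := act 3 n597
theorem D796 : act 3 n597 = n796 := rfl
theorem F2984 : act 1 n796 = n598 := d8_1 D796 (iv D598) D597
theorem F2985 : act 2 n796 = n796 := d13_1 D796 (iv D796) F2278 F1738 (iv F2278)
theorem F2986 : act 7 n796 = n648 := d21_2 (iv F2279) D796 (iv D648)
def n797 : Q := act 4 n598
theorem D797 : act 4 n598 = n797 := rfl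
theorem F2987 : act 2 n797 = n599 := d14_1 D797 (iv D599) (iv F2280)
def n798 : Q := act 5 n599
theorem D798 : act 5 n599 = n798 := rfl
def n799 : Q := act 1 n600
theorem D799 : act 1 n600 = n799 := rfl
theorem F2993 : act 5 n799 = n601 := d10_2 (iv F2287) D799 (iv D601)
theorem F2995 : act 7 n799 = n651 := d12_2 (iv F2289) D799 (iv D651)
def n800 : Q := act 3 n600
theorem D800 : act 3 n600 = n800 := rfl
def n801 : Q := act 0 n601
theorem D801 : act 0 n601 = n801 := rfl
theorem F3003 : act 6 n801 = n801 := d5_2 F2291 D801 (iv D801)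
theorem F3004 : act 7 n801 = n653 := d6_2 (iv F2292) D801 (iv D653)
def n802 : Q := act 3 n601
theorem D802 : act 3 n601 = n802 := rfl
theorem F3005 : act 1 n802 = n602 := d8_1 D802 (iv D602) D601
theorem F3007 : act 6 n802 = n802 := d20_2 F2291 D802 (iv D802)
theorem F3008 : act 7 n802 = n654 := d21_2 (iv F2292) D802 (iv D654)
def n803 : Q := act 4 n604
theorem D803 : act 4 n604 = n803 := rfl
theorem F3009 : act 0 n803 = n803 := d3_1 D803 (iv D803) F2302
theorem F3010 : act 1 n803 = n605 := d9_1 D803 (iv D605) D604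
theorem F3011 : act 2 n803 = n803 := d14_1 D803 (iv D803) F2303
theorem F3012 : act 3 n803 = n803 := d18_1 D803 (iv D803) F2304 F1921 (iv F2304)
def n804 : Q := act 6 n604
theorem D804 : act 6 n604 = n804 := rfl
theorem F3013 : act 0 n804 = n804 := d5_1 D804 (iv D804) F2302
theorem F3014 : act 1 n804 = n606 := d11_1 D804 (iv D606) D604
theorem F3015 : act 3 n804 = n669 := d20_1 D804 (iv D669) (iv F2304)
theorem F3016 : act 5 n804 = n804 := d25_1 D804 (iv D804) F2305
def n805 : Q := act 7 n604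
theorem D805 : act 7 n604 = n805 := rfl
theorem F3017 : act 0 n805 = n805 := d6_1 D805 (iv D805) F2302
theorem F3018 : act 1 n805 = n607 := d12_1 D805 (iv D607) D604
theorem F3019 : act 2 n805 = n805 := d17_1 D805 (iv D805) F2303
theorem F3020 : act 3 n805 = n670 := d21_1 D805 (iv D670) (iv F2304)
theorem F3021 : act 5 n805 = n805 := d26_1 D805 (iv D805) F2305
def n806 : Q := act 5 n605
theorem D806 : act 5 n605 = n806 := rfl
theorem F3022 : act 0 n806 = n612 := d4_1 D806 (iv D612) (iv F2306)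
theorem F3023 : act 2 n806 = n608 := d15_1 D806 (iv D608) (iv F2307)
theorem F3024 : act 3 n806 = n806 := d19_1 D806 (iv D806) F2308
theorem F3025 : act 4 n806 = n806 := d22_1 D806 (iv D806) (iv D605) F1743 D605
def n807 : Q := act 6 n605
theorem D807 : act 6 n605 = n807 := rfl
theorem F3026 : act 0 n807 = n613 := d5_1 D807 (iv D613) (iv F2306)
theorem F3027 : act 3 n807 = n807 := d20_1 D807 (iv D807) F2308
theorem F3028 : act 4 n807 = n606 := d23_1 D807 (iv D606) D605
def n808 : Q := act 7 n605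
theorem D808 : act 7 n605 = n808 := rfl
theorem F3029 : act 0 n808 = n614 := d6_1 D808 (iv D614) (iv F2306)
theorem F3030 : act 2 n808 = n609 := d17_1 D808 (iv D609) (iv F2307)
theorem F3031 : act 3 n808 = n808 := d21_1 D808 (iv D808) F2308
theorem F3032 : act 4 n808 = n607 := d24_1 D808 (iv D607) D605
def n809 : Q := act 7 n606
theorem D809 : act 7 n606 = n809 := rfl
theorem F3033 : act 0 n809 = n615 := d6_1 D809 (iv D615) (iv F2309)
theorem F3034 : act 3 n809 = n671 := d21_1 D809 (iv D671) (iv F2310)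
theorem F3035 : act 5 n809 = n809 := d26_1 D809 (iv D809) F2311
def n810 : Q := act 6 n607
theorem D810 : act 6 n607 = n810 := rfl
theorem F3036 : act 0 n810 = n616 := d5_1 D810 (iv D616) (iv F2312)
theorem F3037 : act 3 n810 = n672 := d20_1 D810 (iv D672) (iv F2314)
theorem F3038 : act 5 n810 = n810 := d25_1 D810 (iv D810) F2315
def n811 : Q := act 7 n608
theorem D811 : act 7 n608 = n811 := rfl
theorem F3039 : act 0 n811 = n617 := d6_1 D811 (iv D617) (iv F2316)
theorem F3040 : act 1 n811 = n811 := d12_1 D811 (iv D811) F2317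
theorem F3041 : act 3 n811 = n624 := d21_1 D811 (iv D624) (iv F2318)
theorem F3042 : act 4 n811 = n811 := d24_1 D811 (iv D811) F2319
theorem F3043 : act 5 n811 = n609 := d26_1 D811 (iv D609) D608
def n812 : Q := act 6 n609
theorem D812 : act 6 n609 = n812 := rfl
theorem F3044 : act 0 n812 = n618 := d5_1 D812 (iv D618) (iv F2320)
theorem F3045 : act 1 n812 = n812 := d11_1 D812 (iv D812) F2321
theorem F3046 : act 3 n812 = n625 := d20_1 D812 (iv D625) (iv F2322)
theorem F3047 : act 4 n812 = n610 := d23_1 D812 (iv D610) (iv F2323)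
def n813 : Q := act 2 n610
theorem D813 : act 2 n610 = n813 := rfl
theorem F3048 : act 0 n813 = n619 := d1_1 D813 (iv D619) (iv F2324)
theorem F3049 : act 5 n813 = n813 := d15_2 F2327 D813 (iv D813)
def n814 : Q := act 1 n611
theorem D814 : act 1 n611 = n814 := rfl
theorem F3050 : act 0 n814 = n814 := d0_1 D814 (iv D814) F2328 F1774 (iv F2328)
theorem F3051 : act 2 n814 = n814 := d7_2 D611 D814 (iv D814) (iv D611) F1752
theorem F3052 : act 4 n814 = n627 := d9_2 (iv F2329) D814 (iv D627)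
theorem F3053 : act 5 n814 = n814 := d10_2 F2330 D814 (iv D814)
theorem F3054 : act 6 n814 = n674 := d11_2 (iv F2331) D814 (iv D674)
def n815 : Q := act 3 n611
theorem D815 : act 3 n611 = n815 := rfl
theorem F3055 : act 0 n815 = n620 := d2_1 D815 (iv D620) (iv F2328)
theorem F3056 : act 5 n815 = n815 := d19_2 F2330 D815 (iv D815)
theorem F3057 : act 6 n815 = n675 := d20_2 (iv F2331) D815 (iv D675)
def n816 : Q := act 6 n612
theorem D816 : act 6 n612 = n816 := rfl
theorem F3058 : act 1 n816 = n816 := d11_1 D816 (iv D816) F2332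
theorem F3059 : act 3 n816 = n816 := d20_1 D816 (iv D816) F2334
theorem F3060 : act 4 n816 = n816 := d23_1 D816 (iv D816) F2335
theorem F3061 : act 5 n816 = n613 := d25_1 D816 (iv D613) D612
def n817 : Q := act 7 n612
theorem D817 : act 7 n612 = n817 := rfl
theorem F3062 : act 1 n817 = n817 := d12_1 D817 (iv D817) F2332
theorem F3063 : act 2 n817 = n617 := d17_1 D817 (iv D617) (iv F2333)
theorem F3064 : act 3 n817 = n817 := d21_1 D817 (iv D817) F2334
theorem F3065 : act 4 n817 = n817 := d24_1 D817 (iv D817) F2335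
theorem F3066 : act 5 n817 = n614 := d26_1 D817 (iv D614) D612
def n818 : Q := act 7 n613
theorem D818 : act 7 n613 = n818 := rfl
theorem F3067 : act 1 n818 = n818 := d12_1 D818 (iv D818) F2336
theorem F3068 : act 3 n818 = n818 := d21_1 D818 (iv D818) F2337
theorem F3069 : act 4 n818 = n615 := d24_1 D818 (iv D615) (iv F2338)
def n819 : Q := act 6 n614
theorem D819 : act 6 n614 = n819 := rfl
theorem F3070 : act 1 n819 = n819 := d11_1 D819 (iv D819) F2339
theorem F3071 : act 3 n819 = n819 := d20_1 D819 (iv D819) F2341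
theorem F3072 : act 4 n819 = n616 := d23_1 D819 (iv D616) (iv F2342)
def n820 : Q := act 6 n615
theorem D820 : act 6 n615 = n820 := rfl
theorem F3073 : act 1 n820 = n820 := d11_1 D820 (iv D820) F2343
theorem F3074 : act 3 n820 = n676 := d20_1 D820 (iv D676) (iv F2344)
theorem F3075 : act 5 n820 = n820 := d25_1 D820 (iv D820) F2345
theorem F3076 : act 7 n820 = n616 := d27_2 D615 D820 (iv D616) (iv D457) D456
def n821 : Q := act 2 n616
theorem D821 : act 2 n616 = n821 := rfl
theorem F3077 : act 5 n821 = n821 := d15_2 F2348 D821 (iv D821)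
theorem F3078 : act 6 n821 = n619 := d16_2 D616 D821 (iv D619) (iv D460) (iv F1762)
def n822 : Q := act 6 n617
theorem D822 : act 6 n617 = n822 := rfl
theorem F3079 : act 1 n822 = n621 := d11_1 D822 (iv D621) (iv F2349)
theorem F3080 : act 3 n822 = n629 := d20_1 D822 (iv D629) (iv F2350)
theorem F3081 : act 4 n822 = n822 := d23_1 D822 (iv D822) F2351
theorem F3082 : act 5 n822 = n618 := d25_1 D822 (iv D618) (iv F2352)
def n823 : Q := act 2 n618
theorem D823 : act 2 n618 = n823 := rfl
theorem F3083 : act 4 n823 = n619 := d14_2 (iv F2355) D823 (iv D619)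
def n824 : Q := act 1 n619
theorem D824 : act 1 n619 = n824 := rfl
theorem F3084 : act 2 n824 = n623 := d7_2 D619 D824 (iv D623) (iv D464) (iv F1771)
theorem F3085 : act 5 n824 = n824 := d10_2 F2356 D824 (iv D824)
def n825 : Q := act 3 n619
theorem D825 : act 3 n619 = n825 := rfl
theorem F3086 : act 2 n825 = n620 := d13_1 D825 (iv D620) (iv D461) (iv F1772) D619
theorem F3087 : act 5 n825 = n825 := d19_2 F2356 D825 (iv D825)
def n826 : Q := act 4 n620
theorem D826 : act 4 n620 = n826 := rfl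
theorem F3088 : act 1 n826 = n826 := d9_1 D826 (iv D826) F2357
theorem F3089 : act 3 n826 = n633 := d18_1 D826 (iv D633) (iv D472) (iv F1775) D620
theorem F3090 : act 6 n826 = n680 := d23_2 (iv F2359) D826 (iv D680)
def n827 : Q := act 2 n621
theorem D827 : act 2 n621 = n827 := rfl
theorem F3091 : act 0 n827 = n827 := d1_1 D827 (iv D827) F2360
theorem F3092 : act 4 n827 = n827 := d14_2 F2362 D827 (iv D827)
theorem F3093 : act 5 n827 = n622 := d15_2 (iv F2363) D827 (iv D622)
theorem F3094 : act 6 n827 = n827 := d16_2 D621 D827 (iv D827) (iv D621) F1779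
def n828 : Q := act 1 n622
theorem D828 : act 1 n622 = n828 := rfl
theorem F3095 : act 4 n828 = n623 := d9_2 (iv F2365) D828 (iv D623)
theorem F3096 : act 6 n828 = n828 := d11_2 F2366 D828 (iv D828)
def n829 : Q := act 3 n622
theorem D829 : act 3 n622 = n829 := rfl
theorem F3097 : act 0 n829 = n829 := d2_1 D829 (iv D829) F2364
theorem F3098 : act 2 n829 = n636 := d13_1 D829 (iv D636) (iv D474) (iv F1784) D622
theorem F3099 : act 4 n829 = n829 := d18_2 (iv F2365) D829 (iv D829) F2365 F1787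
theorem F3100 : act 6 n829 = n829 := d20_2 F2366 D829 (iv D829)
def n830 : Q := act 0 n623
theorem D830 : act 0 n623 = n830 := rfl
theorem F3101 : act 1 n830 = n830 := d0_2 D623 D830 (iv D830) (iv D623) F1786
theorem F3102 : act 3 n830 = n830 := d2_2 F2367 D830 (iv D830)
theorem F3103 : act 5 n830 = n830 := d4_2 F2368 D830 (iv D830)
theorem F3104 : act 6 n830 = n830 := d5_2 F2369 D830 (iv D830)
def n831 : Q := act 6 n624
theorem D831 : act 6 n624 = n831 := rfl
theorem F3105 : act 0 n831 = n629 := d5_1 D831 (iv D629) (iv F2370)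
theorem F3106 : act 1 n831 = n831 := d11_1 D831 (iv D831) F2371
theorem F3107 : act 4 n831 = n638 := d23_1 D831 (iv D638) (iv F2373)
theorem F3108 : act 5 n831 = n625 := d25_1 D831 (iv D625) (iv F2374)
def n832 : Q := act 2 n625
theorem D832 : act 2 n625 = n832 := rfl
theorem F3109 : act 0 n832 = n630 := d1_1 D832 (iv D630) (iv F2375)
theorem F3110 : act 4 n832 = n626 := d14_2 (iv F2377) D832 (iv D626)
theorem F3111 : act 6 n832 = n832 := d16_2 D625 D832 (iv D832) (iv D625) F1796
def n833 : Q := act 1 n626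
theorem D833 : act 1 n626 = n833 := rfl
theorem F3112 : act 2 n833 = n833 := d7_2 D626 D833 (iv D833) (iv D626) F1799
theorem F3113 : act 5 n833 = n640 := d10_2 (iv F2379) D833 (iv D640)
theorem F3114 : act 6 n833 = n833 := d11_2 F2380 D833 (iv D833)
def n834 : Q := act 3 n626
theorem D834 : act 3 n626 = n834 := rfl
theorem F3115 : act 0 n834 = n632 := d2_1 D834 (iv D632) (iv F2378)
theorem F3116 : act 2 n834 = n628 := d13_1 D834 (iv D628) (iv D468) (iv F1800) D626
theorem F3117 : act 5 n834 = n641 := d19_2 (iv F2379) D834 (iv D641)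
theorem F3118 : act 6 n834 = n834 := d20_2 F2380 D834 (iv D834)
def n835 : Q := act 3 n627
theorem D835 : act 3 n627 = n835 := rfl
theorem F3120 : act 1 n835 = n628 := d8_1 D835 (iv D628) D627
def n836 : Q := act 4 n628
theorem D836 : act 4 n628 = n836 := rfl
theorem F3123 : act 0 n836 = n633 := d3_1 D836 (iv D633) (iv F2385)
theorem F3124 : act 6 n836 = n683 := d23_2 (iv F2387) D836 (iv D683)
def n837 : Q := act 2 n629
theorem D837 : act 2 n629 = n837 := rfl
theorem F3125 : act 4 n837 = n644 := d14_2 (iv F2389) D837 (iv D644)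
theorem F3126 : act 5 n837 = n630 := d15_2 (iv F2390) D837 (iv D630)
theorem F3127 : act 6 n837 = n837 := d16_2 D629 D837 (iv D837) (iv D629) F1806
def n838 : Q := act 1 n630
theorem D838 : act 1 n630 = n838 := rfl
theorem F3128 : act 2 n838 = n635 := d7_2 D630 D838 (iv D635) (iv D474) (iv F1809)
theorem F3129 : act 4 n838 = n631 := d9_2 (iv F2391) D838 (iv D631)
theorem F3130 : act 6 n838 = n838 := d11_2 F2392 D838 (iv D838)
def n839 : Q := act 3 n630
theorem D839 : act 3 n630 = n839 := rfl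
theorem F3131 : act 6 n839 = n839 := d20_2 F2392 D839 (iv D839)
def n840 : Q := act 0 n631
theorem D840 : act 0 n631 = n840 := rfl
theorem F3132 : act 2 n840 = n637 := d1_2 (iv F2393) D840 (iv D637)
theorem F3133 : act 5 n840 = n647 := d4_2 (iv F2394) D840 (iv D647)
theorem F3134 : act 6 n840 = n840 := d5_2 F2395 D840 (iv D840)
def n841 : Q := act 3 n631
theorem D841 : act 3 n631 = n841 := rfl
theorem F3135 : act 1 n841 = n632 := d8_1 D841 (iv D632) D631
theorem F3136 : act 2 n841 = n841 := d13_1 D841 (iv D841) F2393 F1822 (iv F2393)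
theorem F3137 : act 5 n841 = n648 := d19_2 (iv F2394) D841 (iv D648)
theorem F3138 : act 6 n841 = n841 := d20_2 F2395 D841 (iv D841)
def n842 : Q := act 4 n632
theorem D842 : act 4 n632 = n842 := rfl
theorem F3139 : act 2 n842 = n633 := d14_1 D842 (iv D633) (iv F2396)
theorem F3140 : act 6 n842 = n842 := d23_2 F2398 D842 (iv D842)
def n843 : Q := act 5 n633
theorem D843 : act 5 n633 = n843 := rfl
theorem F3141 : act 1 n843 = n843 := d10_1 D843 (iv D843) F2399
theorem F3142 : act 4 n843 = n650 := d22_1 D843 (iv D650) (iv D485) (iv F1814) D633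
theorem F3143 : act 6 n843 = n684 := d25_2 (iv F2400) D843 (iv D684)
def n844 : Q := act 1 n634
theorem D844 : act 1 n634 = n844 := rfl
theorem F3144 : act 4 n844 = n651 := d9_2 (iv F2402) D844 (iv D651)
theorem F3145 : act 5 n844 = n635 := d10_2 (iv F2403) D844 (iv D635)
theorem F3146 : act 6 n844 = n655 := d11_2 (iv F2404) D844 (iv D655)
def n845 : Q := act 3 n634
theorem D845 : act 3 n634 = n845 := rfl
theorem F3147 : act 0 n845 = n845 := d2_1 D845 (iv D845) F2401
theorem F3148 : act 5 n845 = n636 := d19_2 (iv F2403) D845 (iv D636)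
theorem F3149 : act 6 n845 = n656 := d20_2 (iv F2404) D845 (iv D656)
def n846 : Q := act 0 n635
theorem D846 : act 0 n635 = n846 := rfl
theorem F3151 : act 4 n846 = n637 := d3_2 (iv F2405) D846 (iv D637)
theorem F3152 : act 6 n846 = n657 := d5_2 (iv F2406) D846 (iv D657)
def n847 : Q := act 3 n635
theorem D847 : act 3 n635 = n847 := rfl
theorem F3153 : act 1 n847 = n636 := d8_1 D847 (iv D636) D635
theorem F3154 : act 4 n847 = n847 := d18_2 (iv F2405) D847 (iv D847) F2405 F1822
theorem F3155 : act 6 n847 = n658 := d20_2 (iv F2406) D847 (iv D658)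
def n848 : Q := act 2 n638
theorem D848 : act 2 n638 = n848 := rfl
theorem F3156 : act 0 n848 = n644 := d1_1 D848 (iv D644) (iv F2414)
theorem F3157 : act 5 n848 = n639 := d15_2 (iv F2417) D848 (iv D639)
theorem F3158 : act 6 n848 = n848 := d16_2 D638 D848 (iv D848) (iv D638) F1827
def n849 : Q := act 1 n639
theorem D849 : act 1 n639 = n849 := rfl
theorem F3159 : act 2 n849 = n849 := d7_2 D639 D849 (iv D849) (iv D639) F1831
theorem F3160 : act 4 n849 = n640 := d9_2 (iv F2419) D849 (iv D640)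
theorem F3161 : act 6 n849 = n849 := d11_2 F2420 D849 (iv D849)
def n850 : Q := act 3 n639
theorem D850 : act 3 n639 = n850 := rfl
theorem F3162 : act 0 n850 = n646 := d2_1 D850 (iv D646) (iv F2418)
theorem F3163 : act 2 n850 = n850 := d13_1 D850 (iv D850) (iv D639) F1832 D639
theorem F3164 : act 6 n850 = n850 := d20_2 F2420 D850 (iv D850)
def n851 : Q := act 0 n640
theorem D851 : act 0 n640 = n851 := rfl
theorem F3165 : act 1 n851 = n647 := d0_2 D640 D851 (iv D647) (iv D483) (iv F1834)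
def n852 : Q := act 3 n640
theorem D852 : act 3 n640 = n852 := rfl
theorem F3168 : act 1 n852 = n641 := d8_1 D852 (iv D641) D640
def n853 : Q := act 4 n641
theorem D853 : act 4 n641 = n853 := rfl
def n854 : Q := act 2 n642
theorem D854 : act 2 n642 = n854 := rfl
def n855 : Q := act 4 n642
theorem D855 : act 4 n642 = n855 := rfl
theorem F3178 : act 6 n855 = n686 := d23_2 (iv F2428) D855 (iv D686)
def n857 : Q := act 1 n644
theorem D857 : act 1 n644 = n857 := rfl
theorem F3182 : act 2 n857 = n651 := d7_2 D644 D857 (iv D651) (iv D486) (iv F1842)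
def n858 : Q := act 3 n644
theorem D858 : act 3 n644 = n858 := rfl
theorem F3186 : act 5 n858 = n646 := d19_2 (iv F2432) D858 (iv D646)
def n859 : Q := act 0 n645
theorem D859 : act 0 n645 = n859 := rfl
theorem F3188 : act 2 n859 = n653 := d1_2 (iv F2434) D859 (iv D653)
theorem F3189 : act 4 n859 = n647 := d3_2 (iv F2435) D859 (iv D647)
theorem F3190 : act 6 n859 = n859 := d5_2 F2436 D859 (iv D859)
def n860 : Q := act 3 n645
theorem D860 : act 3 n645 = n860 := rfl
theorem F3191 : act 1 n860 = n646 := d8_1 D860 (iv D646) D645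
def n861 : Q := act 4 n646
theorem D861 : act 4 n646 = n861 := rfl
theorem F3194 : act 3 n861 = n649 := d18_1 D861 (iv D649) (iv D484) (iv F1845) D646
def n862 : Q := act 3 n647
theorem D862 : act 3 n647 = n862 := rfl
theorem F3196 : act 0 n862 = n648 := d2_1 D862 (iv D648) D647
def n863 : Q := act 4 n648
theorem D863 : act 4 n648 = n863 := rfl
def n864 : Q := act 5 n649
theorem D864 : act 5 n649 = n864 := rfl
def n865 : Q := act 0 n651
theorem D865 : act 0 n651 = n865 := rfl
theorem F3206 : act 6 n865 = n659 := d5_2 (iv F2450) D865 (iv D659)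
def n866 : Q := act 3 n651
theorem D866 : act 3 n651 = n866 := rfl
theorem F3209 : act 6 n866 = n660 := d20_2 (iv F2450) D866 (iv D660)
def n868 : Q := act 3 n653
theorem D868 : act 3 n653 = n868 := rfl
theorem F3214 : act 0 n868 = n654 := d2_1 D868 (iv D654) D653
theorem F3217 : act 6 n868 = n662 := d20_2 (iv F2457) D868 (iv D662)
def n869 : Q := act 2 n654
theorem D869 : act 2 n654 = n869 := rfl
def n870 : Q := act 0 n655
theorem D870 : act 0 n655 = n870 := rfl
theorem F3222 : act 4 n870 = n659 := d3_2 (iv F2462) D870 (iv D659)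
theorem F3223 : act 5 n870 = n657 := d4_2 (iv F2463) D870 (iv D657)
def n871 : Q := act 3 n655
theorem D871 : act 3 n655 = n871 := rfl
theorem F3225 : act 1 n871 = n656 := d8_1 D871 (iv D656) D655
theorem F3226 : act 5 n871 = n658 := d19_2 (iv F2463) D871 (iv D658)
theorem F3227 : act 7 n871 = n871 := d21_2 F2464 D871 (iv D871)
def n872 : Q := act 4 n656
theorem D872 : act 4 n656 = n872 := rfl
theorem F3228 : act 0 n872 = n872 := d3_1 D872 (iv D872) F2465
theorem F3229 : act 2 n872 = n872 := d14_1 D872 (iv D872) F2466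
theorem F3230 : act 3 n872 = n661 := d18_1 D872 (iv D661) (iv D495) (iv F1867) D656
theorem F3231 : act 5 n872 = n872 := d22_2 (iv F2467) D872 (iv D872) F2467 F1875
theorem F3232 : act 7 n872 = n872 := d24_2 F2468 D872 (iv D872)
def n873 : Q := act 3 n657
theorem D873 : act 3 n657 = n873 := rfl
theorem F3233 : act 0 n873 = n658 := d2_1 D873 (iv D658) D657
theorem F3234 : act 1 n873 = n873 := d8_1 D873 (iv D873) F2469
theorem F3235 : act 4 n873 = n873 := d18_2 (iv F2471) D873 (iv D873) F2471 F1879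
theorem F3236 : act 7 n873 = n873 := d21_2 F2472 D873 (iv D873)
def n874 : Q := act 2 n658
theorem D874 : act 2 n658 = n874 := rfl
theorem F3237 : act 1 n874 = n874 := d7_1 D874 (iv D874) F2473 F1874 (iv F2473)
theorem F3238 : act 3 n874 = n874 := d13_2 D658 D874 (iv D874) (iv D658) F1870
theorem F3239 : act 4 n874 = n874 := d14_2 F2474 D874 (iv D874)
theorem F3240 : act 7 n874 = n874 := d17_2 F2475 D874 (iv D874)
def n875 : Q := act 3 n659
theorem D875 : act 3 n659 = n875 := rfl
theorem F3241 : act 0 n875 = n660 := d2_1 D875 (iv D660) D659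
theorem F3243 : act 5 n875 = n662 := d19_2 (iv F2478) D875 (iv D662)
def n876 : Q := act 2 n660
theorem D876 : act 2 n660 = n876 := rfl
theorem F3245 : act 1 n876 = n665 := d7_1 D876 (iv D665) F1902 (iv F1886) (iv F2480)
def n877 : Q := act 4 n660
theorem D877 : act 4 n660 = n877 := rfl
def n878 : Q := act 2 n662
theorem D878 : act 2 n662 = n878 := rfl
theorem F3252 : act 0 n878 = n663 := d1_1 D878 (iv D663) (iv F2487)
def n879 : Q := act 6 n663
theorem D879 : act 6 n663 = n879 := rfl
theorem F3256 : act 1 n879 = n668 := d11_1 D879 (iv D668) (iv F2491)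
def n880 : Q := act 2 n664
theorem D880 : act 2 n664 = n880 := rfl
theorem F3259 : act 0 n880 = n665 := d1_1 D880 (iv D665) (iv F2495)
theorem F3261 : act 5 n880 = n667 := d15_2 (iv F2497) D880 (iv D667)
def n881 : Q := act 4 n664
theorem D881 : act 4 n664 = n881 := rfl
theorem F3265 : act 3 n881 = n881 := d18_1 D881 (iv D881) (iv D664) F1898 D664
def n882 : Q := act 4 n665
theorem D882 : act 4 n665 = n882 := rfl
theorem F3269 : act 2 n882 = n666 := d14_1 D882 (iv D666) D665
def n883 : Q := act 6 n665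
theorem D883 : act 6 n665 = n883 := rfl
def n884 : Q := act 1 n667
theorem D884 : act 1 n667 = n884 := rfl
def n886 : Q := act 7 n668
theorem D886 : act 7 n668 = n886 := rfl
theorem F3283 : act 2 n886 = n886 := d17_1 D886 (iv D886) F2512
def n887 : Q := act 2 n669
theorem D887 : act 2 n669 = n887 := rfl
theorem F3287 : act 0 n887 = n887 := d1_1 D887 (iv D887) F2515
theorem F3288 : act 1 n887 = n887 := d7_1 D887 (iv D887) F2516 F1924 (iv F2516)
theorem F3289 : act 4 n887 = n887 := d14_2 F2517 D887 (iv D887)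
theorem F3290 : act 5 n887 = n887 := d15_2 F2518 D887 (iv D887)
theorem F3291 : act 6 n887 = n688 := d16_2 D669 D887 (iv D688) (iv D519) (iv F1920)
def n888 : Q := act 7 n669
theorem D888 : act 7 n669 = n888 := rfl
theorem F3292 : act 0 n888 = n888 := d6_1 D888 (iv D888) F2515
theorem F3293 : act 1 n888 = n671 := d12_1 D888 (iv D671) (iv F2516)
theorem F3294 : act 4 n888 = n888 := d24_1 D888 (iv D888) F2517
theorem F3295 : act 5 n888 = n888 := d26_1 D888 (iv D888) F2518
def n889 : Q := act 6 n670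
theorem D889 : act 6 n670 = n889 := rfl
theorem F3296 : act 0 n889 = n889 := d5_1 D889 (iv D889) F2519
theorem F3297 : act 1 n889 = n672 := d11_1 D889 (iv D672) (iv F2520)
theorem F3298 : act 4 n889 = n889 := d23_1 D889 (iv D889) F2522
theorem F3299 : act 5 n889 = n889 := d25_1 D889 (iv D889) F2523
def n890 : Q := act 6 n671
theorem D890 : act 6 n671 = n890 := rfl
theorem F3300 : act 0 n890 = n676 := d5_1 D890 (iv D676) (iv F2524)
theorem F3301 : act 4 n890 = n890 := d23_1 D890 (iv D890) F2526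
theorem F3302 : act 5 n890 = n890 := d25_1 D890 (iv D890) F2527
theorem F3303 : act 7 n890 = n672 := d27_2 D671 D890 (iv D672) (iv D505) D504
def n891 : Q := act 2 n672
theorem D891 : act 2 n672 = n891 := rfl
theorem F3304 : act 0 n891 = n677 := d1_1 D891 (iv D677) (iv F2528)
theorem F3305 : act 4 n891 = n891 := d14_2 F2529 D891 (iv D891)
theorem F3306 : act 5 n891 = n891 := d15_2 F2530 D891 (iv D891)
theorem F3307 : act 6 n891 = n673 := d16_2 D672 D891 (iv D673) (iv D506) (iv F1928)
def n892 : Q := act 1 n673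
theorem D892 : act 1 n673 = n892 := rfl
def n893 : Q := act 3 n673
theorem D893 : act 3 n673 = n893 := rfl
theorem F3312 : act 0 n893 = n679 := d2_1 D893 (iv D679) (iv F2531)
theorem F3313 : act 2 n893 = n675 := d13_1 D893 (iv D675) (iv D507) (iv F1933) D673
theorem F3314 : act 5 n893 = n893 := d19_2 F2533 D893 (iv D893)
theorem F3315 : act 7 n893 = n893 := d21_2 F2534 D893 (iv D893)
def n894 : Q := act 3 n674
theorem D894 : act 3 n674 = n894 := rfl
theorem F3317 : act 1 n894 = n675 := d8_1 D894 (iv D675) D674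
def n895 : Q := act 4 n675
theorem D895 : act 4 n675 = n895 := rfl
def n896 : Q := act 2 n676
theorem D896 : act 2 n676 = n896 := rfl
theorem F3323 : act 4 n896 = n896 := d14_2 F2544 D896 (iv D896)
theorem F3324 : act 5 n896 = n896 := d15_2 F2545 D896 (iv D896)
theorem F3325 : act 6 n896 = n896 := d16_2 D676 D896 (iv D896) (iv D676) F1942
theorem F3326 : act 7 n896 = n677 := d17_2 (iv F2546) D896 (iv D677)
def n897 : Q := act 1 n677
theorem D897 : act 1 n677 = n897 := rfl
theorem F3327 : act 2 n897 = n897 := d7_2 D677 D897 (iv D897) (iv D677) F1945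
theorem F3328 : act 4 n897 = n897 := d9_2 F2547 D897 (iv D897)
theorem F3329 : act 5 n897 = n897 := d10_2 F2548 D897 (iv D897)
theorem F3330 : act 6 n897 = n678 := d11_2 (iv F2549) D897 (iv D678)
def n898 : Q := act 3 n677
theorem D898 : act 3 n677 = n898 := rfl
theorem F3331 : act 5 n898 = n898 := d19_2 F2548 D898 (iv D898)
theorem F3332 : act 6 n898 = n679 := d20_2 (iv F2549) D898 (iv D679)
def n899 : Q := act 0 n678
theorem D899 : act 0 n678 = n899 := rfl
def n900 : Q := act 3 n678
theorem D900 : act 3 n678 = n900 := rfl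
theorem F3337 : act 1 n900 = n679 := d8_1 D900 (iv D679) D678
theorem F3338 : act 2 n900 = n900 := d13_1 D900 (iv D900) F2550 F1954 (iv F2550)
theorem F3339 : act 5 n900 = n900 := d19_2 F2552 D900 (iv D900)
theorem F3340 : act 7 n900 = n900 := d21_2 F2553 D900 (iv D900)
def n901 : Q := act 4 n679
theorem D901 : act 4 n679 = n901 := rfl
theorem F3341 : act 2 n901 = n680 := d14_1 D901 (iv D680) (iv F2554)
theorem F3342 : act 3 n901 = n901 := d18_1 D901 (iv D901) (iv D679) F1948 D679
theorem F3343 : act 7 n901 = n901 := d24_2 F2556 D901 (iv D901)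
def n902 : Q := act 5 n680
theorem D902 : act 5 n680 = n902 := rfl
def n906 : Q := act 4 n685
theorem D906 : act 4 n685 = n906 := rfl
theorem F3362 : act 2 n906 = n686 := d14_1 D906 (iv D686) D685
def n909 : Q := act 3 n688
theorem D909 : act 3 n688 = n909 := rfl
theorem F3371 : act 0 n909 = n909 := d2_1 D909 (iv D909) F2589
theorem F3372 : act 1 n909 = n909 := d8_1 D909 (iv D909) F2590
theorem F3373 : act 2 n909 = n909 := d13_1 D909 (iv D909) (iv D688) F1983 D688
theorem F3374 : act 5 n909 = n909 := d19_2 F2592 D909 (iv D909)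
def n910 : Q := act 7 n688
theorem D910 : act 7 n688 = n910 := rfl
theorem F3377 : act 2 n910 = n689 := d17_1 D910 (iv D689) D688
def n912 : Q := act 2 n690
theorem D912 : act 2 n690 = n912 := rfl
def n933 : Q := act 3 n707
theorem D933 : act 3 n707 = n933 := rfl
def n937 : Q := act 1 n710
theorem D937 : act 1 n710 = n937 := rfl
theorem F3485 : act 0 n937 = n724 := d0_1 D937 (iv D724) F2099 (iv F2073) (iv F2680)
theorem F3486 : act 2 n937 = n937 := d7_2 D710 D937 (iv D937) (iv D710) F2065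
theorem F3487 : act 3 n937 = n937 := d8_2 F2681 D937 (iv D937)
theorem F3488 : act 5 n937 = n937 := d10_2 F2682 D937 (iv D937)
def n938 : Q := act 4 n710
theorem D938 : act 4 n710 = n938 := rfl
theorem F3489 : act 0 n938 = n714 := d3_1 D938 (iv D714) (iv F2680)
theorem F3490 : act 2 n938 = n711 := d14_1 D938 (iv D711) D710
def n939 : Q := act 6 n710
theorem D939 : act 6 n710 = n939 := rfl
theorem F3491 : act 0 n939 = n715 := d5_1 D939 (iv D715) (iv F2680)
theorem F3492 : act 2 n939 = n939 := d16_1 D939 (iv D939) (iv D710) F2067 D710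
theorem F3493 : act 3 n939 = n939 := d20_1 D939 (iv D939) F2681
theorem F3494 : act 5 n939 = n939 := d25_1 D939 (iv D939) F2682
def n940 : Q := act 7 n710
theorem D940 : act 7 n710 = n940 := rfl
theorem F3495 : act 0 n940 = n716 := d6_1 D940 (iv D716) (iv F2680)
theorem F3496 : act 2 n940 = n712 := d17_1 D940 (iv D712) D710
theorem F3497 : act 3 n940 = n940 := d21_1 D940 (iv D940) F2681
theorem F3498 : act 5 n940 = n940 := d26_1 D940 (iv D940) F2682
def n941 : Q := act 5 n711
theorem D941 : act 5 n711 = n941 := rfl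
theorem F3499 : act 0 n941 = n717 := d4_1 D941 (iv D717) (iv F2683)
theorem F3500 : act 1 n941 = n941 := d10_1 D941 (iv D941) F2684
theorem F3501 : act 3 n941 = n941 := d19_1 D941 (iv D941) F2685
theorem F3502 : act 4 n941 = n941 := d22_1 D941 (iv D941) (iv D711) F2066 D711
theorem F3503 : act 6 n941 = n941 := d25_2 F2686 D941 (iv D941)
def n942 : Q := act 7 n711
theorem D942 : act 7 n711 = n942 := rfl
theorem F3504 : act 0 n942 = n718 := d6_1 D942 (iv D718) (iv F2683)
theorem F3505 : act 1 n942 = n942 := d12_1 D942 (iv D942) F2684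
theorem F3506 : act 3 n942 = n942 := d21_1 D942 (iv D942) F2685
theorem F3507 : act 4 n942 = n712 := d24_1 D942 (iv D712) D711
def n943 : Q := act 6 n712
theorem D943 : act 6 n712 = n943 := rfl
theorem F3508 : act 0 n943 = n719 := d5_1 D943 (iv D719) (iv F2687)
theorem F3509 : act 1 n943 = n943 := d11_1 D943 (iv D943) F2688
theorem F3510 : act 3 n943 = n713 := d20_1 D943 (iv D713) (iv F2689)
theorem F3511 : act 5 n943 = n943 := d25_1 D943 (iv D943) F2690
theorem F3512 : act 7 n943 = n943 := d27_2 D712 D943 (iv D943) (iv D712) F2067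
def n944 : Q := act 2 n713
theorem D944 : act 2 n713 = n944 := rfl
theorem F3513 : act 0 n944 = n720 := d1_1 D944 (iv D720) (iv F2691)
theorem F3514 : act 4 n944 = n944 := d14_2 F2693 D944 (iv D944)
theorem F3515 : act 5 n944 = n944 := d15_2 F2694 D944 (iv D944)
theorem F3516 : act 6 n944 = n944 := d16_2 D713 D944 (iv D944) (iv D713) F2070
theorem F3517 : act 7 n944 = n944 := d17_2 F2695 D944 (iv D944)
def n945 : Q := act 3 n714
theorem D945 : act 3 n714 = n945 := rfl
theorem F3518 : act 1 n945 = n732 := d8_1 D945 (iv D732) (iv F2696)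
theorem F3519 : act 2 n945 = n945 := d13_1 D945 (iv D945) F2697 F2077 (iv F2697)
theorem F3520 : act 4 n945 = n945 := d18_2 D714 D945 (iv D945) (iv D714) F2074
def n946 : Q := act 5 n714
theorem D946 : act 5 n714 = n946 := rfl
theorem F3521 : act 1 n946 = n733 := d10_1 D946 (iv D733) (iv F2696)
theorem F3522 : act 2 n946 = n717 := d15_1 D946 (iv D717) (iv F2697)
theorem F3523 : act 4 n946 = n946 := d22_1 D946 (iv D946) (iv D714) F2075 D714
def n947 : Q := act 6 n714
theorem D947 : act 6 n714 = n947 := rfl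
theorem F3524 : act 1 n947 = n734 := d11_1 D947 (iv D734) (iv F2696)
theorem F3525 : act 2 n947 = n947 := d16_1 D947 (iv D947) F2697 F2078 (iv F2697)
theorem F3526 : act 4 n947 = n715 := d23_1 D947 (iv D715) D714
def n948 : Q := act 7 n714
theorem D948 : act 7 n714 = n948 := rfl
theorem F3527 : act 1 n948 = n735 := d12_1 D948 (iv D735) (iv F2696)
theorem F3528 : act 2 n948 = n718 := d17_1 D948 (iv D718) (iv F2697)
theorem F3529 : act 4 n948 = n716 := d24_1 D948 (iv D716) D714
def n949 : Q := act 7 n715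
theorem D949 : act 7 n715 = n949 := rfl
theorem F3530 : act 1 n949 = n736 := d12_1 D949 (iv D736) (iv F2698)
theorem F3531 : act 2 n949 = n949 := d17_1 D949 (iv D949) F2699
theorem F3532 : act 3 n949 = n949 := d21_1 D949 (iv D949) F2700
theorem F3533 : act 5 n949 = n949 := d26_1 D949 (iv D949) F2701
def n950 : Q := act 6 n716
theorem D950 : act 6 n716 = n950 := rfl
theorem F3534 : act 1 n950 = n737 := d11_1 D950 (iv D737) (iv F2702)
theorem F3535 : act 3 n950 = n950 := d20_1 D950 (iv D950) F2704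
theorem F3536 : act 5 n950 = n950 := d25_1 D950 (iv D950) F2705
def n951 : Q := act 7 n717
theorem D951 : act 7 n717 = n951 := rfl
theorem F3537 : act 1 n951 = n721 := d12_1 D951 (iv D721) (iv F2706)
theorem F3538 : act 3 n951 = n951 := d21_1 D951 (iv D951) F2707
theorem F3539 : act 4 n951 = n951 := d24_1 D951 (iv D951) F2708
theorem F3540 : act 5 n951 = n718 := d26_1 D951 (iv D718) D717
def n952 : Q := act 6 n718
theorem D952 : act 6 n718 = n952 := rfl
theorem F3541 : act 1 n952 = n722 := d11_1 D952 (iv D722) (iv F2710)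
theorem F3542 : act 3 n952 = n952 := d20_1 D952 (iv D952) F2711
theorem F3543 : act 4 n952 = n719 := d23_1 D952 (iv D719) (iv F2712)
theorem F3544 : act 7 n952 = n952 := d27_2 D718 D952 (iv D952) (iv D718) F2078
def n953 : Q := act 2 n719
theorem D953 : act 2 n719 = n953 := rfl
theorem F3545 : act 5 n953 = n953 := d15_2 F2715 D953 (iv D953)
theorem F3546 : act 7 n953 = n953 := d17_2 F2716 D953 (iv D953)
def n954 : Q := act 3 n720
theorem D954 : act 3 n720 = n954 := rfl
theorem F3547 : act 1 n954 = n954 := d8_1 D954 (iv D954) F2717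
theorem F3548 : act 5 n954 = n954 := d19_2 F2719 D954 (iv D954)
theorem F3549 : act 6 n954 = n954 := d20_2 F2720 D954 (iv D954)
theorem F3550 : act 7 n954 = n954 := d21_2 F2721 D954 (iv D954)
def n955 : Q := act 6 n721
theorem D955 : act 6 n721 = n955 := rfl
theorem F3551 : act 0 n955 = n955 := d5_1 D955 (iv D955) F2722
theorem F3552 : act 3 n955 = n955 := d20_1 D955 (iv D955) F2724
theorem F3553 : act 4 n955 = n955 := d23_1 D955 (iv D955) F2725
theorem F3554 : act 5 n955 = n722 := d25_1 D955 (iv D722) (iv F2726)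
theorem F3555 : act 7 n955 = n955 := d27_2 D721 D955 (iv D955) (iv D721) F2090
def n956 : Q := act 2 n722
theorem D956 : act 2 n722 = n956 := rfl
theorem F3556 : act 0 n956 = n956 := d1_1 D956 (iv D956) F2727
theorem F3557 : act 4 n956 = n723 := d14_2 (iv F2729) D956 (iv D723)
theorem F3558 : act 6 n956 = n743 := d16_2 D722 D956 (iv D743) (iv D559) (iv F2092)
theorem F3559 : act 7 n956 = n956 := d17_2 F2730 D956 (iv D956)
def n957 : Q := act 1 n723
theorem D957 : act 1 n723 = n957 := rfl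
theorem F3560 : act 3 n957 = n957 := d8_2 F2732 D957 (iv D957)
theorem F3561 : act 5 n957 = n957 := d10_2 F2733 D957 (iv D957)
theorem F3562 : act 6 n957 = n744 := d11_2 (iv F2734) D957 (iv D744)
theorem F3563 : act 7 n957 = n957 := d12_2 F2735 D957 (iv D957)
def n958 : Q := act 4 n724
theorem D958 : act 4 n724 = n958 := rfl
theorem F3564 : act 1 n958 = n725 := d9_1 D958 (iv D725) D724
theorem F3565 : act 2 n958 = n958 := d14_1 D958 (iv D958) F2736
def n959 : Q := act 6 n724
theorem D959 : act 6 n724 = n959 := rfl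
theorem F3566 : act 1 n959 = n726 := d11_1 D959 (iv D726) D724
theorem F3567 : act 3 n959 = n959 := d20_1 D959 (iv D959) F2737
theorem F3568 : act 5 n959 = n959 := d25_1 D959 (iv D959) F2738
def n960 : Q := act 7 n724
theorem D960 : act 7 n724 = n960 := rfl
theorem F3569 : act 1 n960 = n727 := d12_1 D960 (iv D727) D724
theorem F3570 : act 2 n960 = n960 := d17_1 D960 (iv D960) F2736
theorem F3571 : act 3 n960 = n960 := d21_1 D960 (iv D960) F2737
theorem F3572 : act 5 n960 = n960 := d26_1 D960 (iv D960) F2738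
def n961 : Q := act 3 n725
theorem D961 : act 3 n725 = n961 := rfl
theorem F3573 : act 0 n961 = n732 := d2_1 D961 (iv D732) (iv F2739)
theorem F3574 : act 2 n961 = n747 := d13_1 D961 (iv D747) F2156 (iv F2104) (iv F2740)
theorem F3575 : act 4 n961 = n961 := d18_2 D725 D961 (iv D961) (iv D725) F2100
def n962 : Q := act 5 n725
theorem D962 : act 5 n725 = n962 := rfl
theorem F3576 : act 0 n962 = n733 := d4_1 D962 (iv D733) (iv F2739)
theorem F3577 : act 2 n962 = n728 := d15_1 D962 (iv D728) (iv F2740)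
theorem F3578 : act 4 n962 = n962 := d22_1 D962 (iv D962) (iv D725) F2101 D725
def n963 : Q := act 6 n725
theorem D963 : act 6 n725 = n963 := rfl
theorem F3579 : act 0 n963 = n734 := d5_1 D963 (iv D734) (iv F2739)
theorem F3580 : act 2 n963 = n807 := d16_1 D963 (iv D807) F2307 (iv F2105) (iv F2740)
theorem F3581 : act 4 n963 = n726 := d23_1 D963 (iv D726) D725
def n964 : Q := act 7 n725
theorem D964 : act 7 n725 = n964 := rfl
theorem F3582 : act 0 n964 = n735 := d6_1 D964 (iv D735) (iv F2739)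
theorem F3583 : act 2 n964 = n729 := d17_1 D964 (iv D729) (iv F2740)
theorem F3584 : act 4 n964 = n727 := d24_1 D964 (iv D727) D725
def n965 : Q := act 7 n726
theorem D965 : act 7 n726 = n965 := rfl
theorem F3585 : act 0 n965 = n736 := d6_1 D965 (iv D736) (iv F2741)
theorem F3586 : act 2 n965 = n809 := d17_1 D965 (iv D809) (iv F2742)
theorem F3587 : act 3 n965 = n965 := d21_1 D965 (iv D965) F2743
theorem F3588 : act 5 n965 = n965 := d26_1 D965 (iv D965) F2744
def n966 : Q := act 6 n727
theorem D966 : act 6 n727 = n966 := rfl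
theorem F3589 : act 0 n966 = n737 := d5_1 D966 (iv D737) (iv F2745)
theorem F3590 : act 3 n966 = n966 := d20_1 D966 (iv D966) F2747
theorem F3591 : act 5 n966 = n966 := d25_1 D966 (iv D966) F2748
def n967 : Q := act 7 n728
theorem D967 : act 7 n728 = n967 := rfl
theorem F3592 : act 0 n967 = n738 := d6_1 D967 (iv D738) (iv F2749)
theorem F3593 : act 1 n967 = n967 := d12_1 D967 (iv D967) F2750
theorem F3594 : act 3 n967 = n751 := d21_1 D967 (iv D751) (iv F2751)
theorem F3595 : act 4 n967 = n967 := d24_1 D967 (iv D967) F2752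
theorem F3596 : act 5 n967 = n729 := d26_1 D967 (iv D729) D728
def n968 : Q := act 6 n729
theorem D968 : act 6 n729 = n968 := rfl
theorem F3597 : act 0 n968 = n739 := d5_1 D968 (iv D739) (iv F2754)
theorem F3598 : act 1 n968 = n968 := d11_1 D968 (iv D968) F2755
theorem F3599 : act 3 n968 = n752 := d20_1 D968 (iv D752) (iv F2756)
theorem F3600 : act 4 n968 = n730 := d23_1 D968 (iv D730) (iv F2757)
theorem F3601 : act 7 n968 = n812 := d27_2 D729 D968 (iv D812) (iv D609) (iv F2105)
def n969 : Q := act 2 n730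
theorem D969 : act 2 n730 = n969 := rfl
theorem F3602 : act 0 n969 = n740 := d1_1 D969 (iv D740) (iv F2758)
theorem F3603 : act 5 n969 = n969 := d15_2 F2761 D969 (iv D969)
theorem F3604 : act 7 n969 = n813 := d17_2 (iv F2762) D969 (iv D813)
def n970 : Q := act 1 n731
theorem D970 : act 1 n731 = n970 := rfl
theorem F3605 : act 0 n970 = n970 := d0_1 D970 (iv D970) F2763 F2133 (iv F2763)
theorem F3606 : act 2 n970 = n970 := d7_2 D731 D970 (iv D970) (iv D731) F2111
theorem F3607 : act 4 n970 = n754 := d9_2 (iv F2764) D970 (iv D754)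
theorem F3608 : act 5 n970 = n970 := d10_2 F2765 D970 (iv D970)
theorem F3609 : act 6 n970 = n970 := d11_2 F2766 D970 (iv D970)
theorem F3610 : act 7 n970 = n814 := d12_2 (iv F2767) D970 (iv D814)
def n971 : Q := act 3 n731
theorem D971 : act 3 n731 = n971 := rfl
theorem F3611 : act 0 n971 = n741 := d2_1 D971 (iv D741) (iv F2763)
theorem F3612 : act 5 n971 = n971 := d19_2 F2765 D971 (iv D971)
theorem F3613 : act 6 n971 = n971 := d20_2 F2766 D971 (iv D971)
theorem F3614 : act 7 n971 = n815 := d21_2 (iv F2767) D971 (iv D815)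
def n972 : Q := act 5 n732
theorem D972 : act 5 n732 = n972 := rfl
theorem F3615 : act 2 n972 = n756 := d15_1 D972 (iv D756) (iv F2768)
theorem F3616 : act 3 n972 = n733 := d19_1 D972 (iv D733) D732
def n973 : Q := act 6 n732
theorem D973 : act 6 n732 = n973 := rfl
theorem F3617 : act 2 n973 = n973 := d16_1 D973 (iv D973) F2768 F2180 (iv F2768)
theorem F3618 : act 3 n973 = n734 := d20_1 D973 (iv D734) D732
theorem F3619 : act 4 n973 = n973 := d23_1 D973 (iv D973) F2769
def n974 : Q := act 7 n732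
theorem D974 : act 7 n732 = n974 := rfl
theorem F3620 : act 2 n974 = n757 := d17_1 D974 (iv D757) (iv F2768)
theorem F3621 : act 3 n974 = n735 := d21_1 D974 (iv D735) D732
theorem F3622 : act 4 n974 = n974 := d24_1 D974 (iv D974) F2769
def n975 : Q := act 6 n733
theorem D975 : act 6 n733 = n975 := rfl
theorem F3623 : act 2 n975 = n816 := d16_1 D975 (iv D816) F2333 (iv F2125) (iv F2770)
theorem F3624 : act 4 n975 = n975 := d23_1 D975 (iv D975) F2771
theorem F3625 : act 5 n975 = n734 := d25_1 D975 (iv D734) D733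
def n976 : Q := act 7 n733
theorem D976 : act 7 n733 = n976 := rfl
theorem F3626 : act 2 n976 = n738 := d17_1 D976 (iv D738) (iv F2770)
theorem F3627 : act 4 n976 = n976 := d24_1 D976 (iv D976) F2771
theorem F3628 : act 5 n976 = n735 := d26_1 D976 (iv D735) D733
def n977 : Q := act 7 n734
theorem D977 : act 7 n734 = n977 := rfl
theorem F3629 : act 2 n977 = n818 := d17_1 D977 (iv D818) (iv F2772)
theorem F3630 : act 4 n977 = n736 := d24_1 D977 (iv D736) (iv F2773)
def n978 : Q := act 6 n735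
theorem D978 : act 6 n735 = n978 := rfl
theorem F3631 : act 4 n978 = n737 := d23_1 D978 (iv D737) (iv F2775)
def n979 : Q := act 6 n736
theorem D979 : act 6 n736 = n979 := rfl
theorem F3632 : act 3 n979 = n979 := d20_1 D979 (iv D979) F2777
theorem F3633 : act 5 n979 = n979 := d25_1 D979 (iv D979) F2778
theorem F3634 : act 7 n979 = n737 := d27_2 D736 D979 (iv D737) (iv D553) D552
def n980 : Q := act 2 n737
theorem D980 : act 2 n737 = n980 := rfl
theorem F3635 : act 5 n980 = n980 := d15_2 F2780 D980 (iv D980)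
theorem F3636 : act 6 n980 = n740 := d16_2 D737 D980 (iv D740) (iv D556) (iv F2119)
def n981 : Q := act 6 n738
theorem D981 : act 6 n738 = n981 := rfl
theorem F3637 : act 1 n981 = n742 := d11_1 D981 (iv D742) (iv F2781)
theorem F3638 : act 3 n981 = n761 := d20_1 D981 (iv D761) (iv F2782)
theorem F3639 : act 4 n981 = n981 := d23_1 D981 (iv D981) F2783
theorem F3640 : act 5 n981 = n739 := d25_1 D981 (iv D739) (iv F2784)
theorem F3641 : act 7 n981 = n822 := d27_2 D738 D981 (iv D822) (iv D617) (iv F2125)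
def n982 : Q := act 2 n739
theorem D982 : act 2 n739 = n982 := rfl
theorem F3642 : act 4 n982 = n740 := d14_2 (iv F2787) D982 (iv D740)
theorem F3643 : act 7 n982 = n823 := d17_2 (iv F2788) D982 (iv D823)
def n983 : Q := act 1 n740
theorem D983 : act 1 n740 = n983 := rfl
theorem F3644 : act 2 n983 = n744 := d7_2 D740 D983 (iv D744) (iv D560) (iv F2129)
theorem F3645 : act 5 n983 = n983 := d10_2 F2789 D983 (iv D983)
theorem F3646 : act 7 n983 = n824 := d12_2 (iv F2790) D983 (iv D824)
def n984 : Q := act 3 n740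
theorem D984 : act 3 n740 = n984 := rfl
theorem F3647 : act 2 n984 = n741 := d13_1 D984 (iv D741) (iv D557) (iv F2130) D740
theorem F3648 : act 5 n984 = n984 := d19_2 F2789 D984 (iv D984)
theorem F3649 : act 7 n984 = n825 := d21_2 (iv F2790) D984 (iv D825)
def n985 : Q := act 4 n741
theorem D985 : act 4 n741 = n985 := rfl
theorem F3650 : act 1 n985 = n985 := d9_1 D985 (iv D985) F2791
theorem F3651 : act 3 n985 = n765 := d18_1 D985 (iv D765) (iv D575) (iv F2134) D741
theorem F3652 : act 6 n985 = n985 := d23_2 F2793 D985 (iv D985)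
theorem F3653 : act 7 n985 = n826 := d24_2 (iv F2794) D985 (iv D826)
def n986 : Q := act 2 n742
theorem D986 : act 2 n742 = n986 := rfl
theorem F3654 : act 0 n986 = n986 := d1_1 D986 (iv D986) F2795
theorem F3655 : act 4 n986 = n986 := d14_2 F2797 D986 (iv D986)
theorem F3656 : act 5 n986 = n743 := d15_2 (iv F2798) D986 (iv D743)
theorem F3657 : act 7 n986 = n827 := d17_2 (iv F2799) D986 (iv D827)
def n987 : Q := act 1 n743
theorem D987 : act 1 n743 = n987 := rfl
theorem F3658 : act 4 n987 = n744 := d9_2 (iv F2801) D987 (iv D744)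
theorem F3659 : act 7 n987 = n828 := d12_2 (iv F2802) D987 (iv D828)
def n988 : Q := act 3 n743
theorem D988 : act 3 n743 = n988 := rfl
theorem F3660 : act 0 n988 = n988 := d2_1 D988 (iv D988) F2800
theorem F3661 : act 2 n988 = n768 := d13_1 D988 (iv D768) (iv D577) (iv F2143) D743
theorem F3662 : act 4 n988 = n988 := d18_2 (iv F2801) D988 (iv D988) F2801 F2147
theorem F3663 : act 7 n988 = n829 := d21_2 (iv F2802) D988 (iv D829)
def n989 : Q := act 0 n744
theorem D989 : act 0 n744 = n989 := rfl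
theorem F3664 : act 1 n989 = n989 := d0_2 D744 D989 (iv D989) (iv D744) F2146
theorem F3665 : act 3 n989 = n989 := d2_2 F2803 D989 (iv D989)
theorem F3666 : act 5 n989 = n989 := d4_2 F2804 D989 (iv D989)
theorem F3667 : act 7 n989 = n830 := d6_2 (iv F2805) D989 (iv D830)
def n990 : Q := act 3 n745
theorem D990 : act 3 n745 = n990 := rfl
theorem F3668 : act 0 n990 = n990 := d2_1 D990 (iv D990) F2806
theorem F3669 : act 1 n990 = n747 := d8_1 D990 (iv D747) (iv F2807)
theorem F3670 : act 4 n990 = n990 := d18_2 D745 D990 (iv D990) (iv D745) F2152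
theorem F3671 : act 6 n990 = n990 := d20_2 F2809 D990 (iv D990)
def n991 : Q := act 5 n745
theorem D991 : act 5 n745 = n991 := rfl
theorem F3672 : act 0 n991 = n991 := d4_1 D991 (iv D991) F2806
theorem F3673 : act 1 n991 = n748 := d10_1 D991 (iv D748) (iv F2807)
theorem F3674 : act 2 n991 = n991 := d15_1 D991 (iv D991) F2808
theorem F3675 : act 4 n991 = n771 := d22_1 D991 (iv D771) (iv D579) (iv F2153) D745
theorem F3676 : act 6 n991 = n991 := d25_2 F2809 D991 (iv D991)
def n992 : Q := act 7 n745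
theorem D992 : act 7 n745 = n992 := rfl
theorem F3677 : act 0 n992 = n992 := d6_1 D992 (iv D992) F2806
theorem F3678 : act 1 n992 = n749 := d12_1 D992 (iv D749) (iv F2807)
theorem F3679 : act 2 n992 = n992 := d17_1 D992 (iv D992) F2808
theorem F3680 : act 4 n992 = n746 := d24_1 D992 (iv D746) D745
def n993 : Q := act 6 n746
theorem D993 : act 6 n746 = n993 := rfl
theorem F3681 : act 0 n993 = n993 := d5_1 D993 (iv D993) F2810
theorem F3682 : act 1 n993 = n750 := d11_1 D993 (iv D750) (iv F2811)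
theorem F3683 : act 3 n993 = n993 := d20_1 D993 (iv D993) F2813
theorem F3684 : act 5 n993 = n773 := d25_1 D993 (iv D773) (iv F2814)
theorem F3685 : act 7 n993 = n993 := d27_2 D746 D993 (iv D993) (iv D746) F2154
def n994 : Q := act 5 n747
theorem D994 : act 5 n747 = n994 := rfl
theorem F3686 : act 0 n994 = n756 := d4_1 D994 (iv D756) (iv F2815)
theorem F3687 : act 3 n994 = n748 := d19_1 D994 (iv D748) D747
theorem F3688 : act 6 n994 = n994 := d25_2 F2817 D994 (iv D994)
def n995 : Q := act 7 n747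
theorem D995 : act 7 n747 = n995 := rfl
theorem F3689 : act 0 n995 = n757 := d6_1 D995 (iv D757) (iv F2815)
theorem F3690 : act 3 n995 = n749 := d21_1 D995 (iv D749) D747
theorem F3691 : act 4 n995 = n995 := d24_1 D995 (iv D995) F2816
def n996 : Q := act 7 n748
theorem D996 : act 7 n748 = n996 := rfl
theorem F3692 : act 0 n996 = n758 := d6_1 D996 (iv D758) (iv F2818)
theorem F3693 : act 2 n996 = n751 := d17_1 D996 (iv D751) (iv F2819)
theorem F3694 : act 4 n996 = n776 := d24_1 D996 (iv D776) (iv F2820)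
theorem F3695 : act 5 n996 = n749 := d26_1 D996 (iv D749) D748
def n997 : Q := act 6 n749
theorem D997 : act 6 n749 = n997 := rfl
theorem F3696 : act 0 n997 = n759 := d5_1 D997 (iv D759) (iv F2822)
theorem F3697 : act 4 n997 = n750 := d23_1 D997 (iv D750) (iv F2824)
theorem F3698 : act 7 n997 = n997 := d27_2 D749 D997 (iv D997) (iv D749) F2157
def n998 : Q := act 2 n750
theorem D998 : act 2 n750 = n998 := rfl
theorem F3699 : act 0 n998 = n760 := d1_1 D998 (iv D760) (iv F2825)
theorem F3700 : act 5 n998 = n778 := d15_2 (iv F2827) D998 (iv D778)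
theorem F3701 : act 6 n998 = n753 := d16_2 D750 D998 (iv D753) (iv D566) (iv F2159)
theorem F3702 : act 7 n998 = n998 := d17_2 F2828 D998 (iv D998)
def n999 : Q := act 6 n751
theorem D999 : act 6 n751 = n999 := rfl
theorem F3703 : act 0 n999 = n761 := d5_1 D999 (iv D761) (iv F2829)
theorem F3704 : act 1 n999 = n999 := d11_1 D999 (iv D999) F2830
theorem F3705 : act 4 n999 = n779 := d23_1 D999 (iv D779) (iv F2831)
theorem F3706 : act 5 n999 = n752 := d25_1 D999 (iv D752) (iv F2832)
theorem F3707 : act 7 n999 = n831 := d27_2 D751 D999 (iv D831) (iv D624) (iv F2165)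
def n1000 : Q := act 2 n752
theorem D1000 : act 2 n752 = n1000 := rfl
theorem F3708 : act 0 n1000 = n762 := d1_1 D1000 (iv D762) (iv F2833)
theorem F3709 : act 4 n1000 = n753 := d14_2 (iv F2835) D1000 (iv D753)
theorem F3710 : act 7 n1000 = n832 := d17_2 (iv F2836) D1000 (iv D832)
def n1001 : Q := act 1 n753
theorem D1001 : act 1 n753 = n1001 := rfl
theorem F3711 : act 2 n1001 = n1001 := d7_2 D753 D1001 (iv D1001) (iv D753) F2170
theorem F3712 : act 5 n1001 = n781 := d10_2 (iv F2838) D1001 (iv D781)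
theorem F3713 : act 7 n1001 = n833 := d12_2 (iv F2839) D1001 (iv D833)
def n1002 : Q := act 3 n753
theorem D1002 : act 3 n753 = n1002 := rfl
theorem F3714 : act 0 n1002 = n764 := d2_1 D1002 (iv D764) (iv F2837)
theorem F3715 : act 2 n1002 = n755 := d13_1 D1002 (iv D755) (iv D567) (iv F2171) D753
theorem F3716 : act 5 n1002 = n782 := d19_2 (iv F2838) D1002 (iv D782)
theorem F3717 : act 7 n1002 = n834 := d21_2 (iv F2839) D1002 (iv D834)
def n1003 : Q := act 3 n754
theorem D1003 : act 3 n754 = n1003 := rfl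
theorem F3719 : act 1 n1003 = n755 := d8_1 D1003 (iv D755) D754
theorem F3720 : act 5 n1003 = n783 := d19_2 (iv F2842) D1003 (iv D783)
theorem F3722 : act 7 n1003 = n835 := d21_2 (iv F2844) D1003 (iv D835)
def n1004 : Q := act 4 n755
theorem D1004 : act 4 n755 = n1004 := rfl
theorem F3723 : act 0 n1004 = n765 := d3_1 D1004 (iv D765) (iv F2845)
theorem F3724 : act 6 n1004 = n1004 := d23_2 F2847 D1004 (iv D1004)
theorem F3725 : act 7 n1004 = n836 := d24_2 (iv F2848) D1004 (iv D836)
def n1005 : Q := act 4 n756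
theorem D1005 : act 4 n756 = n1005 := rfl
theorem F3726 : act 1 n1005 = n1005 := d9_1 D1005 (iv D1005) F2849
theorem F3727 : act 3 n1005 = n785 := d18_1 D1005 (iv D785) F2258 (iv F2183) (iv F2850)
theorem F3728 : act 5 n1005 = n1005 := d22_2 D756 D1005 (iv D1005) (iv D756) F2179
theorem F3729 : act 6 n1005 = n1005 := d23_2 F2851 D1005 (iv D1005)
def n1006 : Q := act 7 n756
theorem D1006 : act 7 n756 = n1006 := rfl
theorem F3730 : act 1 n1006 = n1006 := d12_1 D1006 (iv D1006) F2849
theorem F3731 : act 3 n1006 = n758 := d21_1 D1006 (iv D758) (iv F2850)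
theorem F3732 : act 5 n1006 = n757 := d26_1 D1006 (iv D757) D756
def n1007 : Q := act 6 n757
theorem D1007 : act 6 n757 = n1007 := rfl
theorem F3733 : act 1 n1007 = n1007 := d11_1 D1007 (iv D1007) F2852
theorem F3734 : act 3 n1007 = n759 := d20_1 D1007 (iv D759) (iv F2853)
theorem F3735 : act 4 n1007 = n1007 := d23_1 D1007 (iv D1007) F2854
theorem F3736 : act 7 n1007 = n1007 := d27_2 D757 D1007 (iv D1007) (iv D757) F2180
def n1008 : Q := act 6 n758
theorem D1008 : act 6 n758 = n1008 := rfl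
theorem F3737 : act 1 n1008 = n1008 := d11_1 D1008 (iv D1008) F2855
theorem F3738 : act 4 n1008 = n788 := d23_1 D1008 (iv D788) (iv F2857)
theorem F3739 : act 5 n1008 = n759 := d25_1 D1008 (iv D759) (iv F2858)
theorem F3740 : act 7 n1008 = n1008 := d27_2 D758 D1008 (iv D1008) (iv D758) F2184
def n1009 : Q := act 2 n759
theorem D1009 : act 2 n759 = n1009 := rfl
theorem F3741 : act 4 n1009 = n760 := d14_2 (iv F2860) D1009 (iv D760)
theorem F3742 : act 6 n1009 = n762 := d16_2 D759 D1009 (iv D762) (iv D573) (iv F2186)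
theorem F3743 : act 7 n1009 = n1009 := d17_2 F2861 D1009 (iv D1009)
def n1010 : Q := act 1 n760
theorem D1010 : act 1 n760 = n1010 := rfl
theorem F3744 : act 2 n1010 = n1010 := d7_2 D760 D1010 (iv D1010) (iv D760) F2188
theorem F3745 : act 5 n1010 = n790 := d10_2 (iv F2862) D1010 (iv D790)
theorem F3746 : act 6 n1010 = n763 := d11_2 (iv F2863) D1010 (iv D763)
theorem F3747 : act 7 n1010 = n1010 := d12_2 F2864 D1010 (iv D1010)
def n1011 : Q := act 3 n760
theorem D1011 : act 3 n760 = n1011 := rfl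
theorem F3748 : act 2 n1011 = n1011 := d13_1 D1011 (iv D1011) (iv D760) F2189 D760
theorem F3749 : act 5 n1011 = n791 := d19_2 (iv F2862) D1011 (iv D791)
theorem F3750 : act 6 n1011 = n764 := d20_2 (iv F2863) D1011 (iv D764)
theorem F3751 : act 7 n1011 = n1011 := d21_2 F2864 D1011 (iv D1011)
def n1012 : Q := act 2 n761
theorem D1012 : act 2 n761 = n1012 := rfl
theorem F3752 : act 4 n1012 = n792 := d14_2 (iv F2866) D1012 (iv D792)
theorem F3753 : act 5 n1012 = n762 := d15_2 (iv F2867) D1012 (iv D762)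
theorem F3754 : act 7 n1012 = n837 := d17_2 (iv F2868) D1012 (iv D837)
def n1013 : Q := act 1 n762
theorem D1013 : act 1 n762 = n1013 := rfl
theorem F3755 : act 2 n1013 = n767 := d7_2 D762 D1013 (iv D767) (iv D577) (iv F2195)
theorem F3756 : act 4 n1013 = n763 := d9_2 (iv F2869) D1013 (iv D763)
theorem F3757 : act 7 n1013 = n838 := d12_2 (iv F2870) D1013 (iv D838)
def n1014 : Q := act 3 n762
theorem D1014 : act 3 n762 = n1014 := rfl
theorem F3758 : act 7 n1014 = n839 := d21_2 (iv F2870) D1014 (iv D839)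
def n1015 : Q := act 0 n763
theorem D1015 : act 0 n763 = n1015 := rfl
theorem F3759 : act 2 n1015 = n769 := d1_2 (iv F2871) D1015 (iv D769)
theorem F3760 : act 5 n1015 = n795 := d4_2 (iv F2872) D1015 (iv D795)
theorem F3761 : act 7 n1015 = n840 := d6_2 (iv F2873) D1015 (iv D840)
def n1016 : Q := act 3 n763
theorem D1016 : act 3 n763 = n1016 := rfl
theorem F3762 : act 1 n1016 = n764 := d8_1 D1016 (iv D764) D763
theorem F3763 : act 2 n1016 = n1016 := d13_1 D1016 (iv D1016) F2871 F2212 (iv F2871)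
theorem F3764 : act 5 n1016 = n796 := d19_2 (iv F2872) D1016 (iv D796)
theorem F3765 : act 7 n1016 = n841 := d21_2 (iv F2873) D1016 (iv D841)
def n1017 : Q := act 4 n764
theorem D1017 : act 4 n764 = n1017 := rfl
theorem F3766 : act 2 n1017 = n765 := d14_1 D1017 (iv D765) (iv F2874)
theorem F3767 : act 7 n1017 = n842 := d24_2 (iv F2876) D1017 (iv D842)
def n1018 : Q := act 5 n765
theorem D1018 : act 5 n765 = n1018 := rfl
theorem F3768 : act 1 n1018 = n1018 := d10_1 D1018 (iv D1018) F2877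
theorem F3769 : act 4 n1018 = n798 := d22_1 D1018 (iv D798) (iv D599) (iv F2201) D765
theorem F3770 : act 6 n1018 = n1018 := d25_2 F2878 D1018 (iv D1018)
theorem F3771 : act 7 n1018 = n843 := d26_2 (iv F2879) D1018 (iv D843)
def n1019 : Q := act 1 n766
theorem D1019 : act 1 n766 = n1019 := rfl
theorem F3772 : act 4 n1019 = n799 := d9_2 (iv F2881) D1019 (iv D799)
theorem F3773 : act 5 n1019 = n767 := d10_2 (iv F2882) D1019 (iv D767)
theorem F3775 : act 7 n1019 = n844 := d12_2 (iv F2884) D1019 (iv D844)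
def n1020 : Q := act 3 n766
theorem D1020 : act 3 n766 = n1020 := rfl
theorem F3776 : act 0 n1020 = n1020 := d2_1 D1020 (iv D1020) F2880
theorem F3777 : act 5 n1020 = n768 := d19_2 (iv F2882) D1020 (iv D768)
theorem F3778 : act 6 n1020 = n1020 := d20_2 F2883 D1020 (iv D1020)
theorem F3779 : act 7 n1020 = n845 := d21_2 (iv F2884) D1020 (iv D845)
def n1021 : Q := act 0 n767
theorem D1021 : act 0 n767 = n1021 := rfl
theorem F3781 : act 4 n1021 = n769 := d3_2 (iv F2885) D1021 (iv D769)
def n1022 : Q := act 3 n767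
theorem D1022 : act 3 n767 = n1022 := rfl
theorem F3784 : act 1 n1022 = n768 := d8_1 D1022 (iv D768) D767
theorem F3785 : act 4 n1022 = n1022 := d18_2 (iv F2885) D1022 (iv D1022) F2885 F2212
theorem F3786 : act 6 n1022 = n1022 := d20_2 F2886 D1022 (iv D1022)
theorem F3787 : act 7 n1022 = n847 := d21_2 (iv F2887) D1022 (iv D847)
def n1023 : Q := act 2 n770
theorem D1023 : act 2 n770 = n1023 := rfl
theorem F3788 : act 0 n1023 = n1023 := d1_1 D1023 (iv D1023) F2897
theorem F3789 : act 1 n1023 = n1023 := d7_1 D1023 (iv D1023) F2898 F2225 (iv F2898)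
theorem F3790 : act 3 n1023 = n1023 := d13_2 D770 D1023 (iv D1023) (iv D770) F2218
theorem F3791 : act 4 n1023 = n1023 := d14_2 F2899 D1023 (iv D1023)
def n1024 : Q := act 5 n770
theorem D1024 : act 5 n770 = n1024 := rfl
theorem F3792 : act 0 n1024 = n1024 := d4_1 D1024 (iv D1024) F2897
theorem F3793 : act 1 n1024 = n774 := d10_1 D1024 (iv D774) (iv F2898)
theorem F3794 : act 3 n1024 = n771 := d19_1 D1024 (iv D771) D770
theorem F3795 : act 6 n1024 = n1024 := d25_2 F2900 D1024 (iv D1024)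
def n1025 : Q := act 7 n770
theorem D1025 : act 7 n770 = n1025 := rfl
theorem F3796 : act 0 n1025 = n1025 := d6_1 D1025 (iv D1025) F2897
theorem F3797 : act 1 n1025 = n775 := d12_1 D1025 (iv D775) (iv F2898)
theorem F3798 : act 3 n1025 = n772 := d21_1 D1025 (iv D772) D770
theorem F3799 : act 4 n1025 = n1025 := d24_1 D1025 (iv D1025) F2899
def n1026 : Q := act 7 n771
theorem D1026 : act 7 n771 = n1026 := rfl
theorem F3800 : act 0 n1026 = n1026 := d6_1 D1026 (iv D1026) F2901
theorem F3801 : act 1 n1026 = n776 := d12_1 D1026 (iv D776) (iv F2902)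
theorem F3802 : act 2 n1026 = n1026 := d17_1 D1026 (iv D1026) F2903
theorem F3803 : act 5 n1026 = n772 := d26_1 D1026 (iv D772) D771
def n1027 : Q := act 6 n772
theorem D1027 : act 6 n772 = n1027 := rfl
theorem F3804 : act 0 n1027 = n1027 := d5_1 D1027 (iv D1027) F2905
theorem F3805 : act 1 n1027 = n777 := d11_1 D1027 (iv D777) (iv F2906)
theorem F3806 : act 4 n1027 = n773 := d23_1 D1027 (iv D773) (iv F2908)
theorem F3807 : act 7 n1027 = n1027 := d27_2 D772 D1027 (iv D1027) (iv D772) F2219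
def n1028 : Q := act 2 n773
theorem D1028 : act 2 n773 = n1028 := rfl
theorem F3808 : act 0 n1028 = n1028 := d1_1 D1028 (iv D1028) F2909
theorem F3809 : act 6 n1028 = n1028 := d16_2 D773 D1028 (iv D1028) (iv D773) F2222
theorem F3810 : act 7 n1028 = n1028 := d17_2 F2912 D1028 (iv D1028)
def n1029 : Q := act 4 n774
theorem D1029 : act 4 n774 = n1029 := rfl
theorem F3811 : act 0 n1029 = n785 := d3_1 D1029 (iv D785) (iv F2913)
theorem F3812 : act 2 n1029 = n1029 := d14_1 D1029 (iv D1029) F2914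
theorem F3813 : act 5 n1029 = n1029 := d22_2 D774 D1029 (iv D1029) (iv D774) F2226
theorem F3814 : act 6 n1029 = n1029 := d23_2 F2916 D1029 (iv D1029)
def n1030 : Q := act 7 n774
theorem D1030 : act 7 n774 = n1030 := rfl
theorem F3815 : act 0 n1030 = n786 := d6_1 D1030 (iv D786) (iv F2913)
theorem F3816 : act 2 n1030 = n1030 := d17_1 D1030 (iv D1030) F2914
theorem F3817 : act 3 n1030 = n776 := d21_1 D1030 (iv D776) (iv F2915)
theorem F3818 : act 5 n1030 = n775 := d26_1 D1030 (iv D775) D774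
def n1031 : Q := act 6 n775
theorem D1031 : act 6 n775 = n1031 := rfl
theorem F3819 : act 0 n1031 = n787 := d5_1 D1031 (iv D787) (iv F2917)
theorem F3820 : act 3 n1031 = n777 := d20_1 D1031 (iv D777) (iv F2919)
theorem F3821 : act 4 n1031 = n1031 := d23_1 D1031 (iv D1031) F2920
theorem F3822 : act 7 n1031 = n1031 := d27_2 D775 D1031 (iv D1031) (iv D775) F2227
def n1032 : Q := act 6 n776
theorem D1032 : act 6 n776 = n1032 := rfl
theorem F3823 : act 0 n1032 = n788 := d5_1 D1032 (iv D788) (iv F2921)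
theorem F3824 : act 5 n1032 = n777 := d25_1 D1032 (iv D777) (iv F2923)
theorem F3825 : act 7 n1032 = n1032 := d27_2 D776 D1032 (iv D1032) (iv D776) F2230
def n1033 : Q := act 2 n777
theorem D1033 : act 2 n777 = n1033 := rfl
theorem F3826 : act 0 n1033 = n789 := d1_1 D1033 (iv D789) (iv F2924)
theorem F3827 : act 4 n1033 = n778 := d14_2 (iv F2925) D1033 (iv D778)
theorem F3828 : act 6 n1033 = n780 := d16_2 D777 D1033 (iv D780) (iv D586) (iv F2232)
theorem F3829 : act 7 n1033 = n1033 := d17_2 F2926 D1033 (iv D1033)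
def n1034 : Q := act 1 n778
theorem D1034 : act 1 n778 = n1034 := rfl
theorem F3830 : act 6 n1034 = n781 := d11_2 (iv F2928) D1034 (iv D781)
theorem F3831 : act 7 n1034 = n1034 := d12_2 F2929 D1034 (iv D1034)
def n1035 : Q := act 3 n778
theorem D1035 : act 3 n778 = n1035 := rfl
theorem F3832 : act 0 n1035 = n791 := d2_1 D1035 (iv D791) (iv F2927)
theorem F3833 : act 2 n1035 = n1035 := d13_1 D1035 (iv D1035) (iv D778) F2235 D778
theorem F3834 : act 6 n1035 = n782 := d20_2 (iv F2928) D1035 (iv D782)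
theorem F3835 : act 7 n1035 = n1035 := d21_2 F2929 D1035 (iv D1035)
def n1036 : Q := act 2 n779
theorem D1036 : act 2 n779 = n1036 := rfl
theorem F3836 : act 0 n1036 = n792 := d1_1 D1036 (iv D792) (iv F2930)
theorem F3837 : act 5 n1036 = n780 := d15_2 (iv F2933) D1036 (iv D780)
theorem F3838 : act 7 n1036 = n848 := d17_2 (iv F2934) D1036 (iv D848)
def n1037 : Q := act 1 n780
theorem D1037 : act 1 n780 = n1037 := rfl
theorem F3839 : act 2 n1037 = n1037 := d7_2 D780 D1037 (iv D1037) (iv D780) F2242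
theorem F3840 : act 4 n1037 = n781 := d9_2 (iv F2936) D1037 (iv D781)
theorem F3841 : act 7 n1037 = n849 := d12_2 (iv F2937) D1037 (iv D849)
def n1038 : Q := act 3 n780
theorem D1038 : act 3 n780 = n1038 := rfl
theorem F3842 : act 0 n1038 = n794 := d2_1 D1038 (iv D794) (iv F2935)
theorem F3843 : act 2 n1038 = n1038 := d13_1 D1038 (iv D1038) (iv D780) F2243 D780
theorem F3844 : act 7 n1038 = n850 := d21_2 (iv F2937) D1038 (iv D850)
def n1039 : Q := act 0 n781
theorem D1039 : act 0 n781 = n1039 := rfl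
theorem F3845 : act 1 n1039 = n795 := d0_2 D781 D1039 (iv D795) (iv D597) (iv F2246)
theorem F3847 : act 7 n1039 = n851 := d6_2 (iv F2939) D1039 (iv D851)
def n1040 : Q := act 3 n781
theorem D1040 : act 3 n781 = n1040 := rfl
theorem F3848 : act 1 n1040 = n782 := d8_1 D1040 (iv D782) D781
theorem F3849 : act 7 n1040 = n852 := d21_2 (iv F2939) D1040 (iv D852)
def n1041 : Q := act 4 n782
theorem D1041 : act 4 n782 = n1041 := rfl
theorem F3851 : act 2 n1041 = n784 := d14_1 D1041 (iv D784) (iv F2941)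
def n1042 : Q := act 2 n783
theorem D1042 : act 2 n783 = n1042 := rfl
theorem F3855 : act 7 n1042 = n854 := d17_2 (iv F2946) D1042 (iv D854)
def n1043 : Q := act 4 n783
theorem D1043 : act 4 n783 = n1043 := rfl
theorem F3857 : act 1 n1043 = n784 := d9_1 D1043 (iv D784) (iv F2944)
theorem F3860 : act 7 n1043 = n855 := d24_2 (iv F2946) D1043 (iv D855)
def n1044 : Q := act 5 n784
theorem D1044 : act 5 n784 = n1044 := rfl
def n1045 : Q := act 7 n785
theorem D1045 : act 7 n785 = n1045 := rfl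
theorem F3865 : act 1 n1045 = n1045 := d12_1 D1045 (iv D1045) F2951
theorem F3866 : act 2 n1045 = n1045 := d17_1 D1045 (iv D1045) F2952
theorem F3867 : act 4 n1045 = n786 := d24_1 D1045 (iv D786) D785
theorem F3868 : act 5 n1045 = n1045 := d26_1 D1045 (iv D1045) F2953
def n1046 : Q := act 6 n786
theorem D1046 : act 6 n786 = n1046 := rfl
theorem F3869 : act 1 n1046 = n1046 := d11_1 D1046 (iv D1046) F2955
theorem F3870 : act 3 n1046 = n788 := d20_1 D1046 (iv D788) (iv F2957)
theorem F3871 : act 5 n1046 = n787 := d25_1 D1046 (iv D787) (iv F2958)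
theorem F3872 : act 7 n1046 = n1046 := d27_2 D786 D1046 (iv D1046) (iv D786) F2259
def n1047 : Q := act 2 n787
theorem D1047 : act 2 n787 = n1047 := rfl
theorem F3873 : act 4 n1047 = n1047 := d14_2 F2961 D1047 (iv D1047)
theorem F3874 : act 6 n1047 = n1047 := d16_2 D787 D1047 (iv D1047) (iv D787) F2261
theorem F3875 : act 7 n1047 = n1047 := d17_2 F2962 D1047 (iv D1047)
def n1048 : Q := act 2 n788
theorem D1048 : act 2 n788 = n1048 := rfl
theorem F3876 : act 5 n1048 = n789 := d15_2 (iv F2964) D1048 (iv D789)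
theorem F3877 : act 6 n1048 = n792 := d16_2 D788 D1048 (iv D792) (iv D595) (iv F2265)
theorem F3878 : act 7 n1048 = n1048 := d17_2 F2965 D1048 (iv D1048)
def n1049 : Q := act 1 n789
theorem D1049 : act 1 n789 = n1049 := rfl
theorem F3879 : act 2 n1049 = n1049 := d7_2 D789 D1049 (iv D1049) (iv D789) F2267
theorem F3880 : act 4 n1049 = n790 := d9_2 (iv F2966) D1049 (iv D790)
theorem F3881 : act 6 n1049 = n793 := d11_2 (iv F2967) D1049 (iv D793)
theorem F3882 : act 7 n1049 = n1049 := d12_2 F2968 D1049 (iv D1049)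
def n1050 : Q := act 3 n789
theorem D1050 : act 3 n789 = n1050 := rfl
theorem F3883 : act 6 n1050 = n794 := d20_2 (iv F2967) D1050 (iv D794)
def n1051 : Q := act 0 n790
theorem D1051 : act 0 n790 = n1051 := rfl
theorem F3885 : act 2 n1051 = n1051 := d1_2 F2969 D1051 (iv D1051)
theorem F3886 : act 6 n1051 = n795 := d5_2 (iv F2970) D1051 (iv D795)
theorem F3887 : act 7 n1051 = n1051 := d6_2 F2971 D1051 (iv D1051)
def n1052 : Q := act 3 n790
theorem D1052 : act 3 n790 = n1052 := rfl
theorem F3888 : act 1 n1052 = n791 := d8_1 D1052 (iv D791) D790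
theorem F3889 : act 6 n1052 = n796 := d20_2 (iv F2970) D1052 (iv D796)
theorem F3890 : act 7 n1052 = n1052 := d21_2 F2971 D1052 (iv D1052)
def n1053 : Q := act 4 n791
theorem D1053 : act 4 n791 = n1053 := rfl
theorem F3892 : act 6 n1053 = n797 := d23_2 (iv F2973) D1053 (iv D797)
def n1054 : Q := act 1 n792
theorem D1054 : act 1 n792 = n1054 := rfl
theorem F3894 : act 2 n1054 = n799 := d7_2 D792 D1054 (iv D799) (iv D600) (iv F2272)
theorem F3895 : act 5 n1054 = n793 := d10_2 (iv F2975) D1054 (iv D793)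
theorem F3896 : act 7 n1054 = n857 := d12_2 (iv F2976) D1054 (iv D857)
def n1055 : Q := act 3 n792
theorem D1055 : act 3 n792 = n1055 := rfl
theorem F3898 : act 5 n1055 = n794 := d19_2 (iv F2975) D1055 (iv D794)
theorem F3899 : act 7 n1055 = n858 := d21_2 (iv F2976) D1055 (iv D858)
def n1056 : Q := act 0 n793
theorem D1056 : act 0 n793 = n1056 := rfl
theorem F3900 : act 2 n1056 = n801 := d1_2 (iv F2977) D1056 (iv D801)
theorem F3901 : act 4 n1056 = n795 := d3_2 (iv F2978) D1056 (iv D795)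
theorem F3902 : act 7 n1056 = n859 := d6_2 (iv F2979) D1056 (iv D859)
def n1057 : Q := act 3 n793
theorem D1057 : act 3 n793 = n1057 := rfl
theorem F3903 : act 1 n1057 = n794 := d8_1 D1057 (iv D794) D793
theorem F3904 : act 7 n1057 = n860 := d21_2 (iv F2979) D1057 (iv D860)
def n1058 : Q := act 4 n794
theorem D1058 : act 4 n794 = n1058 := rfl
theorem F3906 : act 3 n1058 = n797 := d18_1 D1058 (iv D797) (iv D598) (iv F2276) D794
theorem F3907 : act 7 n1058 = n861 := d24_2 (iv F2981) D1058 (iv D861)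
def n1059 : Q := act 3 n795
theorem D1059 : act 3 n795 = n1059 := rfl
theorem F3908 : act 0 n1059 = n796 := d2_1 D1059 (iv D796) D795
theorem F3909 : act 2 n1059 = n1059 := d13_1 D1059 (iv D1059) F2982 F2299 (iv F2982)
theorem F3910 : act 7 n1059 = n862 := d21_2 (iv F2983) D1059 (iv D862)
def n1060 : Q := act 4 n796
theorem D1060 : act 4 n796 = n1060 := rfl
theorem F3911 : act 1 n1060 = n797 := d9_1 D1060 (iv D797) (iv F2984)
theorem F3913 : act 7 n1060 = n863 := d24_2 (iv F2986) D1060 (iv D863)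
def n1061 : Q := act 5 n797
theorem D1061 : act 5 n797 = n1061 := rfl
def n1062 : Q := act 0 n799
theorem D1062 : act 0 n799 = n1062 := rfl
theorem F3917 : act 5 n1062 = n801 := d4_2 (iv F2993) D1062 (iv D801)
theorem F3919 : act 7 n1062 = n865 := d6_2 (iv F2995) D1062 (iv D865)
def n1063 : Q := act 3 n799
theorem D1063 : act 3 n799 = n1063 := rfl
theorem F3920 : act 1 n1063 = n800 := d8_1 D1063 (iv D800) D799
theorem F3921 : act 5 n1063 = n802 := d19_2 (iv F2993) D1063 (iv D802)
theorem F3923 : act 7 n1063 = n866 := d21_2 (iv F2995) D1063 (iv D866)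
def n1065 : Q := act 3 n801
theorem D1065 : act 3 n801 = n1065 := rfl
theorem F3929 : act 0 n1065 = n802 := d2_1 D1065 (iv D802) D801
theorem F3932 : act 6 n1065 = n1065 := d20_2 F3003 D1065 (iv D1065)
theorem F3933 : act 7 n1065 = n868 := d21_2 (iv F3004) D1065 (iv D868)
def n1066 : Q := act 2 n802
theorem D1066 : act 2 n802 = n1066 := rfl
theorem F3934 : act 1 n1066 = n1066 := d7_1 D1066 (iv D1066) F3005 F2294 (iv F3005)
theorem F3936 : act 7 n1066 = n869 := d17_2 (iv F3008) D1066 (iv D869)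
def n1067 : Q := act 5 n803
theorem D1067 : act 5 n803 = n1067 := rfl
theorem F3937 : act 0 n1067 = n1067 := d4_1 D1067 (iv D1067) F3009
theorem F3938 : act 1 n1067 = n806 := d10_1 D1067 (iv D806) (iv F3010)
theorem F3939 : act 2 n1067 = n1067 := d15_1 D1067 (iv D1067) F3011
theorem F3940 : act 3 n1067 = n1067 := d19_1 D1067 (iv D1067) F3012
theorem F3941 : act 4 n1067 = n1067 := d22_1 D1067 (iv D1067) (iv D803) F2305 D803
def n1068 : Q := act 6 n803
theorem D1068 : act 6 n803 = n1068 := rfl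
theorem F3942 : act 0 n1068 = n1068 := d5_1 D1068 (iv D1068) F3009
theorem F3943 : act 1 n1068 = n807 := d11_1 D1068 (iv D807) (iv F3010)
theorem F3944 : act 3 n1068 = n1068 := d20_1 D1068 (iv D1068) F3012
theorem F3945 : act 4 n1068 = n804 := d23_1 D1068 (iv D804) D803
def n1069 : Q := act 7 n803
theorem D1069 : act 7 n803 = n1069 := rfl
theorem F3946 : act 0 n1069 = n1069 := d6_1 D1069 (iv D1069) F3009
theorem F3947 : act 1 n1069 = n808 := d12_1 D1069 (iv D808) (iv F3010)
theorem F3948 : act 2 n1069 = n1069 := d17_1 D1069 (iv D1069) F3011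
theorem F3949 : act 3 n1069 = n1069 := d21_1 D1069 (iv D1069) F3012
theorem F3950 : act 4 n1069 = n805 := d24_1 D1069 (iv D805) D803
def n1070 : Q := act 2 n804
theorem D1070 : act 2 n804 = n1070 := rfl
theorem F3951 : act 0 n1070 = n1070 := d1_1 D1070 (iv D1070) F3013
theorem F3952 : act 5 n1070 = n1070 := d15_2 F3016 D1070 (iv D1070)
theorem F3953 : act 6 n1070 = n1070 := d16_2 D804 D1070 (iv D1070) (iv D804) F2303
def n1071 : Q := act 7 n804
theorem D1071 : act 7 n804 = n1071 := rfl
theorem F3954 : act 0 n1071 = n1071 := d6_1 D1071 (iv D1071) F3013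
theorem F3955 : act 1 n1071 = n809 := d12_1 D1071 (iv D809) (iv F3014)
theorem F3956 : act 3 n1071 = n888 := d21_1 D1071 (iv D888) (iv F3015)
theorem F3957 : act 5 n1071 = n1071 := d26_1 D1071 (iv D1071) F3016
def n1072 : Q := act 6 n805
theorem D1072 : act 6 n805 = n1072 := rfl
theorem F3958 : act 0 n1072 = n1072 := d5_1 D1072 (iv D1072) F3017
theorem F3959 : act 1 n1072 = n810 := d11_1 D1072 (iv D810) (iv F3018)
theorem F3960 : act 3 n1072 = n889 := d20_1 D1072 (iv D889) (iv F3020)
theorem F3961 : act 5 n1072 = n1072 := d25_1 D1072 (iv D1072) F3021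
def n1073 : Q := act 6 n806
theorem D1073 : act 6 n806 = n1073 := rfl
theorem F3962 : act 0 n1073 = n816 := d5_1 D1073 (iv D816) (iv F3022)
theorem F3963 : act 3 n1073 = n1073 := d20_1 D1073 (iv D1073) F3024
theorem F3964 : act 4 n1073 = n1073 := d23_1 D1073 (iv D1073) F3025
theorem F3965 : act 5 n1073 = n807 := d25_1 D1073 (iv D807) D806
def n1074 : Q := act 7 n806
theorem D1074 : act 7 n806 = n1074 := rfl
theorem F3966 : act 0 n1074 = n817 := d6_1 D1074 (iv D817) (iv F3022)
theorem F3967 : act 2 n1074 = n811 := d17_1 D1074 (iv D811) (iv F3023)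
theorem F3968 : act 3 n1074 = n1074 := d21_1 D1074 (iv D1074) F3024
theorem F3969 : act 4 n1074 = n1074 := d24_1 D1074 (iv D1074) F3025
theorem F3970 : act 5 n1074 = n808 := d26_1 D1074 (iv D808) D806
def n1075 : Q := act 7 n807
theorem D1075 : act 7 n807 = n1075 := rfl
theorem F3971 : act 0 n1075 = n818 := d6_1 D1075 (iv D818) (iv F3026)
theorem F3972 : act 3 n1075 = n1075 := d21_1 D1075 (iv D1075) F3027
theorem F3973 : act 4 n1075 = n809 := d24_1 D1075 (iv D809) (iv F3028)
def n1076 : Q := act 6 n808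
theorem D1076 : act 6 n808 = n1076 := rfl
theorem F3974 : act 0 n1076 = n819 := d5_1 D1076 (iv D819) (iv F3029)
theorem F3975 : act 3 n1076 = n1076 := d20_1 D1076 (iv D1076) F3031
theorem F3976 : act 4 n1076 = n810 := d23_1 D1076 (iv D810) (iv F3032)
def n1077 : Q := act 6 n809
theorem D1077 : act 6 n809 = n1077 := rfl
theorem F3977 : act 0 n1077 = n820 := d5_1 D1077 (iv D820) (iv F3033)
theorem F3978 : act 3 n1077 = n890 := d20_1 D1077 (iv D890) (iv F3034)
theorem F3979 : act 5 n1077 = n1077 := d25_1 D1077 (iv D1077) F3035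
theorem F3980 : act 7 n1077 = n810 := d27_2 D809 D1077 (iv D810) (iv D607) D606
def n1078 : Q := act 2 n810
theorem D1078 : act 2 n810 = n1078 := rfl
theorem F3981 : act 0 n1078 = n821 := d1_1 D1078 (iv D821) (iv F3036)
theorem F3982 : act 5 n1078 = n1078 := d15_2 F3038 D1078 (iv D1078)
theorem F3983 : act 6 n1078 = n813 := d16_2 D810 D1078 (iv D813) (iv D610) (iv F2313)
def n1079 : Q := act 6 n811
theorem D1079 : act 6 n811 = n1079 := rfl
theorem F3984 : act 0 n1079 = n822 := d5_1 D1079 (iv D822) (iv F3039)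
theorem F3985 : act 1 n1079 = n1079 := d11_1 D1079 (iv D1079) F3040
theorem F3986 : act 3 n1079 = n831 := d20_1 D1079 (iv D831) (iv F3041)
theorem F3987 : act 4 n1079 = n1079 := d23_1 D1079 (iv D1079) F3042
theorem F3988 : act 5 n1079 = n812 := d25_1 D1079 (iv D812) (iv F3043)
def n1080 : Q := act 2 n812
theorem D1080 : act 2 n812 = n1080 := rfl
theorem F3989 : act 0 n1080 = n823 := d1_1 D1080 (iv D823) (iv F3044)
theorem F3990 : act 4 n1080 = n813 := d14_2 (iv F3047) D1080 (iv D813)
def n1081 : Q := act 1 n813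
theorem D1081 : act 1 n813 = n1081 := rfl
theorem F3991 : act 2 n1081 = n1081 := d7_2 D813 D1081 (iv D1081) (iv D813) F2325
theorem F3992 : act 5 n1081 = n1081 := d10_2 F3049 D1081 (iv D1081)
def n1082 : Q := act 3 n813
theorem D1082 : act 3 n813 = n1082 := rfl
theorem F3993 : act 0 n1082 = n825 := d2_1 D1082 (iv D825) (iv F3048)
theorem F3994 : act 2 n1082 = n815 := d13_1 D1082 (iv D815) (iv D611) (iv F2326) D813
theorem F3995 : act 5 n1082 = n1082 := d19_2 F3049 D1082 (iv D1082)
def n1083 : Q := act 3 n814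
theorem D1083 : act 3 n814 = n1083 := rfl
theorem F3996 : act 0 n1083 = n1083 := d2_1 D1083 (iv D1083) F3050
theorem F3997 : act 1 n1083 = n815 := d8_1 D1083 (iv D815) D814
theorem F3998 : act 5 n1083 = n1083 := d19_2 F3053 D1083 (iv D1083)
theorem F3999 : act 6 n1083 = n894 := d20_2 (iv F3054) D1083 (iv D894)
def n1084 : Q := act 4 n815
theorem D1084 : act 4 n815 = n1084 := rfl
theorem F4000 : act 0 n1084 = n826 := d3_1 D1084 (iv D826) (iv F3055)
theorem F4001 : act 3 n1084 = n836 := d18_1 D1084 (iv D836) (iv D628) (iv F2329) D815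
theorem F4002 : act 6 n1084 = n895 := d23_2 (iv F3057) D1084 (iv D895)
def n1085 : Q := act 7 n816
theorem D1085 : act 7 n816 = n1085 := rfl
theorem F4003 : act 1 n1085 = n1085 := d12_1 D1085 (iv D1085) F3058
theorem F4004 : act 3 n1085 = n1085 := d21_1 D1085 (iv D1085) F3059
theorem F4005 : act 4 n1085 = n1085 := d24_1 D1085 (iv D1085) F3060
theorem F4006 : act 5 n1085 = n818 := d26_1 D1085 (iv D818) (iv F3061)
def n1086 : Q := act 6 n817
theorem D1086 : act 6 n817 = n1086 := rfl
theorem F4007 : act 1 n1086 = n1086 := d11_1 D1086 (iv D1086) F3062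
theorem F4008 : act 3 n1086 = n1086 := d20_1 D1086 (iv D1086) F3064
theorem F4009 : act 4 n1086 = n1086 := d23_1 D1086 (iv D1086) F3065
theorem F4010 : act 5 n1086 = n819 := d25_1 D1086 (iv D819) (iv F3066)
def n1087 : Q := act 6 n818
theorem D1087 : act 6 n818 = n1087 := rfl
theorem F4011 : act 1 n1087 = n1087 := d11_1 D1087 (iv D1087) F3067
theorem F4012 : act 3 n1087 = n1087 := d20_1 D1087 (iv D1087) F3068
theorem F4013 : act 4 n1087 = n820 := d23_1 D1087 (iv D820) (iv F3069)
theorem F4014 : act 7 n1087 = n819 := d27_2 D818 D1087 (iv D819) (iv D614) D613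
def n1088 : Q := act 2 n819
theorem D1088 : act 2 n819 = n1088 := rfl
theorem F4015 : act 4 n1088 = n821 := d14_2 (iv F3072) D1088 (iv D821)
theorem F4016 : act 6 n1088 = n823 := d16_2 D819 D1088 (iv D823) (iv D618) (iv F2340)
def n1089 : Q := act 2 n820
theorem D1089 : act 2 n820 = n1089 := rfl
theorem F4017 : act 5 n1089 = n1089 := d15_2 F3075 D1089 (iv D1089)
theorem F4018 : act 7 n1089 = n821 := d17_2 (iv F3076) D1089 (iv D821)
def n1090 : Q := act 1 n821
theorem D1090 : act 1 n821 = n1090 := rfl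
theorem F4019 : act 2 n1090 = n1090 := d7_2 D821 D1090 (iv D1090) (iv D821) F2346
theorem F4020 : act 5 n1090 = n1090 := d10_2 F3077 D1090 (iv D1090)
theorem F4021 : act 6 n1090 = n824 := d11_2 (iv F3078) D1090 (iv D824)
def n1091 : Q := act 3 n821
theorem D1091 : act 3 n821 = n1091 := rfl
theorem F4022 : act 2 n1091 = n898 := d13_1 D1091 (iv D898) (iv D677) (iv F2347) D821
theorem F4023 : act 5 n1091 = n1091 := d19_2 F3077 D1091 (iv D1091)
theorem F4024 : act 6 n1091 = n825 := d20_2 (iv F3078) D1091 (iv D825)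
def n1092 : Q := act 2 n822
theorem D1092 : act 2 n822 = n1092 := rfl
theorem F4025 : act 4 n1092 = n1092 := d14_2 F3081 D1092 (iv D1092)
theorem F4026 : act 5 n1092 = n823 := d15_2 (iv F3082) D1092 (iv D823)
def n1093 : Q := act 1 n823
theorem D1093 : act 1 n823 = n1093 := rfl
theorem F4027 : act 2 n1093 = n828 := d7_2 D823 D1093 (iv D828) (iv D622) (iv F2353)
theorem F4028 : act 4 n1093 = n824 := d9_2 (iv F3083) D1093 (iv D824)
def n1094 : Q := act 3 n823
theorem D1094 : act 3 n823 = n1094 := rfl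
theorem F4029 : act 2 n1094 = n839 := d13_1 D1094 (iv D839) (iv D630) (iv F2354) D823
def n1095 : Q := act 0 n824
theorem D1095 : act 0 n824 = n1095 := rfl
theorem F4030 : act 2 n1095 = n830 := d1_2 (iv F3084) D1095 (iv D830)
theorem F4031 : act 5 n1095 = n1095 := d4_2 F3085 D1095 (iv D1095)
def n1096 : Q := act 3 n824
theorem D1096 : act 3 n824 = n1096 := rfl
theorem F4032 : act 1 n1096 = n825 := d8_1 D1096 (iv D825) D824
theorem F4033 : act 2 n1096 = n1096 := d13_1 D1096 (iv D1096) F3084 F2367 (iv F3084)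
theorem F4034 : act 5 n1096 = n1096 := d19_2 F3085 D1096 (iv D1096)
def n1097 : Q := act 4 n825
theorem D1097 : act 4 n825 = n1097 := rfl
theorem F4035 : act 2 n1097 = n826 := d14_1 D1097 (iv D826) (iv F3086)
def n1098 : Q := act 5 n826
theorem D1098 : act 5 n826 = n1098 := rfl
theorem F4036 : act 1 n1098 = n1098 := d10_1 D1098 (iv D1098) F3088
theorem F4037 : act 3 n1098 = n843 := d19_1 D1098 (iv D843) (iv F3089)
theorem F4038 : act 4 n1098 = n1098 := d22_1 D1098 (iv D1098) (iv D826) F2358 D826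
theorem F4039 : act 6 n1098 = n902 := d25_2 (iv F3090) D1098 (iv D902)
def n1099 : Q := act 1 n827
theorem D1099 : act 1 n827 = n1099 := rfl
theorem F4040 : act 4 n1099 = n1099 := d9_2 F3092 D1099 (iv D1099)
theorem F4041 : act 5 n1099 = n828 := d10_2 (iv F3093) D1099 (iv D828)
theorem F4042 : act 6 n1099 = n1099 := d11_2 F3094 D1099 (iv D1099)
def n1100 : Q := act 3 n827
theorem D1100 : act 3 n827 = n1100 := rfl
theorem F4043 : act 0 n1100 = n1100 := d2_1 D1100 (iv D1100) F3091
theorem F4044 : act 2 n1100 = n845 := d13_1 D1100 (iv D845) (iv D634) (iv F2361) D827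
theorem F4045 : act 5 n1100 = n829 := d19_2 (iv F3093) D1100 (iv D829)
theorem F4046 : act 6 n1100 = n1100 := d20_2 F3094 D1100 (iv D1100)
def n1101 : Q := act 0 n828
theorem D1101 : act 0 n828 = n1101 := rfl
theorem F4047 : act 1 n1101 = n1101 := d0_2 D828 D1101 (iv D1101) (iv D828) F2364
theorem F4048 : act 4 n1101 = n830 := d3_2 (iv F3095) D1101 (iv D830)
theorem F4049 : act 6 n1101 = n1101 := d5_2 F3096 D1101 (iv D1101)
def n1102 : Q := act 3 n828
theorem D1102 : act 3 n828 = n1102 := rfl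
theorem F4050 : act 1 n1102 = n829 := d8_1 D1102 (iv D829) D828
theorem F4051 : act 4 n1102 = n1102 := d18_2 (iv F3095) D1102 (iv D1102) F3095 F2367
theorem F4052 : act 6 n1102 = n1102 := d20_2 F3096 D1102 (iv D1102)
def n1103 : Q := act 2 n831
theorem D1103 : act 2 n831 = n1103 := rfl
theorem F4053 : act 0 n1103 = n837 := d1_1 D1103 (iv D837) (iv F3105)
theorem F4054 : act 4 n1103 = n848 := d14_2 (iv F3107) D1103 (iv D848)
theorem F4055 : act 5 n1103 = n832 := d15_2 (iv F3108) D1103 (iv D832)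
theorem F4056 : act 6 n1103 = n1103 := d16_2 D831 D1103 (iv D1103) (iv D831) F2372
def n1104 : Q := act 1 n832
theorem D1104 : act 1 n832 = n1104 := rfl
theorem F4057 : act 2 n1104 = n1104 := d7_2 D832 D1104 (iv D1104) (iv D832) F2376
theorem F4058 : act 4 n1104 = n833 := d9_2 (iv F3110) D1104 (iv D833)
theorem F4059 : act 6 n1104 = n1104 := d11_2 F3111 D1104 (iv D1104)
def n1105 : Q := act 3 n832
theorem D1105 : act 3 n832 = n1105 := rfl
theorem F4060 : act 0 n1105 = n839 := d2_1 D1105 (iv D839) (iv F3109)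
theorem F4061 : act 6 n1105 = n1105 := d20_2 F3111 D1105 (iv D1105)
def n1106 : Q := act 0 n833
theorem D1106 : act 0 n833 = n1106 := rfl
theorem F4062 : act 1 n1106 = n840 := d0_2 D833 D1106 (iv D840) (iv D631) (iv F2378)
theorem F4063 : act 2 n1106 = n1106 := d1_2 F3112 D1106 (iv D1106)
theorem F4065 : act 6 n1106 = n1106 := d5_2 F3114 D1106 (iv D1106)
def n1107 : Q := act 3 n833
theorem D1107 : act 3 n833 = n1107 := rfl
theorem F4066 : act 1 n1107 = n834 := d8_1 D1107 (iv D834) D833
def n1108 : Q := act 4 n834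
theorem D1108 : act 4 n834 = n1108 := rfl
theorem F4069 : act 0 n1108 = n842 := d3_1 D1108 (iv D842) (iv F3115)
theorem F4070 : act 2 n1108 = n836 := d14_1 D1108 (iv D836) (iv F3116)
theorem F4071 : act 6 n1108 = n1108 := d23_2 F3118 D1108 (iv D1108)
def n1110 : Q := act 4 n835
theorem D1110 : act 4 n835 = n1110 := rfl
theorem F4076 : act 1 n1110 = n836 := d9_1 D1110 (iv D836) (iv F3120)
def n1112 : Q := act 1 n837
theorem D1112 : act 1 n837 = n1112 := rfl
theorem F4082 : act 4 n1112 = n857 := d9_2 (iv F3125) D1112 (iv D857)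
theorem F4083 : act 5 n1112 = n838 := d10_2 (iv F3126) D1112 (iv D838)
def n1113 : Q := act 3 n837
theorem D1113 : act 3 n837 = n1113 := rfl
theorem F4085 : act 5 n1113 = n839 := d19_2 (iv F3126) D1113 (iv D839)
theorem F4086 : act 6 n1113 = n1113 := d20_2 F3127 D1113 (iv D1113)
def n1114 : Q := act 0 n838
theorem D1114 : act 0 n838 = n1114 := rfl
theorem F4087 : act 2 n1114 = n846 := d1_2 (iv F3128) D1114 (iv D846)
theorem F4088 : act 4 n1114 = n840 := d3_2 (iv F3129) D1114 (iv D840)
theorem F4089 : act 6 n1114 = n1114 := d5_2 F3130 D1114 (iv D1114)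
def n1115 : Q := act 3 n838
theorem D1115 : act 3 n838 = n1115 := rfl
theorem F4090 : act 1 n1115 = n839 := d8_1 D1115 (iv D839) D838
theorem F4091 : act 6 n1115 = n1115 := d20_2 F3130 D1115 (iv D1115)
def n1116 : Q := act 4 n839
theorem D1116 : act 4 n839 = n1116 := rfl
theorem F4092 : act 3 n1116 = n842 := d18_1 D1116 (iv D842) (iv D632) (iv F2391) D839
theorem F4093 : act 6 n1116 = n1116 := d23_2 F3131 D1116 (iv D1116)
def n1117 : Q := act 3 n840
theorem D1117 : act 3 n840 = n1117 := rfl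
theorem F4094 : act 0 n1117 = n841 := d2_1 D1117 (iv D841) D840
theorem F4095 : act 2 n1117 = n1117 := d13_1 D1117 (iv D1117) F3132 F2411 (iv F3132)
theorem F4096 : act 5 n1117 = n862 := d19_2 (iv F3133) D1117 (iv D862)
theorem F4097 : act 6 n1117 = n1117 := d20_2 F3134 D1117 (iv D1117)
def n1118 : Q := act 4 n841
theorem D1118 : act 4 n841 = n1118 := rfl
theorem F4098 : act 1 n1118 = n842 := d9_1 D1118 (iv D842) (iv F3135)
theorem F4099 : act 2 n1118 = n1118 := d14_1 D1118 (iv D1118) F3136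
theorem F4100 : act 6 n1118 = n1118 := d23_2 F3138 D1118 (iv D1118)
def n1119 : Q := act 5 n842
theorem D1119 : act 5 n842 = n1119 := rfl
theorem F4102 : act 4 n1119 = n864 := d22_1 D1119 (iv D864) (iv D649) (iv F2397) D842
def n1120 : Q := act 0 n844
theorem D1120 : act 0 n844 = n1120 := rfl
theorem F4105 : act 4 n1120 = n865 := d3_2 (iv F3144) D1120 (iv D865)
theorem F4106 : act 5 n1120 = n846 := d4_2 (iv F3145) D1120 (iv D846)
theorem F4107 : act 6 n1120 = n870 := d5_2 (iv F3146) D1120 (iv D870)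
def n1121 : Q := act 3 n844
theorem D1121 : act 3 n844 = n1121 := rfl
theorem F4108 : act 1 n1121 = n845 := d8_1 D1121 (iv D845) D844
theorem F4109 : act 5 n1121 = n847 := d19_2 (iv F3145) D1121 (iv D847)
theorem F4110 : act 6 n1121 = n871 := d20_2 (iv F3146) D1121 (iv D871)
def n1122 : Q := act 4 n845
theorem D1122 : act 4 n845 = n1122 := rfl
theorem F4114 : act 6 n1122 = n872 := d23_2 (iv F3149) D1122 (iv D872)
def n1123 : Q := act 3 n846
theorem D1123 : act 3 n846 = n1123 := rfl
theorem F4115 : act 0 n1123 = n847 := d2_1 D1123 (iv D847) D846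
theorem F4118 : act 6 n1123 = n873 := d20_2 (iv F3152) D1123 (iv D873)
def n1124 : Q := act 2 n847
theorem D1124 : act 2 n847 = n1124 := rfl
theorem F4119 : act 4 n1124 = n1124 := d14_2 F3154 D1124 (iv D1124)
def n1125 : Q := act 1 n848
theorem D1125 : act 1 n848 = n1125 := rfl
theorem F4121 : act 5 n1125 = n849 := d10_2 (iv F3157) D1125 (iv D849)
def n1126 : Q := act 3 n848
theorem D1126 : act 3 n848 = n1126 := rfl
theorem F4123 : act 0 n1126 = n858 := d2_1 D1126 (iv D858) (iv F3156)
theorem F4125 : act 5 n1126 = n850 := d19_2 (iv F3157) D1126 (iv D850)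
def n1127 : Q := act 0 n849
theorem D1127 : act 0 n849 = n1127 := rfl
theorem F4127 : act 1 n1127 = n859 := d0_2 D849 D1127 (iv D859) (iv D645) (iv F2418)
theorem F4129 : act 4 n1127 = n851 := d3_2 (iv F3160) D1127 (iv D851)
def n1128 : Q := act 3 n849
theorem D1128 : act 3 n849 = n1128 := rfl
theorem F4131 : act 1 n1128 = n850 := d8_1 D1128 (iv D850) D849
def n1129 : Q := act 4 n850
theorem D1129 : act 4 n850 = n1129 := rfl
theorem F4133 : act 0 n1129 = n861 := d3_1 D1129 (iv D861) (iv F3162)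
theorem F4135 : act 3 n1129 = n853 := d18_1 D1129 (iv D853) (iv D641) (iv F2419) D850
def n1130 : Q := act 3 n851
theorem D1130 : act 3 n851 = n1130 := rfl
theorem F4137 : act 0 n1130 = n852 := d2_1 D1130 (iv D852) D851
theorem F4138 : act 1 n1130 = n862 := d8_1 D1130 (iv D862) (iv F3165)
def n1131 : Q := act 2 n852
theorem D1131 : act 2 n852 = n1131 := rfl
theorem F4140 : act 1 n1131 = n854 := d7_1 D1131 (iv D854) F2427 (iv F2424) (iv F3168)
def n1132 : Q := act 4 n852
theorem D1132 : act 4 n852 = n1132 := rfl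
theorem F4142 : act 1 n1132 = n853 := d9_1 D1132 (iv D853) (iv F3168)
def n1134 : Q := act 4 n854
theorem D1134 : act 4 n854 = n1134 := rfl
def n1136 : Q := act 5 n855
theorem D1136 : act 5 n855 = n1136 := rfl
def n1137 : Q := act 0 n857
theorem D1137 : act 0 n857 = n1137 := rfl
theorem F4156 : act 2 n1137 = n865 := d1_2 (iv F3182) D1137 (iv D865)
def n1139 : Q := act 4 n858
theorem D1139 : act 4 n858 = n1139 := rfl
def n1140 : Q := act 3 n859
theorem D1140 : act 3 n859 = n1140 := rfl
theorem F4164 : act 0 n1140 = n860 := d2_1 D1140 (iv D860) D859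
theorem F4165 : act 6 n1140 = n1140 := d20_2 F3190 D1140 (iv D1140)
def n1141 : Q := act 2 n860
theorem D1141 : act 2 n860 = n1141 := rfl
def n1143 : Q := act 5 n861
theorem D1143 : act 5 n861 = n1143 := rfl
def n1144 : Q := act 4 n862
theorem D1144 : act 4 n862 = n1144 := rfl
theorem F4174 : act 0 n1144 = n863 := d3_1 D1144 (iv D863) (iv F3196)
def n1145 : Q := act 5 n863
theorem D1145 : act 5 n863 = n1145 := rfl
def n1146 : Q := act 3 n865
theorem D1146 : act 3 n865 = n1146 := rfl
theorem F4180 : act 0 n1146 = n866 := d2_1 D1146 (iv D866) D865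
theorem F4183 : act 6 n1146 = n875 := d20_2 (iv F3206) D1146 (iv D875)
def n1147 : Q := act 2 n866
theorem D1147 : act 2 n866 = n1147 := rfl
def n1148 : Q := act 4 n866
theorem D1148 : act 4 n866 = n1148 := rfl
theorem F4188 : act 6 n1148 = n877 := d23_2 (iv F3209) D1148 (iv D877)
def n1149 : Q := act 2 n868
theorem D1149 : act 2 n868 = n1149 := rfl
def n1150 : Q := act 6 n869
theorem D1150 : act 6 n869 = n1150 := rfl
def n1151 : Q := act 3 n870
theorem D1151 : act 3 n870 = n1151 := rfl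
theorem F4194 : act 0 n1151 = n871 := d2_1 D1151 (iv D871) D870
theorem F4196 : act 5 n1151 = n873 := d19_2 (iv F3223) D1151 (iv D873)
def n1152 : Q := act 2 n871
theorem D1152 : act 2 n871 = n1152 := rfl
theorem F4198 : act 1 n1152 = n1152 := d7_1 D1152 (iv D1152) F3225 F2466 (iv F3225)
theorem F4199 : act 3 n1152 = n1152 := d13_2 D871 D1152 (iv D1152) (iv D871) F2461
theorem F4200 : act 5 n1152 = n874 := d15_2 (iv F3226) D1152 (iv D874)
theorem F4201 : act 7 n1152 = n1152 := d17_2 F3227 D1152 (iv D1152)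
def n1153 : Q := act 4 n871
theorem D1153 : act 4 n871 = n1153 := rfl
theorem F4203 : act 3 n1153 = n877 := d18_1 D1153 (iv D877) (iv D660) (iv F2462) D871
def n1154 : Q := act 2 n873
theorem D1154 : act 2 n873 = n1154 := rfl
theorem F4206 : act 0 n1154 = n874 := d1_1 D1154 (iv D874) (iv F3233)
theorem F4207 : act 3 n1154 = n1154 := d13_2 D873 D1154 (iv D1154) (iv D873) F2470
theorem F4208 : act 4 n1154 = n1154 := d14_2 F3235 D1154 (iv D1154)
theorem F4209 : act 7 n1154 = n1154 := d17_2 F3236 D1154 (iv D1154)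
def n1155 : Q := act 6 n874
theorem D1155 : act 6 n874 = n1155 := rfl
theorem F4210 : act 1 n1155 = n1155 := d11_1 D1155 (iv D1155) F3237
theorem F4211 : act 3 n1155 = n1155 := d20_1 D1155 (iv D1155) F3238
theorem F4212 : act 4 n1155 = n1155 := d23_1 D1155 (iv D1155) F3239
def n1156 : Q := act 2 n875
theorem D1156 : act 2 n875 = n1156 := rfl
theorem F4213 : act 0 n1156 = n876 := d1_1 D1156 (iv D876) (iv F3241)
theorem F4215 : act 5 n1156 = n878 := d15_2 (iv F3243) D1156 (iv D878)
def n1157 : Q := act 4 n875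
theorem D1157 : act 4 n875 = n1157 := rfl
theorem F4217 : act 0 n1157 = n877 := d3_1 D1157 (iv D877) (iv F3241)
def n1158 : Q := act 4 n876
theorem D1158 : act 4 n876 = n1158 := rfl
theorem F4221 : act 1 n1158 = n882 := d9_1 D1158 (iv D882) (iv F3245)
theorem F4222 : act 2 n1158 = n877 := d14_1 D1158 (iv D877) D876
def n1159 : Q := act 6 n876
theorem D1159 : act 6 n876 = n1159 := rfl
theorem F4225 : act 1 n1159 = n883 := d11_1 D1159 (iv D883) (iv F3245)
def n1160 : Q := act 1 n878
theorem D1160 : act 1 n878 = n1160 := rfl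
theorem F4228 : act 0 n1160 = n884 := d0_1 D1160 (iv D884) F2508 (iv F2491) (iv F3252)
def n1161 : Q := act 6 n878
theorem D1161 : act 6 n878 = n1161 := rfl
theorem F4233 : act 0 n1161 = n879 := d5_1 D1161 (iv D879) (iv F3252)
def n1162 : Q := act 7 n879
theorem D1162 : act 7 n879 = n1162 := rfl
theorem F4236 : act 1 n1162 = n886 := d12_1 D1162 (iv D886) (iv F3256)
def n1163 : Q := act 1 n880
theorem D1163 : act 1 n880 = n1163 := rfl
theorem F4242 : act 5 n1163 = n884 := d10_2 (iv F3261) D1163 (iv D884)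
def n1164 : Q := act 4 n880
theorem D1164 : act 4 n880 = n1164 := rfl
theorem F4244 : act 0 n1164 = n882 := d3_1 D1164 (iv D882) (iv F3259)
theorem F4245 : act 2 n1164 = n881 := d14_1 D1164 (iv D881) D880
def n1165 : Q := act 6 n880
theorem D1165 : act 6 n880 = n1165 := rfl
theorem F4248 : act 0 n1165 = n883 := d5_1 D1165 (iv D883) (iv F3259)
def n1166 : Q := act 3 n882
theorem D1166 : act 3 n882 = n1166 := rfl
theorem F4252 : act 2 n1166 = n1166 := d13_1 D1166 (iv D1166) F3269 F2504 (iv F3269)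
def n1167 : Q := act 6 n882
theorem D1167 : act 6 n882 = n1167 := rfl
def n1168 : Q := act 7 n883
theorem D1168 : act 7 n883 = n1168 := rfl
def n1169 : Q := act 6 n884
theorem D1169 : act 6 n884 = n1169 := rfl
def n1171 : Q := act 3 n887
theorem D1171 : act 3 n887 = n1171 := rfl
theorem F4271 : act 0 n1171 = n1171 := d2_1 D1171 (iv D1171) F3287
theorem F4272 : act 1 n1171 = n1171 := d8_1 D1171 (iv D1171) F3288
theorem F4273 : act 5 n1171 = n1171 := d19_2 F3290 D1171 (iv D1171)
theorem F4274 : act 6 n1171 = n909 := d20_2 (iv F3291) D1171 (iv D909)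
def n1172 : Q := act 7 n887
theorem D1172 : act 7 n887 = n1172 := rfl
theorem F4275 : act 0 n1172 = n1172 := d6_1 D1172 (iv D1172) F3287
theorem F4276 : act 1 n1172 = n1172 := d12_1 D1172 (iv D1172) F3288
theorem F4277 : act 2 n1172 = n888 := d17_1 D1172 (iv D888) D887
theorem F4278 : act 4 n1172 = n1172 := d24_1 D1172 (iv D1172) F3289
theorem F4279 : act 5 n1172 = n1172 := d26_1 D1172 (iv D1172) F3290
def n1173 : Q := act 6 n888
theorem D1173 : act 6 n888 = n1173 := rfl
theorem F4280 : act 0 n1173 = n1173 := d5_1 D1173 (iv D1173) F3292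
theorem F4281 : act 1 n1173 = n890 := d11_1 D1173 (iv D890) (iv F3293)
theorem F4282 : act 4 n1173 = n1173 := d23_1 D1173 (iv D1173) F3294
theorem F4283 : act 5 n1173 = n1173 := d25_1 D1173 (iv D1173) F3295
theorem F4284 : act 7 n1173 = n889 := d27_2 D888 D1173 (iv D889) (iv D670) D669
def n1174 : Q := act 2 n889
theorem D1174 : act 2 n889 = n1174 := rfl
theorem F4288 : act 6 n1174 = n912 := d16_2 D889 D1174 (iv D912) (iv D690) (iv F2521)
def n1175 : Q := act 2 n890
theorem D1175 : act 2 n890 = n1175 := rfl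
theorem F4289 : act 0 n1175 = n896 := d1_1 D1175 (iv D896) (iv F3300)
theorem F4290 : act 4 n1175 = n1175 := d14_2 F3301 D1175 (iv D1175)
theorem F4291 : act 5 n1175 = n1175 := d15_2 F3302 D1175 (iv D1175)
theorem F4292 : act 6 n1175 = n1175 := d16_2 D890 D1175 (iv D1175) (iv D890) F2525
theorem F4293 : act 7 n1175 = n891 := d17_2 (iv F3303) D1175 (iv D891)
def n1176 : Q := act 1 n891
theorem D1176 : act 1 n891 = n1176 := rfl
def n1177 : Q := act 3 n891
theorem D1177 : act 3 n891 = n1177 := rfl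
theorem F4297 : act 0 n1177 = n898 := d2_1 D1177 (iv D898) (iv F3304)
theorem F4298 : act 5 n1177 = n1177 := d19_2 F3306 D1177 (iv D1177)
theorem F4299 : act 6 n1177 = n893 := d20_2 (iv F3307) D1177 (iv D893)
def n1179 : Q := act 3 n892
theorem D1179 : act 3 n892 = n1179 := rfl
theorem F4305 : act 1 n1179 = n893 := d8_1 D1179 (iv D893) D892
def n1184 : Q := act 1 n896
theorem D1184 : act 1 n896 = n1184 := rfl
theorem F4324 : act 2 n1184 = n1184 := d7_2 D896 D1184 (iv D1184) (iv D896) F2543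
theorem F4325 : act 4 n1184 = n1184 := d9_2 F3323 D1184 (iv D1184)
theorem F4326 : act 5 n1184 = n1184 := d10_2 F3324 D1184 (iv D1184)
theorem F4327 : act 6 n1184 = n1184 := d11_2 F3325 D1184 (iv D1184)
theorem F4328 : act 7 n1184 = n897 := d12_2 (iv F3326) D1184 (iv D897)
def n1185 : Q := act 3 n896
theorem D1185 : act 3 n896 = n1185 := rfl
theorem F4329 : act 5 n1185 = n1185 := d19_2 F3324 D1185 (iv D1185)
theorem F4330 : act 6 n1185 = n1185 := d20_2 F3325 D1185 (iv D1185)
theorem F4331 : act 7 n1185 = n898 := d21_2 (iv F3326) D1185 (iv D898)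
def n1186 : Q := act 0 n897
theorem D1186 : act 0 n897 = n1186 := rfl
theorem F4335 : act 6 n1186 = n899 := d5_2 (iv F3330) D1186 (iv D899)
def n1187 : Q := act 3 n897
theorem D1187 : act 3 n897 = n1187 := rfl
theorem F4336 : act 1 n1187 = n898 := d8_1 D1187 (iv D898) D897
theorem F4337 : act 5 n1187 = n1187 := d19_2 F3329 D1187 (iv D1187)
theorem F4338 : act 6 n1187 = n900 := d20_2 (iv F3330) D1187 (iv D900)
def n1188 : Q := act 4 n898
theorem D1188 : act 4 n898 = n1188 := rfl
theorem F4339 : act 3 n1188 = n1188 := d18_1 D1188 (iv D1188) (iv D898) F2547 D898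
theorem F4340 : act 6 n1188 = n901 := d23_2 (iv F3332) D1188 (iv D901)
def n1189 : Q := act 3 n899
theorem D1189 : act 3 n899 = n1189 := rfl
theorem F4341 : act 0 n1189 = n900 := d2_1 D1189 (iv D900) D899
def n1190 : Q := act 4 n900
theorem D1190 : act 4 n900 = n1190 := rfl
theorem F4345 : act 1 n1190 = n901 := d9_1 D1190 (iv D901) (iv F3337)
theorem F4346 : act 2 n1190 = n1190 := d14_1 D1190 (iv D1190) F3338
theorem F4347 : act 3 n1190 = n1190 := d18_1 D1190 (iv D1190) (iv D900) F2551 D900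
theorem F4348 : act 7 n1190 = n1190 := d24_2 F3340 D1190 (iv D1190)
def n1195 : Q := act 3 n906
theorem D1195 : act 3 n906 = n1195 := rfl
theorem F4368 : act 4 n1195 = n933 := d18_2 D906 D1195 (iv D933) (iv D707) (iv F2579)
def n1199 : Q := act 4 n909
theorem D1199 : act 4 n909 = n1199 := rfl
theorem F4381 : act 0 n1199 = n1199 := d3_1 D1199 (iv D1199) F3371
theorem F4382 : act 1 n1199 = n1199 := d9_1 D1199 (iv D1199) F3372
theorem F4383 : act 2 n1199 = n1199 := d14_1 D1199 (iv D1199) F3373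
theorem F4384 : act 3 n1199 = n1199 := d18_1 D1199 (iv D1199) (iv D909) F2591 D909
def n1200 : Q := act 7 n909
theorem D1200 : act 7 n909 = n1200 := rfl
def n1201 : Q := act 6 n910
theorem D1201 : act 6 n910 = n1201 := rfl
def n1234 : Q := act 4 n937
theorem D1234 : act 4 n937 = n1234 := rfl
theorem F4521 : act 0 n1234 = n958 := d3_1 D1234 (iv D958) (iv F3485)
theorem F4522 : act 1 n1234 = n938 := d9_1 D1234 (iv D938) D937
theorem F4523 : act 2 n1234 = n1234 := d14_1 D1234 (iv D1234) F3486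
theorem F4524 : act 6 n1234 = n972 := d29_7 (iv F950) (iv F1235) D421 (iv F2104) (iv F2740) (iv F3564) (iv F4521) (iv D972) F2769 (iv D732) F2115 F1612 F1222 F1224 D341 F1331 F1330 F1015 F790 F789 F793 (iv D199) (iv D144) (iv D103) (iv D74) F233 F191 (iv D34) (iv D23) (iv D15) F56 (iv D10) F41 F30 F33 F32 D8 F47 F46 (iv F59) (iv F73) F76 D21 F105 F104 (iv F137) (iv F168) F167 D53 F235 F174 F130 D39 F176 F175 F178 F177 (iv F238) D76 (iv F426) (iv F571) (iv F765)
theorem F4525 : act 3 n975 = n1234 := d20_3 F4524 F3616 D975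
theorem F4526 : act 5 n973 = n1234 := d25_3 F4524 (iv D972) D973
def n1235 : Q := act 6 n937
theorem D1235 : act 6 n937 = n1235 := rfl
theorem F4527 : act 0 n1235 = n959 := d5_1 D1235 (iv D959) (iv F3485)
theorem F4528 : act 1 n1235 = n939 := d11_1 D1235 (iv D939) D937
theorem F4529 : act 3 n1235 = n1235 := d20_1 D1235 (iv D1235) F3487
theorem F4530 : act 4 n1235 = n972 := d23_1 D1235 (iv F4524) (iv D1234)
theorem F4531 : act 5 n1235 = n1235 := d25_1 D1235 (iv D1235) F3488
theorem F4532 : act 2 n1005 = n1235 := d14_3 F4530 F3615 D1005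
def n1236 : Q := act 7 n937
theorem D1236 : act 7 n937 = n1236 := rfl
theorem F4533 : act 0 n1236 = n960 := d6_1 D1236 (iv D960) (iv F3485)
theorem F4534 : act 1 n1236 = n940 := d12_1 D1236 (iv D940) D937
theorem F4535 : act 2 n1236 = n1236 := d17_1 D1236 (iv D1236) F3486
theorem F4536 : act 3 n1236 = n1236 := d21_1 D1236 (iv D1236) F3487
theorem F4537 : act 5 n1236 = n1236 := d26_1 D1236 (iv D1236) F3488
def n1237 : Q := act 3 n938
theorem D1237 : act 3 n938 = n1237 := rfl
theorem F4538 : act 0 n1237 = n945 := d2_1 D1237 (iv D945) (iv F3489)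
theorem F4539 : act 1 n1237 = n975 := d8_1 D1237 F4525 F4522
theorem F4540 : act 2 n1237 = n1237 := d13_1 D1237 (iv D1237) F3490 F2685 (iv F3490)
theorem F4541 : act 4 n1237 = n1237 := d18_2 D938 D1237 (iv D1237) (iv D938) F2681
theorem F4542 : act 5 n947 = n1237 := d10_0 F4539 F3625 (iv F3524)
theorem F4543 : act 6 n946 = n1237 := d11_0 F4539 (iv D975) (iv F3521)
def n1238 : Q := act 5 n938
theorem D1238 : act 5 n938 = n1238 := rfl
theorem F4544 : act 0 n1238 = n946 := d4_1 D1238 (iv D946) (iv F3489)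
theorem F4545 : act 1 n1238 = n973 := d10_1 D1238 F4526 F4522
theorem F4546 : act 2 n1238 = n941 := d15_1 D1238 (iv D941) (iv F3490)
theorem F4547 : act 3 n1238 = n947 := d19_1 D1238 F4542 (iv D1237)
theorem F4548 : act 4 n1238 = n1238 := d22_1 D1238 (iv D1238) (iv D938) F2682 D938
theorem F4549 : act 6 n945 = n1238 := d20_0 F4547 (iv D947) D945
def n1239 : Q := act 6 n938
theorem D1239 : act 6 n938 = n1239 := rfl
theorem F4550 : act 0 n1239 = n947 := d5_1 D1239 (iv D947) (iv F3489)
theorem F4551 : act 1 n1239 = n972 := d11_1 D1239 (iv F4524) F4522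
theorem F4552 : act 2 n1239 = n1239 := d16_1 D1239 (iv D1239) F3490 F2686 (iv F3490)
theorem F4553 : act 3 n1239 = n946 := d20_1 D1239 F4543 (iv D1237)
theorem F4554 : act 4 n1239 = n939 := d23_1 D1239 (iv D939) D938
theorem F4555 : act 5 n1239 = n945 := d25_1 D1239 F4549 (iv D1238)
def n1240 : Q := act 7 n938
theorem D1240 : act 7 n938 = n1240 := rfl
theorem F4556 : act 0 n1240 = n948 := d6_1 D1240 (iv D948) (iv F3489)
theorem F4557 : act 2 n1240 = n942 := d17_1 D1240 (iv D942) (iv F3490)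
theorem F4558 : act 4 n1240 = n940 := d24_1 D1240 (iv D940) D938
def n1241 : Q := act 7 n939
theorem D1241 : act 7 n939 = n1241 := rfl
theorem F4559 : act 0 n1241 = n949 := d6_1 D1241 (iv D949) (iv F3491)
theorem F4560 : act 2 n1241 = n1241 := d17_1 D1241 (iv D1241) F3492
theorem F4561 : act 3 n1241 = n1241 := d21_1 D1241 (iv D1241) F3493
theorem F4562 : act 5 n1241 = n1241 := d26_1 D1241 (iv D1241) F3494
def n1242 : Q := act 6 n940
theorem D1242 : act 6 n940 = n1242 := rfl
theorem F4563 : act 0 n1242 = n950 := d5_1 D1242 (iv D950) (iv F3495)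
theorem F4564 : act 3 n1242 = n1242 := d20_1 D1242 (iv D1242) F3497
theorem F4565 : act 5 n1242 = n1242 := d25_1 D1242 (iv D1242) F3498
def n1243 : Q := act 7 n941
theorem D1243 : act 7 n941 = n1243 := rfl
theorem F4566 : act 0 n1243 = n951 := d6_1 D1243 (iv D951) (iv F3499)
theorem F4567 : act 1 n1243 = n1243 := d12_1 D1243 (iv D1243) F3500
theorem F4568 : act 3 n1243 = n1243 := d21_1 D1243 (iv D1243) F3501
theorem F4569 : act 4 n1243 = n1243 := d24_1 D1243 (iv D1243) F3502
theorem F4570 : act 5 n1243 = n942 := d26_1 D1243 (iv D942) D941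
def n1244 : Q := act 6 n942
theorem D1244 : act 6 n942 = n1244 := rfl
theorem F4571 : act 0 n1244 = n952 := d5_1 D1244 (iv D952) (iv F3504)
theorem F4572 : act 1 n1244 = n1244 := d11_1 D1244 (iv D1244) F3505
theorem F4573 : act 3 n1244 = n1244 := d20_1 D1244 (iv D1244) F3506
theorem F4574 : act 4 n1244 = n943 := d23_1 D1244 (iv D943) (iv F3507)
theorem F4575 : act 7 n1244 = n1244 := d27_2 D942 D1244 (iv D1244) (iv D942) F2686
def n1245 : Q := act 2 n943
theorem D1245 : act 2 n943 = n1245 := rfl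
theorem F4576 : act 0 n1245 = n953 := d1_1 D1245 (iv D953) (iv F3508)
theorem F4577 : act 5 n1245 = n1245 := d15_2 F3511 D1245 (iv D1245)
theorem F4578 : act 7 n1245 = n1245 := d17_2 F3512 D1245 (iv D1245)
def n1246 : Q := act 1 n944
theorem D1246 : act 1 n944 = n1246 := rfl
theorem F4579 : act 0 n1246 = n1246 := d0_1 D1246 (iv D1246) F3513 F2717 (iv F3513)
theorem F4580 : act 2 n1246 = n1246 := d7_2 D944 D1246 (iv D1246) (iv D944) F2692
theorem F4581 : act 4 n1246 = n1246 := d9_2 F3514 D1246 (iv D1246)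
theorem F4582 : act 5 n1246 = n1246 := d10_2 F3515 D1246 (iv D1246)
theorem F4583 : act 6 n1246 = n1246 := d11_2 F3516 D1246 (iv D1246)
theorem F4584 : act 7 n1246 = n1246 := d12_2 F3517 D1246 (iv D1246)
def n1247 : Q := act 3 n944
theorem D1247 : act 3 n944 = n1247 := rfl
theorem F4585 : act 0 n1247 = n954 := d2_1 D1247 (iv D954) (iv F3513)
theorem F4586 : act 5 n1247 = n1247 := d19_2 F3515 D1247 (iv D1247)
theorem F4587 : act 6 n1247 = n1247 := d20_2 F3516 D1247 (iv D1247)
theorem F4588 : act 7 n1247 = n1247 := d21_2 F3517 D1247 (iv D1247)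
def n1248 : Q := act 7 n945
theorem D1248 : act 7 n945 = n1248 := rfl
theorem F4589 : act 1 n1248 = n974 := d12_1 D1248 (iv D974) (iv F3518)
theorem F4590 : act 2 n1248 = n1248 := d17_1 D1248 (iv D1248) F3519
theorem F4591 : act 3 n1248 = n948 := d21_1 D1248 (iv D948) D945
theorem F4592 : act 4 n1248 = n1248 := d24_1 D1248 (iv D1248) F3520
def n1249 : Q := act 7 n946
theorem D1249 : act 7 n946 = n1249 := rfl
theorem F4593 : act 1 n1249 = n976 := d12_1 D1249 (iv D976) (iv F3521)
theorem F4594 : act 2 n1249 = n951 := d17_1 D1249 (iv D951) (iv F3522)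
theorem F4595 : act 4 n1249 = n1249 := d24_1 D1249 (iv D1249) F3523
theorem F4596 : act 5 n1249 = n948 := d26_1 D1249 (iv D948) D946
def n1250 : Q := act 7 n947
theorem D1250 : act 7 n947 = n1250 := rfl
theorem F4597 : act 1 n1250 = n977 := d12_1 D1250 (iv D977) (iv F3524)
theorem F4598 : act 2 n1250 = n1250 := d17_1 D1250 (iv D1250) F3525
theorem F4599 : act 4 n1250 = n949 := d24_1 D1250 (iv D949) (iv F3526)
def n1251 : Q := act 6 n948
theorem D1251 : act 6 n948 = n1251 := rfl
theorem F4600 : act 1 n1251 = n978 := d11_1 D1251 (iv D978) (iv F3527)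
theorem F4601 : act 4 n1251 = n950 := d23_1 D1251 (iv D950) (iv F3529)
def n1252 : Q := act 6 n949
theorem D1252 : act 6 n949 = n1252 := rfl
theorem F4602 : act 1 n1252 = n979 := d11_1 D1252 (iv D979) (iv F3530)
theorem F4603 : act 3 n1252 = n1252 := d20_1 D1252 (iv D1252) F3532
theorem F4604 : act 5 n1252 = n1252 := d25_1 D1252 (iv D1252) F3533
theorem F4605 : act 7 n1252 = n950 := d27_2 D949 D1252 (iv D950) (iv D716) D715
def n1253 : Q := act 2 n950
theorem D1253 : act 2 n950 = n1253 := rfl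
theorem F4606 : act 5 n1253 = n1253 := d15_2 F3536 D1253 (iv D1253)
theorem F4607 : act 6 n1253 = n953 := d16_2 D950 D1253 (iv D953) (iv D719) (iv F2703)
def n1254 : Q := act 6 n951
theorem D1254 : act 6 n951 = n1254 := rfl
theorem F4608 : act 1 n1254 = n955 := d11_1 D1254 (iv D955) (iv F3537)
theorem F4609 : act 3 n1254 = n1254 := d20_1 D1254 (iv D1254) F3538
theorem F4610 : act 4 n1254 = n1254 := d23_1 D1254 (iv D1254) F3539
theorem F4611 : act 5 n1254 = n952 := d25_1 D1254 (iv D952) (iv F3540)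
theorem F4612 : act 7 n1254 = n1254 := d27_2 D951 D1254 (iv D1254) (iv D951) F2709
def n1255 : Q := act 2 n952
theorem D1255 : act 2 n952 = n1255 := rfl
theorem F4613 : act 4 n1255 = n953 := d14_2 (iv F3543) D1255 (iv D953)
theorem F4614 : act 7 n1255 = n1255 := d17_2 F3544 D1255 (iv D1255)
def n1256 : Q := act 1 n953
theorem D1256 : act 1 n953 = n1256 := rfl
theorem F4615 : act 2 n1256 = n957 := d7_2 D953 D1256 (iv D957) (iv D723) (iv F2713)
theorem F4616 : act 5 n1256 = n1256 := d10_2 F3545 D1256 (iv D1256)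
theorem F4617 : act 7 n1256 = n1256 := d12_2 F3546 D1256 (iv D1256)
def n1257 : Q := act 3 n953
theorem D1257 : act 3 n953 = n1257 := rfl
theorem F4618 : act 2 n1257 = n954 := d13_1 D1257 (iv D954) (iv D720) (iv F2714) D953
theorem F4619 : act 5 n1257 = n1257 := d19_2 F3545 D1257 (iv D1257)
theorem F4620 : act 7 n1257 = n1257 := d21_2 F3546 D1257 (iv D1257)
def n1258 : Q := act 4 n954
theorem D1258 : act 4 n954 = n1258 := rfl
theorem F4621 : act 1 n1258 = n1258 := d9_1 D1258 (iv D1258) F3547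
theorem F4622 : act 3 n1258 = n1258 := d18_1 D1258 (iv D1258) (iv D954) F2718 D954
theorem F4623 : act 6 n1258 = n1258 := d23_2 F3549 D1258 (iv D1258)
theorem F4624 : act 7 n1258 = n1258 := d24_2 F3550 D1258 (iv D1258)
def n1259 : Q := act 2 n955
theorem D1259 : act 2 n955 = n1259 := rfl
theorem F4625 : act 0 n1259 = n1259 := d1_1 D1259 (iv D1259) F3551
theorem F4626 : act 4 n1259 = n1259 := d14_2 F3553 D1259 (iv D1259)
theorem F4627 : act 5 n1259 = n956 := d15_2 (iv F3554) D1259 (iv D956)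
theorem F4628 : act 6 n1259 = n986 := d16_2 D955 D1259 (iv D986) (iv D742) (iv F2723)
theorem F4629 : act 7 n1259 = n1259 := d17_2 F3555 D1259 (iv D1259)
def n1260 : Q := act 1 n956
theorem D1260 : act 1 n956 = n1260 := rfl
theorem F4630 : act 4 n1260 = n957 := d9_2 (iv F3557) D1260 (iv D957)
theorem F4631 : act 6 n1260 = n987 := d11_2 (iv F3558) D1260 (iv D987)
theorem F4632 : act 7 n1260 = n1260 := d12_2 F3559 D1260 (iv D1260)
def n1261 : Q := act 3 n956
theorem D1261 : act 3 n956 = n1261 := rfl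
theorem F4633 : act 0 n1261 = n1261 := d2_1 D1261 (iv D1261) F3556
theorem F4634 : act 2 n1261 = n1261 := d13_1 D1261 (iv D1261) (iv D956) F2728 D956
theorem F4635 : act 4 n1261 = n1261 := d18_2 (iv F3557) D1261 (iv D1261) F3557 F2732
theorem F4636 : act 6 n1261 = n988 := d20_2 (iv F3558) D1261 (iv D988)
theorem F4637 : act 7 n1261 = n1261 := d21_2 F3559 D1261 (iv D1261)
def n1262 : Q := act 0 n957
theorem D1262 : act 0 n957 = n1262 := rfl
theorem F4638 : act 1 n1262 = n1262 := d0_2 D957 D1262 (iv D1262) (iv D957) F2731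
theorem F4639 : act 3 n1262 = n1262 := d2_2 F3560 D1262 (iv D1262)
theorem F4640 : act 5 n1262 = n1262 := d4_2 F3561 D1262 (iv D1262)
theorem F4641 : act 6 n1262 = n989 := d5_2 (iv F3562) D1262 (iv D989)
theorem F4642 : act 7 n1262 = n1262 := d6_2 F3563 D1262 (iv D1262)
def n1263 : Q := act 3 n958
theorem D1263 : act 3 n958 = n1263 := rfl
theorem F4643 : act 0 n1263 = n975 := d2_1 D1263 F4525 F4521
theorem F4644 : act 1 n1263 = n961 := d8_1 D1263 (iv D961) (iv F3564)
theorem F4645 : act 4 n1263 = n1263 := d18_2 D958 D1263 (iv D1263) (iv D958) F2737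
theorem F4646 : act 2 n1073 = n1263 := d29_4 D807 (iv F3965) F3964 F3963 F4644 F3573 D973 F4526 (iv D1234) F3487 F3486 (iv D937) F2680 D715 F2701 (iv F3526) (iv F4547) F4546 F3500 F3499 F2709 (iv D717) (iv D541) (iv D406) F1198 (iv D304) F906 F909 F908 F907 D305 F1203 (iv F1215) (iv F1601) F1604 F1311 D452 F1746 F1341 F1340 F1339 (iv F1246) D426 F1656 F1285 (iv F1711) F1710 (iv F2228) F2230 (iv D582) (iv D434) F1265 (iv D322) F949 F948 F722 (iv F752) D255 (iv F1321) (iv F1756) F1755 (iv F2306)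
theorem F4647 : act 5 n1263 = n963 := d15_2 (iv F3965) F4646 F3580
theorem F4648 : act 6 n1263 = n962 := d16_2 D1073 F4646 F3577 F2753 (iv F3023)
def n1264 : Q := act 5 n958
theorem D1264 : act 5 n958 = n1264 := rfl
theorem F4649 : act 0 n1264 = n973 := d4_1 D1264 F4526 F4521
theorem F4650 : act 1 n1264 = n962 := d10_1 D1264 (iv D962) (iv F3564)
theorem F4651 : act 2 n1264 = n1264 := d15_1 D1264 (iv D1264) F3565
theorem F4652 : act 3 n1264 = n963 := d19_1 D1264 (iv F4647) (iv D1263)
theorem F4653 : act 4 n1264 = n1264 := d22_1 D1264 (iv D1264) (iv D958) F2738 D958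
theorem F4654 : act 6 n961 = n1264 := d20_0 F4652 (iv D963) D961
def n1265 : Q := act 6 n958
theorem D1265 : act 6 n958 = n1265 := rfl
theorem F4655 : act 0 n1265 = n972 := d5_1 D1265 (iv F4524) F4521
theorem F4656 : act 1 n1265 = n963 := d11_1 D1265 (iv D963) (iv F3564)
theorem F4657 : act 3 n1265 = n962 := d20_1 D1265 (iv F4648) (iv D1263)
theorem F4658 : act 4 n1265 = n959 := d23_1 D1265 (iv D959) D958
theorem F4659 : act 5 n1265 = n961 := d25_1 D1265 F4654 (iv D1264)
theorem F4660 : act 2 n994 = n1265 := d15_3 F4659 F3574 D994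
def n1266 : Q := act 7 n958
theorem D1266 : act 7 n958 = n1266 := rfl
theorem F4661 : act 1 n1266 = n964 := d12_1 D1266 (iv D964) (iv F3564)
theorem F4662 : act 2 n1266 = n1266 := d17_1 D1266 (iv D1266) F3565
theorem F4663 : act 4 n1266 = n960 := d24_1 D1266 (iv D960) D958
def n1267 : Q := act 2 n959
theorem D1267 : act 2 n959 = n1267 := rfl
theorem F4664 : act 0 n1267 = n1005 := d1_1 D1267 F4532 F4527
theorem F4665 : act 1 n1267 = n1070 := d7_1 D1267 (iv D1070) F3014 (iv F2742) (iv F3566)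
theorem F4666 : act 4 n1267 = n994 := d14_2 F4658 D1267 F4660
theorem F4667 : act 5 n1267 = n1267 := d15_2 F3568 D1267 (iv D1267)
theorem F4668 : act 6 n1267 = n1267 := d16_2 D959 D1267 (iv D1267) (iv D959) F2736
theorem F4669 : act 3 n1029 = n1267 := d18_5 F4666 F3687 F2820 (iv F2915) D1029
def n1268 : Q := act 7 n959
theorem D1268 : act 7 n959 = n1268 := rfl
theorem F4670 : act 1 n1268 = n965 := d12_1 D1268 (iv D965) (iv F3566)
theorem F4671 : act 3 n1268 = n1268 := d21_1 D1268 (iv D1268) F3567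
theorem F4672 : act 5 n1268 = n1268 := d26_1 D1268 (iv D1268) F3568
def n1269 : Q := act 6 n960
theorem D1269 : act 6 n960 = n1269 := rfl
theorem F4673 : act 1 n1269 = n966 := d11_1 D1269 (iv D966) (iv F3569)
theorem F4674 : act 3 n1269 = n1269 := d20_1 D1269 (iv D1269) F3571
theorem F4675 : act 5 n1269 = n1269 := d25_1 D1269 (iv D1269) F3572
def n1270 : Q := act 7 n961
theorem D1270 : act 7 n961 = n1270 := rfl
theorem F4676 : act 0 n1270 = n974 := d6_1 D1270 (iv D974) (iv F3573)
theorem F4677 : act 2 n1270 = n995 := d17_1 D1270 (iv D995) (iv F3574)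
theorem F4678 : act 3 n1270 = n964 := d21_1 D1270 (iv D964) D961
theorem F4679 : act 4 n1270 = n1270 := d24_1 D1270 (iv D1270) F3575
def n1271 : Q := act 7 n962
theorem D1271 : act 7 n962 = n1271 := rfl
theorem F4680 : act 0 n1271 = n976 := d6_1 D1271 (iv D976) (iv F3576)
theorem F4681 : act 2 n1271 = n967 := d17_1 D1271 (iv D967) (iv F3577)
theorem F4682 : act 4 n1271 = n1271 := d24_1 D1271 (iv D1271) F3578
theorem F4683 : act 5 n1271 = n964 := d26_1 D1271 (iv D964) D962
def n1272 : Q := act 7 n963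
theorem D1272 : act 7 n963 = n1272 := rfl
theorem F4684 : act 0 n1272 = n977 := d6_1 D1272 (iv D977) (iv F3579)
theorem F4685 : act 2 n1272 = n1075 := d17_1 D1272 (iv D1075) (iv F3580)
theorem F4686 : act 4 n1272 = n965 := d24_1 D1272 (iv D965) (iv F3581)
def n1273 : Q := act 6 n964
theorem D1273 : act 6 n964 = n1273 := rfl
theorem F4687 : act 0 n1273 = n978 := d5_1 D1273 (iv D978) (iv F3582)
theorem F4688 : act 4 n1273 = n966 := d23_1 D1273 (iv D966) (iv F3584)
def n1274 : Q := act 6 n965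
theorem D1274 : act 6 n965 = n1274 := rfl
theorem F4689 : act 0 n1274 = n979 := d5_1 D1274 (iv D979) (iv F3585)
theorem F4690 : act 3 n1274 = n1274 := d20_1 D1274 (iv D1274) F3587
theorem F4691 : act 5 n1274 = n1274 := d25_1 D1274 (iv D1274) F3588
theorem F4692 : act 7 n1274 = n966 := d27_2 D965 D1274 (iv D966) (iv D727) D726
def n1275 : Q := act 2 n966
theorem D1275 : act 2 n966 = n1275 := rfl
theorem F4693 : act 0 n1275 = n980 := d1_1 D1275 (iv D980) (iv F3589)
theorem F4694 : act 5 n1275 = n1275 := d15_2 F3591 D1275 (iv D1275)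
theorem F4695 : act 6 n1275 = n969 := d16_2 D966 D1275 (iv D969) (iv D730) (iv F2746)
def n1276 : Q := act 6 n967
theorem D1276 : act 6 n967 = n1276 := rfl
theorem F4696 : act 0 n1276 = n981 := d5_1 D1276 (iv D981) (iv F3592)
theorem F4697 : act 1 n1276 = n1276 := d11_1 D1276 (iv D1276) F3593
theorem F4698 : act 3 n1276 = n999 := d20_1 D1276 (iv D999) (iv F3594)
theorem F4699 : act 4 n1276 = n1276 := d23_1 D1276 (iv D1276) F3595
theorem F4700 : act 5 n1276 = n968 := d25_1 D1276 (iv D968) (iv F3596)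
theorem F4701 : act 7 n1276 = n1079 := d27_2 D967 D1276 (iv D1079) (iv D811) (iv F2753)
def n1277 : Q := act 2 n968
theorem D1277 : act 2 n968 = n1277 := rfl
theorem F4702 : act 0 n1277 = n982 := d1_1 D1277 (iv D982) (iv F3597)
theorem F4703 : act 4 n1277 = n969 := d14_2 (iv F3600) D1277 (iv D969)
theorem F4704 : act 7 n1277 = n1080 := d17_2 (iv F3601) D1277 (iv D1080)
def n1278 : Q := act 1 n969
theorem D1278 : act 1 n969 = n1278 := rfl
theorem F4705 : act 2 n1278 = n1278 := d7_2 D969 D1278 (iv D1278) (iv D969) F2759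
theorem F4706 : act 5 n1278 = n1278 := d10_2 F3603 D1278 (iv D1278)
theorem F4707 : act 7 n1278 = n1081 := d12_2 (iv F3604) D1278 (iv D1081)
def n1279 : Q := act 3 n969
theorem D1279 : act 3 n969 = n1279 := rfl
theorem F4708 : act 0 n1279 = n984 := d2_1 D1279 (iv D984) (iv F3602)
theorem F4709 : act 2 n1279 = n971 := d13_1 D1279 (iv D971) (iv D731) (iv F2760) D969
theorem F4710 : act 5 n1279 = n1279 := d19_2 F3603 D1279 (iv D1279)
theorem F4711 : act 7 n1279 = n1082 := d21_2 (iv F3604) D1279 (iv D1082)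
def n1280 : Q := act 3 n970
theorem D1280 : act 3 n970 = n1280 := rfl
theorem F4712 : act 0 n1280 = n1280 := d2_1 D1280 (iv D1280) F3605
theorem F4713 : act 1 n1280 = n971 := d8_1 D1280 (iv D971) D970
theorem F4714 : act 5 n1280 = n1280 := d19_2 F3608 D1280 (iv D1280)
theorem F4715 : act 6 n1280 = n1280 := d20_2 F3609 D1280 (iv D1280)
theorem F4716 : act 7 n1280 = n1083 := d21_2 (iv F3610) D1280 (iv D1083)
def n1281 : Q := act 4 n971
theorem D1281 : act 4 n971 = n1281 := rfl
theorem F4717 : act 0 n1281 = n985 := d3_1 D1281 (iv D985) (iv F3611)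
theorem F4718 : act 3 n1281 = n1004 := d18_1 D1281 (iv D1004) (iv D755) (iv F2764) D971
theorem F4719 : act 6 n1281 = n1281 := d23_2 F3613 D1281 (iv D1281)
theorem F4720 : act 7 n1281 = n1084 := d24_2 (iv F3614) D1281 (iv D1084)
def n1282 : Q := act 7 n972
theorem D1282 : act 7 n972 = n1282 := rfl
theorem F4721 : act 2 n1282 = n1006 := d17_1 D1282 (iv D1006) (iv F3615)
theorem F4722 : act 3 n1282 = n976 := d21_1 D1282 (iv D976) (iv F3616)
theorem F4723 : act 5 n1282 = n974 := d26_1 D1282 (iv D974) D972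
def n1283 : Q := act 7 n973
theorem D1283 : act 7 n973 = n1283 := rfl
theorem F4724 : act 2 n1283 = n1283 := d17_1 D1283 (iv D1283) F3617
theorem F4725 : act 3 n1283 = n977 := d21_1 D1283 (iv D977) (iv F3618)
theorem F4726 : act 4 n1283 = n1283 := d24_1 D1283 (iv D1283) F3619
def n1284 : Q := act 6 n974
theorem D1284 : act 6 n974 = n1284 := rfl
theorem F4727 : act 3 n1284 = n978 := d20_1 D1284 (iv D978) (iv F3621)
theorem F4728 : act 4 n1284 = n1284 := d23_1 D1284 (iv D1284) F3622
def n1285 : Q := act 7 n975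
theorem D1285 : act 7 n975 = n1285 := rfl
theorem F4729 : act 2 n1285 = n1085 := d17_1 D1285 (iv D1085) (iv F3623)
theorem F4730 : act 4 n1285 = n1285 := d24_1 D1285 (iv D1285) F3624
theorem F4731 : act 5 n1285 = n977 := d26_1 D1285 (iv D977) (iv F3625)
def n1286 : Q := act 6 n976
theorem D1286 : act 6 n976 = n1286 := rfl
theorem F4732 : act 4 n1286 = n1286 := d23_1 D1286 (iv D1286) F3627
theorem F4733 : act 5 n1286 = n978 := d25_1 D1286 (iv D978) (iv F3628)
def n1287 : Q := act 6 n977
theorem D1287 : act 6 n977 = n1287 := rfl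
theorem F4734 : act 4 n1287 = n979 := d23_1 D1287 (iv D979) (iv F3630)
theorem F4735 : act 7 n1287 = n978 := d27_2 D977 D1287 (iv D978) (iv D735) D734
def n1288 : Q := act 2 n978
theorem D1288 : act 2 n978 = n1288 := rfl
theorem F4736 : act 4 n1288 = n980 := d14_2 (iv F3631) D1288 (iv D980)
theorem F4737 : act 6 n1288 = n982 := d16_2 D978 D1288 (iv D982) (iv D739) (iv F2774)
def n1289 : Q := act 2 n979
theorem D1289 : act 2 n979 = n1289 := rfl
theorem F4738 : act 5 n1289 = n1289 := d15_2 F3633 D1289 (iv D1289)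
theorem F4739 : act 6 n1289 = n1089 := d16_2 D979 D1289 (iv D1089) (iv D820) (iv F2776)
theorem F4740 : act 7 n1289 = n980 := d17_2 (iv F3634) D1289 (iv D980)
def n1290 : Q := act 1 n980
theorem D1290 : act 1 n980 = n1290 := rfl
theorem F4741 : act 5 n1290 = n1290 := d10_2 F3635 D1290 (iv D1290)
theorem F4742 : act 6 n1290 = n983 := d11_2 (iv F3636) D1290 (iv D983)
def n1291 : Q := act 3 n980
theorem D1291 : act 3 n980 = n1291 := rfl
theorem F4743 : act 2 n1291 = n1291 := d13_1 D1291 (iv D1291) (iv D980) F2779 D980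
theorem F4744 : act 5 n1291 = n1291 := d19_2 F3635 D1291 (iv D1291)
theorem F4745 : act 6 n1291 = n984 := d20_2 (iv F3636) D1291 (iv D984)
def n1292 : Q := act 2 n981
theorem D1292 : act 2 n981 = n1292 := rfl
theorem F4746 : act 4 n1292 = n1292 := d14_2 F3639 D1292 (iv D1292)
theorem F4747 : act 5 n1292 = n982 := d15_2 (iv F3640) D1292 (iv D982)
theorem F4748 : act 7 n1292 = n1092 := d17_2 (iv F3641) D1292 (iv D1092)
def n1293 : Q := act 1 n982
theorem D1293 : act 1 n982 = n1293 := rfl
theorem F4749 : act 2 n1293 = n987 := d7_2 D982 D1293 (iv D987) (iv D743) (iv F2785)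
theorem F4750 : act 4 n1293 = n983 := d9_2 (iv F3642) D1293 (iv D983)
theorem F4751 : act 7 n1293 = n1093 := d12_2 (iv F3643) D1293 (iv D1093)
def n1294 : Q := act 3 n982
theorem D1294 : act 3 n982 = n1294 := rfl
theorem F4752 : act 2 n1294 = n1014 := d13_1 D1294 (iv D1014) (iv D762) (iv F2786) D982
theorem F4753 : act 7 n1294 = n1094 := d21_2 (iv F3643) D1294 (iv D1094)
def n1295 : Q := act 0 n983
theorem D1295 : act 0 n983 = n1295 := rfl
theorem F4754 : act 2 n1295 = n989 := d1_2 (iv F3644) D1295 (iv D989)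
theorem F4755 : act 5 n1295 = n1295 := d4_2 F3645 D1295 (iv D1295)
theorem F4756 : act 7 n1295 = n1095 := d6_2 (iv F3646) D1295 (iv D1095)
def n1296 : Q := act 3 n983
theorem D1296 : act 3 n983 = n1296 := rfl
theorem F4757 : act 1 n1296 = n984 := d8_1 D1296 (iv D984) D983
theorem F4758 : act 2 n1296 = n1296 := d13_1 D1296 (iv D1296) F3644 F2803 (iv F3644)
theorem F4759 : act 5 n1296 = n1296 := d19_2 F3645 D1296 (iv D1296)
theorem F4760 : act 7 n1296 = n1096 := d21_2 (iv F3646) D1296 (iv D1096)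
def n1297 : Q := act 4 n984
theorem D1297 : act 4 n984 = n1297 := rfl
theorem F4761 : act 2 n1297 = n985 := d14_1 D1297 (iv D985) (iv F3647)
theorem F4762 : act 7 n1297 = n1097 := d24_2 (iv F3649) D1297 (iv D1097)
def n1298 : Q := act 5 n985
theorem D1298 : act 5 n985 = n1298 := rfl
theorem F4763 : act 1 n1298 = n1298 := d10_1 D1298 (iv D1298) F3650
theorem F4764 : act 3 n1298 = n1018 := d19_1 D1298 (iv D1018) (iv F3651)
theorem F4765 : act 4 n1298 = n1298 := d22_1 D1298 (iv D1298) (iv D985) F2792 D985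
theorem F4766 : act 6 n1298 = n1298 := d25_2 F3652 D1298 (iv D1298)
theorem F4767 : act 7 n1298 = n1098 := d26_2 (iv F3653) D1298 (iv D1098)
def n1299 : Q := act 1 n986
theorem D1299 : act 1 n986 = n1299 := rfl
theorem F4768 : act 4 n1299 = n1299 := d9_2 F3655 D1299 (iv D1299)
theorem F4769 : act 5 n1299 = n987 := d10_2 (iv F3656) D1299 (iv D987)
theorem F4770 : act 7 n1299 = n1099 := d12_2 (iv F3657) D1299 (iv D1099)
def n1300 : Q := act 3 n986
theorem D1300 : act 3 n986 = n1300 := rfl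
theorem F4771 : act 0 n1300 = n1300 := d2_1 D1300 (iv D1300) F3654
theorem F4772 : act 2 n1300 = n1020 := d13_1 D1300 (iv D1020) (iv D766) (iv F2796) D986
theorem F4773 : act 5 n1300 = n988 := d19_2 (iv F3656) D1300 (iv D988)
theorem F4774 : act 7 n1300 = n1100 := d21_2 (iv F3657) D1300 (iv D1100)
def n1301 : Q := act 0 n987
theorem D1301 : act 0 n987 = n1301 := rfl
theorem F4775 : act 1 n1301 = n1301 := d0_2 D987 D1301 (iv D1301) (iv D987) F2800
theorem F4776 : act 4 n1301 = n989 := d3_2 (iv F3658) D1301 (iv D989)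
theorem F4777 : act 7 n1301 = n1101 := d6_2 (iv F3659) D1301 (iv D1101)
def n1302 : Q := act 3 n987
theorem D1302 : act 3 n987 = n1302 := rfl
theorem F4778 : act 1 n1302 = n988 := d8_1 D1302 (iv D988) D987
theorem F4779 : act 4 n1302 = n1302 := d18_2 (iv F3658) D1302 (iv D1302) F3658 F2803
theorem F4780 : act 7 n1302 = n1102 := d21_2 (iv F3659) D1302 (iv D1102)
def n1303 : Q := act 2 n990
theorem D1303 : act 2 n990 = n1303 := rfl
theorem F4781 : act 0 n1303 = n1303 := d1_1 D1303 (iv D1303) F3668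
theorem F4782 : act 1 n1303 = n1073 := d7_1 D1303 F4646 F4644 F3574 (iv F3669)
theorem F4783 : act 3 n1303 = n1303 := d13_2 D990 D1303 (iv D1303) (iv D990) F2808
theorem F4784 : act 4 n1303 = n1303 := d14_2 F3670 D1303 (iv D1303)
theorem F4785 : act 5 n1068 = n1303 := d29_1 D1068 F4784 F4783 (iv D1303) F3669 F2815 F2180 D756 D1005 F3727 F2952 F2951 (iv F3811) F3814 F3813 (iv D1029) F2915 F2229 F1691 F1690 F1286 (iv D264) (iv D193) (iv D139) F423 (iv D84) F261 F209 (iv F279) (iv F367) D119 F497 (iv F661) (iv F866) F869 F868 F867 (iv D217) F657 (iv F829) (iv D208) F627 F626 F625 F474 (iv F560) (iv D135) F416 (iv F536) F535 F404 D131 F546 (iv F721) (iv F948) F950 (iv F1001) D344 (iv F1746) (iv F2307) (iv F3010) F3009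
theorem F4786 : act 6 n1303 = n1067 := d25_2 D1068 F4785 (iv D1067)
def n1304 : Q := act 5 n990
theorem D1304 : act 5 n990 = n1304 := rfl
theorem F4787 : act 0 n1304 = n1304 := d4_1 D1304 (iv D1304) F3668
theorem F4788 : act 1 n1304 = n994 := d10_1 D1304 (iv D994) (iv F3669)
theorem F4789 : act 2 n1304 = n1068 := d15_1 D1304 F4785 (iv D1303)
theorem F4790 : act 3 n1304 = n991 := d19_1 D1304 (iv D991) D990
theorem F4791 : act 6 n1304 = n1304 := d25_2 F3671 D1304 (iv D1304)
theorem F4792 : act 4 n1070 = n1304 := d29_2 F3953 F3952 F4790 F3674 F3673 F2818 F2184 (iv D569) (iv D424) F1242 (iv D315) F931 F710 F713 F564 D141 F578 F577 F440 F439 F442 D147 (iv F792) F791 (iv F1015) (iv F1350) (iv F1790) (iv F2165) (iv D564) (iv D421) (iv D313) F928 F927 (iv D232) F709 F561 F424 D139 F572 F571 F425 (iv F547) (iv F712) D235 (iv F1223) (iv F1589) (iv F2076) (iv F2683) F2686 D941 F3502 F3501 (iv F4546) F4545 (iv F4649) (iv F4654) (iv F4659) F4658 F3567 D1267 F4665 F3951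
def n1305 : Q := act 7 n990
theorem D1305 : act 7 n990 = n1305 := rfl
theorem F4793 : act 0 n1305 = n1305 := d6_1 D1305 (iv D1305) F3668
theorem F4794 : act 1 n1305 = n995 := d12_1 D1305 (iv D995) (iv F3669)
theorem F4795 : act 3 n1305 = n992 := d21_1 D1305 (iv D992) D990
theorem F4796 : act 4 n1305 = n1305 := d24_1 D1305 (iv D1305) F3670
def n1306 : Q := act 7 n991
theorem D1306 : act 7 n991 = n1306 := rfl
theorem F4797 : act 0 n1306 = n1306 := d6_1 D1306 (iv D1306) F3672
theorem F4798 : act 1 n1306 = n996 := d12_1 D1306 (iv D996) (iv F3673)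
theorem F4799 : act 2 n1306 = n1306 := d17_1 D1306 (iv D1306) F3674
theorem F4800 : act 4 n1306 = n1026 := d24_1 D1306 (iv D1026) (iv F3675)
theorem F4801 : act 5 n1306 = n992 := d26_1 D1306 (iv D992) D991
def n1307 : Q := act 6 n992
theorem D1307 : act 6 n992 = n1307 := rfl
theorem F4802 : act 0 n1307 = n1307 := d5_1 D1307 (iv D1307) F3677
theorem F4803 : act 1 n1307 = n997 := d11_1 D1307 (iv D997) (iv F3678)
theorem F4804 : act 4 n1307 = n993 := d23_1 D1307 (iv D993) (iv F3680)
theorem F4805 : act 7 n1307 = n1307 := d27_2 D992 D1307 (iv D1307) (iv D992) F2809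
def n1308 : Q := act 2 n993
theorem D1308 : act 2 n993 = n1308 := rfl
theorem F4806 : act 0 n1308 = n1308 := d1_1 D1308 (iv D1308) F3681
theorem F4807 : act 5 n1308 = n1028 := d15_2 (iv F3684) D1308 (iv D1028)
theorem F4808 : act 6 n1308 = n1308 := d16_2 D993 D1308 (iv D1308) (iv D993) F2812
theorem F4809 : act 7 n1308 = n1308 := d17_2 F3685 D1308 (iv D1308)
def n1309 : Q := act 7 n994
theorem D1309 : act 7 n994 = n1309 := rfl
theorem F4810 : act 0 n1309 = n1006 := d6_1 D1309 (iv D1006) (iv F3686)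
theorem F4811 : act 3 n1309 = n996 := d21_1 D1309 (iv D996) (iv F3687)
theorem F4812 : act 5 n1309 = n995 := d26_1 D1309 (iv D995) D994
def n1310 : Q := act 6 n995
theorem D1310 : act 6 n995 = n1310 := rfl
theorem F4813 : act 0 n1310 = n1007 := d5_1 D1310 (iv D1007) (iv F3689)
theorem F4814 : act 3 n1310 = n997 := d20_1 D1310 (iv D997) (iv F3690)
theorem F4815 : act 4 n1310 = n1310 := d23_1 D1310 (iv D1310) F3691
theorem F4816 : act 7 n1310 = n1310 := d27_2 D995 D1310 (iv D1310) (iv D995) F2817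
def n1311 : Q := act 6 n996
theorem D1311 : act 6 n996 = n1311 := rfl
theorem F4817 : act 0 n1311 = n1008 := d5_1 D1311 (iv D1008) (iv F3692)
theorem F4818 : act 4 n1311 = n1032 := d23_1 D1311 (iv D1032) (iv F3694)
theorem F4819 : act 5 n1311 = n997 := d25_1 D1311 (iv D997) (iv F3695)
theorem F4820 : act 7 n1311 = n1311 := d27_2 D996 D1311 (iv D1311) (iv D996) F2821
def n1312 : Q := act 2 n997
theorem D1312 : act 2 n997 = n1312 := rfl
theorem F4821 : act 0 n1312 = n1009 := d1_1 D1312 (iv D1009) (iv F3696)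
theorem F4822 : act 4 n1312 = n998 := d14_2 (iv F3697) D1312 (iv D998)
theorem F4823 : act 6 n1312 = n1000 := d16_2 D997 D1312 (iv D1000) (iv D752) (iv F2823)
theorem F4824 : act 7 n1312 = n1312 := d17_2 F3698 D1312 (iv D1312)
def n1313 : Q := act 1 n998
theorem D1313 : act 1 n998 = n1313 := rfl
theorem F4825 : act 5 n1313 = n1034 := d10_2 (iv F3700) D1313 (iv D1034)
theorem F4826 : act 6 n1313 = n1001 := d11_2 (iv F3701) D1313 (iv D1001)
theorem F4827 : act 7 n1313 = n1313 := d12_2 F3702 D1313 (iv D1313)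
def n1314 : Q := act 3 n998
theorem D1314 : act 3 n998 = n1314 := rfl
theorem F4828 : act 0 n1314 = n1011 := d2_1 D1314 (iv D1011) (iv F3699)
theorem F4829 : act 2 n1314 = n1314 := d13_1 D1314 (iv D1314) (iv D998) F2826 D998
theorem F4830 : act 5 n1314 = n1035 := d19_2 (iv F3700) D1314 (iv D1035)
theorem F4831 : act 6 n1314 = n1002 := d20_2 (iv F3701) D1314 (iv D1002)
theorem F4832 : act 7 n1314 = n1314 := d21_2 F3702 D1314 (iv D1314)
def n1315 : Q := act 2 n999
theorem D1315 : act 2 n999 = n1315 := rfl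
theorem F4833 : act 0 n1315 = n1012 := d1_1 D1315 (iv D1012) (iv F3703)
theorem F4834 : act 4 n1315 = n1036 := d14_2 (iv F3705) D1315 (iv D1036)
theorem F4835 : act 5 n1315 = n1000 := d15_2 (iv F3706) D1315 (iv D1000)
theorem F4836 : act 7 n1315 = n1103 := d17_2 (iv F3707) D1315 (iv D1103)
def n1316 : Q := act 1 n1000
theorem D1316 : act 1 n1000 = n1316 := rfl
theorem F4837 : act 2 n1316 = n1316 := d7_2 D1000 D1316 (iv D1316) (iv D1000) F2834
theorem F4838 : act 4 n1316 = n1001 := d9_2 (iv F3709) D1316 (iv D1001)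
theorem F4839 : act 7 n1316 = n1104 := d12_2 (iv F3710) D1316 (iv D1104)
def n1317 : Q := act 3 n1000
theorem D1317 : act 3 n1000 = n1317 := rfl
theorem F4840 : act 0 n1317 = n1014 := d2_1 D1317 (iv D1014) (iv F3708)
theorem F4841 : act 7 n1317 = n1105 := d21_2 (iv F3710) D1317 (iv D1105)
def n1318 : Q := act 0 n1001
theorem D1318 : act 0 n1001 = n1318 := rfl
theorem F4842 : act 1 n1318 = n1015 := d0_2 D1001 D1318 (iv D1015) (iv D763) (iv F2837)
theorem F4843 : act 2 n1318 = n1318 := d1_2 F3711 D1318 (iv D1318)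
theorem F4844 : act 5 n1318 = n1039 := d4_2 (iv F3712) D1318 (iv D1039)
theorem F4845 : act 7 n1318 = n1106 := d6_2 (iv F3713) D1318 (iv D1106)
def n1319 : Q := act 3 n1001
theorem D1319 : act 3 n1001 = n1319 := rfl
theorem F4846 : act 1 n1319 = n1002 := d8_1 D1319 (iv D1002) D1001
theorem F4847 : act 5 n1319 = n1040 := d19_2 (iv F3712) D1319 (iv D1040)
theorem F4848 : act 7 n1319 = n1107 := d21_2 (iv F3713) D1319 (iv D1107)
def n1320 : Q := act 4 n1002
theorem D1320 : act 4 n1002 = n1320 := rfl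
theorem F4849 : act 0 n1320 = n1017 := d3_1 D1320 (iv D1017) (iv F3714)
theorem F4850 : act 2 n1320 = n1004 := d14_1 D1320 (iv D1004) (iv F3715)
theorem F4851 : act 7 n1320 = n1108 := d24_2 (iv F3717) D1320 (iv D1108)
def n1322 : Q := act 4 n1003
theorem D1322 : act 4 n1003 = n1322 := rfl
theorem F4857 : act 1 n1322 = n1004 := d9_1 D1322 (iv D1004) (iv F3719)
theorem F4859 : act 7 n1322 = n1110 := d24_2 (iv F3722) D1322 (iv D1110)
def n1323 : Q := act 5 n1004
theorem D1323 : act 5 n1004 = n1323 := rfl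
def n1324 : Q := act 7 n1005
theorem D1324 : act 7 n1005 = n1324 := rfl
theorem F4864 : act 1 n1324 = n1324 := d12_1 D1324 (iv D1324) F3726
theorem F4865 : act 3 n1324 = n1045 := d21_1 D1324 (iv D1045) (iv F3727)
theorem F4866 : act 4 n1324 = n1006 := d24_1 D1324 (iv D1006) D1005
theorem F4867 : act 5 n1324 = n1324 := d26_1 D1324 (iv D1324) F3728
def n1325 : Q := act 6 n1006
theorem D1325 : act 6 n1006 = n1325 := rfl
theorem F4868 : act 1 n1325 = n1325 := d11_1 D1325 (iv D1325) F3730
theorem F4869 : act 3 n1325 = n1008 := d20_1 D1325 (iv D1008) (iv F3731)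
theorem F4870 : act 5 n1325 = n1007 := d25_1 D1325 (iv D1007) (iv F3732)
theorem F4871 : act 7 n1325 = n1325 := d27_2 D1006 D1325 (iv D1325) (iv D1006) F2851
def n1326 : Q := act 2 n1007
theorem D1326 : act 2 n1007 = n1326 := rfl
theorem F4872 : act 4 n1326 = n1326 := d14_2 F3735 D1326 (iv D1326)
theorem F4873 : act 7 n1326 = n1326 := d17_2 F3736 D1326 (iv D1326)
def n1327 : Q := act 2 n1008
theorem D1327 : act 2 n1008 = n1327 := rfl
theorem F4874 : act 4 n1327 = n1048 := d14_2 (iv F3738) D1327 (iv D1048)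
theorem F4875 : act 5 n1327 = n1009 := d15_2 (iv F3739) D1327 (iv D1009)
theorem F4876 : act 6 n1327 = n1012 := d16_2 D1008 D1327 (iv D1012) (iv D761) (iv F2856)
theorem F4877 : act 7 n1327 = n1327 := d17_2 F3740 D1327 (iv D1327)
def n1328 : Q := act 1 n1009
theorem D1328 : act 1 n1009 = n1328 := rfl
theorem F4878 : act 2 n1328 = n1328 := d7_2 D1009 D1328 (iv D1328) (iv D1009) F2859
theorem F4879 : act 4 n1328 = n1010 := d9_2 (iv F3741) D1328 (iv D1010)
theorem F4880 : act 6 n1328 = n1013 := d11_2 (iv F3742) D1328 (iv D1013)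
theorem F4881 : act 7 n1328 = n1328 := d12_2 F3743 D1328 (iv D1328)
def n1329 : Q := act 3 n1009
theorem D1329 : act 3 n1009 = n1329 := rfl
theorem F4882 : act 6 n1329 = n1014 := d20_2 (iv F3742) D1329 (iv D1014)
theorem F4883 : act 7 n1329 = n1329 := d21_2 F3743 D1329 (iv D1329)
def n1330 : Q := act 0 n1010
theorem D1330 : act 0 n1010 = n1330 := rfl
theorem F4884 : act 2 n1330 = n1330 := d1_2 F3744 D1330 (iv D1330)
theorem F4885 : act 5 n1330 = n1051 := d4_2 (iv F3745) D1330 (iv D1051)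
theorem F4886 : act 6 n1330 = n1015 := d5_2 (iv F3746) D1330 (iv D1015)
theorem F4887 : act 7 n1330 = n1330 := d6_2 F3747 D1330 (iv D1330)
def n1331 : Q := act 3 n1010
theorem D1331 : act 3 n1010 = n1331 := rfl
theorem F4888 : act 1 n1331 = n1011 := d8_1 D1331 (iv D1011) D1010
theorem F4889 : act 5 n1331 = n1052 := d19_2 (iv F3745) D1331 (iv D1052)
theorem F4890 : act 6 n1331 = n1016 := d20_2 (iv F3746) D1331 (iv D1016)
theorem F4891 : act 7 n1331 = n1331 := d21_2 F3747 D1331 (iv D1331)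
def n1332 : Q := act 4 n1011
theorem D1332 : act 4 n1011 = n1332 := rfl
theorem F4892 : act 2 n1332 = n1332 := d14_1 D1332 (iv D1332) F3748
theorem F4893 : act 6 n1332 = n1017 := d23_2 (iv F3750) D1332 (iv D1017)
theorem F4894 : act 7 n1332 = n1332 := d24_2 F3751 D1332 (iv D1332)
def n1333 : Q := act 1 n1012
theorem D1333 : act 1 n1012 = n1333 := rfl
theorem F4895 : act 2 n1333 = n1019 := d7_2 D1012 D1333 (iv D1019) (iv D766) (iv F2865)
theorem F4896 : act 4 n1333 = n1054 := d9_2 (iv F3752) D1333 (iv D1054)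
theorem F4897 : act 5 n1333 = n1013 := d10_2 (iv F3753) D1333 (iv D1013)
theorem F4898 : act 7 n1333 = n1112 := d12_2 (iv F3754) D1333 (iv D1112)
def n1334 : Q := act 3 n1012
theorem D1334 : act 3 n1012 = n1334 := rfl
theorem F4899 : act 5 n1334 = n1014 := d19_2 (iv F3753) D1334 (iv D1014)
theorem F4900 : act 7 n1334 = n1113 := d21_2 (iv F3754) D1334 (iv D1113)
def n1335 : Q := act 0 n1013
theorem D1335 : act 0 n1013 = n1335 := rfl
theorem F4901 : act 2 n1335 = n1021 := d1_2 (iv F3755) D1335 (iv D1021)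
theorem F4902 : act 4 n1335 = n1015 := d3_2 (iv F3756) D1335 (iv D1015)
theorem F4903 : act 7 n1335 = n1114 := d6_2 (iv F3757) D1335 (iv D1114)
def n1336 : Q := act 3 n1013
theorem D1336 : act 3 n1013 = n1336 := rfl
theorem F4904 : act 1 n1336 = n1014 := d8_1 D1336 (iv D1014) D1013
theorem F4905 : act 7 n1336 = n1115 := d21_2 (iv F3757) D1336 (iv D1115)
def n1337 : Q := act 4 n1014
theorem D1337 : act 4 n1014 = n1337 := rfl
theorem F4906 : act 3 n1337 = n1017 := d18_1 D1337 (iv D1017) (iv D764) (iv F2869) D1014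
theorem F4907 : act 7 n1337 = n1116 := d24_2 (iv F3758) D1337 (iv D1116)
def n1338 : Q := act 3 n1015
theorem D1338 : act 3 n1015 = n1338 := rfl
theorem F4908 : act 0 n1338 = n1016 := d2_1 D1338 (iv D1016) D1015
theorem F4909 : act 2 n1338 = n1338 := d13_1 D1338 (iv D1338) F3759 F2893 (iv F3759)
theorem F4910 : act 5 n1338 = n1059 := d19_2 (iv F3760) D1338 (iv D1059)
theorem F4911 : act 7 n1338 = n1117 := d21_2 (iv F3761) D1338 (iv D1117)
def n1339 : Q := act 4 n1016
theorem D1339 : act 4 n1016 = n1339 := rfl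
theorem F4912 : act 1 n1339 = n1017 := d9_1 D1339 (iv D1017) (iv F3762)
theorem F4913 : act 2 n1339 = n1339 := d14_1 D1339 (iv D1339) F3763
theorem F4914 : act 7 n1339 = n1118 := d24_2 (iv F3765) D1339 (iv D1118)
def n1340 : Q := act 5 n1017
theorem D1340 : act 5 n1017 = n1340 := rfl
theorem F4916 : act 4 n1340 = n1061 := d22_1 D1340 (iv D1061) (iv D797) (iv F2875) D1017
def n1341 : Q := act 0 n1019
theorem D1341 : act 0 n1019 = n1341 := rfl
theorem F4919 : act 4 n1341 = n1062 := d3_2 (iv F3772) D1341 (iv D1062)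
def n1342 : Q := act 3 n1019
theorem D1342 : act 3 n1019 = n1342 := rfl
theorem F4923 : act 1 n1342 = n1020 := d8_1 D1342 (iv D1020) D1019
theorem F4924 : act 5 n1342 = n1022 := d19_2 (iv F3773) D1342 (iv D1022)
theorem F4926 : act 7 n1342 = n1121 := d21_2 (iv F3775) D1342 (iv D1121)
def n1343 : Q := act 4 n1020
theorem D1343 : act 4 n1020 = n1343 := rfl
theorem F4931 : act 7 n1343 = n1122 := d24_2 (iv F3779) D1343 (iv D1122)
def n1344 : Q := act 3 n1021
theorem D1344 : act 3 n1021 = n1344 := rfl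
theorem F4932 : act 0 n1344 = n1022 := d2_1 D1344 (iv D1022) D1021
def n1345 : Q := act 2 n1022
theorem D1345 : act 2 n1022 = n1345 := rfl
theorem F4937 : act 4 n1345 = n1345 := d14_2 F3785 D1345 (iv D1345)
theorem F4938 : act 7 n1345 = n1124 := d17_2 (iv F3787) D1345 (iv D1124)
def n1346 : Q := act 5 n1023
theorem D1346 : act 5 n1023 = n1346 := rfl
theorem F4939 : act 0 n1346 = n1346 := d4_1 D1346 (iv D1346) F3788
theorem F4940 : act 1 n1346 = n1346 := d10_1 D1346 (iv D1346) F3789
theorem F4941 : act 2 n1346 = n1024 := d15_1 D1346 (iv D1024) D1023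
theorem F4942 : act 3 n1346 = n1346 := d19_1 D1346 (iv D1346) F3790
theorem F4943 : act 4 n1171 = n1346 := d29_2 (iv F4274) F4273 F4942 F4941 F3793 F2913 F2259 (iv D590) F1708 (iv D440) F1279 F958 F726 F729 D196 (iv F1016) (iv F1330) F1329 (iv F1765) (iv F2316) (iv F2753) (iv D728) (iv D548) (iv D411) F1211 F1210 (iv D307) F919 F739 F738 D186 F751 F750 F562 (iv F713) F712 D179 F728 F727 (iv F958) (iv F1267) F1270 D354 (iv F1793) (iv F2318) (iv F3023) (iv F3938) F3937 (iv F4786) (iv F4785) F3945 F3015 D887 F3288 F3287 F3291 F2592 F2591 D909 F3373 F3372 F3371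
theorem F4944 : act 6 n1346 = n1199 := d23_2 (iv F4274) F4943 (iv D1199)
def n1347 : Q := act 6 n1023
theorem D1347 : act 6 n1023 = n1347 := rfl
theorem F4945 : act 0 n1347 = n1347 := d5_1 D1347 (iv D1347) F3788
theorem F4946 : act 1 n1347 = n1347 := d11_1 D1347 (iv D1347) F3789
theorem F4947 : act 2 n1347 = n1347 := d16_1 D1347 (iv D1347) (iv D1023) F2900 D1023
theorem F4948 : act 3 n1347 = n1347 := d20_1 D1347 (iv D1347) F3790
theorem F4949 : act 4 n1347 = n1347 := d23_1 D1347 (iv D1347) F3791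
theorem F4950 : act 5 n1347 = n1199 := d25_1 D1347 (iv F4944) (iv D1346)
def n1348 : Q := act 7 n1023
theorem D1348 : act 7 n1023 = n1348 := rfl
theorem F4951 : act 0 n1348 = n1348 := d6_1 D1348 (iv D1348) F3788
theorem F4952 : act 1 n1348 = n1348 := d12_1 D1348 (iv D1348) F3789
theorem F4953 : act 2 n1348 = n1025 := d17_1 D1348 (iv D1025) D1023
theorem F4954 : act 3 n1348 = n1348 := d21_1 D1348 (iv D1348) F3790
theorem F4955 : act 4 n1348 = n1348 := d24_1 D1348 (iv D1348) F3791
def n1349 : Q := act 4 n1024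
theorem D1349 : act 4 n1024 = n1349 := rfl
theorem F4956 : act 0 n1349 = n1349 := d3_1 D1349 (iv D1349) F3792
theorem F4957 : act 1 n1349 = n1029 := d9_1 D1349 (iv D1029) (iv F3793)
theorem F4958 : act 2 n1349 = n1171 := d14_1 D1349 F4943 F4941
theorem F4959 : act 3 n1349 = n1070 := d18_1 D1349 F4792 F4790 F3675 (iv F3794)
theorem F4960 : act 5 n1349 = n1349 := d22_2 D1024 D1349 (iv D1349) (iv D1024) F2899
theorem F4961 : act 6 n1349 = n1349 := d23_2 F3795 D1349 (iv D1349)
def n1350 : Q := act 7 n1024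
theorem D1350 : act 7 n1024 = n1350 := rfl
theorem F4962 : act 0 n1350 = n1350 := d6_1 D1350 (iv D1350) F3792
theorem F4963 : act 1 n1350 = n1030 := d12_1 D1350 (iv D1030) (iv F3793)
theorem F4964 : act 3 n1350 = n1026 := d21_1 D1350 (iv D1026) (iv F3794)
theorem F4965 : act 5 n1350 = n1025 := d26_1 D1350 (iv D1025) D1024
def n1351 : Q := act 6 n1025
theorem D1351 : act 6 n1025 = n1351 := rfl
theorem F4966 : act 0 n1351 = n1351 := d5_1 D1351 (iv D1351) F3796
theorem F4967 : act 1 n1351 = n1031 := d11_1 D1351 (iv D1031) (iv F3797)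
theorem F4968 : act 3 n1351 = n1027 := d20_1 D1351 (iv D1027) (iv F3798)
theorem F4969 : act 4 n1351 = n1351 := d23_1 D1351 (iv D1351) F3799
theorem F4970 : act 7 n1351 = n1351 := d27_2 D1025 D1351 (iv D1351) (iv D1025) F2900
def n1352 : Q := act 6 n1026
theorem D1352 : act 6 n1026 = n1352 := rfl
theorem F4971 : act 0 n1352 = n1352 := d5_1 D1352 (iv D1352) F3800
theorem F4972 : act 1 n1352 = n1032 := d11_1 D1352 (iv D1032) (iv F3801)
theorem F4973 : act 5 n1352 = n1027 := d25_1 D1352 (iv D1027) (iv F3803)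
theorem F4974 : act 7 n1352 = n1352 := d27_2 D1026 D1352 (iv D1352) (iv D1026) F2904
def n1353 : Q := act 2 n1027
theorem D1353 : act 2 n1027 = n1353 := rfl
theorem F4975 : act 0 n1353 = n1353 := d1_1 D1353 (iv D1353) F3804
theorem F4976 : act 4 n1353 = n1028 := d14_2 (iv F3806) D1353 (iv D1028)
theorem F4977 : act 6 n1353 = n1353 := d16_2 D1027 D1353 (iv D1353) (iv D1027) F2907
theorem F4978 : act 7 n1353 = n1353 := d17_2 F3807 D1353 (iv D1353)
def n1354 : Q := act 1 n1028
theorem D1354 : act 1 n1028 = n1354 := rfl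
theorem F4979 : act 2 n1354 = n1034 := d7_2 D1028 D1354 (iv D1034) (iv D778) (iv F2910)
theorem F4980 : act 6 n1354 = n1354 := d11_2 F3809 D1354 (iv D1354)
theorem F4981 : act 7 n1354 = n1354 := d12_2 F3810 D1354 (iv D1354)
def n1355 : Q := act 3 n1028
theorem D1355 : act 3 n1028 = n1355 := rfl
theorem F4982 : act 0 n1355 = n1355 := d2_1 D1355 (iv D1355) F3808
theorem F4983 : act 2 n1355 = n1355 := d13_1 D1355 (iv D1355) (iv D1028) F2911 D1028
theorem F4984 : act 6 n1355 = n1355 := d20_2 F3809 D1355 (iv D1355)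
theorem F4985 : act 7 n1355 = n1355 := d21_2 F3810 D1355 (iv D1355)
def n1356 : Q := act 7 n1029
theorem D1356 : act 7 n1029 = n1356 := rfl
theorem F4986 : act 0 n1356 = n1045 := d6_1 D1356 (iv D1045) (iv F3811)
theorem F4987 : act 2 n1356 = n1356 := d17_1 D1356 (iv D1356) F3812
theorem F4988 : act 4 n1356 = n1030 := d24_1 D1356 (iv D1030) D1029
theorem F4989 : act 5 n1356 = n1356 := d26_1 D1356 (iv D1356) F3813
def n1357 : Q := act 6 n1030
theorem D1357 : act 6 n1030 = n1357 := rfl
theorem F4990 : act 0 n1357 = n1046 := d5_1 D1357 (iv D1046) (iv F3815)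
theorem F4991 : act 3 n1357 = n1032 := d20_1 D1357 (iv D1032) (iv F3817)
theorem F4992 : act 5 n1357 = n1031 := d25_1 D1357 (iv D1031) (iv F3818)
theorem F4993 : act 7 n1357 = n1357 := d27_2 D1030 D1357 (iv D1357) (iv D1030) F2916
def n1358 : Q := act 2 n1031
theorem D1358 : act 2 n1031 = n1358 := rfl
theorem F4994 : act 0 n1358 = n1047 := d1_1 D1358 (iv D1047) (iv F3819)
theorem F4995 : act 4 n1358 = n1358 := d14_2 F3821 D1358 (iv D1358)
theorem F4996 : act 6 n1358 = n1358 := d16_2 D1031 D1358 (iv D1358) (iv D1031) F2918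
theorem F4997 : act 7 n1358 = n1358 := d17_2 F3822 D1358 (iv D1358)
def n1359 : Q := act 2 n1032
theorem D1359 : act 2 n1032 = n1359 := rfl
theorem F4998 : act 0 n1359 = n1048 := d1_1 D1359 (iv D1048) (iv F3823)
theorem F4999 : act 5 n1359 = n1033 := d15_2 (iv F3824) D1359 (iv D1033)
theorem F5000 : act 6 n1359 = n1036 := d16_2 D1032 D1359 (iv D1036) (iv D779) (iv F2922)
theorem F5001 : act 7 n1359 = n1359 := d17_2 F3825 D1359 (iv D1359)
def n1360 : Q := act 1 n1033
theorem D1360 : act 1 n1033 = n1360 := rfl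
theorem F5002 : act 4 n1360 = n1034 := d9_2 (iv F3827) D1360 (iv D1034)
theorem F5003 : act 6 n1360 = n1037 := d11_2 (iv F3828) D1360 (iv D1037)
theorem F5004 : act 7 n1360 = n1360 := d12_2 F3829 D1360 (iv D1360)
def n1361 : Q := act 3 n1033
theorem D1361 : act 3 n1033 = n1361 := rfl
theorem F5005 : act 0 n1361 = n1050 := d2_1 D1361 (iv D1050) (iv F3826)
theorem F5006 : act 6 n1361 = n1038 := d20_2 (iv F3828) D1361 (iv D1038)
theorem F5007 : act 7 n1361 = n1361 := d21_2 F3829 D1361 (iv D1361)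
def n1362 : Q := act 0 n1034
theorem D1362 : act 0 n1034 = n1362 := rfl
theorem F5008 : act 1 n1362 = n1051 := d0_2 D1034 D1362 (iv D1051) (iv D790) (iv F2927)
theorem F5009 : act 6 n1362 = n1039 := d5_2 (iv F3830) D1362 (iv D1039)
def n1363 : Q := act 3 n1034
theorem D1363 : act 3 n1034 = n1363 := rfl
theorem F5011 : act 1 n1363 = n1035 := d8_1 D1363 (iv D1035) D1034
theorem F5012 : act 6 n1363 = n1040 := d20_2 (iv F3830) D1363 (iv D1040)
def n1364 : Q := act 4 n1035
theorem D1364 : act 4 n1035 = n1364 := rfl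
def n1365 : Q := act 1 n1036
theorem D1365 : act 1 n1036 = n1365 := rfl
theorem F5019 : act 5 n1365 = n1037 := d10_2 (iv F3837) D1365 (iv D1037)
theorem F5020 : act 7 n1365 = n1125 := d12_2 (iv F3838) D1365 (iv D1125)
def n1366 : Q := act 3 n1036
theorem D1366 : act 3 n1036 = n1366 := rfl
theorem F5021 : act 0 n1366 = n1055 := d2_1 D1366 (iv D1055) (iv F3836)
theorem F5023 : act 5 n1366 = n1038 := d19_2 (iv F3837) D1366 (iv D1038)
def n1367 : Q := act 0 n1037
theorem D1367 : act 0 n1037 = n1367 := rfl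
theorem F5025 : act 1 n1367 = n1056 := d0_2 D1037 D1367 (iv D1056) (iv D793) (iv F2935)
theorem F5027 : act 4 n1367 = n1039 := d3_2 (iv F3840) D1367 (iv D1039)
theorem F5028 : act 7 n1367 = n1127 := d6_2 (iv F3841) D1367 (iv D1127)
def n1368 : Q := act 3 n1037
theorem D1368 : act 3 n1037 = n1368 := rfl
theorem F5029 : act 1 n1368 = n1038 := d8_1 D1368 (iv D1038) D1037
theorem F5030 : act 7 n1368 = n1128 := d21_2 (iv F3841) D1368 (iv D1128)
def n1369 : Q := act 4 n1038
theorem D1369 : act 4 n1038 = n1369 := rfl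
theorem F5031 : act 0 n1369 = n1058 := d3_1 D1369 (iv D1058) (iv F3842)
theorem F5033 : act 3 n1369 = n1041 := d18_1 D1369 (iv D1041) (iv D782) (iv F2936) D1038
def n1370 : Q := act 3 n1039
theorem D1370 : act 3 n1039 = n1370 := rfl
theorem F5035 : act 0 n1370 = n1040 := d2_1 D1370 (iv D1040) D1039
theorem F5036 : act 1 n1370 = n1059 := d8_1 D1370 (iv D1059) (iv F3845)
theorem F5037 : act 7 n1370 = n1130 := d21_2 (iv F3847) D1370 (iv D1130)
def n1371 : Q := act 2 n1040
theorem D1371 : act 2 n1040 = n1371 := rfl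
theorem F5038 : act 1 n1371 = n1042 := d7_1 D1371 (iv D1042) F2944 (iv F2941) (iv F3848)
theorem F5040 : act 7 n1371 = n1131 := d17_2 (iv F3849) D1371 (iv D1131)
def n1372 : Q := act 4 n1040
theorem D1372 : act 4 n1040 = n1372 := rfl
theorem F5041 : act 1 n1372 = n1041 := d9_1 D1372 (iv D1041) (iv F3848)
theorem F5042 : act 7 n1372 = n1132 := d24_2 (iv F3849) D1372 (iv D1132)
def n1373 : Q := act 5 n1041
theorem D1373 : act 5 n1041 = n1373 := rfl
theorem F5044 : act 2 n1373 = n1044 := d15_1 D1373 (iv D1044) (iv F3851)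
def n1374 : Q := act 4 n1042
theorem D1374 : act 4 n1042 = n1374 := rfl
theorem F5048 : act 7 n1374 = n1134 := d24_2 (iv F3855) D1374 (iv D1134)
def n1376 : Q := act 5 n1043
theorem D1376 : act 5 n1043 = n1376 := rfl
theorem F5056 : act 7 n1376 = n1136 := d26_2 (iv F3860) D1376 (iv D1136)
def n1377 : Q := act 6 n1045
theorem D1377 : act 6 n1045 = n1377 := rfl
theorem F5057 : act 1 n1377 = n1377 := d11_1 D1377 (iv D1377) F3865
theorem F5058 : act 4 n1377 = n1046 := d23_1 D1377 (iv D1046) (iv F3867)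
theorem F5059 : act 5 n1377 = n1377 := d25_1 D1377 (iv D1377) F3868
theorem F5060 : act 7 n1377 = n1377 := d27_2 D1045 D1377 (iv D1377) (iv D1045) F2954
def n1378 : Q := act 2 n1046
theorem D1378 : act 2 n1046 = n1378 := rfl
theorem F5061 : act 5 n1378 = n1047 := d15_2 (iv F3871) D1378 (iv D1047)
theorem F5062 : act 6 n1378 = n1378 := d16_2 D1046 D1378 (iv D1378) (iv D1046) F2956
theorem F5063 : act 7 n1378 = n1378 := d17_2 F3872 D1378 (iv D1378)
def n1379 : Q := act 1 n1047
theorem D1379 : act 1 n1047 = n1379 := rfl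
theorem F5064 : act 2 n1379 = n1379 := d7_2 D1047 D1379 (iv D1379) (iv D1047) F2959
theorem F5066 : act 6 n1379 = n1379 := d11_2 F3874 D1379 (iv D1379)
theorem F5067 : act 7 n1379 = n1379 := d12_2 F3875 D1379 (iv D1379)
def n1380 : Q := act 3 n1047
theorem D1380 : act 3 n1047 = n1380 := rfl
theorem F5068 : act 2 n1380 = n1050 := d13_1 D1380 (iv D1050) (iv D789) (iv F2960) D1047
def n1381 : Q := act 1 n1048
theorem D1381 : act 1 n1048 = n1381 := rfl
theorem F5072 : act 5 n1381 = n1049 := d10_2 (iv F3876) D1381 (iv D1049)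
theorem F5073 : act 6 n1381 = n1054 := d11_2 (iv F3877) D1381 (iv D1054)
def n1382 : Q := act 3 n1048
theorem D1382 : act 3 n1048 = n1382 := rfl
theorem F5075 : act 5 n1382 = n1050 := d19_2 (iv F3876) D1382 (iv D1050)
def n1383 : Q := act 0 n1049
theorem D1383 : act 0 n1049 = n1383 := rfl
theorem F5078 : act 2 n1383 = n1383 := d1_2 F3879 D1383 (iv D1383)
theorem F5079 : act 4 n1383 = n1051 := d3_2 (iv F3880) D1383 (iv D1051)
theorem F5080 : act 6 n1383 = n1056 := d5_2 (iv F3881) D1383 (iv D1056)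
def n1384 : Q := act 3 n1049
theorem D1384 : act 3 n1049 = n1384 := rfl
theorem F5082 : act 1 n1384 = n1050 := d8_1 D1384 (iv D1050) D1049
theorem F5083 : act 6 n1384 = n1057 := d20_2 (iv F3881) D1384 (iv D1057)
theorem F5084 : act 7 n1384 = n1384 := d21_2 F3882 D1384 (iv D1384)
def n1385 : Q := act 4 n1050
theorem D1385 : act 4 n1050 = n1385 := rfl
theorem F5085 : act 3 n1385 = n1053 := d18_1 D1385 (iv D1053) (iv D791) (iv F2966) D1050
theorem F5086 : act 6 n1385 = n1058 := d23_2 (iv F3883) D1385 (iv D1058)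
def n1386 : Q := act 3 n1051
theorem D1386 : act 3 n1051 = n1386 := rfl
theorem F5088 : act 0 n1386 = n1052 := d2_1 D1386 (iv D1052) D1051
theorem F5089 : act 6 n1386 = n1059 := d20_2 (iv F3886) D1386 (iv D1059)
theorem F5090 : act 7 n1386 = n1386 := d21_2 F3887 D1386 (iv D1386)
def n1387 : Q := act 2 n1052
theorem D1387 : act 2 n1052 = n1387 := rfl
theorem F5091 : act 1 n1387 = n1387 := d7_1 D1387 (iv D1387) F3888 F2972 (iv F3888)
theorem F5092 : act 3 n1387 = n1387 := d13_2 D1052 D1387 (iv D1387) (iv D1052) F2969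
theorem F5093 : act 6 n1387 = n1387 := d16_2 (iv F3889) D1387 (iv D1387) F3889 F2985
theorem F5094 : act 7 n1387 = n1387 := d17_2 F3890 D1387 (iv D1387)
def n1388 : Q := act 4 n1052
theorem D1388 : act 4 n1052 = n1388 := rfl
def n1390 : Q := act 0 n1054
theorem D1390 : act 0 n1054 = n1390 := rfl
theorem F5101 : act 2 n1390 = n1062 := d1_2 (iv F3894) D1390 (iv D1062)
theorem F5102 : act 5 n1390 = n1056 := d4_2 (iv F3895) D1390 (iv D1056)
theorem F5103 : act 7 n1390 = n1137 := d6_2 (iv F3896) D1390 (iv D1137)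
def n1391 : Q := act 3 n1054
theorem D1391 : act 3 n1054 = n1391 := rfl
theorem F5104 : act 1 n1391 = n1055 := d8_1 D1391 (iv D1055) D1054
theorem F5105 : act 5 n1391 = n1057 := d19_2 (iv F3895) D1391 (iv D1057)
def n1392 : Q := act 4 n1055
theorem D1392 : act 4 n1055 = n1392 := rfl
theorem F5108 : act 7 n1392 = n1139 := d24_2 (iv F3899) D1392 (iv D1139)
def n1393 : Q := act 3 n1056
theorem D1393 : act 3 n1056 = n1393 := rfl
theorem F5109 : act 0 n1393 = n1057 := d2_1 D1393 (iv D1057) D1056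
theorem F5110 : act 7 n1393 = n1140 := d21_2 (iv F3902) D1393 (iv D1140)
def n1394 : Q := act 2 n1057
theorem D1394 : act 2 n1057 = n1394 := rfl
theorem F5111 : act 1 n1394 = n1394 := d7_1 D1394 (iv D1394) F3903 F2980 (iv F3903)
theorem F5112 : act 3 n1394 = n1066 := d13_2 D1057 D1394 (iv D1066) (iv D802) (iv F2977)
theorem F5113 : act 7 n1394 = n1141 := d17_2 (iv F3904) D1394 (iv D1141)
def n1395 : Q := act 4 n1057
theorem D1395 : act 4 n1057 = n1395 := rfl
theorem F5114 : act 1 n1395 = n1058 := d9_1 D1395 (iv D1058) (iv F3903)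
theorem F5115 : act 3 n1395 = n1060 := d18_1 D1395 (iv D1060) (iv D796) (iv F2978) D1057
def n1396 : Q := act 5 n1058
theorem D1396 : act 5 n1058 = n1396 := rfl
def n1397 : Q := act 4 n1059
theorem D1397 : act 4 n1059 = n1397 := rfl
theorem F5120 : act 0 n1397 = n1060 := d3_1 D1397 (iv D1060) (iv F3908)
theorem F5122 : act 7 n1397 = n1144 := d24_2 (iv F3910) D1397 (iv D1144)
def n1398 : Q := act 5 n1060
theorem D1398 : act 5 n1060 = n1398 := rfl
theorem F5125 : act 7 n1398 = n1145 := d26_2 (iv F3913) D1398 (iv D1145)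
def n1399 : Q := act 3 n1062
theorem D1399 : act 3 n1062 = n1399 := rfl
theorem F5126 : act 0 n1399 = n1063 := d2_1 D1399 (iv D1063) D1062
theorem F5128 : act 5 n1399 = n1065 := d19_2 (iv F3917) D1399 (iv D1065)
theorem F5130 : act 7 n1399 = n1146 := d21_2 (iv F3919) D1399 (iv D1146)
def n1400 : Q := act 2 n1063
theorem D1400 : act 2 n1063 = n1400 := rfl
theorem F5132 : act 5 n1400 = n1066 := d15_2 (iv F3921) D1400 (iv D1066)
theorem F5133 : act 7 n1400 = n1147 := d17_2 (iv F3923) D1400 (iv D1147)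
def n1401 : Q := act 4 n1063
theorem D1401 : act 4 n1063 = n1401 := rfl
def n1402 : Q := act 2 n1065
theorem D1402 : act 2 n1065 = n1402 := rfl
theorem F5138 : act 0 n1402 = n1066 := d1_1 D1402 (iv D1066) (iv F3929)
theorem F5140 : act 7 n1402 = n1149 := d17_2 (iv F3933) D1402 (iv D1149)
def n1403 : Q := act 6 n1066
theorem D1403 : act 6 n1066 = n1403 := rfl
theorem F5142 : act 2 n1403 = n1403 := d16_1 D1403 (iv D1403) (iv D1066) F3007 D1066
def n1404 : Q := act 7 n1067
theorem D1404 : act 7 n1067 = n1404 := rfl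
theorem F5144 : act 0 n1404 = n1404 := d6_1 D1404 (iv D1404) F3937
theorem F5145 : act 1 n1404 = n1074 := d12_1 D1404 (iv D1074) (iv F3938)
theorem F5146 : act 2 n1404 = n1404 := d17_1 D1404 (iv D1404) F3939
theorem F5147 : act 3 n1404 = n1404 := d21_1 D1404 (iv D1404) F3940
theorem F5148 : act 4 n1404 = n1404 := d24_1 D1404 (iv D1404) F3941
theorem F5149 : act 5 n1404 = n1069 := d26_1 D1404 (iv D1069) D1067
def n1405 : Q := act 7 n1068
theorem D1405 : act 7 n1068 = n1405 := rfl
theorem F5150 : act 0 n1405 = n1405 := d6_1 D1405 (iv D1405) F3942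
theorem F5151 : act 1 n1405 = n1075 := d12_1 D1405 (iv D1075) (iv F3943)
theorem F5152 : act 3 n1405 = n1405 := d21_1 D1405 (iv D1405) F3944
theorem F5153 : act 4 n1405 = n1071 := d24_1 D1405 (iv D1071) (iv F3945)
def n1406 : Q := act 6 n1069
theorem D1406 : act 6 n1069 = n1406 := rfl
theorem F5154 : act 0 n1406 = n1406 := d5_1 D1406 (iv D1406) F3946
theorem F5155 : act 1 n1406 = n1076 := d11_1 D1406 (iv D1076) (iv F3947)
theorem F5156 : act 3 n1406 = n1406 := d20_1 D1406 (iv D1406) F3949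
theorem F5157 : act 4 n1406 = n1072 := d23_1 D1406 (iv D1072) (iv F3950)
def n1407 : Q := act 7 n1070
theorem D1407 : act 7 n1070 = n1407 := rfl
theorem F5158 : act 0 n1407 = n1407 := d6_1 D1407 (iv D1407) F3951
theorem F5159 : act 2 n1407 = n1071 := d17_1 D1407 (iv D1071) D1070
theorem F5160 : act 5 n1407 = n1407 := d26_1 D1407 (iv D1407) F3952
def n1408 : Q := act 6 n1071
theorem D1408 : act 6 n1071 = n1408 := rfl
theorem F5161 : act 0 n1408 = n1408 := d5_1 D1408 (iv D1408) F3954
theorem F5162 : act 1 n1408 = n1077 := d11_1 D1408 (iv D1077) (iv F3955)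
theorem F5163 : act 3 n1408 = n1173 := d20_1 D1408 (iv D1173) (iv F3956)
theorem F5164 : act 5 n1408 = n1408 := d25_1 D1408 (iv D1408) F3957
theorem F5165 : act 7 n1408 = n1072 := d27_2 D1071 D1408 (iv D1072) (iv D805) D804
def n1409 : Q := act 2 n1072
theorem D1409 : act 2 n1072 = n1409 := rfl
theorem F5166 : act 0 n1409 = n1409 := d1_1 D1409 (iv D1409) F3958
theorem F5167 : act 5 n1409 = n1409 := d15_2 F3961 D1409 (iv D1409)
theorem F5168 : act 6 n1409 = n1409 := d16_2 D1072 D1409 (iv D1409) (iv D1072) F3019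
def n1410 : Q := act 7 n1073
theorem D1410 : act 7 n1073 = n1410 := rfl
theorem F5169 : act 0 n1410 = n1085 := d6_1 D1410 (iv D1085) (iv F3962)
theorem F5170 : act 3 n1410 = n1410 := d21_1 D1410 (iv D1410) F3963
theorem F5171 : act 4 n1410 = n1410 := d24_1 D1410 (iv D1410) F3964
theorem F5172 : act 5 n1410 = n1075 := d26_1 D1410 (iv D1075) (iv F3965)
def n1411 : Q := act 6 n1074
theorem D1411 : act 6 n1074 = n1411 := rfl
theorem F5173 : act 0 n1411 = n1086 := d5_1 D1411 (iv D1086) (iv F3966)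
theorem F5174 : act 3 n1411 = n1411 := d20_1 D1411 (iv D1411) F3968
theorem F5175 : act 4 n1411 = n1411 := d23_1 D1411 (iv D1411) F3969
theorem F5176 : act 5 n1411 = n1076 := d25_1 D1411 (iv D1076) (iv F3970)
def n1412 : Q := act 6 n1075
theorem D1412 : act 6 n1075 = n1412 := rfl
theorem F5177 : act 0 n1412 = n1087 := d5_1 D1412 (iv D1087) (iv F3971)
theorem F5178 : act 3 n1412 = n1412 := d20_1 D1412 (iv D1412) F3972
theorem F5179 : act 4 n1412 = n1077 := d23_1 D1412 (iv D1077) (iv F3973)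
theorem F5180 : act 7 n1412 = n1076 := d27_2 D1075 D1412 (iv D1076) (iv D808) D807
def n1413 : Q := act 2 n1076
theorem D1413 : act 2 n1076 = n1413 := rfl
theorem F5181 : act 0 n1413 = n1088 := d1_1 D1413 (iv D1088) (iv F3974)
theorem F5182 : act 4 n1413 = n1078 := d14_2 (iv F3976) D1413 (iv D1078)
theorem F5183 : act 6 n1413 = n1080 := d16_2 D1076 D1413 (iv D1080) (iv D812) (iv F3030)
def n1414 : Q := act 2 n1077
theorem D1414 : act 2 n1077 = n1414 := rfl
theorem F5184 : act 0 n1414 = n1089 := d1_1 D1414 (iv D1089) (iv F3977)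
theorem F5185 : act 5 n1414 = n1414 := d15_2 F3979 D1414 (iv D1414)
theorem F5186 : act 7 n1414 = n1078 := d17_2 (iv F3980) D1414 (iv D1078)
def n1415 : Q := act 1 n1078
theorem D1415 : act 1 n1078 = n1415 := rfl
theorem F5187 : act 5 n1415 = n1415 := d10_2 F3982 D1415 (iv D1415)
theorem F5188 : act 6 n1415 = n1081 := d11_2 (iv F3983) D1415 (iv D1081)
def n1416 : Q := act 3 n1078
theorem D1416 : act 3 n1078 = n1416 := rfl
theorem F5189 : act 0 n1416 = n1091 := d2_1 D1416 (iv D1091) (iv F3981)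
theorem F5190 : act 2 n1416 = n1177 := d13_1 D1416 (iv D1177) (iv D891) (iv F3037) D1078
theorem F5191 : act 5 n1416 = n1416 := d19_2 F3982 D1416 (iv D1416)
theorem F5192 : act 6 n1416 = n1082 := d20_2 (iv F3983) D1416 (iv D1082)
def n1417 : Q := act 2 n1079
theorem D1417 : act 2 n1079 = n1417 := rfl
theorem F5193 : act 0 n1417 = n1092 := d1_1 D1417 (iv D1092) (iv F3984)
theorem F5194 : act 4 n1417 = n1417 := d14_2 F3987 D1417 (iv D1417)
theorem F5195 : act 5 n1417 = n1080 := d15_2 (iv F3988) D1417 (iv D1080)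
def n1418 : Q := act 1 n1080
theorem D1418 : act 1 n1080 = n1418 := rfl
theorem F5196 : act 2 n1418 = n1418 := d7_2 D1080 D1418 (iv D1418) (iv D1080) F3045
theorem F5197 : act 4 n1418 = n1081 := d9_2 (iv F3990) D1418 (iv D1081)
def n1419 : Q := act 3 n1080
theorem D1419 : act 3 n1080 = n1419 := rfl
theorem F5198 : act 0 n1419 = n1094 := d2_1 D1419 (iv D1094) (iv F3989)
theorem F5199 : act 2 n1419 = n1105 := d13_1 D1419 (iv D1105) (iv D832) (iv F3046) D1080
def n1420 : Q := act 0 n1081
theorem D1420 : act 0 n1081 = n1420 := rfl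
theorem F5200 : act 1 n1420 = n1095 := d0_2 D1081 D1420 (iv D1095) (iv D824) (iv F3048)
theorem F5201 : act 2 n1420 = n1420 := d1_2 F3991 D1420 (iv D1420)
theorem F5202 : act 5 n1420 = n1420 := d4_2 F3992 D1420 (iv D1420)
def n1421 : Q := act 3 n1081
theorem D1421 : act 3 n1081 = n1421 := rfl
theorem F5203 : act 1 n1421 = n1082 := d8_1 D1421 (iv D1082) D1081
theorem F5204 : act 5 n1421 = n1421 := d19_2 F3992 D1421 (iv D1421)
def n1422 : Q := act 4 n1082
theorem D1422 : act 4 n1082 = n1422 := rfl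
theorem F5205 : act 0 n1422 = n1097 := d3_1 D1422 (iv D1097) (iv F3993)
theorem F5206 : act 2 n1422 = n1084 := d14_1 D1422 (iv D1084) (iv F3994)
def n1423 : Q := act 2 n1083
theorem D1423 : act 2 n1083 = n1423 := rfl
theorem F5207 : act 0 n1423 = n1423 := d1_1 D1423 (iv D1423) F3996
theorem F5208 : act 3 n1423 = n1423 := d13_2 D1083 D1423 (iv D1423) (iv D1083) F3051
theorem F5209 : act 5 n1423 = n1423 := d15_2 F3998 D1423 (iv D1423)
def n1424 : Q := act 4 n1083
theorem D1424 : act 4 n1083 = n1424 := rfl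
theorem F5211 : act 1 n1424 = n1084 := d9_1 D1424 (iv D1084) (iv F3997)
def n1426 : Q := act 6 n1085
theorem D1426 : act 6 n1085 = n1426 := rfl
theorem F5218 : act 1 n1426 = n1426 := d11_1 D1426 (iv D1426) F4003
theorem F5219 : act 3 n1426 = n1426 := d20_1 D1426 (iv D1426) F4004
theorem F5220 : act 4 n1426 = n1426 := d23_1 D1426 (iv D1426) F4005
theorem F5221 : act 5 n1426 = n1087 := d25_1 D1426 (iv D1087) (iv F4006)
theorem F5222 : act 7 n1426 = n1086 := d27_2 D1085 D1426 (iv D1086) (iv D817) D816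
def n1427 : Q := act 2 n1086
theorem D1427 : act 2 n1086 = n1427 := rfl
theorem F5223 : act 4 n1427 = n1427 := d14_2 F4009 D1427 (iv D1427)
theorem F5224 : act 5 n1427 = n1088 := d15_2 (iv F4010) D1427 (iv D1088)
theorem F5225 : act 6 n1427 = n1092 := d16_2 D1086 D1427 (iv D1092) (iv D822) (iv F3063)
def n1428 : Q := act 2 n1087
theorem D1428 : act 2 n1087 = n1428 := rfl
theorem F5226 : act 4 n1428 = n1089 := d14_2 (iv F4013) D1428 (iv D1089)
theorem F5227 : act 7 n1428 = n1088 := d17_2 (iv F4014) D1428 (iv D1088)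
def n1429 : Q := act 1 n1088
theorem D1429 : act 1 n1088 = n1429 := rfl
theorem F5228 : act 2 n1429 = n1429 := d7_2 D1088 D1429 (iv D1429) (iv D1088) F3070
theorem F5229 : act 4 n1429 = n1090 := d9_2 (iv F4015) D1429 (iv D1090)
theorem F5230 : act 6 n1429 = n1093 := d11_2 (iv F4016) D1429 (iv D1093)
def n1430 : Q := act 3 n1088
theorem D1430 : act 3 n1088 = n1430 := rfl
theorem F5231 : act 2 n1430 = n1430 := d13_1 D1430 (iv D1430) (iv D1088) F3071 D1088
theorem F5232 : act 6 n1430 = n1094 := d20_2 (iv F4016) D1430 (iv D1094)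
def n1431 : Q := act 1 n1089
theorem D1431 : act 1 n1089 = n1431 := rfl
theorem F5233 : act 2 n1431 = n1431 := d7_2 D1089 D1431 (iv D1431) (iv D1089) F3073
theorem F5234 : act 5 n1431 = n1431 := d10_2 F4017 D1431 (iv D1431)
theorem F5235 : act 7 n1431 = n1090 := d12_2 (iv F4018) D1431 (iv D1090)
def n1432 : Q := act 3 n1089
theorem D1432 : act 3 n1089 = n1432 := rfl
theorem F5236 : act 2 n1432 = n1185 := d13_1 D1432 (iv D1185) (iv D896) (iv F3074) D1089
theorem F5237 : act 5 n1432 = n1432 := d19_2 F4017 D1432 (iv D1432)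
theorem F5238 : act 7 n1432 = n1091 := d21_2 (iv F4018) D1432 (iv D1091)
def n1433 : Q := act 0 n1090
theorem D1433 : act 0 n1090 = n1433 := rfl
theorem F5239 : act 2 n1433 = n1433 := d1_2 F4019 D1433 (iv D1433)
theorem F5240 : act 5 n1433 = n1433 := d4_2 F4020 D1433 (iv D1433)
theorem F5241 : act 6 n1433 = n1095 := d5_2 (iv F4021) D1433 (iv D1095)
def n1434 : Q := act 3 n1090
theorem D1434 : act 3 n1090 = n1434 := rfl
theorem F5242 : act 1 n1434 = n1091 := d8_1 D1434 (iv D1091) D1090
theorem F5243 : act 5 n1434 = n1434 := d19_2 F4020 D1434 (iv D1434)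
theorem F5244 : act 6 n1434 = n1096 := d20_2 (iv F4021) D1434 (iv D1096)
def n1435 : Q := act 4 n1091
theorem D1435 : act 4 n1091 = n1435 := rfl
theorem F5245 : act 2 n1435 = n1188 := d14_1 D1435 (iv D1188) (iv F4022)
theorem F5246 : act 6 n1435 = n1097 := d23_2 (iv F4024) D1435 (iv D1097)
def n1436 : Q := act 1 n1092
theorem D1436 : act 1 n1092 = n1436 := rfl
theorem F5247 : act 2 n1436 = n1099 := d7_2 D1092 D1436 (iv D1099) (iv D827) (iv F3079)
theorem F5248 : act 4 n1436 = n1436 := d9_2 F4025 D1436 (iv D1436)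
theorem F5249 : act 5 n1436 = n1093 := d10_2 (iv F4026) D1436 (iv D1093)
def n1437 : Q := act 3 n1092
theorem D1437 : act 3 n1092 = n1437 := rfl
theorem F5250 : act 2 n1437 = n1113 := d13_1 D1437 (iv D1113) (iv D837) (iv F3080) D1092
theorem F5251 : act 5 n1437 = n1094 := d19_2 (iv F4026) D1437 (iv D1094)
def n1438 : Q := act 0 n1093
theorem D1438 : act 0 n1093 = n1438 := rfl
theorem F5252 : act 2 n1438 = n1101 := d1_2 (iv F4027) D1438 (iv D1101)
theorem F5253 : act 4 n1438 = n1095 := d3_2 (iv F4028) D1438 (iv D1095)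
def n1439 : Q := act 3 n1093
theorem D1439 : act 3 n1093 = n1439 := rfl
theorem F5254 : act 1 n1439 = n1094 := d8_1 D1439 (iv D1094) D1093
def n1440 : Q := act 4 n1094
theorem D1440 : act 4 n1094 = n1440 := rfl
theorem F5255 : act 2 n1440 = n1116 := d14_1 D1440 (iv D1116) (iv F4029)
theorem F5256 : act 3 n1440 = n1097 := d18_1 D1440 (iv D1097) (iv D825) (iv F3083) D1094
def n1441 : Q := act 3 n1095
theorem D1441 : act 3 n1095 = n1441 := rfl
theorem F5257 : act 0 n1441 = n1096 := d2_1 D1441 (iv D1096) D1095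
theorem F5258 : act 2 n1441 = n1441 := d13_1 D1441 (iv D1441) F4030 F3102 (iv F4030)
theorem F5259 : act 5 n1441 = n1441 := d19_2 F4031 D1441 (iv D1441)
def n1442 : Q := act 4 n1096
theorem D1442 : act 4 n1096 = n1442 := rfl
theorem F5260 : act 1 n1442 = n1097 := d9_1 D1442 (iv D1097) (iv F4032)
theorem F5261 : act 2 n1442 = n1442 := d14_1 D1442 (iv D1442) F4033
def n1443 : Q := act 5 n1097
theorem D1443 : act 5 n1097 = n1443 := rfl
theorem F5262 : act 2 n1443 = n1098 := d15_1 D1443 (iv D1098) (iv F4035)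
theorem F5263 : act 4 n1443 = n1443 := d22_1 D1443 (iv D1443) (iv D1097) F3087 D1097
def n1444 : Q := act 0 n1099
theorem D1444 : act 0 n1099 = n1444 := rfl
theorem F5264 : act 1 n1444 = n1444 := d0_2 D1099 D1444 (iv D1444) (iv D1099) F3091
theorem F5265 : act 4 n1444 = n1444 := d3_2 F4040 D1444 (iv D1444)
theorem F5266 : act 5 n1444 = n1101 := d4_2 (iv F4041) D1444 (iv D1101)
theorem F5267 : act 6 n1444 = n1444 := d5_2 F4042 D1444 (iv D1444)
def n1445 : Q := act 3 n1099
theorem D1445 : act 3 n1099 = n1445 := rfl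
theorem F5268 : act 1 n1445 = n1100 := d8_1 D1445 (iv D1100) D1099
theorem F5269 : act 5 n1445 = n1102 := d19_2 (iv F4041) D1445 (iv D1102)
theorem F5270 : act 6 n1445 = n1445 := d20_2 F4042 D1445 (iv D1445)
def n1446 : Q := act 4 n1100
theorem D1446 : act 4 n1100 = n1446 := rfl
theorem F5275 : act 6 n1446 = n1446 := d23_2 F4046 D1446 (iv D1446)
def n1447 : Q := act 3 n1101
theorem D1447 : act 3 n1101 = n1447 := rfl
theorem F5276 : act 0 n1447 = n1102 := d2_1 D1447 (iv D1102) D1101
theorem F5277 : act 1 n1447 = n1447 := d8_1 D1447 (iv D1447) F4047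
theorem F5278 : act 4 n1447 = n1447 := d18_2 (iv F4048) D1447 (iv D1447) F4048 F3102
theorem F5279 : act 6 n1447 = n1447 := d20_2 F4049 D1447 (iv D1447)
def n1448 : Q := act 2 n1102
theorem D1448 : act 2 n1102 = n1448 := rfl
theorem F5280 : act 1 n1448 = n1124 := d7_1 D1448 (iv D1124) F3153 (iv F3098) (iv F4050)
theorem F5281 : act 4 n1448 = n1448 := d14_2 F4051 D1448 (iv D1448)
def n1449 : Q := act 1 n1103
theorem D1449 : act 1 n1103 = n1449 := rfl
theorem F5282 : act 2 n1449 = n1449 := d7_2 D1103 D1449 (iv D1449) (iv D1103) F3106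
theorem F5283 : act 4 n1449 = n1125 := d9_2 (iv F4054) D1449 (iv D1125)
theorem F5284 : act 5 n1449 = n1104 := d10_2 (iv F4055) D1449 (iv D1104)
theorem F5285 : act 6 n1449 = n1449 := d11_2 F4056 D1449 (iv D1449)
def n1450 : Q := act 3 n1103
theorem D1450 : act 3 n1103 = n1450 := rfl
theorem F5286 : act 0 n1450 = n1113 := d2_1 D1450 (iv D1113) (iv F4053)
theorem F5287 : act 5 n1450 = n1105 := d19_2 (iv F4055) D1450 (iv D1105)
theorem F5288 : act 6 n1450 = n1450 := d20_2 F4056 D1450 (iv D1450)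
def n1451 : Q := act 0 n1104
theorem D1451 : act 0 n1104 = n1451 := rfl
theorem F5289 : act 1 n1451 = n1114 := d0_2 D1104 D1451 (iv D1114) (iv D838) (iv F3109)
theorem F5290 : act 2 n1451 = n1451 := d1_2 F4057 D1451 (iv D1451)
theorem F5291 : act 4 n1451 = n1106 := d3_2 (iv F4058) D1451 (iv D1106)
theorem F5292 : act 6 n1451 = n1451 := d5_2 F4059 D1451 (iv D1451)
def n1452 : Q := act 3 n1104
theorem D1452 : act 3 n1104 = n1452 := rfl
theorem F5293 : act 1 n1452 = n1105 := d8_1 D1452 (iv D1105) D1104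
theorem F5294 : act 6 n1452 = n1452 := d20_2 F4059 D1452 (iv D1452)
def n1453 : Q := act 4 n1105
theorem D1453 : act 4 n1105 = n1453 := rfl
theorem F5295 : act 0 n1453 = n1116 := d3_1 D1453 (iv D1116) (iv F4060)
theorem F5296 : act 3 n1453 = n1108 := d18_1 D1453 (iv D1108) (iv D834) (iv F3110) D1105
theorem F5297 : act 6 n1453 = n1453 := d23_2 F4061 D1453 (iv D1453)
def n1454 : Q := act 3 n1106
theorem D1454 : act 3 n1106 = n1454 := rfl
theorem F5299 : act 1 n1454 = n1117 := d8_1 D1454 (iv D1117) (iv F4062)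
def n1455 : Q := act 2 n1107
theorem D1455 : act 2 n1107 = n1455 := rfl
def n1456 : Q := act 4 n1107
theorem D1456 : act 4 n1107 = n1456 := rfl
theorem F5305 : act 1 n1456 = n1108 := d9_1 D1456 (iv D1108) (iv F4066)
def n1457 : Q := act 5 n1108
theorem D1457 : act 5 n1108 = n1457 := rfl
def n1461 : Q := act 0 n1112
theorem D1461 : act 0 n1112 = n1461 := rfl
theorem F5322 : act 4 n1461 = n1137 := d3_2 (iv F4082) D1461 (iv D1137)
theorem F5323 : act 5 n1461 = n1114 := d4_2 (iv F4083) D1461 (iv D1114)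
def n1462 : Q := act 3 n1112
theorem D1462 : act 3 n1112 = n1462 := rfl
theorem F5325 : act 1 n1462 = n1113 := d8_1 D1462 (iv D1113) D1112
def n1463 : Q := act 4 n1113
theorem D1463 : act 4 n1113 = n1463 := rfl
theorem F5328 : act 3 n1463 = n1139 := d18_1 D1463 (iv D1139) (iv D858) (iv F3125) D1113
def n1464 : Q := act 3 n1114
theorem D1464 : act 3 n1114 = n1464 := rfl
theorem F5330 : act 0 n1464 = n1115 := d2_1 D1464 (iv D1115) D1114
theorem F5331 : act 6 n1464 = n1464 := d20_2 F4089 D1464 (iv D1464)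
def n1465 : Q := act 2 n1115
theorem D1465 : act 2 n1115 = n1465 := rfl
theorem F5332 : act 3 n1465 = n1124 := d13_2 D1115 D1465 (iv D1124) (iv D847) (iv F3128)
def n1466 : Q := act 4 n1115
theorem D1466 : act 4 n1115 = n1466 := rfl
theorem F5333 : act 1 n1466 = n1116 := d9_1 D1466 (iv D1116) (iv F4090)
theorem F5334 : act 3 n1466 = n1118 := d18_1 D1466 (iv D1118) (iv D841) (iv F3129) D1115
theorem F5335 : act 6 n1466 = n1466 := d23_2 F4091 D1466 (iv D1466)
def n1467 : Q := act 5 n1116
theorem D1467 : act 5 n1116 = n1467 := rfl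
theorem F5336 : act 3 n1467 = n1119 := d19_1 D1467 (iv D1119) (iv F4092)
def n1468 : Q := act 4 n1117
theorem D1468 : act 4 n1117 = n1468 := rfl
theorem F5338 : act 0 n1468 = n1118 := d3_1 D1468 (iv D1118) (iv F4094)
def n1469 : Q := act 5 n1118
theorem D1469 : act 5 n1118 = n1469 := rfl
def n1470 : Q := act 3 n1120
theorem D1470 : act 3 n1120 = n1470 := rfl
theorem F5345 : act 0 n1470 = n1121 := d2_1 D1470 (iv D1121) D1120
theorem F5347 : act 5 n1470 = n1123 := d19_2 (iv F4106) D1470 (iv D1123)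
theorem F5348 : act 6 n1470 = n1151 := d20_2 (iv F4107) D1470 (iv D1151)
def n1471 : Q := act 2 n1121
theorem D1471 : act 2 n1121 = n1471 := rfl
theorem F5349 : act 5 n1471 = n1124 := d15_2 (iv F4109) D1471 (iv D1124)
def n1472 : Q := act 4 n1121
theorem D1472 : act 4 n1121 = n1472 := rfl
theorem F5351 : act 3 n1472 = n1148 := d18_1 D1472 (iv D1148) (iv D866) (iv F3144) D1121
theorem F5353 : act 6 n1472 = n1153 := d23_2 (iv F4110) D1472 (iv D1153)
def n1473 : Q := act 2 n1123
theorem D1473 : act 2 n1123 = n1473 := rfl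
theorem F5354 : act 0 n1473 = n1124 := d1_1 D1473 (iv D1124) (iv F4115)
def n1474 : Q := act 6 n1124
theorem D1474 : act 6 n1124 = n1474 := rfl
theorem F5356 : act 2 n1474 = n1155 := d16_1 D1474 (iv D1155) (iv D874) (iv F3155) D1124
theorem F5357 : act 4 n1474 = n1474 := d23_1 D1474 (iv D1474) F4119
def n1475 : Q := act 0 n1125
theorem D1475 : act 0 n1125 = n1475 := rfl
theorem F5358 : act 1 n1475 = n1137 := d0_2 D1125 D1475 (iv D1137) (iv D857) (iv F3156)
theorem F5360 : act 5 n1475 = n1127 := d4_2 (iv F4121) D1475 (iv D1127)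
def n1476 : Q := act 3 n1125
theorem D1476 : act 3 n1125 = n1476 := rfl
theorem F5363 : act 5 n1476 = n1128 := d19_2 (iv F4121) D1476 (iv D1128)
def n1477 : Q := act 4 n1126
theorem D1477 : act 4 n1126 = n1477 := rfl
def n1478 : Q := act 3 n1127
theorem D1478 : act 3 n1127 = n1478 := rfl
theorem F5368 : act 0 n1478 = n1128 := d2_1 D1478 (iv D1128) D1127
theorem F5369 : act 1 n1478 = n1140 := d8_1 D1478 (iv D1140) (iv F4127)
def n1479 : Q := act 2 n1128
theorem D1479 : act 2 n1128 = n1479 := rfl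
def n1480 : Q := act 4 n1128
theorem D1480 : act 4 n1128 = n1480 := rfl
theorem F5374 : act 3 n1480 = n1132 := d18_1 D1480 (iv D1132) (iv D852) (iv F3160) D1128
def n1481 : Q := act 5 n1129
theorem D1481 : act 5 n1129 = n1481 := rfl
def n1482 : Q := act 2 n1130
theorem D1482 : act 2 n1130 = n1482 := rfl
def n1483 : Q := act 4 n1130
theorem D1483 : act 4 n1130 = n1483 := rfl
theorem F5383 : act 0 n1483 = n1132 := d3_1 D1483 (iv D1132) (iv F4137)
theorem F5384 : act 1 n1483 = n1144 := d9_1 D1483 (iv D1144) (iv F4138)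
def n1484 : Q := act 4 n1131
theorem D1484 : act 4 n1131 = n1484 := rfl
theorem F5386 : act 1 n1484 = n1134 := d9_1 D1484 (iv D1134) (iv F4140)
theorem F5387 : act 2 n1484 = n1132 := d14_1 D1484 (iv D1132) D1131
def n1486 : Q := act 5 n1132
theorem D1486 : act 5 n1132 = n1486 := rfl
def n1487 : Q := act 3 n1134
theorem D1487 : act 3 n1134 = n1487 := rfl
def n1488 : Q := act 5 n1134
theorem D1488 : act 5 n1134 = n1488 := rfl
def n1491 : Q := act 3 n1137
theorem D1491 : act 3 n1137 = n1491 := rfl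
def n1494 : Q := act 5 n1139
theorem D1494 : act 5 n1139 = n1494 := rfl
theorem F5413 : act 4 n1494 = n1143 := d22_1 D1494 (iv D1143) (iv D861) (iv F3186) D1139
def n1495 : Q := act 2 n1140
theorem D1495 : act 2 n1140 = n1495 := rfl
theorem F5416 : act 3 n1495 = n1149 := d13_2 D1140 D1495 (iv D1149) (iv D868) (iv F3188)
def n1496 : Q := act 4 n1140
theorem D1496 : act 4 n1140 = n1496 := rfl
theorem F5418 : act 3 n1496 = n1144 := d18_1 D1496 (iv D1144) (iv D862) (iv F3189) D1140
theorem F5419 : act 6 n1496 = n1496 := d23_2 F4165 D1496 (iv D1496)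
def n1498 : Q := act 6 n1141
theorem D1498 : act 6 n1141 = n1498 := rfl
def n1500 : Q := act 5 n1144
theorem D1500 : act 5 n1144 = n1500 := rfl
theorem F5429 : act 0 n1500 = n1145 := d4_1 D1500 (iv D1145) (iv F4174)
def n1501 : Q := act 2 n1146
theorem D1501 : act 2 n1146 = n1501 := rfl
theorem F5432 : act 0 n1501 = n1147 := d1_1 D1501 (iv D1147) (iv F4180)
def n1502 : Q := act 4 n1146
theorem D1502 : act 4 n1146 = n1502 := rfl
theorem F5437 : act 6 n1502 = n1157 := d23_2 (iv F4183) D1502 (iv D1157)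
def n1503 : Q := act 4 n1147
theorem D1503 : act 4 n1147 = n1503 := rfl
theorem F5439 : act 2 n1503 = n1148 := d14_1 D1503 (iv D1148) D1147
def n1504 : Q := act 6 n1147
theorem D1504 : act 6 n1147 = n1504 := rfl
theorem F5442 : act 2 n1504 = n1159 := d16_1 D1504 (iv D1159) (iv D876) (iv F3209) D1147
def n1505 : Q := act 1 n1149
theorem D1505 : act 1 n1149 = n1505 := rfl
def n1506 : Q := act 6 n1149
theorem D1506 : act 6 n1149 = n1506 := rfl
theorem F5448 : act 2 n1506 = n1161 := d16_1 D1506 (iv D1161) (iv D878) (iv F3217) D1149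
def n1507 : Q := act 7 n1150
theorem D1507 : act 7 n1150 = n1507 := rfl
def n1508 : Q := act 2 n1151
theorem D1508 : act 2 n1151 = n1508 := rfl
theorem F5453 : act 0 n1508 = n1152 := d1_1 D1508 (iv D1152) (iv F4194)
theorem F5455 : act 5 n1508 = n1154 := d15_2 (iv F4196) D1508 (iv D1154)
def n1509 : Q := act 4 n1151
theorem D1509 : act 4 n1151 = n1509 := rfl
theorem F5459 : act 3 n1509 = n1157 := d18_1 D1509 (iv D1157) (iv D875) (iv F3222) D1151
def n1510 : Q := act 4 n1152
theorem D1510 : act 4 n1152 = n1510 := rfl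
theorem F5462 : act 1 n1510 = n1510 := d9_1 D1510 (iv D1510) F4198
theorem F5463 : act 2 n1510 = n1153 := d14_1 D1510 (iv D1153) D1152
def n1511 : Q := act 6 n1152
theorem D1511 : act 6 n1152 = n1511 := rfl
theorem F5466 : act 1 n1511 = n1511 := d11_1 D1511 (iv D1511) F4198
theorem F5467 : act 3 n1511 = n1511 := d20_1 D1511 (iv D1511) F4199
theorem F5468 : act 5 n1511 = n1155 := d25_1 D1511 (iv D1155) (iv F4200)
def n1512 : Q := act 1 n1154
theorem D1512 : act 1 n1154 = n1512 := rfl
theorem F5469 : act 0 n1512 = n1512 := d0_1 D1512 (iv D1512) F4206 F3237 (iv F4206)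
theorem F5470 : act 2 n1512 = n1512 := d7_2 D1154 D1512 (iv D1512) (iv D1154) F3234
theorem F5471 : act 3 n1512 = n1512 := d8_2 F4207 D1512 (iv D1512)
theorem F5472 : act 4 n1512 = n1512 := d9_2 F4208 D1512 (iv D1512)
theorem F5473 : act 7 n1512 = n1512 := d12_2 F4209 D1512 (iv D1512)
def n1513 : Q := act 6 n1154
theorem D1513 : act 6 n1154 = n1513 := rfl
theorem F5474 : act 0 n1513 = n1155 := d5_1 D1513 (iv D1155) (iv F4206)
theorem F5475 : act 3 n1513 = n1513 := d20_1 D1513 (iv D1513) F4207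
theorem F5476 : act 4 n1513 = n1513 := d23_1 D1513 (iv D1513) F4208
def n1514 : Q := act 7 n1155
theorem D1514 : act 7 n1155 = n1514 := rfl
theorem F5477 : act 1 n1514 = n1514 := d12_1 D1514 (iv D1514) F4210
theorem F5478 : act 3 n1514 = n1514 := d21_1 D1514 (iv D1514) F4211
theorem F5479 : act 4 n1514 = n1514 := d24_1 D1514 (iv D1514) F4212
theorem F5480 : act 6 n1514 = n1514 := d27_1 D1514 (iv D1514) (iv D1155) F3240 D1155
def n1515 : Q := act 1 n1156
theorem D1515 : act 1 n1156 = n1515 := rfl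
theorem F5481 : act 0 n1515 = n1163 := d0_1 D1515 (iv D1163) F3259 (iv F3245) (iv F4213)
theorem F5484 : act 5 n1515 = n1160 := d10_2 (iv F4215) D1515 (iv D1160)
def n1516 : Q := act 4 n1156
theorem D1516 : act 4 n1156 = n1516 := rfl
theorem F5486 : act 0 n1516 = n1158 := d3_1 D1516 (iv D1158) (iv F4213)
theorem F5487 : act 2 n1516 = n1157 := d14_1 D1516 (iv D1157) D1156
def n1517 : Q := act 6 n1156
theorem D1517 : act 6 n1156 = n1517 := rfl
def n1518 : Q := act 3 n1158
theorem D1518 : act 3 n1158 = n1518 := rfl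
theorem F5493 : act 1 n1518 = n1166 := d8_1 D1518 (iv D1166) (iv F4221)
def n1519 : Q := act 6 n1158
theorem D1519 : act 6 n1158 = n1519 := rfl
theorem F5497 : act 1 n1519 = n1167 := d11_1 D1519 (iv D1167) (iv F4221)
def n1520 : Q := act 7 n1159
theorem D1520 : act 7 n1159 = n1520 := rfl
theorem F5500 : act 1 n1520 = n1168 := d12_1 D1520 (iv D1168) (iv F4225)
def n1521 : Q := act 6 n1160
theorem D1521 : act 6 n1160 = n1521 := rfl
theorem F5504 : act 0 n1521 = n1169 := d5_1 D1521 (iv D1169) (iv F4228)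
theorem F5505 : act 1 n1521 = n1161 := d11_1 D1521 (iv D1161) D1160
def n1522 : Q := act 7 n1161
theorem D1522 : act 7 n1161 = n1522 := rfl
theorem F5508 : act 0 n1522 = n1162 := d6_1 D1522 (iv D1162) (iv F4233)
def n1523 : Q := act 4 n1163
theorem D1523 : act 4 n1163 = n1523 := rfl
theorem F5512 : act 1 n1523 = n1164 := d9_1 D1523 (iv D1164) D1163
def n1524 : Q := act 6 n1163
theorem D1524 : act 6 n1163 = n1524 := rfl
def n1525 : Q := act 3 n1164
theorem D1525 : act 3 n1164 = n1525 := rfl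
theorem F5520 : act 2 n1525 = n1525 := d13_1 D1525 (iv D1525) F4245 F3265 (iv F4245)
def n1526 : Q := act 6 n1164
theorem D1526 : act 6 n1164 = n1526 := rfl
theorem F5524 : act 0 n1526 = n1167 := d5_1 D1526 (iv D1167) (iv F4244)
def n1527 : Q := act 7 n1165
theorem D1527 : act 7 n1165 = n1527 := rfl
theorem F5528 : act 0 n1527 = n1168 := d6_1 D1527 (iv D1168) (iv F4248)
def n1528 : Q := act 6 n1166
theorem D1528 : act 6 n1166 = n1528 := rfl
theorem F5533 : act 3 n1528 = n1167 := d20_1 D1528 (iv D1167) D1166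
def n1529 : Q := act 7 n1167
theorem D1529 : act 7 n1167 = n1529 := rfl
def n1531 : Q := act 7 n1169
theorem D1531 : act 7 n1169 = n1531 := rfl
def n1532 : Q := act 7 n1171
theorem D1532 : act 7 n1171 = n1532 := rfl
theorem F5547 : act 0 n1532 = n1532 := d6_1 D1532 (iv D1532) F4271
theorem F5548 : act 1 n1532 = n1532 := d12_1 D1532 (iv D1532) F4272
theorem F5549 : act 3 n1532 = n1172 := d21_1 D1532 (iv D1172) D1171
theorem F5550 : act 5 n1532 = n1532 := d26_1 D1532 (iv D1532) F4273
def n1533 : Q := act 6 n1172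
theorem D1533 : act 6 n1172 = n1533 := rfl
theorem F5555 : act 7 n1533 = n1201 := d27_2 D1172 D1533 (iv D1201) (iv D910) (iv F3291)
def n1534 : Q := act 2 n1173
theorem D1534 : act 2 n1173 = n1534 := rfl
theorem F5559 : act 7 n1534 = n1174 := d17_2 (iv F4284) D1534 (iv D1174)
def n1537 : Q := act 1 n1175
theorem D1537 : act 1 n1175 = n1537 := rfl
def n1538 : Q := act 3 n1175
theorem D1538 : act 3 n1175 = n1538 := rfl
theorem F5571 : act 0 n1538 = n1185 := d2_1 D1538 (iv D1185) (iv F4289)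
theorem F5572 : act 5 n1538 = n1538 := d19_2 F4291 D1538 (iv D1538)
theorem F5573 : act 6 n1538 = n1538 := d20_2 F4292 D1538 (iv D1538)
theorem F5574 : act 7 n1538 = n1177 := d21_2 (iv F4293) D1538 (iv D1177)
def n1540 : Q := act 3 n1176
theorem D1540 : act 3 n1176 = n1540 := rfl
theorem F5579 : act 1 n1540 = n1177 := d8_1 D1540 (iv D1177) D1176
def n1541 : Q := act 4 n1177
theorem D1541 : act 4 n1177 = n1541 := rfl
def n1549 : Q := act 0 n1184
theorem D1549 : act 0 n1184 = n1549 := rfl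
theorem F5616 : act 7 n1549 = n1186 := d6_2 (iv F4328) D1549 (iv D1186)
def n1550 : Q := act 3 n1184
theorem D1550 : act 3 n1184 = n1550 := rfl
theorem F5617 : act 1 n1550 = n1185 := d8_1 D1550 (iv D1185) D1184
theorem F5618 : act 5 n1550 = n1550 := d19_2 F4326 D1550 (iv D1550)
theorem F5619 : act 6 n1550 = n1550 := d20_2 F4327 D1550 (iv D1550)
theorem F5620 : act 7 n1550 = n1187 := d21_2 (iv F4328) D1550 (iv D1187)
def n1551 : Q := act 4 n1185
theorem D1551 : act 4 n1185 = n1551 := rfl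
theorem F5621 : act 3 n1551 = n1551 := d18_1 D1551 (iv D1551) (iv D1185) F3323 D1185
theorem F5622 : act 6 n1551 = n1551 := d23_2 F4330 D1551 (iv D1551)
theorem F5623 : act 7 n1551 = n1188 := d24_2 (iv F4331) D1551 (iv D1188)
def n1552 : Q := act 3 n1186
theorem D1552 : act 3 n1186 = n1552 := rfl
theorem F5624 : act 0 n1552 = n1187 := d2_1 D1552 (iv D1187) D1186
theorem F5626 : act 6 n1552 = n1189 := d20_2 (iv F4335) D1552 (iv D1189)
def n1553 : Q := act 2 n1187
theorem D1553 : act 2 n1187 = n1553 := rfl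
theorem F5627 : act 3 n1553 = n1553 := d13_2 D1187 D1553 (iv D1553) (iv D1187) F3327
theorem F5628 : act 5 n1553 = n1553 := d15_2 F4337 D1553 (iv D1553)
theorem F5629 : act 6 n1553 = n1553 := d16_2 (iv F4338) D1553 (iv D1553) F4338 F3338
def n1554 : Q := act 4 n1187
theorem D1554 : act 4 n1187 = n1554 := rfl
theorem F5630 : act 1 n1554 = n1188 := d9_1 D1554 (iv D1188) (iv F4336)
theorem F5631 : act 3 n1554 = n1554 := d18_1 D1554 (iv D1554) (iv D1187) F3328 D1187
theorem F5632 : act 6 n1554 = n1190 := d23_2 (iv F4338) D1554 (iv D1190)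
def n1555 : Q := act 5 n1188
theorem D1555 : act 5 n1188 = n1555 := rfl
def n1556 : Q := act 4 n1189
theorem D1556 : act 4 n1189 = n1556 := rfl
theorem F5636 : act 0 n1556 = n1190 := d3_1 D1556 (iv D1190) (iv F4341)
def n1566 : Q := act 7 n1199
theorem D1566 : act 7 n1199 = n1566 := rfl
def n1567 : Q := act 6 n1200
theorem D1567 : act 6 n1200 = n1567 := rfl
def n1608 : Q := act 7 n1234
theorem D1608 : act 7 n1234 = n1608 := rfl
theorem F5840 : act 0 n1608 = n1266 := d6_1 D1608 (iv D1266) (iv F4521)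
theorem F5841 : act 1 n1608 = n1240 := d12_1 D1608 (iv D1240) (iv F4522)
theorem F5842 : act 2 n1608 = n1608 := d17_1 D1608 (iv D1608) F4523
theorem F5843 : act 3 n1608 = n1285 := d21_1 D1608 (iv D1285) F4525
theorem F5844 : act 4 n1608 = n1236 := d24_1 D1608 (iv D1236) D1234
theorem F5845 : act 5 n1608 = n1283 := d26_1 D1608 (iv D1283) F4526
def n1609 : Q := act 7 n1235
theorem D1609 : act 7 n1235 = n1609 := rfl
theorem F5846 : act 0 n1609 = n1268 := d6_1 D1609 (iv D1268) (iv F4527)
theorem F5847 : act 1 n1609 = n1241 := d12_1 D1609 (iv D1241) (iv F4528)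
theorem F5848 : act 2 n1609 = n1324 := d17_1 D1609 (iv D1324) F4532
theorem F5849 : act 3 n1609 = n1609 := d21_1 D1609 (iv D1609) F4529
theorem F5850 : act 4 n1609 = n1282 := d24_1 D1609 (iv D1282) (iv F4530)
theorem F5851 : act 5 n1609 = n1609 := d26_1 D1609 (iv D1609) F4531
def n1610 : Q := act 6 n1236
theorem D1610 : act 6 n1236 = n1610 := rfl
theorem F5852 : act 0 n1610 = n1269 := d5_1 D1610 (iv D1269) (iv F4533)
theorem F5853 : act 1 n1610 = n1242 := d11_1 D1610 (iv D1242) (iv F4534)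
theorem F5854 : act 3 n1610 = n1610 := d20_1 D1610 (iv D1610) F4536
theorem F5855 : act 5 n1610 = n1610 := d25_1 D1610 (iv D1610) F4537
def n1611 : Q := act 7 n1237
theorem D1611 : act 7 n1237 = n1611 := rfl
theorem F5856 : act 0 n1611 = n1248 := d6_1 D1611 (iv D1248) (iv F4538)
theorem F5857 : act 1 n1611 = n1285 := d12_1 D1611 (iv D1285) (iv F4539)
theorem F5858 : act 2 n1611 = n1611 := d17_1 D1611 (iv D1611) F4540
theorem F5859 : act 3 n1611 = n1240 := d21_1 D1611 (iv D1240) D1237
theorem F5860 : act 4 n1611 = n1611 := d24_1 D1611 (iv D1611) F4541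
theorem F5861 : act 5 n1611 = n1250 := d26_1 D1611 (iv D1250) F4542
def n1612 : Q := act 7 n1238
theorem D1612 : act 7 n1238 = n1612 := rfl
theorem F5862 : act 0 n1612 = n1249 := d6_1 D1612 (iv D1249) (iv F4544)
theorem F5863 : act 1 n1612 = n1283 := d12_1 D1612 (iv D1283) (iv F4545)
theorem F5864 : act 2 n1612 = n1243 := d17_1 D1612 (iv D1243) (iv F4546)
theorem F5865 : act 3 n1612 = n1250 := d21_1 D1612 (iv D1250) (iv F4547)
theorem F5866 : act 4 n1612 = n1612 := d24_1 D1612 (iv D1612) F4548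
theorem F5867 : act 5 n1612 = n1240 := d26_1 D1612 (iv D1240) D1238
def n1613 : Q := act 7 n1239
theorem D1613 : act 7 n1239 = n1613 := rfl
theorem F5868 : act 0 n1613 = n1250 := d6_1 D1613 (iv D1250) (iv F4550)
theorem F5869 : act 1 n1613 = n1282 := d12_1 D1613 (iv D1282) (iv F4551)
theorem F5870 : act 2 n1613 = n1613 := d17_1 D1613 (iv D1613) F4552
theorem F5871 : act 3 n1613 = n1249 := d21_1 D1613 (iv D1249) (iv F4553)
theorem F5872 : act 4 n1613 = n1241 := d24_1 D1613 (iv D1241) (iv F4554)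
theorem F5873 : act 5 n1613 = n1248 := d26_1 D1613 (iv D1248) (iv F4555)
def n1614 : Q := act 6 n1240
theorem D1614 : act 6 n1240 = n1614 := rfl
theorem F5874 : act 0 n1614 = n1251 := d5_1 D1614 (iv D1251) (iv F4556)
theorem F5875 : act 4 n1614 = n1242 := d23_1 D1614 (iv D1242) (iv F4558)
def n1615 : Q := act 6 n1241
theorem D1615 : act 6 n1241 = n1615 := rfl
theorem F5876 : act 0 n1615 = n1252 := d5_1 D1615 (iv D1252) (iv F4559)
theorem F5877 : act 3 n1615 = n1615 := d20_1 D1615 (iv D1615) F4561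
theorem F5878 : act 5 n1615 = n1615 := d25_1 D1615 (iv D1615) F4562
theorem F5879 : act 7 n1615 = n1242 := d27_2 D1241 D1615 (iv D1242) (iv D940) D939
def n1616 : Q := act 2 n1242
theorem D1616 : act 2 n1242 = n1616 := rfl
theorem F5880 : act 0 n1616 = n1253 := d1_1 D1616 (iv D1253) (iv F4563)
theorem F5881 : act 5 n1616 = n1616 := d15_2 F4565 D1616 (iv D1616)
theorem F5882 : act 6 n1616 = n1245 := d16_2 D1242 D1616 (iv D1245) (iv D943) (iv F3496)
def n1617 : Q := act 6 n1243
theorem D1617 : act 6 n1243 = n1617 := rfl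
theorem F5883 : act 0 n1617 = n1254 := d5_1 D1617 (iv D1254) (iv F4566)
theorem F5884 : act 1 n1617 = n1617 := d11_1 D1617 (iv D1617) F4567
theorem F5885 : act 3 n1617 = n1617 := d20_1 D1617 (iv D1617) F4568
theorem F5886 : act 4 n1617 = n1617 := d23_1 D1617 (iv D1617) F4569
theorem F5887 : act 5 n1617 = n1244 := d25_1 D1617 (iv D1244) (iv F4570)
theorem F5888 : act 7 n1617 = n1617 := d27_2 D1243 D1617 (iv D1617) (iv D1243) F3503
def n1618 : Q := act 2 n1244
theorem D1618 : act 2 n1244 = n1618 := rfl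
theorem F5889 : act 0 n1618 = n1255 := d1_1 D1618 (iv D1255) (iv F4571)
theorem F5890 : act 4 n1618 = n1245 := d14_2 (iv F4574) D1618 (iv D1245)
theorem F5891 : act 7 n1618 = n1618 := d17_2 F4575 D1618 (iv D1618)
def n1619 : Q := act 1 n1245
theorem D1619 : act 1 n1245 = n1619 := rfl
theorem F5892 : act 2 n1619 = n1619 := d7_2 D1245 D1619 (iv D1619) (iv D1245) F3509
theorem F5893 : act 5 n1619 = n1619 := d10_2 F4577 D1619 (iv D1619)
theorem F5894 : act 7 n1619 = n1619 := d12_2 F4578 D1619 (iv D1619)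
def n1620 : Q := act 3 n1245
theorem D1620 : act 3 n1245 = n1620 := rfl
theorem F5895 : act 0 n1620 = n1257 := d2_1 D1620 (iv D1257) (iv F4576)
theorem F5896 : act 2 n1620 = n1247 := d13_1 D1620 (iv D1247) (iv D944) (iv F3510) D1245
theorem F5897 : act 5 n1620 = n1620 := d19_2 F4577 D1620 (iv D1620)
theorem F5898 : act 7 n1620 = n1620 := d21_2 F4578 D1620 (iv D1620)
def n1621 : Q := act 3 n1246
theorem D1621 : act 3 n1246 = n1621 := rfl
theorem F5899 : act 0 n1621 = n1621 := d2_1 D1621 (iv D1621) F4579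
theorem F5900 : act 1 n1621 = n1247 := d8_1 D1621 (iv D1247) D1246
theorem F5901 : act 5 n1621 = n1621 := d19_2 F4582 D1621 (iv D1621)
theorem F5902 : act 6 n1621 = n1621 := d20_2 F4583 D1621 (iv D1621)
theorem F5903 : act 7 n1621 = n1621 := d21_2 F4584 D1621 (iv D1621)
def n1622 : Q := act 4 n1247
theorem D1622 : act 4 n1247 = n1622 := rfl
theorem F5904 : act 0 n1622 = n1258 := d3_1 D1622 (iv D1258) (iv F4585)
theorem F5905 : act 3 n1622 = n1622 := d18_1 D1622 (iv D1622) (iv D1247) F3514 D1247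
theorem F5906 : act 6 n1622 = n1622 := d23_2 F4587 D1622 (iv D1622)
theorem F5907 : act 7 n1622 = n1622 := d24_2 F4588 D1622 (iv D1622)
def n1623 : Q := act 6 n1248
theorem D1623 : act 6 n1248 = n1623 := rfl
theorem F5908 : act 1 n1623 = n1284 := d11_1 D1623 (iv D1284) (iv F4589)
theorem F5909 : act 3 n1623 = n1251 := d20_1 D1623 (iv D1251) (iv F4591)
theorem F5910 : act 4 n1623 = n1623 := d23_1 D1623 (iv D1623) F4592
def n1624 : Q := act 6 n1249
theorem D1624 : act 6 n1249 = n1624 := rfl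
theorem F5911 : act 1 n1624 = n1286 := d11_1 D1624 (iv D1286) (iv F4593)
theorem F5912 : act 4 n1624 = n1624 := d23_1 D1624 (iv D1624) F4595
theorem F5913 : act 5 n1624 = n1251 := d25_1 D1624 (iv D1251) (iv F4596)
def n1625 : Q := act 6 n1250
theorem D1625 : act 6 n1250 = n1625 := rfl
theorem F5914 : act 1 n1625 = n1287 := d11_1 D1625 (iv D1287) (iv F4597)
theorem F5915 : act 4 n1625 = n1252 := d23_1 D1625 (iv D1252) (iv F4599)
theorem F5916 : act 7 n1625 = n1251 := d27_2 D1250 D1625 (iv D1251) (iv D948) D947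
def n1626 : Q := act 2 n1251
theorem D1626 : act 2 n1251 = n1626 := rfl
theorem F5917 : act 4 n1626 = n1253 := d14_2 (iv F4601) D1626 (iv D1253)
theorem F5918 : act 6 n1626 = n1255 := d16_2 D1251 D1626 (iv D1255) (iv D952) (iv F3528)
def n1627 : Q := act 2 n1252
theorem D1627 : act 2 n1252 = n1627 := rfl
theorem F5919 : act 5 n1627 = n1627 := d15_2 F4604 D1627 (iv D1627)
theorem F5920 : act 6 n1627 = n1627 := d16_2 D1252 D1627 (iv D1627) (iv D1252) F3531
theorem F5921 : act 7 n1627 = n1253 := d17_2 (iv F4605) D1627 (iv D1253)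
def n1628 : Q := act 1 n1253
theorem D1628 : act 1 n1253 = n1628 := rfl
theorem F5922 : act 2 n1628 = n1290 := d7_2 D1253 D1628 (iv D1290) (iv D980) (iv F3534)
theorem F5923 : act 5 n1628 = n1628 := d10_2 F4606 D1628 (iv D1628)
theorem F5924 : act 6 n1628 = n1256 := d11_2 (iv F4607) D1628 (iv D1256)
def n1629 : Q := act 3 n1253
theorem D1629 : act 3 n1253 = n1629 := rfl
theorem F5925 : act 2 n1629 = n1629 := d13_1 D1629 (iv D1629) (iv D1253) F3535 D1253
theorem F5926 : act 5 n1629 = n1629 := d19_2 F4606 D1629 (iv D1629)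
theorem F5927 : act 6 n1629 = n1257 := d20_2 (iv F4607) D1629 (iv D1257)
def n1630 : Q := act 2 n1254
theorem D1630 : act 2 n1254 = n1630 := rfl
theorem F5928 : act 4 n1630 = n1630 := d14_2 F4610 D1630 (iv D1630)
theorem F5929 : act 5 n1630 = n1255 := d15_2 (iv F4611) D1630 (iv D1255)
theorem F5930 : act 7 n1630 = n1630 := d17_2 F4612 D1630 (iv D1630)
def n1631 : Q := act 1 n1255
theorem D1631 : act 1 n1255 = n1631 := rfl
theorem F5931 : act 2 n1631 = n1260 := d7_2 D1255 D1631 (iv D1260) (iv D956) (iv F3541)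
theorem F5932 : act 4 n1631 = n1256 := d9_2 (iv F4613) D1631 (iv D1256)
theorem F5933 : act 7 n1631 = n1631 := d12_2 F4614 D1631 (iv D1631)
def n1632 : Q := act 3 n1255
theorem D1632 : act 3 n1255 = n1632 := rfl
theorem F5934 : act 2 n1632 = n1632 := d13_1 D1632 (iv D1632) (iv D1255) F3542 D1255
theorem F5935 : act 7 n1632 = n1632 := d21_2 F4614 D1632 (iv D1632)
def n1633 : Q := act 0 n1256
theorem D1633 : act 0 n1256 = n1633 := rfl
theorem F5936 : act 2 n1633 = n1262 := d1_2 (iv F4615) D1633 (iv D1262)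
theorem F5937 : act 5 n1633 = n1633 := d4_2 F4616 D1633 (iv D1633)
theorem F5938 : act 7 n1633 = n1633 := d6_2 F4617 D1633 (iv D1633)
def n1634 : Q := act 3 n1256
theorem D1634 : act 3 n1256 = n1634 := rfl
theorem F5939 : act 1 n1634 = n1257 := d8_1 D1634 (iv D1257) D1256
theorem F5940 : act 2 n1634 = n1634 := d13_1 D1634 (iv D1634) F4615 F3560 (iv F4615)
theorem F5941 : act 5 n1634 = n1634 := d19_2 F4616 D1634 (iv D1634)
theorem F5942 : act 7 n1634 = n1634 := d21_2 F4617 D1634 (iv D1634)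
def n1635 : Q := act 4 n1257
theorem D1635 : act 4 n1257 = n1635 := rfl
theorem F5943 : act 2 n1635 = n1258 := d14_1 D1635 (iv D1258) (iv F4618)
theorem F5944 : act 7 n1635 = n1635 := d24_2 F4620 D1635 (iv D1635)
def n1636 : Q := act 5 n1258
theorem D1636 : act 5 n1258 = n1636 := rfl
theorem F5945 : act 1 n1636 = n1636 := d10_1 D1636 (iv D1636) F4621
theorem F5946 : act 3 n1636 = n1636 := d19_1 D1636 (iv D1636) F4622
theorem F5947 : act 4 n1636 = n1636 := d22_1 D1636 (iv D1636) (iv D1258) F3548 D1258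
theorem F5948 : act 6 n1636 = n1636 := d25_2 F4623 D1636 (iv D1636)
theorem F5949 : act 7 n1636 = n1636 := d26_2 F4624 D1636 (iv D1636)
def n1637 : Q := act 1 n1259
theorem D1637 : act 1 n1259 = n1637 := rfl
theorem F5950 : act 4 n1637 = n1637 := d9_2 F4626 D1637 (iv D1637)
theorem F5951 : act 5 n1637 = n1260 := d10_2 (iv F4627) D1637 (iv D1260)
theorem F5952 : act 6 n1637 = n1299 := d11_2 (iv F4628) D1637 (iv D1299)
theorem F5953 : act 7 n1637 = n1637 := d12_2 F4629 D1637 (iv D1637)
def n1638 : Q := act 3 n1259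
theorem D1638 : act 3 n1259 = n1638 := rfl
theorem F5954 : act 0 n1638 = n1638 := d2_1 D1638 (iv D1638) F4625
theorem F5955 : act 2 n1638 = n1638 := d13_1 D1638 (iv D1638) (iv D1259) F3552 D1259
theorem F5956 : act 5 n1638 = n1261 := d19_2 (iv F4627) D1638 (iv D1261)
theorem F5957 : act 6 n1638 = n1300 := d20_2 (iv F4628) D1638 (iv D1300)
theorem F5958 : act 7 n1638 = n1638 := d21_2 F4629 D1638 (iv D1638)
def n1639 : Q := act 0 n1260
theorem D1639 : act 0 n1260 = n1639 := rfl
theorem F5959 : act 1 n1639 = n1639 := d0_2 D1260 D1639 (iv D1639) (iv D1260) F3556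
theorem F5960 : act 4 n1639 = n1262 := d3_2 (iv F4630) D1639 (iv D1262)
theorem F5961 : act 6 n1639 = n1301 := d5_2 (iv F4631) D1639 (iv D1301)
theorem F5962 : act 7 n1639 = n1639 := d6_2 F4632 D1639 (iv D1639)
def n1640 : Q := act 3 n1260
theorem D1640 : act 3 n1260 = n1640 := rfl
theorem F5963 : act 1 n1640 = n1261 := d8_1 D1640 (iv D1261) D1260
theorem F5964 : act 4 n1640 = n1640 := d18_2 (iv F4630) D1640 (iv D1640) F4630 F3560
theorem F5965 : act 6 n1640 = n1302 := d20_2 (iv F4631) D1640 (iv D1302)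
theorem F5966 : act 7 n1640 = n1640 := d21_2 F4632 D1640 (iv D1640)
def n1641 : Q := act 7 n1263
theorem D1641 : act 7 n1263 = n1641 := rfl
theorem F5967 : act 0 n1641 = n1285 := d6_1 D1641 (iv D1285) (iv F4643)
theorem F5968 : act 1 n1641 = n1270 := d12_1 D1641 (iv D1270) (iv F4644)
theorem F5969 : act 2 n1641 = n1410 := d17_1 D1641 (iv D1410) F4646
theorem F5970 : act 3 n1641 = n1266 := d21_1 D1641 (iv D1266) D1263
theorem F5971 : act 4 n1641 = n1641 := d24_1 D1641 (iv D1641) F4645
theorem F5972 : act 5 n1641 = n1272 := d26_1 D1641 (iv D1272) (iv F4647)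
def n1642 : Q := act 7 n1264
theorem D1642 : act 7 n1264 = n1642 := rfl
theorem F5973 : act 0 n1642 = n1283 := d6_1 D1642 (iv D1283) (iv F4649)
theorem F5974 : act 1 n1642 = n1271 := d12_1 D1642 (iv D1271) (iv F4650)
theorem F5975 : act 2 n1642 = n1642 := d17_1 D1642 (iv D1642) F4651
theorem F5976 : act 3 n1642 = n1272 := d21_1 D1642 (iv D1272) (iv F4652)
theorem F5977 : act 4 n1642 = n1642 := d24_1 D1642 (iv D1642) F4653
theorem F5978 : act 5 n1642 = n1266 := d26_1 D1642 (iv D1266) D1264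
def n1643 : Q := act 7 n1265
theorem D1643 : act 7 n1265 = n1643 := rfl
theorem F5979 : act 0 n1643 = n1282 := d6_1 D1643 (iv D1282) (iv F4655)
theorem F5980 : act 1 n1643 = n1272 := d12_1 D1643 (iv D1272) (iv F4656)
theorem F5981 : act 2 n1643 = n1309 := d17_1 D1643 (iv D1309) F4660
theorem F5982 : act 3 n1643 = n1271 := d21_1 D1643 (iv D1271) (iv F4657)
theorem F5983 : act 4 n1643 = n1268 := d24_1 D1643 (iv D1268) (iv F4658)
theorem F5984 : act 5 n1643 = n1270 := d26_1 D1643 (iv D1270) (iv F4659)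
def n1644 : Q := act 6 n1266
theorem D1644 : act 6 n1266 = n1644 := rfl
theorem F5985 : act 1 n1644 = n1273 := d11_1 D1644 (iv D1273) (iv F4661)
theorem F5986 : act 4 n1644 = n1269 := d23_1 D1644 (iv D1269) (iv F4663)
def n1645 : Q := act 7 n1267
theorem D1645 : act 7 n1267 = n1645 := rfl
theorem F5987 : act 0 n1645 = n1324 := d6_1 D1645 (iv D1324) (iv F4664)
theorem F5988 : act 1 n1645 = n1407 := d12_1 D1645 (iv D1407) (iv F4665)
theorem F5989 : act 2 n1645 = n1268 := d17_1 D1645 (iv D1268) D1267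
theorem F5990 : act 3 n1645 = n1356 := d21_1 D1645 (iv D1356) F4669
theorem F5991 : act 4 n1645 = n1309 := d24_1 D1645 (iv D1309) (iv F4666)
theorem F5992 : act 5 n1645 = n1645 := d26_1 D1645 (iv D1645) F4667
def n1646 : Q := act 6 n1268
theorem D1646 : act 6 n1268 = n1646 := rfl
theorem F5993 : act 1 n1646 = n1274 := d11_1 D1646 (iv D1274) (iv F4670)
theorem F5994 : act 3 n1646 = n1646 := d20_1 D1646 (iv D1646) F4671
theorem F5995 : act 5 n1646 = n1646 := d25_1 D1646 (iv D1646) F4672
theorem F5996 : act 7 n1646 = n1269 := d27_2 D1268 D1646 (iv D1269) (iv D960) D959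
def n1647 : Q := act 2 n1269
theorem D1647 : act 2 n1269 = n1647 := rfl
theorem F5997 : act 5 n1647 = n1647 := d15_2 F4675 D1647 (iv D1647)
theorem F5998 : act 6 n1647 = n1647 := d16_2 D1269 D1647 (iv D1647) (iv D1269) F3570
def n1648 : Q := act 6 n1270
theorem D1648 : act 6 n1270 = n1648 := rfl
theorem F5999 : act 0 n1648 = n1284 := d5_1 D1648 (iv D1284) (iv F4676)
theorem F6000 : act 3 n1648 = n1273 := d20_1 D1648 (iv D1273) (iv F4678)
theorem F6001 : act 4 n1648 = n1648 := d23_1 D1648 (iv D1648) F4679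
def n1649 : Q := act 6 n1271
theorem D1649 : act 6 n1271 = n1649 := rfl
theorem F6002 : act 0 n1649 = n1286 := d5_1 D1649 (iv D1286) (iv F4680)
theorem F6003 : act 4 n1649 = n1649 := d23_1 D1649 (iv D1649) F4682
theorem F6004 : act 5 n1649 = n1273 := d25_1 D1649 (iv D1273) (iv F4683)
def n1650 : Q := act 6 n1272
theorem D1650 : act 6 n1272 = n1650 := rfl
theorem F6005 : act 0 n1650 = n1287 := d5_1 D1650 (iv D1287) (iv F4684)
theorem F6006 : act 4 n1650 = n1274 := d23_1 D1650 (iv D1274) (iv F4686)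
theorem F6007 : act 7 n1650 = n1273 := d27_2 D1272 D1650 (iv D1273) (iv D964) D963
def n1651 : Q := act 2 n1273
theorem D1651 : act 2 n1273 = n1651 := rfl
theorem F6008 : act 0 n1651 = n1288 := d1_1 D1651 (iv D1288) (iv F4687)
theorem F6009 : act 4 n1651 = n1275 := d14_2 (iv F4688) D1651 (iv D1275)
theorem F6010 : act 6 n1651 = n1277 := d16_2 D1273 D1651 (iv D1277) (iv D968) (iv F3583)
def n1652 : Q := act 2 n1274
theorem D1652 : act 2 n1274 = n1652 := rfl
theorem F6011 : act 0 n1652 = n1289 := d1_1 D1652 (iv D1289) (iv F4689)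
theorem F6012 : act 5 n1652 = n1652 := d15_2 F4691 D1652 (iv D1652)
theorem F6013 : act 6 n1652 = n1414 := d16_2 D1274 D1652 (iv D1414) (iv D1077) (iv F3586)
theorem F6014 : act 7 n1652 = n1275 := d17_2 (iv F4692) D1652 (iv D1275)
def n1653 : Q := act 1 n1275
theorem D1653 : act 1 n1275 = n1653 := rfl
theorem F6015 : act 5 n1653 = n1653 := d10_2 F4694 D1653 (iv D1653)
theorem F6016 : act 6 n1653 = n1278 := d11_2 (iv F4695) D1653 (iv D1278)
def n1654 : Q := act 3 n1275
theorem D1654 : act 3 n1275 = n1654 := rfl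
theorem F6017 : act 0 n1654 = n1291 := d2_1 D1654 (iv D1291) (iv F4693)
theorem F6018 : act 2 n1654 = n1654 := d13_1 D1654 (iv D1654) (iv D1275) F3590 D1275
theorem F6019 : act 5 n1654 = n1654 := d19_2 F4694 D1654 (iv D1654)
theorem F6020 : act 6 n1654 = n1279 := d20_2 (iv F4695) D1654 (iv D1279)
def n1655 : Q := act 2 n1276
theorem D1655 : act 2 n1276 = n1655 := rfl
theorem F6021 : act 0 n1655 = n1292 := d1_1 D1655 (iv D1292) (iv F4696)
theorem F6022 : act 4 n1655 = n1655 := d14_2 F4699 D1655 (iv D1655)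
theorem F6023 : act 5 n1655 = n1277 := d15_2 (iv F4700) D1655 (iv D1277)
theorem F6024 : act 7 n1655 = n1417 := d17_2 (iv F4701) D1655 (iv D1417)
def n1656 : Q := act 1 n1277
theorem D1656 : act 1 n1277 = n1656 := rfl
theorem F6025 : act 2 n1656 = n1656 := d7_2 D1277 D1656 (iv D1656) (iv D1277) F3598
theorem F6026 : act 4 n1656 = n1278 := d9_2 (iv F4703) D1656 (iv D1278)
theorem F6027 : act 7 n1656 = n1418 := d12_2 (iv F4704) D1656 (iv D1418)
def n1657 : Q := act 3 n1277
theorem D1657 : act 3 n1277 = n1657 := rfl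
theorem F6028 : act 0 n1657 = n1294 := d2_1 D1657 (iv D1294) (iv F4702)
theorem F6029 : act 2 n1657 = n1317 := d13_1 D1657 (iv D1317) (iv D1000) (iv F3599) D1277
theorem F6030 : act 7 n1657 = n1419 := d21_2 (iv F4704) D1657 (iv D1419)
def n1658 : Q := act 0 n1278
theorem D1658 : act 0 n1278 = n1658 := rfl
theorem F6031 : act 1 n1658 = n1295 := d0_2 D1278 D1658 (iv D1295) (iv D983) (iv F3602)
theorem F6032 : act 2 n1658 = n1658 := d1_2 F4705 D1658 (iv D1658)
theorem F6033 : act 5 n1658 = n1658 := d4_2 F4706 D1658 (iv D1658)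
theorem F6034 : act 7 n1658 = n1420 := d6_2 (iv F4707) D1658 (iv D1420)
def n1659 : Q := act 3 n1278
theorem D1659 : act 3 n1278 = n1659 := rfl
theorem F6035 : act 1 n1659 = n1279 := d8_1 D1659 (iv D1279) D1278
theorem F6036 : act 5 n1659 = n1659 := d19_2 F4706 D1659 (iv D1659)
theorem F6037 : act 7 n1659 = n1421 := d21_2 (iv F4707) D1659 (iv D1421)
def n1660 : Q := act 4 n1279
theorem D1660 : act 4 n1279 = n1660 := rfl
theorem F6038 : act 0 n1660 = n1297 := d3_1 D1660 (iv D1297) (iv F4708)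
theorem F6039 : act 2 n1660 = n1281 := d14_1 D1660 (iv D1281) (iv F4709)
theorem F6040 : act 7 n1660 = n1422 := d24_2 (iv F4711) D1660 (iv D1422)
def n1661 : Q := act 2 n1280
theorem D1661 : act 2 n1280 = n1661 := rfl
theorem F6041 : act 0 n1661 = n1661 := d1_1 D1661 (iv D1661) F4712
theorem F6042 : act 3 n1661 = n1661 := d13_2 D1280 D1661 (iv D1661) (iv D1280) F3606
theorem F6043 : act 5 n1661 = n1661 := d15_2 F4714 D1661 (iv D1661)
theorem F6044 : act 7 n1661 = n1423 := d17_2 (iv F4716) D1661 (iv D1423)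
def n1662 : Q := act 4 n1280
theorem D1662 : act 4 n1280 = n1662 := rfl
theorem F6046 : act 1 n1662 = n1281 := d9_1 D1662 (iv D1281) (iv F4713)
theorem F6047 : act 3 n1662 = n1322 := d18_1 D1662 (iv D1322) (iv D1003) (iv F3607) D1280
theorem F6049 : act 7 n1662 = n1424 := d24_2 (iv F4716) D1662 (iv D1424)
def n1663 : Q := act 5 n1281
theorem D1663 : act 5 n1281 = n1663 := rfl
theorem F6051 : act 3 n1663 = n1323 := d19_1 D1663 (iv D1323) (iv F4718)
def n1664 : Q := act 6 n1282
theorem D1664 : act 6 n1282 = n1664 := rfl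
theorem F6055 : act 3 n1664 = n1286 := d20_1 D1664 (iv D1286) (iv F4722)
theorem F6056 : act 5 n1664 = n1284 := d25_1 D1664 (iv D1284) (iv F4723)
def n1665 : Q := act 6 n1283
theorem D1665 : act 6 n1283 = n1665 := rfl
theorem F6057 : act 3 n1665 = n1287 := d20_1 D1665 (iv D1287) (iv F4725)
theorem F6058 : act 4 n1665 = n1665 := d23_1 D1665 (iv D1665) F4726
theorem F6059 : act 7 n1665 = n1284 := d27_2 D1283 D1665 (iv D1284) (iv D974) D973
def n1666 : Q := act 2 n1284
theorem D1666 : act 2 n1284 = n1666 := rfl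
theorem F6060 : act 4 n1666 = n1666 := d14_2 F4728 D1666 (iv D1666)
theorem F6061 : act 6 n1666 = n1326 := d16_2 D1284 D1666 (iv D1326) (iv D1007) (iv F3620)
def n1667 : Q := act 6 n1285
theorem D1667 : act 6 n1285 = n1667 := rfl
theorem F6062 : act 4 n1667 = n1667 := d23_1 D1667 (iv D1667) F4730
theorem F6063 : act 5 n1667 = n1287 := d25_1 D1667 (iv D1287) (iv F4731)
theorem F6064 : act 7 n1667 = n1286 := d27_2 D1285 D1667 (iv D1286) (iv D976) D975
def n1668 : Q := act 2 n1286
theorem D1668 : act 2 n1286 = n1668 := rfl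
theorem F6065 : act 4 n1668 = n1668 := d14_2 F4732 D1668 (iv D1668)
theorem F6066 : act 5 n1668 = n1288 := d15_2 (iv F4733) D1668 (iv D1288)
theorem F6067 : act 6 n1668 = n1292 := d16_2 D1286 D1668 (iv D1292) (iv D981) (iv F3626)
def n1669 : Q := act 2 n1287
theorem D1669 : act 2 n1287 = n1669 := rfl
theorem F6068 : act 4 n1669 = n1289 := d14_2 (iv F4734) D1669 (iv D1289)
theorem F6069 : act 6 n1669 = n1428 := d16_2 D1287 D1669 (iv D1428) (iv D1087) (iv F3629)
theorem F6070 : act 7 n1669 = n1288 := d17_2 (iv F4735) D1669 (iv D1288)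
def n1670 : Q := act 1 n1288
theorem D1670 : act 1 n1288 = n1670 := rfl
theorem F6071 : act 4 n1670 = n1290 := d9_2 (iv F4736) D1670 (iv D1290)
theorem F6072 : act 6 n1670 = n1293 := d11_2 (iv F4737) D1670 (iv D1293)
def n1671 : Q := act 3 n1288
theorem D1671 : act 3 n1288 = n1671 := rfl
theorem F6073 : act 6 n1671 = n1294 := d20_2 (iv F4737) D1671 (iv D1294)
def n1672 : Q := act 1 n1289
theorem D1672 : act 1 n1289 = n1672 := rfl
theorem F6074 : act 5 n1672 = n1672 := d10_2 F4738 D1672 (iv D1672)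
theorem F6075 : act 6 n1672 = n1431 := d11_2 (iv F4739) D1672 (iv D1431)
theorem F6076 : act 7 n1672 = n1290 := d12_2 (iv F4740) D1672 (iv D1290)
def n1673 : Q := act 3 n1289
theorem D1673 : act 3 n1289 = n1673 := rfl
theorem F6077 : act 2 n1673 = n1673 := d13_1 D1673 (iv D1673) (iv D1289) F3632 D1289
theorem F6078 : act 5 n1673 = n1673 := d19_2 F4738 D1673 (iv D1673)
theorem F6079 : act 6 n1673 = n1432 := d20_2 (iv F4739) D1673 (iv D1432)
theorem F6080 : act 7 n1673 = n1291 := d21_2 (iv F4740) D1673 (iv D1291)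
def n1674 : Q := act 0 n1290
theorem D1674 : act 0 n1290 = n1674 := rfl
theorem F6081 : act 5 n1674 = n1674 := d4_2 F4741 D1674 (iv D1674)
theorem F6082 : act 6 n1674 = n1295 := d5_2 (iv F4742) D1674 (iv D1295)
def n1675 : Q := act 3 n1290
theorem D1675 : act 3 n1290 = n1675 := rfl
theorem F6083 : act 1 n1675 = n1291 := d8_1 D1675 (iv D1291) D1290
theorem F6084 : act 5 n1675 = n1675 := d19_2 F4741 D1675 (iv D1675)
theorem F6085 : act 6 n1675 = n1296 := d20_2 (iv F4742) D1675 (iv D1296)
def n1676 : Q := act 4 n1291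
theorem D1676 : act 4 n1291 = n1676 := rfl
theorem F6086 : act 2 n1676 = n1676 := d14_1 D1676 (iv D1676) F4743
theorem F6087 : act 6 n1676 = n1297 := d23_2 (iv F4745) D1676 (iv D1297)
def n1677 : Q := act 1 n1292
theorem D1677 : act 1 n1292 = n1677 := rfl
theorem F6088 : act 2 n1677 = n1299 := d7_2 D1292 D1677 (iv D1299) (iv D986) (iv F3637)
theorem F6089 : act 4 n1677 = n1677 := d9_2 F4746 D1677 (iv D1677)
theorem F6090 : act 5 n1677 = n1293 := d10_2 (iv F4747) D1677 (iv D1293)
theorem F6091 : act 7 n1677 = n1436 := d12_2 (iv F4748) D1677 (iv D1436)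
def n1678 : Q := act 3 n1292
theorem D1678 : act 3 n1292 = n1678 := rfl
theorem F6092 : act 2 n1678 = n1334 := d13_1 D1678 (iv D1334) (iv D1012) (iv F3638) D1292
theorem F6093 : act 5 n1678 = n1294 := d19_2 (iv F4747) D1678 (iv D1294)
theorem F6094 : act 7 n1678 = n1437 := d21_2 (iv F4748) D1678 (iv D1437)
def n1679 : Q := act 0 n1293
theorem D1679 : act 0 n1293 = n1679 := rfl
theorem F6095 : act 2 n1679 = n1301 := d1_2 (iv F4749) D1679 (iv D1301)
theorem F6096 : act 4 n1679 = n1295 := d3_2 (iv F4750) D1679 (iv D1295)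
theorem F6097 : act 7 n1679 = n1438 := d6_2 (iv F4751) D1679 (iv D1438)
def n1680 : Q := act 3 n1293
theorem D1680 : act 3 n1293 = n1680 := rfl
theorem F6098 : act 1 n1680 = n1294 := d8_1 D1680 (iv D1294) D1293
theorem F6099 : act 7 n1680 = n1439 := d21_2 (iv F4751) D1680 (iv D1439)
def n1681 : Q := act 4 n1294
theorem D1681 : act 4 n1294 = n1681 := rfl
theorem F6100 : act 2 n1681 = n1337 := d14_1 D1681 (iv D1337) (iv F4752)
theorem F6101 : act 3 n1681 = n1297 := d18_1 D1681 (iv D1297) (iv D984) (iv F3642) D1294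
theorem F6102 : act 7 n1681 = n1440 := d24_2 (iv F4753) D1681 (iv D1440)
def n1682 : Q := act 3 n1295
theorem D1682 : act 3 n1295 = n1682 := rfl
theorem F6103 : act 0 n1682 = n1296 := d2_1 D1682 (iv D1296) D1295
theorem F6104 : act 2 n1682 = n1682 := d13_1 D1682 (iv D1682) F4754 F3665 (iv F4754)
theorem F6105 : act 5 n1682 = n1682 := d19_2 F4755 D1682 (iv D1682)
theorem F6106 : act 7 n1682 = n1441 := d21_2 (iv F4756) D1682 (iv D1441)
def n1683 : Q := act 4 n1296
theorem D1683 : act 4 n1296 = n1683 := rfl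
theorem F6107 : act 1 n1683 = n1297 := d9_1 D1683 (iv D1297) (iv F4757)
theorem F6108 : act 2 n1683 = n1683 := d14_1 D1683 (iv D1683) F4758
theorem F6109 : act 7 n1683 = n1442 := d24_2 (iv F4760) D1683 (iv D1442)
def n1684 : Q := act 5 n1297
theorem D1684 : act 5 n1297 = n1684 := rfl
theorem F6110 : act 2 n1684 = n1298 := d15_1 D1684 (iv D1298) (iv F4761)
theorem F6111 : act 4 n1684 = n1684 := d22_1 D1684 (iv D1684) (iv D1297) F3648 D1297
theorem F6112 : act 7 n1684 = n1443 := d26_2 (iv F4762) D1684 (iv D1443)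
def n1685 : Q := act 0 n1299
theorem D1685 : act 0 n1299 = n1685 := rfl
theorem F6113 : act 1 n1685 = n1685 := d0_2 D1299 D1685 (iv D1685) (iv D1299) F3654
theorem F6114 : act 4 n1685 = n1685 := d3_2 F4768 D1685 (iv D1685)
theorem F6115 : act 5 n1685 = n1301 := d4_2 (iv F4769) D1685 (iv D1301)
theorem F6116 : act 7 n1685 = n1444 := d6_2 (iv F4770) D1685 (iv D1444)
def n1686 : Q := act 3 n1299
theorem D1686 : act 3 n1299 = n1686 := rfl
theorem F6117 : act 1 n1686 = n1300 := d8_1 D1686 (iv D1300) D1299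
theorem F6118 : act 5 n1686 = n1302 := d19_2 (iv F4769) D1686 (iv D1302)
theorem F6119 : act 7 n1686 = n1445 := d21_2 (iv F4770) D1686 (iv D1445)
def n1687 : Q := act 4 n1300
theorem D1687 : act 4 n1300 = n1687 := rfl
theorem F6124 : act 7 n1687 = n1446 := d24_2 (iv F4774) D1687 (iv D1446)
def n1688 : Q := act 3 n1301
theorem D1688 : act 3 n1301 = n1688 := rfl
theorem F6125 : act 0 n1688 = n1302 := d2_1 D1688 (iv D1302) D1301
theorem F6126 : act 1 n1688 = n1688 := d8_1 D1688 (iv D1688) F4775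
theorem F6127 : act 4 n1688 = n1688 := d18_2 (iv F4776) D1688 (iv D1688) F4776 F3665
theorem F6128 : act 7 n1688 = n1447 := d21_2 (iv F4777) D1688 (iv D1447)
def n1689 : Q := act 2 n1302
theorem D1689 : act 2 n1302 = n1689 := rfl
theorem F6129 : act 1 n1689 = n1345 := d7_1 D1689 (iv D1345) F3784 (iv F3661) (iv F4778)
theorem F6130 : act 4 n1689 = n1689 := d14_2 F4779 D1689 (iv D1689)
theorem F6131 : act 7 n1689 = n1448 := d17_2 (iv F4780) D1689 (iv D1448)
def n1690 : Q := act 7 n1303
theorem D1690 : act 7 n1303 = n1690 := rfl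
theorem F6132 : act 0 n1690 = n1690 := d6_1 D1690 (iv D1690) F4781
theorem F6133 : act 1 n1690 = n1410 := d12_1 D1690 (iv D1410) (iv F4782)
theorem F6134 : act 2 n1690 = n1305 := d17_1 D1690 (iv D1305) D1303
theorem F6135 : act 3 n1690 = n1690 := d21_1 D1690 (iv D1690) F4783
theorem F6136 : act 4 n1690 = n1690 := d24_1 D1690 (iv D1690) F4784
theorem F6137 : act 5 n1690 = n1405 := d26_1 D1690 (iv D1405) F4785
def n1691 : Q := act 7 n1304
theorem D1691 : act 7 n1304 = n1691 := rfl
theorem F6138 : act 0 n1691 = n1691 := d6_1 D1691 (iv D1691) F4787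
theorem F6139 : act 1 n1691 = n1309 := d12_1 D1691 (iv D1309) (iv F4788)
theorem F6140 : act 2 n1691 = n1405 := d17_1 D1691 (iv D1405) (iv F4789)
theorem F6141 : act 3 n1691 = n1306 := d21_1 D1691 (iv D1306) (iv F4790)
theorem F6142 : act 4 n1691 = n1407 := d24_1 D1691 (iv D1407) F4792
theorem F6143 : act 5 n1691 = n1305 := d26_1 D1691 (iv D1305) D1304
def n1692 : Q := act 6 n1305
theorem D1692 : act 6 n1305 = n1692 := rfl
theorem F6144 : act 0 n1692 = n1692 := d5_1 D1692 (iv D1692) F4793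
theorem F6145 : act 1 n1692 = n1310 := d11_1 D1692 (iv D1310) (iv F4794)
theorem F6146 : act 3 n1692 = n1307 := d20_1 D1692 (iv D1307) (iv F4795)
theorem F6147 : act 4 n1692 = n1692 := d23_1 D1692 (iv D1692) F4796
theorem F6148 : act 7 n1692 = n1692 := d27_2 D1305 D1692 (iv D1692) (iv D1305) F3671
def n1693 : Q := act 6 n1306
theorem D1693 : act 6 n1306 = n1693 := rfl
theorem F6149 : act 0 n1693 = n1693 := d5_1 D1693 (iv D1693) F4797
theorem F6150 : act 1 n1693 = n1311 := d11_1 D1693 (iv D1311) (iv F4798)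
theorem F6151 : act 4 n1693 = n1352 := d23_1 D1693 (iv D1352) (iv F4800)
theorem F6152 : act 5 n1693 = n1307 := d25_1 D1693 (iv D1307) (iv F4801)
theorem F6153 : act 7 n1693 = n1693 := d27_2 D1306 D1693 (iv D1693) (iv D1306) F3676
def n1694 : Q := act 2 n1307
theorem D1694 : act 2 n1307 = n1694 := rfl
theorem F6154 : act 0 n1694 = n1694 := d1_1 D1694 (iv D1694) F4802
theorem F6155 : act 4 n1694 = n1308 := d14_2 (iv F4804) D1694 (iv D1308)
theorem F6156 : act 6 n1694 = n1694 := d16_2 D1307 D1694 (iv D1694) (iv D1307) F3679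
theorem F6157 : act 7 n1694 = n1694 := d17_2 F4805 D1694 (iv D1694)
def n1695 : Q := act 1 n1308
theorem D1695 : act 1 n1308 = n1695 := rfl
theorem F6158 : act 2 n1695 = n1313 := d7_2 D1308 D1695 (iv D1313) (iv D998) (iv F3682)
theorem F6159 : act 5 n1695 = n1354 := d10_2 (iv F4807) D1695 (iv D1354)
theorem F6160 : act 6 n1695 = n1695 := d11_2 F4808 D1695 (iv D1695)
theorem F6161 : act 7 n1695 = n1695 := d12_2 F4809 D1695 (iv D1695)
def n1696 : Q := act 3 n1308
theorem D1696 : act 3 n1308 = n1696 := rfl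
theorem F6162 : act 0 n1696 = n1696 := d2_1 D1696 (iv D1696) F4806
theorem F6163 : act 2 n1696 = n1696 := d13_1 D1696 (iv D1696) (iv D1308) F3683 D1308
theorem F6164 : act 5 n1696 = n1355 := d19_2 (iv F4807) D1696 (iv D1355)
theorem F6165 : act 6 n1696 = n1696 := d20_2 F4808 D1696 (iv D1696)
theorem F6166 : act 7 n1696 = n1696 := d21_2 F4809 D1696 (iv D1696)
def n1697 : Q := act 6 n1309
theorem D1697 : act 6 n1309 = n1697 := rfl
theorem F6167 : act 0 n1697 = n1325 := d5_1 D1697 (iv D1325) (iv F4810)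
theorem F6168 : act 3 n1697 = n1311 := d20_1 D1697 (iv D1311) (iv F4811)
theorem F6169 : act 5 n1697 = n1310 := d25_1 D1697 (iv D1310) (iv F4812)
theorem F6170 : act 7 n1697 = n1697 := d27_2 D1309 D1697 (iv D1697) (iv D1309) F3688
def n1698 : Q := act 2 n1310
theorem D1698 : act 2 n1310 = n1698 := rfl
theorem F6171 : act 0 n1698 = n1326 := d1_1 D1698 (iv D1326) (iv F4813)
theorem F6172 : act 4 n1698 = n1698 := d14_2 F4815 D1698 (iv D1698)
theorem F6173 : act 7 n1698 = n1698 := d17_2 F4816 D1698 (iv D1698)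
def n1699 : Q := act 2 n1311
theorem D1699 : act 2 n1311 = n1699 := rfl
theorem F6174 : act 0 n1699 = n1327 := d1_1 D1699 (iv D1327) (iv F4817)
theorem F6175 : act 4 n1699 = n1359 := d14_2 (iv F4818) D1699 (iv D1359)
theorem F6176 : act 5 n1699 = n1312 := d15_2 (iv F4819) D1699 (iv D1312)
theorem F6177 : act 6 n1699 = n1315 := d16_2 D1311 D1699 (iv D1315) (iv D999) (iv F3693)
theorem F6178 : act 7 n1699 = n1699 := d17_2 F4820 D1699 (iv D1699)
def n1700 : Q := act 1 n1312
theorem D1700 : act 1 n1312 = n1700 := rfl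
theorem F6179 : act 4 n1700 = n1313 := d9_2 (iv F4822) D1700 (iv D1313)
theorem F6180 : act 6 n1700 = n1316 := d11_2 (iv F4823) D1700 (iv D1316)
theorem F6181 : act 7 n1700 = n1700 := d12_2 F4824 D1700 (iv D1700)
def n1701 : Q := act 3 n1312
theorem D1701 : act 3 n1312 = n1701 := rfl
theorem F6182 : act 0 n1701 = n1329 := d2_1 D1701 (iv D1329) (iv F4821)
theorem F6183 : act 6 n1701 = n1317 := d20_2 (iv F4823) D1701 (iv D1317)
theorem F6184 : act 7 n1701 = n1701 := d21_2 F4824 D1701 (iv D1701)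
def n1702 : Q := act 0 n1313
theorem D1702 : act 0 n1313 = n1702 := rfl
theorem F6185 : act 1 n1702 = n1330 := d0_2 D1313 D1702 (iv D1330) (iv D1010) (iv F3699)
theorem F6186 : act 5 n1702 = n1362 := d4_2 (iv F4825) D1702 (iv D1362)
theorem F6187 : act 6 n1702 = n1318 := d5_2 (iv F4826) D1702 (iv D1318)
theorem F6188 : act 7 n1702 = n1702 := d6_2 F4827 D1702 (iv D1702)
def n1703 : Q := act 3 n1313
theorem D1703 : act 3 n1313 = n1703 := rfl
theorem F6190 : act 5 n1703 = n1363 := d19_2 (iv F4825) D1703 (iv D1363)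
def n1704 : Q := act 4 n1314
theorem D1704 : act 4 n1314 = n1704 := rfl
theorem F6193 : act 0 n1704 = n1332 := d3_1 D1704 (iv D1332) (iv F4828)
theorem F6194 : act 2 n1704 = n1704 := d14_1 D1704 (iv D1704) F4829
theorem F6195 : act 6 n1704 = n1320 := d23_2 (iv F4831) D1704 (iv D1320)
theorem F6196 : act 7 n1704 = n1704 := d24_2 F4832 D1704 (iv D1704)
def n1705 : Q := act 1 n1315
theorem D1705 : act 1 n1315 = n1705 := rfl
theorem F6197 : act 2 n1705 = n1705 := d7_2 D1315 D1705 (iv D1705) (iv D1315) F3704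
theorem F6198 : act 4 n1705 = n1365 := d9_2 (iv F4834) D1705 (iv D1365)
theorem F6199 : act 5 n1705 = n1316 := d10_2 (iv F4835) D1705 (iv D1316)
theorem F6200 : act 7 n1705 = n1449 := d12_2 (iv F4836) D1705 (iv D1449)
def n1706 : Q := act 3 n1315
theorem D1706 : act 3 n1315 = n1706 := rfl
theorem F6201 : act 0 n1706 = n1334 := d2_1 D1706 (iv D1334) (iv F4833)
theorem F6202 : act 5 n1706 = n1317 := d19_2 (iv F4835) D1706 (iv D1317)
theorem F6203 : act 7 n1706 = n1450 := d21_2 (iv F4836) D1706 (iv D1450)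
def n1707 : Q := act 0 n1316
theorem D1707 : act 0 n1316 = n1707 := rfl
theorem F6204 : act 1 n1707 = n1335 := d0_2 D1316 D1707 (iv D1335) (iv D1013) (iv F3708)
theorem F6205 : act 2 n1707 = n1707 := d1_2 F4837 D1707 (iv D1707)
theorem F6206 : act 4 n1707 = n1318 := d3_2 (iv F4838) D1707 (iv D1318)
theorem F6207 : act 7 n1707 = n1451 := d6_2 (iv F4839) D1707 (iv D1451)
def n1708 : Q := act 3 n1316
theorem D1708 : act 3 n1316 = n1708 := rfl
theorem F6208 : act 1 n1708 = n1317 := d8_1 D1708 (iv D1317) D1316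
theorem F6209 : act 7 n1708 = n1452 := d21_2 (iv F4839) D1708 (iv D1452)
def n1709 : Q := act 4 n1317
theorem D1709 : act 4 n1317 = n1709 := rfl
theorem F6210 : act 0 n1709 = n1337 := d3_1 D1709 (iv D1337) (iv F4840)
theorem F6211 : act 3 n1709 = n1320 := d18_1 D1709 (iv D1320) (iv D1002) (iv F3709) D1317
theorem F6212 : act 7 n1709 = n1453 := d24_2 (iv F4841) D1709 (iv D1453)
def n1710 : Q := act 3 n1318
theorem D1710 : act 3 n1318 = n1710 := rfl
theorem F6213 : act 0 n1710 = n1319 := d2_1 D1710 (iv D1319) D1318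
theorem F6214 : act 1 n1710 = n1338 := d8_1 D1710 (iv D1338) (iv F4842)
theorem F6215 : act 5 n1710 = n1370 := d19_2 (iv F4844) D1710 (iv D1370)
theorem F6216 : act 7 n1710 = n1454 := d21_2 (iv F4845) D1710 (iv D1454)
def n1711 : Q := act 2 n1319
theorem D1711 : act 2 n1319 = n1711 := rfl
theorem F6219 : act 5 n1711 = n1371 := d15_2 (iv F4847) D1711 (iv D1371)
theorem F6220 : act 7 n1711 = n1455 := d17_2 (iv F4848) D1711 (iv D1455)
def n1712 : Q := act 4 n1319
theorem D1712 : act 4 n1319 = n1712 := rfl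
theorem F6221 : act 1 n1712 = n1320 := d9_1 D1712 (iv D1320) (iv F4846)
theorem F6222 : act 7 n1712 = n1456 := d24_2 (iv F4848) D1712 (iv D1456)
def n1713 : Q := act 5 n1320
theorem D1713 : act 5 n1320 = n1713 := rfl
theorem F6224 : act 2 n1713 = n1323 := d15_1 D1713 (iv D1323) (iv F4850)
theorem F6225 : act 4 n1713 = n1373 := d22_1 D1713 (iv D1373) (iv D1041) (iv F3716) D1320
theorem F6226 : act 7 n1713 = n1457 := d26_2 (iv F4851) D1713 (iv D1457)
def n1716 : Q := act 5 n1322
theorem D1716 : act 5 n1322 = n1716 := rfl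
theorem F6236 : act 4 n1716 = n1376 := d22_1 D1716 (iv D1376) (iv D1043) (iv F3720) D1322
def n1717 : Q := act 6 n1324
theorem D1717 : act 6 n1324 = n1717 := rfl
theorem F6239 : act 1 n1717 = n1717 := d11_1 D1717 (iv D1717) F4864
theorem F6240 : act 3 n1717 = n1377 := d20_1 D1717 (iv D1377) (iv F4865)
theorem F6241 : act 4 n1717 = n1325 := d23_1 D1717 (iv D1325) (iv F4866)
theorem F6242 : act 5 n1717 = n1717 := d25_1 D1717 (iv D1717) F4867
theorem F6243 : act 7 n1717 = n1717 := d27_2 D1324 D1717 (iv D1717) (iv D1324) F3729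
def n1718 : Q := act 2 n1325
theorem D1718 : act 2 n1325 = n1718 := rfl
theorem F6244 : act 5 n1718 = n1326 := d15_2 (iv F4870) D1718 (iv D1326)
theorem F6245 : act 7 n1718 = n1718 := d17_2 F4871 D1718 (iv D1718)
def n1719 : Q := act 1 n1326
theorem D1719 : act 1 n1326 = n1719 := rfl
theorem F6246 : act 2 n1719 = n1719 := d7_2 D1326 D1719 (iv D1719) (iv D1326) F3733
theorem F6247 : act 4 n1719 = n1719 := d9_2 F4872 D1719 (iv D1719)
theorem F6248 : act 7 n1719 = n1719 := d12_2 F4873 D1719 (iv D1719)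
def n1720 : Q := act 3 n1326
theorem D1720 : act 3 n1326 = n1720 := rfl
theorem F6249 : act 2 n1720 = n1329 := d13_1 D1720 (iv D1329) (iv D1009) (iv F3734) D1326
theorem F6250 : act 7 n1720 = n1720 := d21_2 F4873 D1720 (iv D1720)
def n1721 : Q := act 1 n1327
theorem D1721 : act 1 n1327 = n1721 := rfl
theorem F6252 : act 4 n1721 = n1381 := d9_2 (iv F4874) D1721 (iv D1381)
theorem F6253 : act 5 n1721 = n1328 := d10_2 (iv F4875) D1721 (iv D1328)
theorem F6254 : act 6 n1721 = n1333 := d11_2 (iv F4876) D1721 (iv D1333)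
def n1722 : Q := act 3 n1327
theorem D1722 : act 3 n1327 = n1722 := rfl
theorem F6256 : act 5 n1722 = n1329 := d19_2 (iv F4875) D1722 (iv D1329)
theorem F6257 : act 6 n1722 = n1334 := d20_2 (iv F4876) D1722 (iv D1334)
theorem F6258 : act 7 n1722 = n1722 := d21_2 F4877 D1722 (iv D1722)
def n1723 : Q := act 0 n1328
theorem D1723 : act 0 n1328 = n1723 := rfl
theorem F6259 : act 2 n1723 = n1723 := d1_2 F4878 D1723 (iv D1723)
theorem F6260 : act 4 n1723 = n1330 := d3_2 (iv F4879) D1723 (iv D1330)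
theorem F6261 : act 6 n1723 = n1335 := d5_2 (iv F4880) D1723 (iv D1335)
theorem F6262 : act 7 n1723 = n1723 := d6_2 F4881 D1723 (iv D1723)
def n1724 : Q := act 3 n1328
theorem D1724 : act 3 n1328 = n1724 := rfl
theorem F6263 : act 1 n1724 = n1329 := d8_1 D1724 (iv D1329) D1328
theorem F6264 : act 6 n1724 = n1336 := d20_2 (iv F4880) D1724 (iv D1336)
theorem F6265 : act 7 n1724 = n1724 := d21_2 F4881 D1724 (iv D1724)
def n1725 : Q := act 4 n1329
theorem D1725 : act 4 n1329 = n1725 := rfl
theorem F6266 : act 3 n1725 = n1332 := d18_1 D1725 (iv D1332) (iv D1011) (iv F3741) D1329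
theorem F6267 : act 6 n1725 = n1337 := d23_2 (iv F4882) D1725 (iv D1337)
theorem F6268 : act 7 n1725 = n1725 := d24_2 F4883 D1725 (iv D1725)
def n1726 : Q := act 3 n1330
theorem D1726 : act 3 n1330 = n1726 := rfl
theorem F6269 : act 0 n1726 = n1331 := d2_1 D1726 (iv D1331) D1330
theorem F6270 : act 5 n1726 = n1386 := d19_2 (iv F4885) D1726 (iv D1386)
theorem F6271 : act 6 n1726 = n1338 := d20_2 (iv F4886) D1726 (iv D1338)
theorem F6272 : act 7 n1726 = n1726 := d21_2 F4887 D1726 (iv D1726)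
def n1727 : Q := act 2 n1331
theorem D1727 : act 2 n1331 = n1727 := rfl
theorem F6273 : act 1 n1727 = n1727 := d7_1 D1727 (iv D1727) F4888 F3748 (iv F4888)
theorem F6274 : act 3 n1727 = n1727 := d13_2 D1331 D1727 (iv D1727) (iv D1331) F3744
theorem F6275 : act 5 n1727 = n1387 := d15_2 (iv F4889) D1727 (iv D1387)
theorem F6276 : act 6 n1727 = n1727 := d16_2 (iv F4890) D1727 (iv D1727) F4890 F3763
theorem F6277 : act 7 n1727 = n1727 := d17_2 F4891 D1727 (iv D1727)
def n1728 : Q := act 4 n1331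
theorem D1728 : act 4 n1331 = n1728 := rfl
theorem F6278 : act 1 n1728 = n1332 := d9_1 D1728 (iv D1332) (iv F4888)
theorem F6279 : act 6 n1728 = n1339 := d23_2 (iv F4890) D1728 (iv D1339)
theorem F6280 : act 7 n1728 = n1728 := d24_2 F4891 D1728 (iv D1728)
def n1730 : Q := act 0 n1333
theorem D1730 : act 0 n1333 = n1730 := rfl
theorem F6285 : act 2 n1730 = n1341 := d1_2 (iv F4895) D1730 (iv D1341)
theorem F6286 : act 4 n1730 = n1390 := d3_2 (iv F4896) D1730 (iv D1390)
theorem F6287 : act 5 n1730 = n1335 := d4_2 (iv F4897) D1730 (iv D1335)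
theorem F6288 : act 7 n1730 = n1461 := d6_2 (iv F4898) D1730 (iv D1461)
def n1731 : Q := act 3 n1333
theorem D1731 : act 3 n1333 = n1731 := rfl
theorem F6289 : act 1 n1731 = n1334 := d8_1 D1731 (iv D1334) D1333
theorem F6290 : act 5 n1731 = n1336 := d19_2 (iv F4897) D1731 (iv D1336)
theorem F6291 : act 7 n1731 = n1462 := d21_2 (iv F4898) D1731 (iv D1462)
def n1732 : Q := act 4 n1334
theorem D1732 : act 4 n1334 = n1732 := rfl
theorem F6292 : act 3 n1732 = n1392 := d18_1 D1732 (iv D1392) (iv D1055) (iv F3752) D1334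
def n1733 : Q := act 3 n1335
theorem D1733 : act 3 n1335 = n1733 := rfl
theorem F6294 : act 0 n1733 = n1336 := d2_1 D1733 (iv D1336) D1335
theorem F6295 : act 7 n1733 = n1464 := d21_2 (iv F4903) D1733 (iv D1464)
def n1734 : Q := act 2 n1336
theorem D1734 : act 2 n1336 = n1734 := rfl
theorem F6296 : act 3 n1734 = n1345 := d13_2 D1336 D1734 (iv D1345) (iv D1022) (iv F3755)
theorem F6297 : act 7 n1734 = n1465 := d17_2 (iv F4905) D1734 (iv D1465)
def n1735 : Q := act 4 n1336
theorem D1735 : act 4 n1336 = n1735 := rfl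
theorem F6298 : act 1 n1735 = n1337 := d9_1 D1735 (iv D1337) (iv F4904)
theorem F6299 : act 3 n1735 = n1339 := d18_1 D1735 (iv D1339) (iv D1016) (iv F3756) D1336
theorem F6300 : act 7 n1735 = n1466 := d24_2 (iv F4905) D1735 (iv D1466)
def n1736 : Q := act 5 n1337
theorem D1736 : act 5 n1337 = n1736 := rfl
theorem F6301 : act 3 n1736 = n1340 := d19_1 D1736 (iv D1340) (iv F4906)
def n1737 : Q := act 4 n1338
theorem D1737 : act 4 n1338 = n1737 := rfl
theorem F6303 : act 0 n1737 = n1339 := d3_1 D1737 (iv D1339) (iv F4908)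
theorem F6305 : act 7 n1737 = n1468 := d24_2 (iv F4911) D1737 (iv D1468)
def n1738 : Q := act 5 n1339
theorem D1738 : act 5 n1339 = n1738 := rfl
theorem F6308 : act 4 n1738 = n1398 := d22_1 D1738 (iv D1398) (iv D1060) (iv F3764) D1339
theorem F6309 : act 7 n1738 = n1469 := d26_2 (iv F4914) D1738 (iv D1469)
def n1739 : Q := act 3 n1341
theorem D1739 : act 3 n1341 = n1739 := rfl
theorem F6310 : act 0 n1739 = n1342 := d2_1 D1739 (iv D1342) D1341
def n1740 : Q := act 2 n1342
theorem D1740 : act 2 n1342 = n1740 := rfl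
theorem F6315 : act 5 n1740 = n1345 := d15_2 (iv F4924) D1740 (iv D1345)
theorem F6316 : act 7 n1740 = n1471 := d17_2 (iv F4926) D1740 (iv D1471)
def n1741 : Q := act 4 n1342
theorem D1741 : act 4 n1342 = n1741 := rfl
theorem F6318 : act 3 n1741 = n1401 := d18_1 D1741 (iv D1401) (iv D1063) (iv F3772) D1342
def n1742 : Q := act 2 n1344
theorem D1742 : act 2 n1344 = n1742 := rfl
theorem F6322 : act 0 n1742 = n1345 := d1_1 D1742 (iv D1345) (iv F4932)
def n1743 : Q := act 6 n1345
theorem D1743 : act 6 n1345 = n1743 := rfl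
theorem F6325 : act 2 n1743 = n1743 := d16_1 D1743 (iv D1743) (iv D1345) F3786 D1345
theorem F6326 : act 4 n1743 = n1743 := d23_1 D1743 (iv D1743) F4937
def n1744 : Q := act 7 n1346
theorem D1744 : act 7 n1346 = n1744 := rfl
theorem F6327 : act 0 n1744 = n1744 := d6_1 D1744 (iv D1744) F4939
theorem F6328 : act 1 n1744 = n1744 := d12_1 D1744 (iv D1744) F4940
theorem F6329 : act 2 n1744 = n1350 := d17_1 D1744 (iv D1350) (iv F4941)
theorem F6330 : act 3 n1744 = n1744 := d21_1 D1744 (iv D1744) F4942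
theorem F6331 : act 4 n1744 = n1532 := d24_1 D1744 (iv D1532) F4943
theorem F6332 : act 5 n1744 = n1348 := d26_1 D1744 (iv D1348) D1346
def n1745 : Q := act 7 n1347
theorem D1745 : act 7 n1347 = n1745 := rfl
def n1746 : Q := act 6 n1348
theorem D1746 : act 6 n1348 = n1746 := rfl
def n1747 : Q := act 7 n1349
theorem D1747 : act 7 n1349 = n1747 := rfl
theorem F6343 : act 0 n1747 = n1747 := d6_1 D1747 (iv D1747) F4956
theorem F6344 : act 1 n1747 = n1356 := d12_1 D1747 (iv D1356) (iv F4957)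
theorem F6345 : act 2 n1747 = n1532 := d17_1 D1747 (iv D1532) (iv F4958)
theorem F6346 : act 3 n1747 = n1407 := d21_1 D1747 (iv D1407) (iv F4959)
theorem F6347 : act 4 n1747 = n1350 := d24_1 D1747 (iv D1350) D1349
theorem F6348 : act 5 n1747 = n1747 := d26_1 D1747 (iv D1747) F4960
def n1748 : Q := act 6 n1350
theorem D1748 : act 6 n1350 = n1748 := rfl
theorem F6349 : act 0 n1748 = n1748 := d5_1 D1748 (iv D1748) F4962
theorem F6350 : act 1 n1748 = n1357 := d11_1 D1748 (iv D1357) (iv F4963)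
theorem F6351 : act 3 n1748 = n1352 := d20_1 D1748 (iv D1352) (iv F4964)
theorem F6352 : act 5 n1748 = n1351 := d25_1 D1748 (iv D1351) (iv F4965)
theorem F6353 : act 7 n1748 = n1748 := d27_2 D1350 D1748 (iv D1748) (iv D1350) F3795
def n1749 : Q := act 2 n1351
theorem D1749 : act 2 n1351 = n1749 := rfl
def n1750 : Q := act 2 n1352
theorem D1750 : act 2 n1352 = n1750 := rfl
theorem F6357 : act 0 n1750 = n1750 := d1_1 D1750 (iv D1750) F4971
theorem F6358 : act 5 n1750 = n1353 := d15_2 (iv F4973) D1750 (iv D1353)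
theorem F6359 : act 6 n1750 = n1750 := d16_2 D1352 D1750 (iv D1750) (iv D1352) F3802
theorem F6360 : act 7 n1750 = n1750 := d17_2 F4974 D1750 (iv D1750)
def n1751 : Q := act 1 n1353
theorem D1751 : act 1 n1353 = n1751 := rfl
theorem F6361 : act 2 n1751 = n1360 := d7_2 D1353 D1751 (iv D1360) (iv D1033) (iv F3805)
theorem F6362 : act 4 n1751 = n1354 := d9_2 (iv F4976) D1751 (iv D1354)
theorem F6363 : act 6 n1751 = n1751 := d11_2 F4977 D1751 (iv D1751)
theorem F6364 : act 7 n1751 = n1751 := d12_2 F4978 D1751 (iv D1751)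
def n1752 : Q := act 3 n1353
theorem D1752 : act 3 n1353 = n1752 := rfl
def n1753 : Q := act 0 n1354
theorem D1753 : act 0 n1354 = n1753 := rfl
theorem F6368 : act 1 n1753 = n1753 := d0_2 D1354 D1753 (iv D1753) (iv D1354) F3808
theorem F6369 : act 2 n1753 = n1362 := d1_2 (iv F4979) D1753 (iv D1362)
theorem F6370 : act 6 n1753 = n1753 := d5_2 F4980 D1753 (iv D1753)
theorem F6371 : act 7 n1753 = n1753 := d6_2 F4981 D1753 (iv D1753)
def n1754 : Q := act 3 n1354
theorem D1754 : act 3 n1354 = n1754 := rfl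
theorem F6372 : act 1 n1754 = n1355 := d8_1 D1754 (iv D1355) D1354
def n1755 : Q := act 4 n1355
theorem D1755 : act 4 n1355 = n1755 := rfl
def n1756 : Q := act 6 n1356
theorem D1756 : act 6 n1356 = n1756 := rfl
theorem F6379 : act 0 n1756 = n1377 := d5_1 D1756 (iv D1377) (iv F4986)
theorem F6380 : act 4 n1756 = n1357 := d23_1 D1756 (iv D1357) (iv F4988)
theorem F6381 : act 5 n1756 = n1756 := d25_1 D1756 (iv D1756) F4989
theorem F6382 : act 7 n1756 = n1756 := d27_2 D1356 D1756 (iv D1756) (iv D1356) F3814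
def n1757 : Q := act 2 n1357
theorem D1757 : act 2 n1357 = n1757 := rfl
theorem F6383 : act 0 n1757 = n1378 := d1_1 D1757 (iv D1378) (iv F4990)
theorem F6384 : act 5 n1757 = n1358 := d15_2 (iv F4992) D1757 (iv D1358)
theorem F6385 : act 6 n1757 = n1757 := d16_2 D1357 D1757 (iv D1757) (iv D1357) F3816
theorem F6386 : act 7 n1757 = n1757 := d17_2 F4993 D1757 (iv D1757)
def n1758 : Q := act 1 n1358
theorem D1758 : act 1 n1358 = n1758 := rfl
def n1759 : Q := act 3 n1358
theorem D1759 : act 3 n1358 = n1759 := rfl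
theorem F6390 : act 0 n1759 = n1380 := d2_1 D1759 (iv D1380) (iv F4994)
theorem F6391 : act 2 n1759 = n1361 := d13_1 D1759 (iv D1361) (iv D1033) (iv F3820) D1358
def n1760 : Q := act 1 n1359
theorem D1760 : act 1 n1359 = n1760 := rfl
theorem F6394 : act 5 n1760 = n1360 := d10_2 (iv F4999) D1760 (iv D1360)
theorem F6395 : act 6 n1760 = n1365 := d11_2 (iv F5000) D1760 (iv D1365)
def n1761 : Q := act 3 n1359
theorem D1761 : act 3 n1359 = n1761 := rfl
theorem F6397 : act 0 n1761 = n1382 := d2_1 D1761 (iv D1382) (iv F4998)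
theorem F6398 : act 5 n1761 = n1361 := d19_2 (iv F4999) D1761 (iv D1361)
def n1762 : Q := act 0 n1360
theorem D1762 : act 0 n1360 = n1762 := rfl
theorem F6401 : act 1 n1762 = n1383 := d0_2 D1360 D1762 (iv D1383) (iv D1049) (iv F3826)
theorem F6402 : act 4 n1762 = n1362 := d3_2 (iv F5002) D1762 (iv D1362)
def n1763 : Q := act 3 n1360
theorem D1763 : act 3 n1360 = n1763 := rfl
theorem F6405 : act 1 n1763 = n1361 := d8_1 D1763 (iv D1361) D1360
theorem F6406 : act 6 n1763 = n1368 := d20_2 (iv F5003) D1763 (iv D1368)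
def n1764 : Q := act 4 n1361
theorem D1764 : act 4 n1361 = n1764 := rfl
theorem F6408 : act 0 n1764 = n1385 := d3_1 D1764 (iv D1385) (iv F5005)
theorem F6410 : act 6 n1764 = n1369 := d23_2 (iv F5006) D1764 (iv D1369)
def n1765 : Q := act 3 n1362
theorem D1765 : act 3 n1362 = n1765 := rfl
theorem F6412 : act 0 n1765 = n1363 := d2_1 D1765 (iv D1363) D1362
theorem F6413 : act 1 n1765 = n1386 := d8_1 D1765 (iv D1386) (iv F5008)
theorem F6414 : act 6 n1765 = n1370 := d20_2 (iv F5009) D1765 (iv D1370)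
def n1766 : Q := act 2 n1363
theorem D1766 : act 2 n1363 = n1766 := rfl
def n1767 : Q := act 4 n1363
theorem D1767 : act 4 n1363 = n1767 := rfl
theorem F6418 : act 1 n1767 = n1364 := d9_1 D1767 (iv D1364) (iv F5011)
theorem F6419 : act 6 n1767 = n1372 := d23_2 (iv F5012) D1767 (iv D1372)
def n1768 : Q := act 5 n1364
theorem D1768 : act 5 n1364 = n1768 := rfl
def n1769 : Q := act 0 n1365
theorem D1769 : act 0 n1365 = n1769 := rfl
theorem F6425 : act 1 n1769 = n1390 := d0_2 D1365 D1769 (iv D1390) (iv D1054) (iv F3836)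
theorem F6427 : act 5 n1769 = n1367 := d4_2 (iv F5019) D1769 (iv D1367)
theorem F6428 : act 7 n1769 = n1475 := d6_2 (iv F5020) D1769 (iv D1475)
def n1770 : Q := act 3 n1365
theorem D1770 : act 3 n1365 = n1770 := rfl
theorem F6430 : act 5 n1770 = n1368 := d19_2 (iv F5019) D1770 (iv D1368)
def n1771 : Q := act 4 n1366
theorem D1771 : act 4 n1366 = n1771 := rfl
theorem F6432 : act 0 n1771 = n1392 := d3_1 D1771 (iv D1392) (iv F5021)
def n1772 : Q := act 3 n1367
theorem D1772 : act 3 n1367 = n1772 := rfl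
theorem F6435 : act 0 n1772 = n1368 := d2_1 D1772 (iv D1368) D1367
theorem F6436 : act 1 n1772 = n1393 := d8_1 D1772 (iv D1393) (iv F5025)
theorem F6437 : act 7 n1772 = n1478 := d21_2 (iv F5028) D1772 (iv D1478)
def n1773 : Q := act 2 n1368
theorem D1773 : act 2 n1368 = n1773 := rfl
theorem F6440 : act 7 n1773 = n1479 := d17_2 (iv F5030) D1773 (iv D1479)
def n1774 : Q := act 4 n1368
theorem D1774 : act 4 n1368 = n1774 := rfl
theorem F6442 : act 3 n1774 = n1372 := d18_1 D1774 (iv D1372) (iv D1040) (iv F3840) D1368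
theorem F6443 : act 7 n1774 = n1480 := d24_2 (iv F5030) D1774 (iv D1480)
def n1775 : Q := act 5 n1369
theorem D1775 : act 5 n1369 = n1775 := rfl
theorem F6444 : act 0 n1775 = n1396 := d4_1 D1775 (iv D1396) (iv F5031)
theorem F6446 : act 3 n1775 = n1373 := d19_1 D1775 (iv D1373) (iv F5033)
def n1776 : Q := act 2 n1370
theorem D1776 : act 2 n1370 = n1776 := rfl
theorem F6451 : act 7 n1776 = n1482 := d17_2 (iv F5037) D1776 (iv D1482)
def n1777 : Q := act 4 n1370
theorem D1777 : act 4 n1370 = n1777 := rfl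
theorem F6452 : act 0 n1777 = n1372 := d3_1 D1777 (iv D1372) (iv F5035)
theorem F6453 : act 1 n1777 = n1397 := d9_1 D1777 (iv D1397) (iv F5036)
def n1778 : Q := act 4 n1371
theorem D1778 : act 4 n1371 = n1778 := rfl
theorem F6455 : act 1 n1778 = n1374 := d9_1 D1778 (iv D1374) (iv F5038)
theorem F6456 : act 2 n1778 = n1372 := d14_1 D1778 (iv D1372) D1371
theorem F6457 : act 7 n1778 = n1484 := d24_2 (iv F5040) D1778 (iv D1484)
def n1779 : Q := act 6 n1371
theorem D1779 : act 6 n1371 = n1779 := rfl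
def n1780 : Q := act 5 n1372
theorem D1780 : act 5 n1372 = n1780 := rfl
theorem F6460 : act 1 n1780 = n1373 := d10_1 D1780 (iv D1373) (iv F5041)
theorem F6461 : act 7 n1780 = n1486 := d26_2 (iv F5042) D1780 (iv D1486)
def n1781 : Q := act 3 n1374
theorem D1781 : act 3 n1374 = n1781 := rfl
theorem F6465 : act 7 n1781 = n1487 := d21_2 (iv F5048) D1781 (iv D1487)
def n1782 : Q := act 5 n1374
theorem D1782 : act 5 n1374 = n1782 := rfl
theorem F6468 : act 7 n1782 = n1488 := d26_2 (iv F5048) D1782 (iv D1488)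
def n1785 : Q := act 2 n1377
theorem D1785 : act 2 n1377 = n1785 := rfl
theorem F6476 : act 4 n1785 = n1378 := d14_2 (iv F5058) D1785 (iv D1378)
theorem F6477 : act 5 n1785 = n1785 := d15_2 F5059 D1785 (iv D1785)
theorem F6478 : act 6 n1785 = n1785 := d16_2 D1377 D1785 (iv D1785) (iv D1377) F3866
theorem F6479 : act 7 n1785 = n1785 := d17_2 F5060 D1785 (iv D1785)
def n1786 : Q := act 1 n1378
theorem D1786 : act 1 n1378 = n1786 := rfl
theorem F6481 : act 5 n1786 = n1379 := d10_2 (iv F5061) D1786 (iv D1379)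
theorem F6482 : act 6 n1786 = n1786 := d11_2 F5062 D1786 (iv D1786)
theorem F6483 : act 7 n1786 = n1786 := d12_2 F5063 D1786 (iv D1786)
def n1787 : Q := act 3 n1378
theorem D1787 : act 3 n1378 = n1787 := rfl
theorem F6484 : act 2 n1787 = n1382 := d13_1 D1787 (iv D1382) (iv D1048) (iv F3870) D1378
def n1788 : Q := act 0 n1379
theorem D1788 : act 0 n1379 = n1788 := rfl
theorem F6488 : act 2 n1788 = n1788 := d1_2 F5064 D1788 (iv D1788)
def n1789 : Q := act 3 n1379
theorem D1789 : act 3 n1379 = n1789 := rfl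
theorem F6492 : act 1 n1789 = n1380 := d8_1 D1789 (iv D1380) D1379
theorem F6493 : act 6 n1789 = n1789 := d20_2 F5066 D1789 (iv D1789)
theorem F6494 : act 7 n1789 = n1789 := d21_2 F5067 D1789 (iv D1789)
def n1790 : Q := act 4 n1380
theorem D1790 : act 4 n1380 = n1790 := rfl
def n1791 : Q := act 0 n1381
theorem D1791 : act 0 n1381 = n1791 := rfl
theorem F6500 : act 5 n1791 = n1383 := d4_2 (iv F5072) D1791 (iv D1383)
theorem F6501 : act 6 n1791 = n1390 := d5_2 (iv F5073) D1791 (iv D1390)
def n1792 : Q := act 3 n1381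
theorem D1792 : act 3 n1381 = n1792 := rfl
theorem F6503 : act 1 n1792 = n1382 := d8_1 D1792 (iv D1382) D1381
theorem F6504 : act 5 n1792 = n1384 := d19_2 (iv F5072) D1792 (iv D1384)
def n1793 : Q := act 4 n1382
theorem D1793 : act 4 n1382 = n1793 := rfl
def n1794 : Q := act 3 n1383
theorem D1794 : act 3 n1383 = n1794 := rfl
theorem F6509 : act 0 n1794 = n1384 := d2_1 D1794 (iv D1384) D1383
theorem F6510 : act 6 n1794 = n1393 := d20_2 (iv F5080) D1794 (iv D1393)
def n1795 : Q := act 2 n1384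
theorem D1795 : act 2 n1384 = n1795 := rfl
theorem F6512 : act 3 n1795 = n1795 := d13_2 D1384 D1795 (iv D1795) (iv D1384) F3879
theorem F6513 : act 7 n1795 = n1795 := d17_2 F5084 D1795 (iv D1795)
def n1796 : Q := act 4 n1384
theorem D1796 : act 4 n1384 = n1796 := rfl
theorem F6515 : act 3 n1796 = n1388 := d18_1 D1796 (iv D1388) (iv D1052) (iv F3880) D1384
theorem F6516 : act 6 n1796 = n1395 := d23_2 (iv F5083) D1796 (iv D1395)
def n1797 : Q := act 5 n1385
theorem D1797 : act 5 n1385 = n1797 := rfl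
theorem F6519 : act 6 n1797 = n1396 := d25_2 (iv F5086) D1797 (iv D1396)
def n1798 : Q := act 2 n1386
theorem D1798 : act 2 n1386 = n1798 := rfl
theorem F6521 : act 0 n1798 = n1387 := d1_1 D1798 (iv D1387) (iv F5088)
theorem F6523 : act 6 n1798 = n1798 := d16_2 (iv F5089) D1798 (iv D1798) F5089 F3909
theorem F6524 : act 7 n1798 = n1798 := d17_2 F5090 D1798 (iv D1798)
def n1799 : Q := act 4 n1386
theorem D1799 : act 4 n1386 = n1799 := rfl
theorem F6525 : act 0 n1799 = n1388 := d3_1 D1799 (iv D1388) (iv F5088)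
def n1800 : Q := act 4 n1387
theorem D1800 : act 4 n1387 = n1800 := rfl
theorem F6529 : act 2 n1800 = n1388 := d14_1 D1800 (iv D1388) D1387
def n1801 : Q := act 5 n1388
theorem D1801 : act 5 n1388 = n1801 := rfl
def n1802 : Q := act 3 n1390
theorem D1802 : act 3 n1390 = n1802 := rfl
theorem F6535 : act 0 n1802 = n1391 := d2_1 D1802 (iv D1391) D1390
theorem F6536 : act 5 n1802 = n1393 := d19_2 (iv F5102) D1802 (iv D1393)
theorem F6537 : act 7 n1802 = n1491 := d21_2 (iv F5103) D1802 (iv D1491)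
def n1803 : Q := act 2 n1391
theorem D1803 : act 2 n1391 = n1803 := rfl
theorem F6540 : act 5 n1803 = n1394 := d15_2 (iv F5105) D1803 (iv D1394)
def n1804 : Q := act 4 n1391
theorem D1804 : act 4 n1391 = n1804 := rfl
def n1805 : Q := act 5 n1392
theorem D1805 : act 5 n1392 = n1805 := rfl
theorem F6545 : act 4 n1805 = n1396 := d22_1 D1805 (iv D1396) (iv D1058) (iv F3898) D1392
def n1806 : Q := act 2 n1393
theorem D1806 : act 2 n1393 = n1806 := rfl
theorem F6547 : act 0 n1806 = n1394 := d1_1 D1806 (iv D1394) (iv F5109)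
theorem F6548 : act 3 n1806 = n1402 := d13_2 D1393 D1806 (iv D1402) (iv D1065) (iv F3900)
theorem F6549 : act 7 n1806 = n1495 := d17_2 (iv F5110) D1806 (iv D1495)
def n1807 : Q := act 4 n1393
theorem D1807 : act 4 n1393 = n1807 := rfl
theorem F6551 : act 3 n1807 = n1397 := d18_1 D1807 (iv D1397) (iv D1059) (iv F3901) D1393
def n1808 : Q := act 4 n1394
theorem D1808 : act 4 n1394 = n1808 := rfl
theorem F6553 : act 1 n1808 = n1808 := d9_1 D1808 (iv D1808) F5111
theorem F6554 : act 2 n1808 = n1395 := d14_1 D1808 (iv D1395) D1394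
def n1809 : Q := act 6 n1394
theorem D1809 : act 6 n1394 = n1809 := rfl
theorem F6557 : act 1 n1809 = n1809 := d11_1 D1809 (iv D1809) F5111
theorem F6558 : act 3 n1809 = n1403 := d20_1 D1809 (iv D1403) (iv F5112)
def n1810 : Q := act 5 n1395
theorem D1810 : act 5 n1395 = n1810 := rfl
theorem F6559 : act 1 n1810 = n1396 := d10_1 D1810 (iv D1396) (iv F5114)
def n1811 : Q := act 5 n1397
theorem D1811 : act 5 n1397 = n1811 := rfl
theorem F6562 : act 0 n1811 = n1398 := d4_1 D1811 (iv D1398) (iv F5120)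
theorem F6564 : act 7 n1811 = n1500 := d26_2 (iv F5122) D1811 (iv D1500)
def n1812 : Q := act 2 n1399
theorem D1812 : act 2 n1399 = n1812 := rfl
theorem F6566 : act 5 n1812 = n1402 := d15_2 (iv F5128) D1812 (iv D1402)
theorem F6567 : act 7 n1812 = n1501 := d17_2 (iv F5130) D1812 (iv D1501)
def n1813 : Q := act 4 n1399
theorem D1813 : act 4 n1399 = n1813 := rfl
theorem F6572 : act 7 n1813 = n1502 := d24_2 (iv F5130) D1813 (iv D1502)
def n1814 : Q := act 4 n1400
theorem D1814 : act 4 n1400 = n1814 := rfl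
theorem F6574 : act 2 n1814 = n1401 := d14_1 D1814 (iv D1401) D1400
theorem F6576 : act 7 n1814 = n1503 := d24_2 (iv F5133) D1814 (iv D1503)
def n1815 : Q := act 6 n1400
theorem D1815 : act 6 n1400 = n1815 := rfl
theorem F6579 : act 5 n1815 = n1403 := d25_1 D1815 (iv D1403) (iv F5132)
def n1816 : Q := act 1 n1402
theorem D1816 : act 1 n1402 = n1816 := rfl
theorem F6580 : act 0 n1816 = n1816 := d0_1 D1816 (iv D1816) F5138 F3934 (iv F5138)
theorem F6583 : act 7 n1816 = n1505 := d12_2 (iv F5140) D1816 (iv D1505)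
def n1817 : Q := act 6 n1402
theorem D1817 : act 6 n1402 = n1817 := rfl
theorem F6585 : act 2 n1817 = n1817 := d16_1 D1817 (iv D1817) (iv D1402) F3932 D1402
def n1818 : Q := act 7 n1403
theorem D1818 : act 7 n1403 = n1818 := rfl
theorem F6588 : act 2 n1818 = n1818 := d17_1 D1818 (iv D1818) F5142
theorem F6590 : act 6 n1818 = n1507 := d27_1 D1818 (iv D1507) (iv D1150) (iv F3936) D1403
def n1819 : Q := act 6 n1404
theorem D1819 : act 6 n1404 = n1819 := rfl
theorem F6591 : act 0 n1819 = n1819 := d5_1 D1819 (iv D1819) F5144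
theorem F6592 : act 1 n1819 = n1411 := d11_1 D1819 (iv D1411) (iv F5145)
theorem F6593 : act 3 n1819 = n1819 := d20_1 D1819 (iv D1819) F5147
theorem F6594 : act 4 n1819 = n1819 := d23_1 D1819 (iv D1819) F5148
theorem F6595 : act 5 n1819 = n1406 := d25_1 D1819 (iv D1406) (iv F5149)
def n1820 : Q := act 6 n1405
theorem D1820 : act 6 n1405 = n1820 := rfl
theorem F6596 : act 0 n1820 = n1820 := d5_1 D1820 (iv D1820) F5150
theorem F6597 : act 1 n1820 = n1412 := d11_1 D1820 (iv D1412) (iv F5151)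
theorem F6598 : act 3 n1820 = n1820 := d20_1 D1820 (iv D1820) F5152
theorem F6599 : act 4 n1820 = n1408 := d23_1 D1820 (iv D1408) (iv F5153)
theorem F6600 : act 7 n1820 = n1406 := d27_2 D1405 D1820 (iv D1406) (iv D1069) D1068
def n1821 : Q := act 2 n1406
theorem D1821 : act 2 n1406 = n1821 := rfl
theorem F6601 : act 0 n1821 = n1821 := d1_1 D1821 (iv D1821) F5154
theorem F6602 : act 4 n1821 = n1409 := d14_2 (iv F5157) D1821 (iv D1409)
theorem F6603 : act 6 n1821 = n1821 := d16_2 D1406 D1821 (iv D1821) (iv D1406) F3948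
def n1822 : Q := act 6 n1407
theorem D1822 : act 6 n1407 = n1822 := rfl
theorem F6604 : act 0 n1822 = n1822 := d5_1 D1822 (iv D1822) F5158
theorem F6605 : act 5 n1822 = n1822 := d25_1 D1822 (iv D1822) F5160
theorem F6606 : act 7 n1822 = n1822 := d27_2 D1407 D1822 (iv D1822) (iv D1407) F3953
def n1823 : Q := act 2 n1408
theorem D1823 : act 2 n1408 = n1823 := rfl
theorem F6607 : act 0 n1823 = n1823 := d1_1 D1823 (iv D1823) F5161
theorem F6608 : act 5 n1823 = n1823 := d15_2 F5164 D1823 (iv D1823)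
theorem F6609 : act 7 n1823 = n1409 := d17_2 (iv F5165) D1823 (iv D1409)
def n1824 : Q := act 1 n1409
theorem D1824 : act 1 n1409 = n1824 := rfl
theorem F6610 : act 2 n1824 = n1415 := d7_2 D1409 D1824 (iv D1415) (iv D1078) (iv F3959)
theorem F6611 : act 5 n1824 = n1824 := d10_2 F5167 D1824 (iv D1824)
theorem F6612 : act 6 n1824 = n1824 := d11_2 F5168 D1824 (iv D1824)
def n1825 : Q := act 3 n1409
theorem D1825 : act 3 n1409 = n1825 := rfl
def n1826 : Q := act 6 n1410
theorem D1826 : act 6 n1410 = n1826 := rfl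
theorem F6617 : act 0 n1826 = n1426 := d5_1 D1826 (iv D1426) (iv F5169)
theorem F6618 : act 3 n1826 = n1826 := d20_1 D1826 (iv D1826) F5170
theorem F6619 : act 4 n1826 = n1826 := d23_1 D1826 (iv D1826) F5171
theorem F6620 : act 5 n1826 = n1412 := d25_1 D1826 (iv D1412) (iv F5172)
theorem F6621 : act 7 n1826 = n1411 := d27_2 D1410 D1826 (iv D1411) (iv D1074) D1073
def n1827 : Q := act 2 n1411
theorem D1827 : act 2 n1411 = n1827 := rfl
theorem F6622 : act 0 n1827 = n1427 := d1_1 D1827 (iv D1427) (iv F5173)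
theorem F6623 : act 4 n1827 = n1827 := d14_2 F5175 D1827 (iv D1827)
theorem F6624 : act 5 n1827 = n1413 := d15_2 (iv F5176) D1827 (iv D1413)
theorem F6625 : act 6 n1827 = n1417 := d16_2 D1411 D1827 (iv D1417) (iv D1079) (iv F3967)
def n1828 : Q := act 2 n1412
theorem D1828 : act 2 n1412 = n1828 := rfl
theorem F6626 : act 0 n1828 = n1428 := d1_1 D1828 (iv D1428) (iv F5177)
theorem F6627 : act 4 n1828 = n1414 := d14_2 (iv F5179) D1828 (iv D1414)
theorem F6628 : act 7 n1828 = n1413 := d17_2 (iv F5180) D1828 (iv D1413)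
def n1829 : Q := act 1 n1413
theorem D1829 : act 1 n1413 = n1829 := rfl
theorem F6629 : act 4 n1829 = n1415 := d9_2 (iv F5182) D1829 (iv D1415)
theorem F6630 : act 6 n1829 = n1418 := d11_2 (iv F5183) D1829 (iv D1418)
def n1830 : Q := act 3 n1413
theorem D1830 : act 3 n1413 = n1830 := rfl
theorem F6631 : act 0 n1830 = n1430 := d2_1 D1830 (iv D1430) (iv F5181)
theorem F6632 : act 2 n1830 = n1830 := d13_1 D1830 (iv D1830) (iv D1413) F3975 D1413
theorem F6633 : act 6 n1830 = n1419 := d20_2 (iv F5183) D1830 (iv D1419)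
def n1831 : Q := act 1 n1414
theorem D1831 : act 1 n1414 = n1831 := rfl
theorem F6634 : act 5 n1831 = n1831 := d10_2 F5185 D1831 (iv D1831)
theorem F6635 : act 7 n1831 = n1415 := d12_2 (iv F5186) D1831 (iv D1415)
def n1832 : Q := act 3 n1414
theorem D1832 : act 3 n1414 = n1832 := rfl
theorem F6636 : act 0 n1832 = n1432 := d2_1 D1832 (iv D1432) (iv F5184)
theorem F6637 : act 2 n1832 = n1538 := d13_1 D1832 (iv D1538) (iv D1175) (iv F3978) D1414
theorem F6638 : act 5 n1832 = n1832 := d19_2 F5185 D1832 (iv D1832)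
theorem F6639 : act 7 n1832 = n1416 := d21_2 (iv F5186) D1832 (iv D1416)
def n1833 : Q := act 0 n1415
theorem D1833 : act 0 n1415 = n1833 := rfl
theorem F6640 : act 1 n1833 = n1433 := d0_2 D1415 D1833 (iv D1433) (iv D1090) (iv F3981)
theorem F6641 : act 5 n1833 = n1833 := d4_2 F5187 D1833 (iv D1833)
theorem F6642 : act 6 n1833 = n1420 := d5_2 (iv F5188) D1833 (iv D1420)
def n1834 : Q := act 3 n1415
theorem D1834 : act 3 n1415 = n1834 := rfl
theorem F6643 : act 1 n1834 = n1416 := d8_1 D1834 (iv D1416) D1415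
theorem F6644 : act 5 n1834 = n1834 := d19_2 F5187 D1834 (iv D1834)
theorem F6645 : act 6 n1834 = n1421 := d20_2 (iv F5188) D1834 (iv D1421)
def n1835 : Q := act 4 n1416
theorem D1835 : act 4 n1416 = n1835 := rfl
theorem F6646 : act 0 n1835 = n1435 := d3_1 D1835 (iv D1435) (iv F5189)
theorem F6647 : act 2 n1835 = n1541 := d14_1 D1835 (iv D1541) (iv F5190)
theorem F6648 : act 6 n1835 = n1422 := d23_2 (iv F5192) D1835 (iv D1422)
def n1836 : Q := act 1 n1417
theorem D1836 : act 1 n1417 = n1836 := rfl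
theorem F6649 : act 2 n1836 = n1836 := d7_2 D1417 D1836 (iv D1836) (iv D1417) F3985
theorem F6650 : act 4 n1836 = n1836 := d9_2 F5194 D1836 (iv D1836)
theorem F6651 : act 5 n1836 = n1418 := d10_2 (iv F5195) D1836 (iv D1418)
def n1837 : Q := act 3 n1417
theorem D1837 : act 3 n1417 = n1837 := rfl
theorem F6652 : act 0 n1837 = n1437 := d2_1 D1837 (iv D1437) (iv F5193)
theorem F6653 : act 2 n1837 = n1450 := d13_1 D1837 (iv D1450) (iv D1103) (iv F3986) D1417
theorem F6654 : act 5 n1837 = n1419 := d19_2 (iv F5195) D1837 (iv D1419)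
def n1838 : Q := act 0 n1418
theorem D1838 : act 0 n1418 = n1838 := rfl
theorem F6655 : act 1 n1838 = n1438 := d0_2 D1418 D1838 (iv D1438) (iv D1093) (iv F3989)
theorem F6656 : act 2 n1838 = n1838 := d1_2 F5196 D1838 (iv D1838)
theorem F6657 : act 4 n1838 = n1420 := d3_2 (iv F5197) D1838 (iv D1420)
def n1839 : Q := act 3 n1418
theorem D1839 : act 3 n1418 = n1839 := rfl
theorem F6658 : act 1 n1839 = n1419 := d8_1 D1839 (iv D1419) D1418
def n1840 : Q := act 4 n1419
theorem D1840 : act 4 n1419 = n1840 := rfl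
theorem F6659 : act 0 n1840 = n1440 := d3_1 D1840 (iv D1440) (iv F5198)
theorem F6660 : act 2 n1840 = n1453 := d14_1 D1840 (iv D1453) (iv F5199)
theorem F6661 : act 3 n1840 = n1422 := d18_1 D1840 (iv D1422) (iv D1082) (iv F3990) D1419
def n1841 : Q := act 3 n1420
theorem D1841 : act 3 n1420 = n1841 := rfl
theorem F6662 : act 0 n1841 = n1421 := d2_1 D1841 (iv D1421) D1420
theorem F6663 : act 1 n1841 = n1441 := d8_1 D1841 (iv D1441) (iv F5200)
theorem F6664 : act 5 n1841 = n1841 := d19_2 F5202 D1841 (iv D1841)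
def n1842 : Q := act 2 n1421
theorem D1842 : act 2 n1421 = n1842 := rfl
theorem F6665 : act 1 n1842 = n1423 := d7_1 D1842 (iv D1423) F3997 (iv F3994) (iv F5203)
theorem F6666 : act 3 n1842 = n1842 := d13_2 D1421 D1842 (iv D1842) (iv D1421) F3991
theorem F6667 : act 5 n1842 = n1842 := d15_2 F5204 D1842 (iv D1842)
def n1843 : Q := act 4 n1421
theorem D1843 : act 4 n1421 = n1843 := rfl
theorem F6668 : act 1 n1843 = n1422 := d9_1 D1843 (iv D1422) (iv F5203)
def n1846 : Q := act 6 n1423
theorem D1846 : act 6 n1423 = n1846 := rfl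
def n1848 : Q := act 2 n1426
theorem D1848 : act 2 n1426 = n1848 := rfl
theorem F6683 : act 4 n1848 = n1848 := d14_2 F5220 D1848 (iv D1848)
theorem F6684 : act 5 n1848 = n1428 := d15_2 (iv F5221) D1848 (iv D1428)
theorem F6685 : act 7 n1848 = n1427 := d17_2 (iv F5222) D1848 (iv D1427)
def n1849 : Q := act 1 n1427
theorem D1849 : act 1 n1427 = n1849 := rfl
theorem F6686 : act 2 n1849 = n1849 := d7_2 D1427 D1849 (iv D1849) (iv D1427) F4007
theorem F6687 : act 4 n1849 = n1849 := d9_2 F5223 D1849 (iv D1849)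
theorem F6688 : act 5 n1849 = n1429 := d10_2 (iv F5224) D1849 (iv D1429)
theorem F6689 : act 6 n1849 = n1436 := d11_2 (iv F5225) D1849 (iv D1436)
def n1850 : Q := act 3 n1427
theorem D1850 : act 3 n1427 = n1850 := rfl
theorem F6690 : act 2 n1850 = n1850 := d13_1 D1850 (iv D1850) (iv D1427) F4008 D1427
theorem F6691 : act 5 n1850 = n1430 := d19_2 (iv F5224) D1850 (iv D1430)
theorem F6692 : act 6 n1850 = n1437 := d20_2 (iv F5225) D1850 (iv D1437)
def n1851 : Q := act 1 n1428
theorem D1851 : act 1 n1428 = n1851 := rfl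
theorem F6693 : act 2 n1851 = n1851 := d7_2 D1428 D1851 (iv D1851) (iv D1428) F4011
theorem F6694 : act 4 n1851 = n1431 := d9_2 (iv F5226) D1851 (iv D1431)
theorem F6695 : act 7 n1851 = n1429 := d12_2 (iv F5227) D1851 (iv D1429)
def n1852 : Q := act 3 n1428
theorem D1852 : act 3 n1428 = n1852 := rfl
theorem F6696 : act 2 n1852 = n1852 := d13_1 D1852 (iv D1852) (iv D1428) F4012 D1428
theorem F6697 : act 7 n1852 = n1430 := d21_2 (iv F5227) D1852 (iv D1430)
def n1853 : Q := act 0 n1429
theorem D1853 : act 0 n1429 = n1853 := rfl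
theorem F6698 : act 2 n1853 = n1853 := d1_2 F5228 D1853 (iv D1853)
theorem F6699 : act 4 n1853 = n1433 := d3_2 (iv F5229) D1853 (iv D1433)
theorem F6700 : act 6 n1853 = n1438 := d5_2 (iv F5230) D1853 (iv D1438)
def n1854 : Q := act 3 n1429
theorem D1854 : act 3 n1429 = n1854 := rfl
theorem F6701 : act 1 n1854 = n1430 := d8_1 D1854 (iv D1430) D1429
theorem F6702 : act 6 n1854 = n1439 := d20_2 (iv F5230) D1854 (iv D1439)
def n1855 : Q := act 4 n1430
theorem D1855 : act 4 n1430 = n1855 := rfl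
theorem F6703 : act 2 n1855 = n1855 := d14_1 D1855 (iv D1855) F5231
theorem F6704 : act 3 n1855 = n1435 := d18_1 D1855 (iv D1435) (iv D1091) (iv F4015) D1430
theorem F6705 : act 6 n1855 = n1440 := d23_2 (iv F5232) D1855 (iv D1440)
def n1856 : Q := act 0 n1431
theorem D1856 : act 0 n1431 = n1856 := rfl
theorem F6706 : act 2 n1856 = n1856 := d1_2 F5233 D1856 (iv D1856)
theorem F6707 : act 5 n1856 = n1856 := d4_2 F5234 D1856 (iv D1856)
theorem F6708 : act 7 n1856 = n1433 := d6_2 (iv F5235) D1856 (iv D1433)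
def n1857 : Q := act 3 n1431
theorem D1857 : act 3 n1431 = n1857 := rfl
theorem F6709 : act 1 n1857 = n1432 := d8_1 D1857 (iv D1432) D1431
theorem F6710 : act 5 n1857 = n1857 := d19_2 F5234 D1857 (iv D1857)
theorem F6711 : act 7 n1857 = n1434 := d21_2 (iv F5235) D1857 (iv D1434)
def n1858 : Q := act 4 n1432
theorem D1858 : act 4 n1432 = n1858 := rfl
theorem F6712 : act 2 n1858 = n1551 := d14_1 D1858 (iv D1551) (iv F5236)
theorem F6713 : act 7 n1858 = n1435 := d24_2 (iv F5238) D1858 (iv D1435)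
def n1859 : Q := act 3 n1433
theorem D1859 : act 3 n1433 = n1859 := rfl
theorem F6714 : act 0 n1859 = n1434 := d2_1 D1859 (iv D1434) D1433
theorem F6715 : act 5 n1859 = n1859 := d19_2 F5240 D1859 (iv D1859)
theorem F6716 : act 6 n1859 = n1441 := d20_2 (iv F5241) D1859 (iv D1441)
def n1860 : Q := act 2 n1434
theorem D1860 : act 2 n1434 = n1860 := rfl
theorem F6717 : act 1 n1860 = n1553 := d7_1 D1860 (iv D1553) F4336 (iv F4022) (iv F5242)
theorem F6718 : act 3 n1860 = n1860 := d13_2 D1434 D1860 (iv D1860) (iv D1434) F4019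
theorem F6719 : act 5 n1860 = n1860 := d15_2 F5243 D1860 (iv D1860)
theorem F6720 : act 6 n1860 = n1860 := d16_2 (iv F5244) D1860 (iv D1860) F5244 F4033
def n1861 : Q := act 4 n1434
theorem D1861 : act 4 n1434 = n1861 := rfl
theorem F6721 : act 1 n1861 = n1435 := d9_1 D1861 (iv D1435) (iv F5242)
theorem F6722 : act 6 n1861 = n1442 := d23_2 (iv F5244) D1861 (iv D1442)
def n1862 : Q := act 5 n1435
theorem D1862 : act 5 n1435 = n1862 := rfl
theorem F6723 : act 2 n1862 = n1555 := d15_1 D1862 (iv D1555) (iv F5245)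
theorem F6724 : act 4 n1862 = n1862 := d22_1 D1862 (iv D1862) (iv D1435) F4023 D1435
theorem F6725 : act 6 n1862 = n1443 := d25_2 (iv F5246) D1862 (iv D1443)
def n1863 : Q := act 0 n1436
theorem D1863 : act 0 n1436 = n1863 := rfl
theorem F6726 : act 2 n1863 = n1444 := d1_2 (iv F5247) D1863 (iv D1444)
theorem F6727 : act 4 n1863 = n1863 := d3_2 F5248 D1863 (iv D1863)
theorem F6728 : act 5 n1863 = n1438 := d4_2 (iv F5249) D1863 (iv D1438)
def n1864 : Q := act 3 n1436
theorem D1864 : act 3 n1436 = n1864 := rfl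
theorem F6729 : act 1 n1864 = n1437 := d8_1 D1864 (iv D1437) D1436
theorem F6730 : act 5 n1864 = n1439 := d19_2 (iv F5249) D1864 (iv D1439)
def n1865 : Q := act 4 n1437
theorem D1865 : act 4 n1437 = n1865 := rfl
theorem F6731 : act 2 n1865 = n1463 := d14_1 D1865 (iv D1463) (iv F5250)
theorem F6732 : act 3 n1865 = n1865 := d18_1 D1865 (iv D1865) (iv D1437) F4025 D1437
def n1866 : Q := act 3 n1438
theorem D1866 : act 3 n1438 = n1866 := rfl
theorem F6733 : act 0 n1866 = n1439 := d2_1 D1866 (iv D1439) D1438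
def n1867 : Q := act 2 n1439
theorem D1867 : act 2 n1439 = n1867 := rfl
theorem F6734 : act 1 n1867 = n1465 := d7_1 D1867 (iv D1465) F4090 (iv F4029) (iv F5254)
theorem F6735 : act 3 n1867 = n1448 := d13_2 D1439 D1867 (iv D1448) (iv D1102) (iv F4027)
def n1868 : Q := act 4 n1439
theorem D1868 : act 4 n1439 = n1868 := rfl
theorem F6736 : act 1 n1868 = n1440 := d9_1 D1868 (iv D1440) (iv F5254)
theorem F6737 : act 3 n1868 = n1442 := d18_1 D1868 (iv D1442) (iv D1096) (iv F4028) D1439
def n1869 : Q := act 5 n1440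
theorem D1869 : act 5 n1440 = n1869 := rfl
theorem F6738 : act 2 n1869 = n1467 := d15_1 D1869 (iv D1467) (iv F5255)
theorem F6739 : act 3 n1869 = n1443 := d19_1 D1869 (iv D1443) (iv F5256)
def n1870 : Q := act 4 n1441
theorem D1870 : act 4 n1441 = n1870 := rfl
theorem F6740 : act 0 n1870 = n1442 := d3_1 D1870 (iv D1442) (iv F5257)
theorem F6741 : act 2 n1870 = n1870 := d14_1 D1870 (iv D1870) F5258
def n1871 : Q := act 5 n1442
theorem D1871 : act 5 n1442 = n1871 := rfl
theorem F6742 : act 1 n1871 = n1443 := d10_1 D1871 (iv D1443) (iv F5260)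
theorem F6743 : act 2 n1871 = n1871 := d15_1 D1871 (iv D1871) F5261
theorem F6744 : act 4 n1871 = n1871 := d22_1 D1871 (iv D1871) (iv D1442) F4034 D1442
def n1872 : Q := act 3 n1444
theorem D1872 : act 3 n1444 = n1872 := rfl
theorem F6745 : act 0 n1872 = n1445 := d2_1 D1872 (iv D1445) D1444
theorem F6746 : act 1 n1872 = n1872 := d8_1 D1872 (iv D1872) F5264
theorem F6747 : act 5 n1872 = n1447 := d19_2 (iv F5266) D1872 (iv D1447)
theorem F6748 : act 6 n1872 = n1872 := d20_2 F5267 D1872 (iv D1872)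
def n1873 : Q := act 2 n1445
theorem D1873 : act 2 n1445 = n1873 := rfl
theorem F6749 : act 1 n1873 = n1471 := d7_1 D1873 (iv D1471) F4108 (iv F4044) (iv F5268)
theorem F6750 : act 5 n1873 = n1448 := d15_2 (iv F5269) D1873 (iv D1448)
def n1874 : Q := act 4 n1445
theorem D1874 : act 4 n1445 = n1874 := rfl
theorem F6754 : act 6 n1874 = n1874 := d23_2 F5270 D1874 (iv D1874)
def n1875 : Q := act 2 n1447
theorem D1875 : act 2 n1447 = n1875 := rfl
theorem F6755 : act 0 n1875 = n1448 := d1_1 D1875 (iv D1448) (iv F5276)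
theorem F6756 : act 4 n1875 = n1875 := d14_2 F5278 D1875 (iv D1875)
def n1876 : Q := act 6 n1448
theorem D1876 : act 6 n1448 = n1876 := rfl
theorem F6757 : act 1 n1876 = n1474 := d11_1 D1876 (iv D1474) (iv F5280)
theorem F6758 : act 2 n1876 = n1876 := d16_1 D1876 (iv D1876) (iv D1448) F4052 D1448
theorem F6759 : act 4 n1876 = n1876 := d23_1 D1876 (iv D1876) F5281
def n1877 : Q := act 0 n1449
theorem D1877 : act 0 n1449 = n1877 := rfl
theorem F6762 : act 4 n1877 = n1475 := d3_2 (iv F5283) D1877 (iv D1475)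
def n1878 : Q := act 3 n1449
theorem D1878 : act 3 n1449 = n1878 := rfl
theorem F6765 : act 1 n1878 = n1450 := d8_1 D1878 (iv D1450) D1449
theorem F6766 : act 5 n1878 = n1452 := d19_2 (iv F5284) D1878 (iv D1452)
theorem F6767 : act 6 n1878 = n1878 := d20_2 F5285 D1878 (iv D1878)
def n1879 : Q := act 4 n1450
theorem D1879 : act 4 n1450 = n1879 := rfl
theorem F6768 : act 0 n1879 = n1463 := d3_1 D1879 (iv D1463) (iv F5286)
theorem F6769 : act 3 n1879 = n1477 := d18_1 D1879 (iv D1477) (iv D1126) (iv F4054) D1450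
theorem F6770 : act 6 n1879 = n1879 := d23_2 F5288 D1879 (iv D1879)
def n1880 : Q := act 3 n1451
theorem D1880 : act 3 n1451 = n1880 := rfl
theorem F6771 : act 0 n1880 = n1452 := d2_1 D1880 (iv D1452) D1451
theorem F6772 : act 1 n1880 = n1464 := d8_1 D1880 (iv D1464) (iv F5289)
def n1881 : Q := act 2 n1452
theorem D1881 : act 2 n1452 = n1881 := rfl
def n1882 : Q := act 4 n1452
theorem D1882 : act 4 n1452 = n1882 := rfl
theorem F6775 : act 1 n1882 = n1453 := d9_1 D1882 (iv D1453) (iv F5293)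
theorem F6776 : act 3 n1882 = n1456 := d18_1 D1882 (iv D1456) (iv D1107) (iv F4058) D1452
def n1883 : Q := act 5 n1453
theorem D1883 : act 5 n1453 = n1883 := rfl
def n1884 : Q := act 2 n1454
theorem D1884 : act 2 n1454 = n1884 := rfl
def n1885 : Q := act 4 n1454
theorem D1885 : act 4 n1454 = n1885 := rfl
def n1886 : Q := act 4 n1455
theorem D1886 : act 4 n1455 = n1886 := rfl
theorem F6789 : act 2 n1886 = n1456 := d14_1 D1886 (iv D1456) D1455
def n1888 : Q := act 5 n1456
theorem D1888 : act 5 n1456 = n1888 := rfl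
def n1893 : Q := act 3 n1461
theorem D1893 : act 3 n1461 = n1893 := rfl
theorem F6809 : act 0 n1893 = n1462 := d2_1 D1893 (iv D1462) D1461
theorem F6810 : act 5 n1893 = n1464 := d19_2 (iv F5323) D1893 (iv D1464)
def n1894 : Q := act 2 n1462
theorem D1894 : act 2 n1462 = n1894 := rfl
def n1895 : Q := act 4 n1462
theorem D1895 : act 4 n1462 = n1895 := rfl
theorem F6814 : act 1 n1895 = n1463 := d9_1 D1895 (iv D1463) (iv F5325)
def n1896 : Q := act 5 n1463
theorem D1896 : act 5 n1463 = n1896 := rfl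
theorem F6817 : act 3 n1896 = n1494 := d19_1 D1896 (iv D1494) (iv F5328)
theorem F6818 : act 4 n1896 = n1467 := d22_1 D1896 (iv D1467) (iv D1116) (iv F4085) D1463
def n1897 : Q := act 2 n1464
theorem D1897 : act 2 n1464 = n1897 := rfl
theorem F6820 : act 0 n1897 = n1465 := d1_1 D1897 (iv D1465) (iv F5330)
def n1898 : Q := act 4 n1464
theorem D1898 : act 4 n1464 = n1898 := rfl
theorem F6823 : act 3 n1898 = n1468 := d18_1 D1898 (iv D1468) (iv D1117) (iv F4088) D1464
def n1899 : Q := act 4 n1465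
theorem D1899 : act 4 n1465 = n1899 := rfl
theorem F6825 : act 2 n1899 = n1466 := d14_1 D1899 (iv D1466) D1465
theorem F6826 : act 3 n1899 = n1899 := d18_1 D1899 (iv D1899) F5332 F4119 (iv F5332)
def n1900 : Q := act 6 n1465
theorem D1900 : act 6 n1465 = n1900 := rfl
theorem F6827 : act 2 n1900 = n1900 := d16_1 D1900 (iv D1900) (iv D1465) F4091 D1465
theorem F6828 : act 3 n1900 = n1474 := d20_1 D1900 (iv D1474) (iv F5332)
def n1901 : Q := act 5 n1466
theorem D1901 : act 5 n1466 = n1901 := rfl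
theorem F6830 : act 3 n1901 = n1469 := d19_1 D1901 (iv D1469) (iv F5334)
def n1902 : Q := act 5 n1468
theorem D1902 : act 5 n1468 = n1902 := rfl
def n1903 : Q := act 2 n1470
theorem D1903 : act 2 n1470 = n1903 := rfl
theorem F6836 : act 0 n1903 = n1471 := d1_1 D1903 (iv D1471) (iv F5345)
theorem F6837 : act 5 n1903 = n1473 := d15_2 (iv F5347) D1903 (iv D1473)
def n1904 : Q := act 4 n1470
theorem D1904 : act 4 n1470 = n1904 := rfl
theorem F6838 : act 0 n1904 = n1472 := d3_1 D1904 (iv D1472) (iv F5345)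
def n1905 : Q := act 4 n1471
theorem D1905 : act 4 n1471 = n1905 := rfl
theorem F6843 : act 2 n1905 = n1472 := d14_1 D1905 (iv D1472) D1471
def n1906 : Q := act 6 n1471
theorem D1906 : act 6 n1471 = n1906 := rfl
theorem F6846 : act 5 n1906 = n1474 := d25_1 D1906 (iv D1474) (iv F5349)
def n1907 : Q := act 1 n1473
theorem D1907 : act 1 n1473 = n1907 := rfl
def n1908 : Q := act 6 n1473
theorem D1908 : act 6 n1473 = n1908 := rfl
theorem F6849 : act 0 n1908 = n1474 := d5_1 D1908 (iv D1474) (iv F5354)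
theorem F6850 : act 2 n1908 = n1513 := d16_1 D1908 (iv D1513) (iv D1154) (iv F4118) D1473
def n1909 : Q := act 7 n1474
theorem D1909 : act 7 n1474 = n1909 := rfl
theorem F6852 : act 2 n1909 = n1514 := d17_1 D1909 (iv D1514) (iv F5356)
theorem F6853 : act 4 n1909 = n1909 := d24_1 D1909 (iv D1909) F5357
def n1910 : Q := act 3 n1475
theorem D1910 : act 3 n1475 = n1910 := rfl
theorem F6854 : act 0 n1910 = n1476 := d2_1 D1910 (iv D1476) D1475
theorem F6855 : act 1 n1910 = n1491 := d8_1 D1910 (iv D1491) (iv F5358)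
theorem F6856 : act 5 n1910 = n1478 := d19_2 (iv F5360) D1910 (iv D1478)
def n1911 : Q := act 2 n1476
theorem D1911 : act 2 n1476 = n1911 := rfl
theorem F6860 : act 5 n1911 = n1479 := d15_2 (iv F5363) D1911 (iv D1479)
def n1912 : Q := act 4 n1476
theorem D1912 : act 4 n1476 = n1912 := rfl
def n1913 : Q := act 5 n1477
theorem D1913 : act 5 n1477 = n1913 := rfl
theorem F6865 : act 4 n1913 = n1481 := d22_1 D1913 (iv D1481) (iv D1129) (iv F4125) D1477
def n1914 : Q := act 2 n1478
theorem D1914 : act 2 n1478 = n1914 := rfl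
theorem F6867 : act 0 n1914 = n1479 := d1_1 D1914 (iv D1479) (iv F5368)
def n1915 : Q := act 4 n1478
theorem D1915 : act 4 n1478 = n1915 := rfl
theorem F6869 : act 0 n1915 = n1480 := d3_1 D1915 (iv D1480) (iv F5368)
theorem F6871 : act 3 n1915 = n1483 := d18_1 D1915 (iv D1483) (iv D1130) (iv F4129) D1478
def n1916 : Q := act 4 n1479
theorem D1916 : act 4 n1479 = n1916 := rfl
theorem F6874 : act 2 n1916 = n1480 := d14_1 D1916 (iv D1480) D1479
def n1918 : Q := act 5 n1480
theorem D1918 : act 5 n1480 = n1918 := rfl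
theorem F6879 : act 3 n1918 = n1486 := d19_1 D1918 (iv D1486) (iv F5374)
def n1919 : Q := act 4 n1482
theorem D1919 : act 4 n1482 = n1919 := rfl
theorem F6883 : act 2 n1919 = n1483 := d14_1 D1919 (iv D1483) D1482
def n1922 : Q := act 3 n1484
theorem D1922 : act 3 n1484 = n1922 := rfl
theorem F6891 : act 1 n1922 = n1487 := d8_1 D1922 (iv D1487) (iv F5386)
def n1926 : Q := act 5 n1487
theorem D1926 : act 5 n1487 = n1926 := rfl
def n1927 : Q := act 6 n1487
theorem D1927 : act 6 n1487 = n1927 := rfl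
def n1928 : Q := act 6 n1488
theorem D1928 : act 6 n1488 = n1928 := rfl
def n1930 : Q := act 2 n1491
theorem D1930 : act 2 n1491 = n1930 := rfl
theorem F6914 : act 3 n1930 = n1501 := d13_2 D1491 D1930 (iv D1501) (iv D1146) (iv F4156)
def n1931 : Q := act 4 n1491
theorem D1931 : act 4 n1491 = n1931 := rfl
def n1935 : Q := act 1 n1495
theorem D1935 : act 1 n1495 = n1935 := rfl
def n1936 : Q := act 4 n1495
theorem D1936 : act 4 n1495 = n1936 := rfl
theorem F6930 : act 2 n1936 = n1496 := d14_1 D1936 (iv D1496) D1495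
def n1937 : Q := act 6 n1495
theorem D1937 : act 6 n1495 = n1937 := rfl
theorem F6934 : act 3 n1937 = n1506 := d20_1 D1937 (iv D1506) (iv F5416)
def n1938 : Q := act 5 n1496
theorem D1938 : act 5 n1496 = n1938 := rfl
theorem F6936 : act 3 n1938 = n1500 := d19_1 D1938 (iv D1500) (iv F5418)
def n1941 : Q := act 7 n1498
theorem D1941 : act 7 n1498 = n1941 := rfl
def n1942 : Q := act 1 n1501
theorem D1942 : act 1 n1501 = n1942 := rfl
def n1943 : Q := act 4 n1501
theorem D1943 : act 4 n1501 = n1943 := rfl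
theorem F6951 : act 0 n1943 = n1503 := d3_1 D1943 (iv D1503) (iv F5432)
theorem F6952 : act 2 n1943 = n1502 := d14_1 D1943 (iv D1502) D1501
def n1944 : Q := act 6 n1501
theorem D1944 : act 6 n1501 = n1944 := rfl
theorem F6955 : act 2 n1944 = n1517 := d16_1 D1944 (iv D1517) (iv D1156) (iv F4183) D1501
def n1945 : Q := act 3 n1503
theorem D1945 : act 3 n1503 = n1945 := rfl
def n1946 : Q := act 6 n1503
theorem D1946 : act 6 n1503 = n1946 := rfl
theorem F6960 : act 2 n1946 = n1519 := d16_1 D1946 (iv D1519) F4222 (iv F4188) (iv F5439)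
def n1947 : Q := act 7 n1504
theorem D1947 : act 7 n1504 = n1947 := rfl
theorem F6964 : act 2 n1947 = n1520 := d17_1 D1947 (iv D1520) (iv F5442)
def n1948 : Q := act 6 n1505
theorem D1948 : act 6 n1505 = n1948 := rfl
theorem F6967 : act 1 n1948 = n1506 := d11_1 D1948 (iv D1506) D1505
def n1949 : Q := act 7 n1506
theorem D1949 : act 7 n1506 = n1949 := rfl
theorem F6970 : act 2 n1949 = n1522 := d17_1 D1949 (iv D1522) (iv F5448)
def n1950 : Q := act 1 n1508
theorem D1950 : act 1 n1508 = n1950 := rfl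
theorem F6972 : act 0 n1950 = n1950 := d0_1 D1950 (iv D1950) F5453 F4198 (iv F5453)
theorem F6975 : act 5 n1950 = n1512 := d10_2 (iv F5455) D1950 (iv D1512)
def n1951 : Q := act 4 n1508
theorem D1951 : act 4 n1508 = n1951 := rfl
theorem F6977 : act 0 n1951 = n1510 := d3_1 D1951 (iv D1510) (iv F5453)
theorem F6978 : act 2 n1951 = n1509 := d14_1 D1951 (iv D1509) D1508
def n1952 : Q := act 6 n1508
theorem D1952 : act 6 n1508 = n1952 := rfl
theorem F6981 : act 0 n1952 = n1511 := d5_1 D1952 (iv D1511) (iv F5453)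
theorem F6983 : act 5 n1952 = n1513 := d25_1 D1952 (iv D1513) (iv F5455)
def n1953 : Q := act 3 n1510
theorem D1953 : act 3 n1510 = n1953 := rfl
theorem F6984 : act 1 n1953 = n1953 := d8_1 D1953 (iv D1953) F5462
theorem F6985 : act 2 n1953 = n1518 := d13_1 D1953 (iv D1518) F4222 (iv F4203) (iv F5463)
def n1954 : Q := act 6 n1510
theorem D1954 : act 6 n1510 = n1954 := rfl
theorem F6989 : act 1 n1954 = n1954 := d11_1 D1954 (iv D1954) F5462
theorem F6990 : act 4 n1954 = n1511 := d23_1 D1954 (iv D1511) D1510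
def n1955 : Q := act 7 n1511
theorem D1955 : act 7 n1511 = n1955 := rfl
theorem F6992 : act 1 n1955 = n1955 := d12_1 D1955 (iv D1955) F5466
theorem F6993 : act 3 n1955 = n1955 := d21_1 D1955 (iv D1955) F5467
theorem F6994 : act 5 n1955 = n1514 := d26_1 D1955 (iv D1514) (iv F5468)
theorem F6995 : act 6 n1955 = n1955 := d27_1 D1955 (iv D1955) (iv D1511) F4201 D1511
def n1956 : Q := act 6 n1512
theorem D1956 : act 6 n1512 = n1956 := rfl
theorem F6996 : act 0 n1956 = n1956 := d5_1 D1956 (iv D1956) F5469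
theorem F6997 : act 1 n1956 = n1513 := d11_1 D1956 (iv D1513) D1512
theorem F6998 : act 3 n1956 = n1956 := d20_1 D1956 (iv D1956) F5471
theorem F6999 : act 4 n1956 = n1956 := d23_1 D1956 (iv D1956) F5472
def n1957 : Q := act 7 n1513
theorem D1957 : act 7 n1513 = n1957 := rfl
theorem F7000 : act 0 n1957 = n1514 := d6_1 D1957 (iv D1514) (iv F5474)
theorem F7001 : act 3 n1957 = n1957 := d21_1 D1957 (iv D1957) F5475
theorem F7002 : act 4 n1957 = n1957 := d24_1 D1957 (iv D1957) F5476
theorem F7003 : act 6 n1957 = n1957 := d27_1 D1957 (iv D1957) (iv D1513) F4209 D1513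
def n1958 : Q := act 4 n1515
theorem D1958 : act 4 n1515 = n1958 := rfl
theorem F7004 : act 0 n1958 = n1523 := d3_1 D1958 (iv D1523) (iv F5481)
theorem F7005 : act 1 n1958 = n1516 := d9_1 D1958 (iv D1516) D1515
def n1959 : Q := act 6 n1515
theorem D1959 : act 6 n1515 = n1959 := rfl
theorem F7009 : act 0 n1959 = n1524 := d5_1 D1959 (iv D1524) (iv F5481)
theorem F7010 : act 1 n1959 = n1517 := d11_1 D1959 (iv D1517) D1515
theorem F7012 : act 5 n1959 = n1521 := d25_1 D1959 (iv D1521) (iv F5484)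
def n1960 : Q := act 3 n1516
theorem D1960 : act 3 n1516 = n1960 := rfl
theorem F7013 : act 0 n1960 = n1518 := d2_1 D1960 (iv D1518) (iv F5486)
def n1961 : Q := act 6 n1516
theorem D1961 : act 6 n1516 = n1961 := rfl
def n1962 : Q := act 7 n1517
theorem D1962 : act 7 n1517 = n1962 := rfl
def n1964 : Q := act 7 n1519
theorem D1964 : act 7 n1519 = n1964 := rfl
theorem F7028 : act 1 n1964 = n1529 := d12_1 D1964 (iv D1529) (iv F5497)
def n1965 : Q := act 2 n1521
theorem D1965 : act 2 n1521 = n1965 := rfl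
def n1966 : Q := act 7 n1521
theorem D1966 : act 7 n1521 = n1966 := rfl
theorem F7035 : act 0 n1966 = n1531 := d6_1 D1966 (iv D1531) (iv F5504)
theorem F7036 : act 1 n1966 = n1522 := d12_1 D1966 (iv D1522) (iv F5505)
def n1967 : Q := act 3 n1523
theorem D1967 : act 3 n1523 = n1967 := rfl
theorem F7040 : act 1 n1967 = n1525 := d8_1 D1967 (iv D1525) (iv F5512)
def n1968 : Q := act 6 n1523
theorem D1968 : act 6 n1523 = n1968 := rfl
def n1970 : Q := act 7 n1524
theorem D1970 : act 7 n1524 = n1970 := rfl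
def n1971 : Q := act 6 n1525
theorem D1971 : act 6 n1525 = n1971 := rfl
def n1972 : Q := act 7 n1526
theorem D1972 : act 7 n1526 = n1972 := rfl
theorem F7058 : act 0 n1972 = n1529 := d6_1 D1972 (iv D1529) (iv F5524)
def n1973 : Q := act 2 n1528
theorem D1973 : act 2 n1528 = n1973 := rfl
theorem F7066 : act 6 n1973 = n1973 := d16_2 D1528 D1973 (iv D1973) (iv D1528) F4252
def n1977 : Q := act 6 n1532
theorem D1977 : act 6 n1532 = n1977 := rfl
theorem F7079 : act 3 n1977 = n1533 := d20_1 D1977 (iv D1533) (iv F5549)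
theorem F7081 : act 7 n1977 = n1567 := d27_2 D1532 D1977 (iv D1567) (iv D1200) (iv F4274)
def n1979 : Q := act 1 n1534
theorem D1979 : act 1 n1534 = n1979 := rfl
theorem F7087 : act 2 n1979 = n1537 := d7_2 D1534 D1979 (iv D1537) (iv D1175) (iv F4281)
def n1980 : Q := act 3 n1534
theorem D1980 : act 3 n1534 = n1980 := rfl
def n1985 : Q := act 3 n1537
theorem D1985 : act 3 n1537 = n1985 := rfl
theorem F7110 : act 1 n1985 = n1538 := d8_1 D1985 (iv D1538) D1537
def n1986 : Q := act 4 n1538
theorem D1986 : act 4 n1538 = n1986 := rfl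
def n2000 : Q := act 3 n1549
theorem D2000 : act 3 n1549 = n2000 := rfl
theorem F7163 : act 0 n2000 = n1550 := d2_1 D2000 (iv D1550) D1549
theorem F7166 : act 7 n2000 = n1552 := d21_2 (iv F5616) D2000 (iv D1552)
def n2001 : Q := act 2 n1550
theorem D2001 : act 2 n1550 = n2001 := rfl
theorem F7167 : act 3 n2001 = n2001 := d13_2 D1550 D2001 (iv D2001) (iv D1550) F4324
theorem F7168 : act 5 n2001 = n2001 := d15_2 F5618 D2001 (iv D2001)
theorem F7169 : act 7 n2001 = n1553 := d17_2 (iv F5620) D2001 (iv D1553)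
def n2002 : Q := act 4 n1550
theorem D2002 : act 4 n1550 = n2002 := rfl
theorem F7170 : act 1 n2002 = n1551 := d9_1 D2002 (iv D1551) (iv F5617)
theorem F7171 : act 3 n2002 = n2002 := d18_1 D2002 (iv D2002) (iv D1550) F4325 D1550
theorem F7172 : act 6 n2002 = n2002 := d23_2 F5619 D2002 (iv D2002)
theorem F7173 : act 7 n2002 = n1554 := d24_2 (iv F5620) D2002 (iv D1554)
def n2003 : Q := act 5 n1551
theorem D2003 : act 5 n1551 = n2003 := rfl
theorem F7177 : act 7 n2003 = n1555 := d26_2 (iv F5623) D2003 (iv D1555)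
def n2004 : Q := act 2 n1552
theorem D2004 : act 2 n1552 = n2004 := rfl
theorem F7178 : act 0 n2004 = n1553 := d1_1 D2004 (iv D1553) (iv F5624)
def n2005 : Q := act 4 n1552
theorem D2005 : act 4 n1552 = n2005 := rfl
theorem F7182 : act 0 n2005 = n1554 := d3_1 D2005 (iv D1554) (iv F5624)
def n2006 : Q := act 4 n1553
theorem D2006 : act 4 n1553 = n2006 := rfl
theorem F7185 : act 2 n2006 = n1554 := d14_1 D2006 (iv D1554) D1553
theorem F7186 : act 6 n2006 = n2006 := d23_2 F5629 D2006 (iv D2006)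
def n2018 : Q := act 6 n1566
theorem D2018 : act 6 n1566 = n2018 := rfl
def n2069 : Q := act 6 n1608
theorem D2069 : act 6 n1608 = n2069 := rfl
theorem F7420 : act 0 n2069 = n1644 := d5_1 D2069 (iv D1644) (iv F5840)
theorem F7421 : act 1 n2069 = n1614 := d11_1 D2069 (iv D1614) (iv F5841)
theorem F7422 : act 3 n2069 = n1667 := d20_1 D2069 (iv D1667) (iv F5843)
theorem F7423 : act 4 n2069 = n1610 := d23_1 D2069 (iv D1610) (iv F5844)
theorem F7424 : act 5 n2069 = n1665 := d25_1 D2069 (iv D1665) (iv F5845)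
theorem F7425 : act 7 n2069 = n1664 := d27_2 D1608 D2069 (iv D1664) (iv D1282) (iv F4524)
def n2070 : Q := act 6 n1609
theorem D2070 : act 6 n1609 = n2070 := rfl
theorem F7426 : act 0 n2070 = n1646 := d5_1 D2070 (iv D1646) (iv F5846)
theorem F7427 : act 1 n2070 = n1615 := d11_1 D2070 (iv D1615) (iv F5847)
theorem F7428 : act 3 n2070 = n2070 := d20_1 D2070 (iv D2070) F5849
theorem F7429 : act 4 n2070 = n1664 := d23_1 D2070 (iv D1664) (iv F5850)
theorem F7430 : act 5 n2070 = n2070 := d25_1 D2070 (iv D2070) F5851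
theorem F7431 : act 7 n2070 = n1610 := d27_2 D1609 D2070 (iv D1610) (iv D1236) D1235
def n2071 : Q := act 2 n1610
theorem D2071 : act 2 n1610 = n2071 := rfl
theorem F7432 : act 0 n2071 = n1647 := d1_1 D2071 (iv D1647) (iv F5852)
theorem F7433 : act 5 n2071 = n2071 := d15_2 F5855 D2071 (iv D2071)
theorem F7434 : act 6 n2071 = n2071 := d16_2 D1610 D2071 (iv D2071) (iv D1610) F4535
def n2072 : Q := act 6 n1611
theorem D2072 : act 6 n1611 = n2072 := rfl
theorem F7435 : act 0 n2072 = n1623 := d5_1 D2072 (iv D1623) (iv F5856)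
theorem F7436 : act 1 n2072 = n1667 := d11_1 D2072 (iv D1667) (iv F5857)
theorem F7437 : act 3 n2072 = n1614 := d20_1 D2072 (iv D1614) (iv F5859)
theorem F7438 : act 4 n2072 = n2072 := d23_1 D2072 (iv D2072) F5860
theorem F7439 : act 5 n2072 = n1625 := d25_1 D2072 (iv D1625) (iv F5861)
theorem F7440 : act 7 n2072 = n1624 := d27_2 D1611 D2072 (iv D1624) (iv D1249) F4543
def n2073 : Q := act 6 n1612
theorem D2073 : act 6 n1612 = n2073 := rfl
theorem F7441 : act 0 n2073 = n1624 := d5_1 D2073 (iv D1624) (iv F5862)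
theorem F7442 : act 1 n2073 = n1665 := d11_1 D2073 (iv D1665) (iv F5863)
theorem F7443 : act 3 n2073 = n1625 := d20_1 D2073 (iv D1625) (iv F5865)
theorem F7444 : act 4 n2073 = n2073 := d23_1 D2073 (iv D2073) F5866
theorem F7445 : act 5 n2073 = n1614 := d25_1 D2073 (iv D1614) (iv F5867)
theorem F7446 : act 7 n2073 = n1623 := d27_2 D1612 D2073 (iv D1623) (iv D1248) F4549
def n2074 : Q := act 6 n1613
theorem D2074 : act 6 n1613 = n2074 := rfl
theorem F7447 : act 0 n2074 = n1625 := d5_1 D2074 (iv D1625) (iv F5868)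
theorem F7448 : act 1 n2074 = n1664 := d11_1 D2074 (iv D1664) (iv F5869)
theorem F7449 : act 3 n2074 = n1624 := d20_1 D2074 (iv D1624) (iv F5871)
theorem F7450 : act 4 n2074 = n1615 := d23_1 D2074 (iv D1615) (iv F5872)
theorem F7451 : act 5 n2074 = n1623 := d25_1 D2074 (iv D1623) (iv F5873)
theorem F7452 : act 7 n2074 = n1614 := d27_2 D1613 D2074 (iv D1614) (iv D1240) D1239
def n2075 : Q := act 2 n1614
theorem D2075 : act 2 n1614 = n2075 := rfl
theorem F7453 : act 0 n2075 = n1626 := d1_1 D2075 (iv D1626) (iv F5874)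
theorem F7454 : act 4 n2075 = n1616 := d14_2 (iv F5875) D2075 (iv D1616)
theorem F7455 : act 6 n2075 = n1618 := d16_2 D1614 D2075 (iv D1618) (iv D1244) (iv F4557)
def n2076 : Q := act 2 n1615
theorem D2076 : act 2 n1615 = n2076 := rfl
theorem F7456 : act 0 n2076 = n1627 := d1_1 D2076 (iv D1627) (iv F5876)
theorem F7457 : act 5 n2076 = n2076 := d15_2 F5878 D2076 (iv D2076)
theorem F7458 : act 6 n2076 = n2076 := d16_2 D1615 D2076 (iv D2076) (iv D1615) F4560
theorem F7459 : act 7 n2076 = n1616 := d17_2 (iv F5879) D2076 (iv D1616)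
def n2077 : Q := act 1 n1616
theorem D2077 : act 1 n1616 = n2077 := rfl
theorem F7460 : act 5 n2077 = n2077 := d10_2 F5881 D2077 (iv D2077)
theorem F7461 : act 6 n2077 = n1619 := d11_2 (iv F5882) D2077 (iv D1619)
def n2078 : Q := act 3 n1616
theorem D2078 : act 3 n1616 = n2078 := rfl
theorem F7462 : act 0 n2078 = n1629 := d2_1 D2078 (iv D1629) (iv F5880)
theorem F7463 : act 2 n2078 = n2078 := d13_1 D2078 (iv D2078) (iv D1616) F4564 D1616
theorem F7464 : act 5 n2078 = n2078 := d19_2 F5881 D2078 (iv D2078)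
theorem F7465 : act 6 n2078 = n1620 := d20_2 (iv F5882) D2078 (iv D1620)
def n2079 : Q := act 2 n1617
theorem D2079 : act 2 n1617 = n2079 := rfl
theorem F7466 : act 0 n2079 = n1630 := d1_1 D2079 (iv D1630) (iv F5883)
theorem F7467 : act 4 n2079 = n2079 := d14_2 F5886 D2079 (iv D2079)
theorem F7468 : act 5 n2079 = n1618 := d15_2 (iv F5887) D2079 (iv D1618)
theorem F7469 : act 7 n2079 = n2079 := d17_2 F5888 D2079 (iv D2079)
def n2080 : Q := act 1 n1618
theorem D2080 : act 1 n1618 = n2080 := rfl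
theorem F7470 : act 2 n2080 = n2080 := d7_2 D1618 D2080 (iv D2080) (iv D1618) F4572
theorem F7471 : act 4 n2080 = n1619 := d9_2 (iv F5890) D2080 (iv D1619)
theorem F7472 : act 7 n2080 = n2080 := d12_2 F5891 D2080 (iv D2080)
def n2081 : Q := act 3 n1618
theorem D2081 : act 3 n1618 = n2081 := rfl
theorem F7473 : act 0 n2081 = n1632 := d2_1 D2081 (iv D1632) (iv F5889)
theorem F7474 : act 2 n2081 = n2081 := d13_1 D2081 (iv D2081) (iv D1618) F4573 D1618
theorem F7475 : act 7 n2081 = n2081 := d21_2 F5891 D2081 (iv D2081)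
def n2082 : Q := act 0 n1619
theorem D2082 : act 0 n1619 = n2082 := rfl
theorem F7476 : act 1 n2082 = n1633 := d0_2 D1619 D2082 (iv D1633) (iv D1256) (iv F4576)
theorem F7477 : act 2 n2082 = n2082 := d1_2 F5892 D2082 (iv D2082)
theorem F7478 : act 5 n2082 = n2082 := d4_2 F5893 D2082 (iv D2082)
theorem F7479 : act 7 n2082 = n2082 := d6_2 F5894 D2082 (iv D2082)
def n2083 : Q := act 3 n1619
theorem D2083 : act 3 n1619 = n2083 := rfl
theorem F7480 : act 1 n2083 = n1620 := d8_1 D2083 (iv D1620) D1619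
theorem F7481 : act 5 n2083 = n2083 := d19_2 F5893 D2083 (iv D2083)
theorem F7482 : act 7 n2083 = n2083 := d21_2 F5894 D2083 (iv D2083)
def n2084 : Q := act 4 n1620
theorem D2084 : act 4 n1620 = n2084 := rfl
theorem F7483 : act 0 n2084 = n1635 := d3_1 D2084 (iv D1635) (iv F5895)
theorem F7484 : act 2 n2084 = n1622 := d14_1 D2084 (iv D1622) (iv F5896)
theorem F7485 : act 7 n2084 = n2084 := d24_2 F5898 D2084 (iv D2084)
def n2085 : Q := act 2 n1621
theorem D2085 : act 2 n1621 = n2085 := rfl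
theorem F7486 : act 0 n2085 = n2085 := d1_1 D2085 (iv D2085) F5899
theorem F7487 : act 3 n2085 = n2085 := d13_2 D1621 D2085 (iv D2085) (iv D1621) F4580
theorem F7488 : act 5 n2085 = n2085 := d15_2 F5901 D2085 (iv D2085)
theorem F7489 : act 7 n2085 = n2085 := d17_2 F5903 D2085 (iv D2085)
def n2086 : Q := act 4 n1621
theorem D2086 : act 4 n1621 = n2086 := rfl
theorem F7490 : act 0 n2086 = n2086 := d3_1 D2086 (iv D2086) F5899
theorem F7491 : act 1 n2086 = n1622 := d9_1 D2086 (iv D1622) (iv F5900)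
theorem F7492 : act 3 n2086 = n2086 := d18_1 D2086 (iv D2086) (iv D1621) F4581 D1621
theorem F7493 : act 6 n2086 = n2086 := d23_2 F5902 D2086 (iv D2086)
theorem F7494 : act 7 n2086 = n2086 := d24_2 F5903 D2086 (iv D2086)
def n2087 : Q := act 5 n1622
theorem D2087 : act 5 n1622 = n2087 := rfl
theorem F7495 : act 0 n2087 = n1636 := d4_1 D2087 (iv D1636) (iv F5904)
theorem F7496 : act 3 n2087 = n2087 := d19_1 D2087 (iv D2087) F5905
theorem F7497 : act 4 n2087 = n2087 := d22_1 D2087 (iv D2087) (iv D1622) F4586 D1622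
theorem F7498 : act 6 n2087 = n2087 := d25_2 F5906 D2087 (iv D2087)
theorem F7499 : act 7 n2087 = n2087 := d26_2 F5907 D2087 (iv D2087)
def n2088 : Q := act 2 n1623
theorem D2088 : act 2 n1623 = n2088 := rfl
theorem F7500 : act 4 n2088 = n2088 := d14_2 F5910 D2088 (iv D2088)
theorem F7501 : act 6 n2088 = n2088 := d16_2 D1623 D2088 (iv D2088) (iv D1623) F4590
def n2089 : Q := act 2 n1624
theorem D2089 : act 2 n1624 = n2089 := rfl
theorem F7502 : act 4 n2089 = n2089 := d14_2 F5912 D2089 (iv D2089)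
theorem F7503 : act 5 n2089 = n1626 := d15_2 (iv F5913) D2089 (iv D1626)
theorem F7504 : act 6 n2089 = n1630 := d16_2 D1624 D2089 (iv D1630) (iv D1254) (iv F4594)
def n2090 : Q := act 2 n1625
theorem D2090 : act 2 n1625 = n2090 := rfl
theorem F7505 : act 4 n2090 = n1627 := d14_2 (iv F5915) D2090 (iv D1627)
theorem F7506 : act 6 n2090 = n2090 := d16_2 D1625 D2090 (iv D2090) (iv D1625) F4598
theorem F7507 : act 7 n2090 = n1626 := d17_2 (iv F5916) D2090 (iv D1626)
def n2091 : Q := act 1 n1626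
theorem D2091 : act 1 n1626 = n2091 := rfl
theorem F7508 : act 2 n2091 = n1670 := d7_2 D1626 D2091 (iv D1670) (iv D1288) (iv F4600)
theorem F7509 : act 4 n2091 = n1628 := d9_2 (iv F5917) D2091 (iv D1628)
theorem F7510 : act 6 n2091 = n1631 := d11_2 (iv F5918) D2091 (iv D1631)
def n2092 : Q := act 3 n1626
theorem D2092 : act 3 n1626 = n2092 := rfl
theorem F7511 : act 6 n2092 = n1632 := d20_2 (iv F5918) D2092 (iv D1632)
def n2093 : Q := act 1 n1627
theorem D2093 : act 1 n1627 = n2093 := rfl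
theorem F7512 : act 2 n2093 = n1672 := d7_2 D1627 D2093 (iv D1672) (iv D1289) (iv F4602)
theorem F7513 : act 5 n2093 = n2093 := d10_2 F5919 D2093 (iv D2093)
theorem F7514 : act 6 n2093 = n2093 := d11_2 F5920 D2093 (iv D2093)
theorem F7515 : act 7 n2093 = n1628 := d12_2 (iv F5921) D2093 (iv D1628)
def n2094 : Q := act 3 n1627
theorem D2094 : act 3 n1627 = n2094 := rfl
theorem F7516 : act 2 n2094 = n2094 := d13_1 D2094 (iv D2094) (iv D1627) F4603 D1627
theorem F7517 : act 5 n2094 = n2094 := d19_2 F5919 D2094 (iv D2094)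
theorem F7518 : act 6 n2094 = n2094 := d20_2 F5920 D2094 (iv D2094)
theorem F7519 : act 7 n2094 = n1629 := d21_2 (iv F5921) D2094 (iv D1629)
def n2095 : Q := act 0 n1628
theorem D2095 : act 0 n1628 = n2095 := rfl
theorem F7520 : act 2 n2095 = n1674 := d1_2 (iv F5922) D2095 (iv D1674)
theorem F7521 : act 5 n2095 = n2095 := d4_2 F5923 D2095 (iv D2095)
theorem F7522 : act 6 n2095 = n1633 := d5_2 (iv F5924) D2095 (iv D1633)
def n2096 : Q := act 3 n1628
theorem D2096 : act 3 n1628 = n2096 := rfl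
theorem F7523 : act 1 n2096 = n1629 := d8_1 D2096 (iv D1629) D1628
theorem F7524 : act 5 n2096 = n2096 := d19_2 F5923 D2096 (iv D2096)
theorem F7525 : act 6 n2096 = n1634 := d20_2 (iv F5924) D2096 (iv D1634)
def n2097 : Q := act 4 n1629
theorem D2097 : act 4 n1629 = n2097 := rfl
theorem F7526 : act 2 n2097 = n2097 := d14_1 D2097 (iv D2097) F5925
theorem F7527 : act 6 n2097 = n1635 := d23_2 (iv F5927) D2097 (iv D1635)
def n2098 : Q := act 1 n1630
theorem D2098 : act 1 n1630 = n2098 := rfl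
theorem F7528 : act 2 n2098 = n1637 := d7_2 D1630 D2098 (iv D1637) (iv D1259) (iv F4608)
theorem F7529 : act 4 n2098 = n2098 := d9_2 F5928 D2098 (iv D2098)
theorem F7530 : act 5 n2098 = n1631 := d10_2 (iv F5929) D2098 (iv D1631)
theorem F7531 : act 7 n2098 = n2098 := d12_2 F5930 D2098 (iv D2098)
def n2099 : Q := act 3 n1630
theorem D2099 : act 3 n1630 = n2099 := rfl
theorem F7532 : act 2 n2099 = n2099 := d13_1 D2099 (iv D2099) (iv D1630) F4609 D1630
theorem F7533 : act 5 n2099 = n1632 := d19_2 (iv F5929) D2099 (iv D1632)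
theorem F7534 : act 7 n2099 = n2099 := d21_2 F5930 D2099 (iv D2099)
def n2100 : Q := act 0 n1631
theorem D2100 : act 0 n1631 = n2100 := rfl
theorem F7535 : act 2 n2100 = n1639 := d1_2 (iv F5931) D2100 (iv D1639)
theorem F7536 : act 4 n2100 = n1633 := d3_2 (iv F5932) D2100 (iv D1633)
theorem F7537 : act 7 n2100 = n2100 := d6_2 F5933 D2100 (iv D2100)
def n2101 : Q := act 3 n1631
theorem D2101 : act 3 n1631 = n2101 := rfl
theorem F7538 : act 1 n2101 = n1632 := d8_1 D2101 (iv D1632) D1631
theorem F7539 : act 7 n2101 = n2101 := d21_2 F5933 D2101 (iv D2101)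
def n2102 : Q := act 4 n1632
theorem D2102 : act 4 n1632 = n2102 := rfl
theorem F7540 : act 2 n2102 = n2102 := d14_1 D2102 (iv D2102) F5934
theorem F7541 : act 3 n2102 = n1635 := d18_1 D2102 (iv D1635) (iv D1257) (iv F4613) D1632
theorem F7542 : act 7 n2102 = n2102 := d24_2 F5935 D2102 (iv D2102)
def n2103 : Q := act 3 n1633
theorem D2103 : act 3 n1633 = n2103 := rfl
theorem F7543 : act 0 n2103 = n1634 := d2_1 D2103 (iv D1634) D1633
theorem F7544 : act 2 n2103 = n2103 := d13_1 D2103 (iv D2103) F5936 F4639 (iv F5936)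
theorem F7545 : act 5 n2103 = n2103 := d19_2 F5937 D2103 (iv D2103)
theorem F7546 : act 7 n2103 = n2103 := d21_2 F5938 D2103 (iv D2103)
def n2104 : Q := act 4 n1634
theorem D2104 : act 4 n1634 = n2104 := rfl
theorem F7547 : act 1 n2104 = n1635 := d9_1 D2104 (iv D1635) (iv F5939)
theorem F7548 : act 2 n2104 = n2104 := d14_1 D2104 (iv D2104) F5940
theorem F7549 : act 7 n2104 = n2104 := d24_2 F5942 D2104 (iv D2104)
def n2105 : Q := act 5 n1635
theorem D2105 : act 5 n1635 = n2105 := rfl
theorem F7550 : act 2 n2105 = n1636 := d15_1 D2105 (iv D1636) (iv F5943)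
theorem F7551 : act 4 n2105 = n2105 := d22_1 D2105 (iv D2105) (iv D1635) F4619 D1635
theorem F7552 : act 7 n2105 = n2105 := d26_2 F5944 D2105 (iv D2105)
def n2106 : Q := act 0 n1637
theorem D2106 : act 0 n1637 = n2106 := rfl
theorem F7553 : act 1 n2106 = n2106 := d0_2 D1637 D2106 (iv D2106) (iv D1637) F4625
theorem F7554 : act 4 n2106 = n2106 := d3_2 F5950 D2106 (iv D2106)
theorem F7555 : act 5 n2106 = n1639 := d4_2 (iv F5951) D2106 (iv D1639)
theorem F7556 : act 6 n2106 = n1685 := d5_2 (iv F5952) D2106 (iv D1685)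
theorem F7557 : act 7 n2106 = n2106 := d6_2 F5953 D2106 (iv D2106)
def n2107 : Q := act 3 n1637
theorem D2107 : act 3 n1637 = n2107 := rfl
theorem F7558 : act 1 n2107 = n1638 := d8_1 D2107 (iv D1638) D1637
theorem F7559 : act 5 n2107 = n1640 := d19_2 (iv F5951) D2107 (iv D1640)
theorem F7560 : act 6 n2107 = n1686 := d20_2 (iv F5952) D2107 (iv D1686)
theorem F7561 : act 7 n2107 = n2107 := d21_2 F5953 D2107 (iv D2107)
def n2108 : Q := act 4 n1638
theorem D2108 : act 4 n1638 = n2108 := rfl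
theorem F7562 : act 0 n2108 = n2108 := d3_1 D2108 (iv D2108) F5954
theorem F7563 : act 2 n2108 = n2108 := d14_1 D2108 (iv D2108) F5955
theorem F7564 : act 3 n2108 = n2108 := d18_1 D2108 (iv D2108) (iv D1638) F4626 D1638
theorem F7565 : act 5 n2108 = n2108 := d22_2 (iv F5956) D2108 (iv D2108) F5956 F4635
theorem F7566 : act 6 n2108 = n1687 := d23_2 (iv F5957) D2108 (iv D1687)
theorem F7567 : act 7 n2108 = n2108 := d24_2 F5958 D2108 (iv D2108)
def n2109 : Q := act 3 n1639
theorem D2109 : act 3 n1639 = n2109 := rfl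
theorem F7568 : act 0 n2109 = n1640 := d2_1 D2109 (iv D1640) D1639
theorem F7569 : act 1 n2109 = n2109 := d8_1 D2109 (iv D2109) F5959
theorem F7570 : act 4 n2109 = n2109 := d18_2 (iv F5960) D2109 (iv D2109) F5960 F4639
theorem F7571 : act 6 n2109 = n1688 := d20_2 (iv F5961) D2109 (iv D1688)
theorem F7572 : act 7 n2109 = n2109 := d21_2 F5962 D2109 (iv D2109)
def n2110 : Q := act 2 n1640
theorem D2110 : act 2 n1640 = n2110 := rfl
theorem F7573 : act 1 n2110 = n2110 := d7_1 D2110 (iv D2110) F5963 F4634 (iv F5963)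
theorem F7574 : act 4 n2110 = n2110 := d14_2 F5964 D2110 (iv D2110)
theorem F7575 : act 7 n2110 = n2110 := d17_2 F5966 D2110 (iv D2110)
def n2111 : Q := act 6 n1641
theorem D2111 : act 6 n1641 = n2111 := rfl
theorem F7576 : act 0 n2111 = n1667 := d5_1 D2111 (iv D1667) (iv F5967)
theorem F7577 : act 1 n2111 = n1648 := d11_1 D2111 (iv D1648) (iv F5968)
theorem F7578 : act 3 n2111 = n1644 := d20_1 D2111 (iv D1644) (iv F5970)
theorem F7579 : act 4 n2111 = n2111 := d23_1 D2111 (iv D2111) F5971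
theorem F7580 : act 5 n2111 = n1650 := d25_1 D2111 (iv D1650) (iv F5972)
theorem F7581 : act 7 n2111 = n1649 := d27_2 D1641 D2111 (iv D1649) (iv D1271) (iv F4648)
def n2112 : Q := act 6 n1642
theorem D2112 : act 6 n1642 = n2112 := rfl
theorem F7582 : act 0 n2112 = n1665 := d5_1 D2112 (iv D1665) (iv F5973)
theorem F7583 : act 1 n2112 = n1649 := d11_1 D2112 (iv D1649) (iv F5974)
theorem F7584 : act 3 n2112 = n1650 := d20_1 D2112 (iv D1650) (iv F5976)
theorem F7585 : act 4 n2112 = n2112 := d23_1 D2112 (iv D2112) F5977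
theorem F7586 : act 5 n2112 = n1644 := d25_1 D2112 (iv D1644) (iv F5978)
theorem F7587 : act 7 n2112 = n1648 := d27_2 D1642 D2112 (iv D1648) (iv D1270) F4654
def n2113 : Q := act 6 n1643
theorem D2113 : act 6 n1643 = n2113 := rfl
theorem F7588 : act 0 n2113 = n1664 := d5_1 D2113 (iv D1664) (iv F5979)
theorem F7589 : act 1 n2113 = n1650 := d11_1 D2113 (iv D1650) (iv F5980)
theorem F7590 : act 3 n2113 = n1649 := d20_1 D2113 (iv D1649) (iv F5982)
theorem F7591 : act 4 n2113 = n1646 := d23_1 D2113 (iv D1646) (iv F5983)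
theorem F7592 : act 5 n2113 = n1648 := d25_1 D2113 (iv D1648) (iv F5984)
theorem F7593 : act 7 n2113 = n1644 := d27_2 D1643 D2113 (iv D1644) (iv D1266) D1265
def n2114 : Q := act 2 n1644
theorem D2114 : act 2 n1644 = n2114 := rfl
theorem F7594 : act 4 n2114 = n1647 := d14_2 (iv F5986) D2114 (iv D1647)
theorem F7595 : act 6 n2114 = n2114 := d16_2 D1644 D2114 (iv D2114) (iv D1644) F4662
def n2115 : Q := act 6 n1645
theorem D2115 : act 6 n1645 = n2115 := rfl
theorem F7596 : act 0 n2115 = n1717 := d5_1 D2115 (iv D1717) (iv F5987)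
theorem F7597 : act 1 n2115 = n1822 := d11_1 D2115 (iv D1822) (iv F5988)
theorem F7598 : act 3 n2115 = n1756 := d20_1 D2115 (iv D1756) (iv F5990)
theorem F7599 : act 4 n2115 = n1697 := d23_1 D2115 (iv D1697) (iv F5991)
theorem F7600 : act 5 n2115 = n2115 := d25_1 D2115 (iv D2115) F5992
theorem F7601 : act 7 n2115 = n2115 := d27_2 D1645 D2115 (iv D2115) (iv D1645) F4668
def n2116 : Q := act 2 n1646
theorem D2116 : act 2 n1646 = n2116 := rfl
theorem F7602 : act 5 n2116 = n2116 := d15_2 F5995 D2116 (iv D2116)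
theorem F7603 : act 7 n2116 = n1647 := d17_2 (iv F5996) D2116 (iv D1647)
def n2117 : Q := act 1 n1647
theorem D2117 : act 1 n1647 = n2117 := rfl
theorem F7604 : act 2 n2117 = n1653 := d7_2 D1647 D2117 (iv D1653) (iv D1275) (iv F4673)
theorem F7605 : act 5 n2117 = n2117 := d10_2 F5997 D2117 (iv D2117)
theorem F7606 : act 6 n2117 = n2117 := d11_2 F5998 D2117 (iv D2117)
def n2118 : Q := act 3 n1647
theorem D2118 : act 3 n1647 = n2118 := rfl
theorem F7607 : act 2 n2118 = n2118 := d13_1 D2118 (iv D2118) (iv D1647) F4674 D1647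
theorem F7608 : act 5 n2118 = n2118 := d19_2 F5997 D2118 (iv D2118)
theorem F7609 : act 6 n2118 = n2118 := d20_2 F5998 D2118 (iv D2118)
def n2119 : Q := act 2 n1648
theorem D2119 : act 2 n1648 = n2119 := rfl
theorem F7610 : act 0 n2119 = n1666 := d1_1 D2119 (iv D1666) (iv F5999)
theorem F7611 : act 4 n2119 = n2119 := d14_2 F6001 D2119 (iv D2119)
theorem F7612 : act 6 n2119 = n1698 := d16_2 D1648 D2119 (iv D1698) (iv D1310) (iv F4677)
def n2120 : Q := act 2 n1649
theorem D2120 : act 2 n1649 = n2120 := rfl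
theorem F7613 : act 0 n2120 = n1668 := d1_1 D2120 (iv D1668) (iv F6002)
theorem F7614 : act 4 n2120 = n2120 := d14_2 F6003 D2120 (iv D2120)
theorem F7615 : act 5 n2120 = n1651 := d15_2 (iv F6004) D2120 (iv D1651)
theorem F7616 : act 6 n2120 = n1655 := d16_2 D1649 D2120 (iv D1655) (iv D1276) (iv F4681)
def n2121 : Q := act 2 n1650
theorem D2121 : act 2 n1650 = n2121 := rfl
theorem F7617 : act 0 n2121 = n1669 := d1_1 D2121 (iv D1669) (iv F6005)
theorem F7618 : act 4 n2121 = n1652 := d14_2 (iv F6006) D2121 (iv D1652)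
theorem F7619 : act 6 n2121 = n1828 := d16_2 D1650 D2121 (iv D1828) (iv D1412) (iv F4685)
theorem F7620 : act 7 n2121 = n1651 := d17_2 (iv F6007) D2121 (iv D1651)
def n2122 : Q := act 1 n1651
theorem D2122 : act 1 n1651 = n2122 := rfl
theorem F7621 : act 4 n2122 = n1653 := d9_2 (iv F6009) D2122 (iv D1653)
theorem F7622 : act 6 n2122 = n1656 := d11_2 (iv F6010) D2122 (iv D1656)
def n2123 : Q := act 3 n1651
theorem D2123 : act 3 n1651 = n2123 := rfl
theorem F7623 : act 0 n2123 = n1671 := d2_1 D2123 (iv D1671) (iv F6008)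
theorem F7624 : act 6 n2123 = n1657 := d20_2 (iv F6010) D2123 (iv D1657)
def n2124 : Q := act 1 n1652
theorem D2124 : act 1 n1652 = n2124 := rfl
theorem F7625 : act 5 n2124 = n2124 := d10_2 F6012 D2124 (iv D2124)
theorem F7626 : act 6 n2124 = n1831 := d11_2 (iv F6013) D2124 (iv D1831)
theorem F7627 : act 7 n2124 = n1653 := d12_2 (iv F6014) D2124 (iv D1653)
def n2125 : Q := act 3 n1652
theorem D2125 : act 3 n1652 = n2125 := rfl
theorem F7628 : act 0 n2125 = n1673 := d2_1 D2125 (iv D1673) (iv F6011)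
theorem F7629 : act 2 n2125 = n2125 := d13_1 D2125 (iv D2125) (iv D1652) F4690 D1652
theorem F7630 : act 5 n2125 = n2125 := d19_2 F6012 D2125 (iv D2125)
theorem F7631 : act 6 n2125 = n1832 := d20_2 (iv F6013) D2125 (iv D1832)
theorem F7632 : act 7 n2125 = n1654 := d21_2 (iv F6014) D2125 (iv D1654)
def n2126 : Q := act 0 n1653
theorem D2126 : act 0 n1653 = n2126 := rfl
theorem F7633 : act 1 n2126 = n1674 := d0_2 D1653 D2126 (iv D1674) (iv D1290) (iv F4693)
theorem F7634 : act 5 n2126 = n2126 := d4_2 F6015 D2126 (iv D2126)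
theorem F7635 : act 6 n2126 = n1658 := d5_2 (iv F6016) D2126 (iv D1658)
def n2127 : Q := act 3 n1653
theorem D2127 : act 3 n1653 = n2127 := rfl
theorem F7636 : act 1 n2127 = n1654 := d8_1 D2127 (iv D1654) D1653
theorem F7637 : act 5 n2127 = n2127 := d19_2 F6015 D2127 (iv D2127)
theorem F7638 : act 6 n2127 = n1659 := d20_2 (iv F6016) D2127 (iv D1659)
def n2128 : Q := act 4 n1654
theorem D2128 : act 4 n1654 = n2128 := rfl
theorem F7639 : act 0 n2128 = n1676 := d3_1 D2128 (iv D1676) (iv F6017)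
theorem F7640 : act 2 n2128 = n2128 := d14_1 D2128 (iv D2128) F6018
theorem F7641 : act 6 n2128 = n1660 := d23_2 (iv F6020) D2128 (iv D1660)
def n2129 : Q := act 1 n1655
theorem D2129 : act 1 n1655 = n2129 := rfl
theorem F7642 : act 2 n2129 = n2129 := d7_2 D1655 D2129 (iv D2129) (iv D1655) F4697
theorem F7643 : act 4 n2129 = n2129 := d9_2 F6022 D2129 (iv D2129)
theorem F7644 : act 5 n2129 = n1656 := d10_2 (iv F6023) D2129 (iv D1656)
theorem F7645 : act 7 n2129 = n1836 := d12_2 (iv F6024) D2129 (iv D1836)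
def n2130 : Q := act 3 n1655
theorem D2130 : act 3 n1655 = n2130 := rfl
theorem F7646 : act 0 n2130 = n1678 := d2_1 D2130 (iv D1678) (iv F6021)
theorem F7647 : act 2 n2130 = n1706 := d13_1 D2130 (iv D1706) (iv D1315) (iv F4698) D1655
theorem F7648 : act 5 n2130 = n1657 := d19_2 (iv F6023) D2130 (iv D1657)
theorem F7649 : act 7 n2130 = n1837 := d21_2 (iv F6024) D2130 (iv D1837)
def n2131 : Q := act 0 n1656
theorem D2131 : act 0 n1656 = n2131 := rfl
theorem F7650 : act 1 n2131 = n1679 := d0_2 D1656 D2131 (iv D1679) (iv D1293) (iv F4702)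
theorem F7651 : act 2 n2131 = n2131 := d1_2 F6025 D2131 (iv D2131)
theorem F7652 : act 4 n2131 = n1658 := d3_2 (iv F6026) D2131 (iv D1658)
theorem F7653 : act 7 n2131 = n1838 := d6_2 (iv F6027) D2131 (iv D1838)
def n2132 : Q := act 3 n1656
theorem D2132 : act 3 n1656 = n2132 := rfl
theorem F7654 : act 1 n2132 = n1657 := d8_1 D2132 (iv D1657) D1656
theorem F7655 : act 7 n2132 = n1839 := d21_2 (iv F6027) D2132 (iv D1839)
def n2133 : Q := act 4 n1657
theorem D2133 : act 4 n1657 = n2133 := rfl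
theorem F7656 : act 0 n2133 = n1681 := d3_1 D2133 (iv D1681) (iv F6028)
theorem F7657 : act 2 n2133 = n1709 := d14_1 D2133 (iv D1709) (iv F6029)
theorem F7658 : act 3 n2133 = n1660 := d18_1 D2133 (iv D1660) (iv D1279) (iv F4703) D1657
theorem F7659 : act 7 n2133 = n1840 := d24_2 (iv F6030) D2133 (iv D1840)
def n2134 : Q := act 3 n1658
theorem D2134 : act 3 n1658 = n2134 := rfl
theorem F7660 : act 0 n2134 = n1659 := d2_1 D2134 (iv D1659) D1658
theorem F7661 : act 1 n2134 = n1682 := d8_1 D2134 (iv D1682) (iv F6031)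
theorem F7662 : act 5 n2134 = n2134 := d19_2 F6033 D2134 (iv D2134)
theorem F7663 : act 7 n2134 = n1841 := d21_2 (iv F6034) D2134 (iv D1841)
def n2135 : Q := act 2 n1659
theorem D2135 : act 2 n1659 = n2135 := rfl
theorem F7664 : act 1 n2135 = n1661 := d7_1 D2135 (iv D1661) F4713 (iv F4709) (iv F6035)
theorem F7665 : act 3 n2135 = n2135 := d13_2 D1659 D2135 (iv D2135) (iv D1659) F4705
theorem F7666 : act 5 n2135 = n2135 := d15_2 F6036 D2135 (iv D2135)
theorem F7667 : act 7 n2135 = n1842 := d17_2 (iv F6037) D2135 (iv D1842)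
def n2136 : Q := act 4 n1659
theorem D2136 : act 4 n1659 = n2136 := rfl
theorem F7668 : act 1 n2136 = n1660 := d9_1 D2136 (iv D1660) (iv F6035)
theorem F7669 : act 7 n2136 = n1843 := d24_2 (iv F6037) D2136 (iv D1843)
def n2137 : Q := act 5 n1660
theorem D2137 : act 5 n1660 = n2137 := rfl
theorem F7671 : act 2 n2137 = n1663 := d15_1 D2137 (iv D1663) (iv F6039)
def n2138 : Q := act 4 n1661
theorem D2138 : act 4 n1661 = n2138 := rfl
theorem F7675 : act 2 n2138 = n1662 := d14_1 D2138 (iv D1662) D1661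
def n2139 : Q := act 6 n1661
theorem D2139 : act 6 n1661 = n2139 := rfl
def n2140 : Q := act 5 n1662
theorem D2140 : act 5 n1662 = n2140 := rfl
theorem F7683 : act 3 n2140 = n1716 := d19_1 D2140 (iv D1716) (iv F6047)
def n2141 : Q := act 2 n1664
theorem D2141 : act 2 n1664 = n2141 := rfl
theorem F7687 : act 5 n2141 = n1666 := d15_2 (iv F6056) D2141 (iv D1666)
theorem F7688 : act 6 n2141 = n1718 := d16_2 D1664 D2141 (iv D1718) (iv D1325) (iv F4721)
def n2142 : Q := act 2 n1665
theorem D2142 : act 2 n1665 = n2142 := rfl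
theorem F7689 : act 4 n2142 = n2142 := d14_2 F6058 D2142 (iv D2142)
theorem F7690 : act 6 n2142 = n2142 := d16_2 D1665 D2142 (iv D2142) (iv D1665) F4724
theorem F7691 : act 7 n2142 = n1666 := d17_2 (iv F6059) D2142 (iv D1666)
def n2143 : Q := act 1 n1666
theorem D2143 : act 1 n1666 = n2143 := rfl
theorem F7692 : act 4 n2143 = n2143 := d9_2 F6060 D2143 (iv D2143)
theorem F7693 : act 6 n2143 = n1719 := d11_2 (iv F6061) D2143 (iv D1719)
def n2144 : Q := act 3 n1666
theorem D2144 : act 3 n1666 = n2144 := rfl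
theorem F7694 : act 2 n2144 = n1671 := d13_1 D2144 (iv D1671) (iv D1288) (iv F4727) D1666
theorem F7695 : act 6 n2144 = n1720 := d20_2 (iv F6061) D2144 (iv D1720)
def n2145 : Q := act 2 n1667
theorem D2145 : act 2 n1667 = n2145 := rfl
theorem F7696 : act 4 n2145 = n2145 := d14_2 F6062 D2145 (iv D2145)
theorem F7697 : act 5 n2145 = n1669 := d15_2 (iv F6063) D2145 (iv D1669)
theorem F7698 : act 6 n2145 = n1848 := d16_2 D1667 D2145 (iv D1848) (iv D1426) (iv F4729)
theorem F7699 : act 7 n2145 = n1668 := d17_2 (iv F6064) D2145 (iv D1668)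
def n2146 : Q := act 1 n1668
theorem D2146 : act 1 n1668 = n2146 := rfl
theorem F7700 : act 4 n2146 = n2146 := d9_2 F6065 D2146 (iv D2146)
theorem F7701 : act 5 n2146 = n1670 := d10_2 (iv F6066) D2146 (iv D1670)
theorem F7702 : act 6 n2146 = n1677 := d11_2 (iv F6067) D2146 (iv D1677)
def n2147 : Q := act 3 n1668
theorem D2147 : act 3 n1668 = n2147 := rfl
theorem F7703 : act 5 n2147 = n1671 := d19_2 (iv F6066) D2147 (iv D1671)
theorem F7704 : act 6 n2147 = n1678 := d20_2 (iv F6067) D2147 (iv D1678)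
def n2148 : Q := act 1 n1669
theorem D2148 : act 1 n1669 = n2148 := rfl
theorem F7705 : act 4 n2148 = n1672 := d9_2 (iv F6068) D2148 (iv D1672)
theorem F7706 : act 6 n2148 = n1851 := d11_2 (iv F6069) D2148 (iv D1851)
theorem F7707 : act 7 n2148 = n1670 := d12_2 (iv F6070) D2148 (iv D1670)
def n2149 : Q := act 3 n1669
theorem D2149 : act 3 n1669 = n2149 := rfl
theorem F7708 : act 6 n2149 = n1852 := d20_2 (iv F6069) D2149 (iv D1852)
theorem F7709 : act 7 n2149 = n1671 := d21_2 (iv F6070) D2149 (iv D1671)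
def n2150 : Q := act 0 n1670
theorem D2150 : act 0 n1670 = n2150 := rfl
theorem F7710 : act 4 n2150 = n1674 := d3_2 (iv F6071) D2150 (iv D1674)
theorem F7711 : act 6 n2150 = n1679 := d5_2 (iv F6072) D2150 (iv D1679)
def n2151 : Q := act 3 n1670
theorem D2151 : act 3 n1670 = n2151 := rfl
theorem F7712 : act 1 n2151 = n1671 := d8_1 D2151 (iv D1671) D1670
theorem F7713 : act 6 n2151 = n1680 := d20_2 (iv F6072) D2151 (iv D1680)
def n2152 : Q := act 4 n1671
theorem D2152 : act 4 n1671 = n2152 := rfl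
theorem F7714 : act 3 n2152 = n1676 := d18_1 D2152 (iv D1676) (iv D1291) (iv F4736) D1671
theorem F7715 : act 6 n2152 = n1681 := d23_2 (iv F6073) D2152 (iv D1681)
def n2153 : Q := act 0 n1672
theorem D2153 : act 0 n1672 = n2153 := rfl
theorem F7716 : act 5 n2153 = n2153 := d4_2 F6074 D2153 (iv D2153)
theorem F7717 : act 6 n2153 = n1856 := d5_2 (iv F6075) D2153 (iv D1856)
theorem F7718 : act 7 n2153 = n1674 := d6_2 (iv F6076) D2153 (iv D1674)
def n2154 : Q := act 3 n1672
theorem D2154 : act 3 n1672 = n2154 := rfl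
theorem F7719 : act 1 n2154 = n1673 := d8_1 D2154 (iv D1673) D1672
theorem F7720 : act 5 n2154 = n2154 := d19_2 F6074 D2154 (iv D2154)
theorem F7721 : act 6 n2154 = n1857 := d20_2 (iv F6075) D2154 (iv D1857)
theorem F7722 : act 7 n2154 = n1675 := d21_2 (iv F6076) D2154 (iv D1675)
def n2155 : Q := act 4 n1673
theorem D2155 : act 4 n1673 = n2155 := rfl
theorem F7723 : act 2 n2155 = n2155 := d14_1 D2155 (iv D2155) F6077
theorem F7724 : act 6 n2155 = n1858 := d23_2 (iv F6079) D2155 (iv D1858)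
theorem F7725 : act 7 n2155 = n1676 := d24_2 (iv F6080) D2155 (iv D1676)
def n2156 : Q := act 3 n1674
theorem D2156 : act 3 n1674 = n2156 := rfl
theorem F7726 : act 0 n2156 = n1675 := d2_1 D2156 (iv D1675) D1674
theorem F7727 : act 5 n2156 = n2156 := d19_2 F6081 D2156 (iv D2156)
theorem F7728 : act 6 n2156 = n1682 := d20_2 (iv F6082) D2156 (iv D1682)
def n2157 : Q := act 2 n1675
theorem D2157 : act 2 n1675 = n2157 := rfl
theorem F7729 : act 1 n2157 = n2157 := d7_1 D2157 (iv D2157) F6083 F4743 (iv F6083)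
theorem F7730 : act 5 n2157 = n2157 := d15_2 F6084 D2157 (iv D2157)
theorem F7731 : act 6 n2157 = n2157 := d16_2 (iv F6085) D2157 (iv D2157) F6085 F4758
def n2158 : Q := act 4 n1675
theorem D2158 : act 4 n1675 = n2158 := rfl
theorem F7732 : act 1 n2158 = n1676 := d9_1 D2158 (iv D1676) (iv F6083)
theorem F7733 : act 6 n2158 = n1683 := d23_2 (iv F6085) D2158 (iv D1683)
def n2159 : Q := act 5 n1676
theorem D2159 : act 5 n1676 = n2159 := rfl
theorem F7734 : act 2 n2159 = n2159 := d15_1 D2159 (iv D2159) F6086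
theorem F7735 : act 4 n2159 = n2159 := d22_1 D2159 (iv D2159) (iv D1676) F4744 D1676
theorem F7736 : act 6 n2159 = n1684 := d25_2 (iv F6087) D2159 (iv D1684)
def n2160 : Q := act 0 n1677
theorem D2160 : act 0 n1677 = n2160 := rfl
theorem F7737 : act 2 n2160 = n1685 := d1_2 (iv F6088) D2160 (iv D1685)
theorem F7738 : act 4 n2160 = n2160 := d3_2 F6089 D2160 (iv D2160)
theorem F7739 : act 5 n2160 = n1679 := d4_2 (iv F6090) D2160 (iv D1679)
theorem F7740 : act 7 n2160 = n1863 := d6_2 (iv F6091) D2160 (iv D1863)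
def n2161 : Q := act 3 n1677
theorem D2161 : act 3 n1677 = n2161 := rfl
theorem F7741 : act 1 n2161 = n1678 := d8_1 D2161 (iv D1678) D1677
theorem F7742 : act 5 n2161 = n1680 := d19_2 (iv F6090) D2161 (iv D1680)
theorem F7743 : act 7 n2161 = n1864 := d21_2 (iv F6091) D2161 (iv D1864)
def n2162 : Q := act 4 n1678
theorem D2162 : act 4 n1678 = n2162 := rfl
theorem F7744 : act 2 n2162 = n1732 := d14_1 D2162 (iv D1732) (iv F6092)
theorem F7745 : act 3 n2162 = n2162 := d18_1 D2162 (iv D2162) (iv D1678) F4746 D1678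
theorem F7746 : act 7 n2162 = n1865 := d24_2 (iv F6094) D2162 (iv D1865)
def n2163 : Q := act 3 n1679
theorem D2163 : act 3 n1679 = n2163 := rfl
theorem F7747 : act 0 n2163 = n1680 := d2_1 D2163 (iv D1680) D1679
theorem F7748 : act 7 n2163 = n1866 := d21_2 (iv F6097) D2163 (iv D1866)
def n2164 : Q := act 2 n1680
theorem D2164 : act 2 n1680 = n2164 := rfl
theorem F7749 : act 1 n2164 = n1734 := d7_1 D2164 (iv D1734) F4904 (iv F4752) (iv F6098)
theorem F7750 : act 3 n2164 = n1689 := d13_2 D1680 D2164 (iv D1689) (iv D1302) (iv F4749)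
theorem F7751 : act 7 n2164 = n1867 := d17_2 (iv F6099) D2164 (iv D1867)
def n2165 : Q := act 4 n1680
theorem D2165 : act 4 n1680 = n2165 := rfl
theorem F7752 : act 1 n2165 = n1681 := d9_1 D2165 (iv D1681) (iv F6098)
theorem F7753 : act 3 n2165 = n1683 := d18_1 D2165 (iv D1683) (iv D1296) (iv F4750) D1680
theorem F7754 : act 7 n2165 = n1868 := d24_2 (iv F6099) D2165 (iv D1868)
def n2166 : Q := act 5 n1681
theorem D2166 : act 5 n1681 = n2166 := rfl
theorem F7755 : act 2 n2166 = n1736 := d15_1 D2166 (iv D1736) (iv F6100)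
theorem F7756 : act 3 n2166 = n1684 := d19_1 D2166 (iv D1684) (iv F6101)
theorem F7757 : act 7 n2166 = n1869 := d26_2 (iv F6102) D2166 (iv D1869)
def n2167 : Q := act 4 n1682
theorem D2167 : act 4 n1682 = n2167 := rfl
theorem F7758 : act 0 n2167 = n1683 := d3_1 D2167 (iv D1683) (iv F6103)
theorem F7759 : act 2 n2167 = n2167 := d14_1 D2167 (iv D2167) F6104
theorem F7760 : act 7 n2167 = n1870 := d24_2 (iv F6106) D2167 (iv D1870)
def n2168 : Q := act 5 n1683
theorem D2168 : act 5 n1683 = n2168 := rfl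
theorem F7761 : act 1 n2168 = n1684 := d10_1 D2168 (iv D1684) (iv F6107)
theorem F7762 : act 2 n2168 = n2168 := d15_1 D2168 (iv D2168) F6108
theorem F7763 : act 4 n2168 = n2168 := d22_1 D2168 (iv D2168) (iv D1683) F4759 D1683
theorem F7764 : act 7 n2168 = n1871 := d26_2 (iv F6109) D2168 (iv D1871)
def n2169 : Q := act 3 n1685
theorem D2169 : act 3 n1685 = n2169 := rfl
theorem F7765 : act 0 n2169 = n1686 := d2_1 D2169 (iv D1686) D1685
theorem F7766 : act 1 n2169 = n2169 := d8_1 D2169 (iv D2169) F6113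
theorem F7767 : act 5 n2169 = n1688 := d19_2 (iv F6115) D2169 (iv D1688)
theorem F7768 : act 7 n2169 = n1872 := d21_2 (iv F6116) D2169 (iv D1872)
def n2170 : Q := act 2 n1686
theorem D2170 : act 2 n1686 = n2170 := rfl
theorem F7769 : act 1 n2170 = n1740 := d7_1 D2170 (iv D1740) F4923 (iv F4772) (iv F6117)
theorem F7770 : act 5 n2170 = n1689 := d15_2 (iv F6118) D2170 (iv D1689)
def n2171 : Q := act 4 n1686
theorem D2171 : act 4 n1686 = n2171 := rfl
theorem F7775 : act 7 n2171 = n1874 := d24_2 (iv F6119) D2171 (iv D1874)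
def n2172 : Q := act 2 n1688
theorem D2172 : act 2 n1688 = n2172 := rfl
theorem F7776 : act 0 n2172 = n1689 := d1_1 D2172 (iv D1689) (iv F6125)
theorem F7777 : act 4 n2172 = n2172 := d14_2 F6127 D2172 (iv D2172)
theorem F7778 : act 7 n2172 = n1875 := d17_2 (iv F6128) D2172 (iv D1875)
def n2173 : Q := act 6 n1689
theorem D2173 : act 6 n1689 = n2173 := rfl
theorem F7779 : act 1 n2173 = n1743 := d11_1 D2173 (iv D1743) (iv F6129)
theorem F7780 : act 4 n2173 = n2173 := d23_1 D2173 (iv D2173) F6130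
def n2174 : Q := act 6 n1690
theorem D2174 : act 6 n1690 = n2174 := rfl
theorem F7781 : act 0 n2174 = n2174 := d5_1 D2174 (iv D2174) F6132
theorem F7782 : act 1 n2174 = n1826 := d11_1 D2174 (iv D1826) (iv F6133)
theorem F7783 : act 3 n2174 = n2174 := d20_1 D2174 (iv D2174) F6135
theorem F7784 : act 4 n2174 = n2174 := d23_1 D2174 (iv D2174) F6136
theorem F7785 : act 5 n2174 = n1820 := d25_1 D2174 (iv D1820) (iv F6137)
theorem F7786 : act 7 n2174 = n1819 := d27_2 D1690 D2174 (iv D1819) (iv D1404) (iv F4786)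
def n2175 : Q := act 6 n1691
theorem D2175 : act 6 n1691 = n2175 := rfl
theorem F7787 : act 0 n2175 = n2175 := d5_1 D2175 (iv D2175) F6138
theorem F7788 : act 1 n2175 = n1697 := d11_1 D2175 (iv D1697) (iv F6139)
theorem F7789 : act 3 n2175 = n1693 := d20_1 D2175 (iv D1693) (iv F6141)
theorem F7790 : act 4 n2175 = n1822 := d23_1 D2175 (iv D1822) (iv F6142)
theorem F7791 : act 5 n2175 = n1692 := d25_1 D2175 (iv D1692) (iv F6143)
theorem F7792 : act 7 n2175 = n2175 := d27_2 D1691 D2175 (iv D2175) (iv D1691) F4791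
def n2176 : Q := act 2 n1692
theorem D2176 : act 2 n1692 = n2176 := rfl
theorem F7793 : act 0 n2176 = n2176 := d1_1 D2176 (iv D2176) F6144
theorem F7794 : act 4 n2176 = n2176 := d14_2 F6147 D2176 (iv D2176)
theorem F7795 : act 7 n2176 = n2176 := d17_2 F6148 D2176 (iv D2176)
def n2177 : Q := act 2 n1693
theorem D2177 : act 2 n1693 = n2177 := rfl
theorem F7796 : act 0 n2177 = n2177 := d1_1 D2177 (iv D2177) F6149
theorem F7797 : act 4 n2177 = n1750 := d14_2 (iv F6151) D2177 (iv D1750)
theorem F7798 : act 5 n2177 = n1694 := d15_2 (iv F6152) D2177 (iv D1694)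
theorem F7799 : act 6 n2177 = n2177 := d16_2 D1693 D2177 (iv D2177) (iv D1693) F4799
theorem F7800 : act 7 n2177 = n2177 := d17_2 F6153 D2177 (iv D2177)
def n2178 : Q := act 1 n1694
theorem D2178 : act 1 n1694 = n2178 := rfl
theorem F7801 : act 2 n2178 = n1700 := d7_2 D1694 D2178 (iv D1700) (iv D1312) (iv F4803)
theorem F7802 : act 4 n2178 = n1695 := d9_2 (iv F6155) D2178 (iv D1695)
theorem F7803 : act 6 n2178 = n2178 := d11_2 F6156 D2178 (iv D2178)
theorem F7804 : act 7 n2178 = n2178 := d12_2 F6157 D2178 (iv D2178)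
def n2179 : Q := act 3 n1694
theorem D2179 : act 3 n1694 = n2179 := rfl
theorem F7805 : act 0 n2179 = n2179 := d2_1 D2179 (iv D2179) F6154
theorem F7806 : act 6 n2179 = n2179 := d20_2 F6156 D2179 (iv D2179)
theorem F7807 : act 7 n2179 = n2179 := d21_2 F6157 D2179 (iv D2179)
def n2180 : Q := act 0 n1695
theorem D2180 : act 0 n1695 = n2180 := rfl
theorem F7808 : act 1 n2180 = n2180 := d0_2 D1695 D2180 (iv D2180) (iv D1695) F4806
theorem F7809 : act 2 n2180 = n1702 := d1_2 (iv F6158) D2180 (iv D1702)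
theorem F7810 : act 5 n2180 = n1753 := d4_2 (iv F6159) D2180 (iv D1753)
theorem F7811 : act 6 n2180 = n2180 := d5_2 F6160 D2180 (iv D2180)
theorem F7812 : act 7 n2180 = n2180 := d6_2 F6161 D2180 (iv D2180)
def n2181 : Q := act 3 n1695
theorem D2181 : act 3 n1695 = n2181 := rfl
theorem F7813 : act 1 n2181 = n1696 := d8_1 D2181 (iv D1696) D1695
theorem F7814 : act 5 n2181 = n1754 := d19_2 (iv F6159) D2181 (iv D1754)
def n2182 : Q := act 4 n1696
theorem D2182 : act 4 n1696 = n2182 := rfl
theorem F7817 : act 0 n2182 = n2182 := d3_1 D2182 (iv D2182) F6162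
theorem F7818 : act 2 n2182 = n2182 := d14_1 D2182 (iv D2182) F6163
theorem F7819 : act 6 n2182 = n2182 := d23_2 F6165 D2182 (iv D2182)
theorem F7820 : act 7 n2182 = n2182 := d24_2 F6166 D2182 (iv D2182)
def n2183 : Q := act 2 n1697
theorem D2183 : act 2 n1697 = n2183 := rfl
theorem F7821 : act 0 n2183 = n1718 := d1_1 D2183 (iv D1718) (iv F6167)
theorem F7822 : act 5 n2183 = n1698 := d15_2 (iv F6169) D2183 (iv D1698)
theorem F7823 : act 7 n2183 = n2183 := d17_2 F6170 D2183 (iv D2183)
def n2184 : Q := act 1 n1698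
theorem D2184 : act 1 n1698 = n2184 := rfl
theorem F7824 : act 4 n2184 = n2184 := d9_2 F6172 D2184 (iv D2184)
theorem F7825 : act 7 n2184 = n2184 := d12_2 F6173 D2184 (iv D2184)
def n2185 : Q := act 3 n1698
theorem D2185 : act 3 n1698 = n2185 := rfl
theorem F7826 : act 0 n2185 = n1720 := d2_1 D2185 (iv D1720) (iv F6171)
theorem F7827 : act 2 n2185 = n1701 := d13_1 D2185 (iv D1701) (iv D1312) (iv F4814) D1698
theorem F7828 : act 7 n2185 = n2185 := d21_2 F6173 D2185 (iv D2185)
def n2186 : Q := act 1 n1699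
theorem D2186 : act 1 n1699 = n2186 := rfl
theorem F7829 : act 4 n2186 = n1760 := d9_2 (iv F6175) D2186 (iv D1760)
theorem F7830 : act 5 n2186 = n1700 := d10_2 (iv F6176) D2186 (iv D1700)
theorem F7831 : act 6 n2186 = n1705 := d11_2 (iv F6177) D2186 (iv D1705)
theorem F7832 : act 7 n2186 = n2186 := d12_2 F6178 D2186 (iv D2186)
def n2187 : Q := act 3 n1699
theorem D2187 : act 3 n1699 = n2187 := rfl
theorem F7833 : act 0 n2187 = n1722 := d2_1 D2187 (iv D1722) (iv F6174)
theorem F7834 : act 5 n2187 = n1701 := d19_2 (iv F6176) D2187 (iv D1701)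
theorem F7835 : act 6 n2187 = n1706 := d20_2 (iv F6177) D2187 (iv D1706)
theorem F7836 : act 7 n2187 = n2187 := d21_2 F6178 D2187 (iv D2187)
def n2188 : Q := act 0 n1700
theorem D2188 : act 0 n1700 = n2188 := rfl
theorem F7837 : act 1 n2188 = n1723 := d0_2 D1700 D2188 (iv D1723) (iv D1328) (iv F4821)
theorem F7838 : act 4 n2188 = n1702 := d3_2 (iv F6179) D2188 (iv D1702)
theorem F7839 : act 6 n2188 = n1707 := d5_2 (iv F6180) D2188 (iv D1707)
theorem F7840 : act 7 n2188 = n2188 := d6_2 F6181 D2188 (iv D2188)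
def n2189 : Q := act 3 n1700
theorem D2189 : act 3 n1700 = n2189 := rfl
theorem F7841 : act 1 n2189 = n1701 := d8_1 D2189 (iv D1701) D1700
theorem F7842 : act 6 n2189 = n1708 := d20_2 (iv F6180) D2189 (iv D1708)
theorem F7843 : act 7 n2189 = n2189 := d21_2 F6181 D2189 (iv D2189)
def n2190 : Q := act 4 n1701
theorem D2190 : act 4 n1701 = n2190 := rfl
theorem F7844 : act 0 n2190 = n1725 := d3_1 D2190 (iv D1725) (iv F6182)
theorem F7845 : act 3 n2190 = n1704 := d18_1 D2190 (iv D1704) (iv D1314) (iv F4822) D1701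
theorem F7846 : act 6 n2190 = n1709 := d23_2 (iv F6183) D2190 (iv D1709)
theorem F7847 : act 7 n2190 = n2190 := d24_2 F6184 D2190 (iv D2190)
def n2191 : Q := act 3 n1702
theorem D2191 : act 3 n1702 = n2191 := rfl
theorem F7850 : act 5 n2191 = n1765 := d19_2 (iv F6186) D2191 (iv D1765)
def n2193 : Q := act 4 n1703
theorem D2193 : act 4 n1703 = n2193 := rfl
def n2194 : Q := act 5 n1704
theorem D2194 : act 5 n1704 = n2194 := rfl
theorem F7861 : act 4 n2194 = n1768 := d22_1 D2194 (iv D1768) (iv D1364) (iv F4830) D1704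
def n2195 : Q := act 0 n1705
theorem D2195 : act 0 n1705 = n2195 := rfl
theorem F7864 : act 1 n2195 = n1730 := d0_2 D1705 D2195 (iv D1730) (iv D1333) (iv F4833)
theorem F7866 : act 4 n2195 = n1769 := d3_2 (iv F6198) D2195 (iv D1769)
theorem F7867 : act 5 n2195 = n1707 := d4_2 (iv F6199) D2195 (iv D1707)
def n2196 : Q := act 3 n1705
theorem D2196 : act 3 n1705 = n2196 := rfl
theorem F7869 : act 1 n2196 = n1706 := d8_1 D2196 (iv D1706) D1705
theorem F7870 : act 5 n2196 = n1708 := d19_2 (iv F6199) D2196 (iv D1708)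
theorem F7871 : act 7 n2196 = n1878 := d21_2 (iv F6200) D2196 (iv D1878)
def n2197 : Q := act 4 n1706
theorem D2197 : act 4 n1706 = n2197 := rfl
theorem F7872 : act 0 n2197 = n1732 := d3_1 D2197 (iv D1732) (iv F6201)
theorem F7873 : act 3 n2197 = n1771 := d18_1 D2197 (iv D1771) (iv D1366) (iv F4834) D1706
theorem F7874 : act 7 n2197 = n1879 := d24_2 (iv F6203) D2197 (iv D1879)
def n2198 : Q := act 3 n1707
theorem D2198 : act 3 n1707 = n2198 := rfl
theorem F7875 : act 0 n2198 = n1708 := d2_1 D2198 (iv D1708) D1707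
theorem F7877 : act 7 n2198 = n1880 := d21_2 (iv F6207) D2198 (iv D1880)
def n2199 : Q := act 2 n1708
theorem D2199 : act 2 n1708 = n2199 := rfl
theorem F7879 : act 7 n2199 = n1881 := d17_2 (iv F6209) D2199 (iv D1881)
def n2200 : Q := act 4 n1708
theorem D2200 : act 4 n1708 = n2200 := rfl
theorem F7880 : act 1 n2200 = n1709 := d9_1 D2200 (iv D1709) (iv F6208)
theorem F7881 : act 3 n2200 = n1712 := d18_1 D2200 (iv D1712) (iv D1319) (iv F4838) D1708
theorem F7882 : act 7 n2200 = n1882 := d24_2 (iv F6209) D2200 (iv D1882)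
def n2201 : Q := act 5 n1709
theorem D2201 : act 5 n1709 = n2201 := rfl
theorem F7884 : act 3 n2201 = n1713 := d19_1 D2201 (iv D1713) (iv F6211)
theorem F7885 : act 7 n2201 = n1883 := d26_2 (iv F6212) D2201 (iv D1883)
def n2202 : Q := act 2 n1710
theorem D2202 : act 2 n1710 = n2202 := rfl
theorem F7889 : act 5 n2202 = n1776 := d15_2 (iv F6215) D2202 (iv D1776)
theorem F7890 : act 7 n2202 = n1884 := d17_2 (iv F6216) D2202 (iv D1884)
def n2203 : Q := act 4 n1710
theorem D2203 : act 4 n1710 = n2203 := rfl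
def n2204 : Q := act 4 n1711
theorem D2204 : act 4 n1711 = n2204 := rfl
theorem F7896 : act 7 n2204 = n1886 := d24_2 (iv F6220) D2204 (iv D1886)
def n2206 : Q := act 5 n1712
theorem D2206 : act 5 n1712 = n2206 := rfl
theorem F7900 : act 1 n2206 = n1713 := d10_1 D2206 (iv D1713) (iv F6221)
theorem F7901 : act 4 n2206 = n1780 := d22_1 D2206 (iv D1780) (iv D1372) (iv F4847) D1712
theorem F7902 : act 7 n2206 = n1888 := d26_2 (iv F6222) D2206 (iv D1888)
def n2211 : Q := act 2 n1717
theorem D2211 : act 2 n1717 = n2211 := rfl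
theorem F7918 : act 4 n2211 = n1718 := d14_2 (iv F6241) D2211 (iv D1718)
theorem F7919 : act 5 n2211 = n2211 := d15_2 F6242 D2211 (iv D2211)
theorem F7920 : act 7 n2211 = n2211 := d17_2 F6243 D2211 (iv D2211)
def n2212 : Q := act 1 n1718
theorem D2212 : act 1 n1718 = n2212 := rfl
theorem F7921 : act 2 n2212 = n2212 := d7_2 D1718 D2212 (iv D2212) (iv D1718) F4868
theorem F7922 : act 5 n2212 = n1719 := d10_2 (iv F6244) D2212 (iv D1719)
theorem F7923 : act 7 n2212 = n2212 := d12_2 F6245 D2212 (iv D2212)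
def n2213 : Q := act 3 n1718
theorem D2213 : act 3 n1718 = n2213 := rfl
theorem F7924 : act 2 n2213 = n1722 := d13_1 D2213 (iv D1722) (iv D1327) (iv F4869) D1718
theorem F7925 : act 5 n2213 = n1720 := d19_2 (iv F6244) D2213 (iv D1720)
theorem F7926 : act 7 n2213 = n2213 := d21_2 F6245 D2213 (iv D2213)
def n2214 : Q := act 0 n1719
theorem D2214 : act 0 n1719 = n2214 := rfl
theorem F7927 : act 2 n2214 = n2214 := d1_2 F6246 D2214 (iv D2214)
theorem F7928 : act 4 n2214 = n2214 := d3_2 F6247 D2214 (iv D2214)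
theorem F7929 : act 7 n2214 = n2214 := d6_2 F6248 D2214 (iv D2214)
def n2215 : Q := act 3 n1719
theorem D2215 : act 3 n1719 = n2215 := rfl
theorem F7930 : act 1 n2215 = n1720 := d8_1 D2215 (iv D1720) D1719
theorem F7931 : act 7 n2215 = n2215 := d21_2 F6248 D2215 (iv D2215)
def n2216 : Q := act 4 n1720
theorem D2216 : act 4 n1720 = n2216 := rfl
theorem F7932 : act 2 n2216 = n1725 := d14_1 D2216 (iv D1725) (iv F6249)
theorem F7933 : act 3 n2216 = n2216 := d18_1 D2216 (iv D2216) (iv D1720) F4872 D1720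
theorem F7934 : act 7 n2216 = n2216 := d24_2 F6250 D2216 (iv D2216)
def n2217 : Q := act 0 n1721
theorem D2217 : act 0 n1721 = n2217 := rfl
theorem F7936 : act 4 n2217 = n1791 := d3_2 (iv F6252) D2217 (iv D1791)
theorem F7937 : act 5 n2217 = n1723 := d4_2 (iv F6253) D2217 (iv D1723)
theorem F7938 : act 6 n2217 = n1730 := d5_2 (iv F6254) D2217 (iv D1730)
def n2218 : Q := act 3 n1721
theorem D2218 : act 3 n1721 = n2218 := rfl
theorem F7940 : act 1 n2218 = n1722 := d8_1 D2218 (iv D1722) D1721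
theorem F7941 : act 5 n2218 = n1724 := d19_2 (iv F6253) D2218 (iv D1724)
theorem F7942 : act 6 n2218 = n1731 := d20_2 (iv F6254) D2218 (iv D1731)
def n2219 : Q := act 4 n1722
theorem D2219 : act 4 n1722 = n2219 := rfl
theorem F7945 : act 6 n2219 = n1732 := d23_2 (iv F6257) D2219 (iv D1732)
def n2220 : Q := act 3 n1723
theorem D2220 : act 3 n1723 = n2220 := rfl
theorem F7947 : act 0 n2220 = n1724 := d2_1 D2220 (iv D1724) D1723
theorem F7948 : act 6 n2220 = n1733 := d20_2 (iv F6261) D2220 (iv D1733)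
theorem F7949 : act 7 n2220 = n2220 := d21_2 F6262 D2220 (iv D2220)
def n2221 : Q := act 2 n1724
theorem D2221 : act 2 n1724 = n2221 := rfl
theorem F7950 : act 3 n2221 = n2221 := d13_2 D1724 D2221 (iv D2221) (iv D1724) F4878
theorem F7951 : act 7 n2221 = n2221 := d17_2 F6265 D2221 (iv D2221)
def n2222 : Q := act 4 n1724
theorem D2222 : act 4 n1724 = n2222 := rfl
theorem F7952 : act 1 n2222 = n1725 := d9_1 D2222 (iv D1725) (iv F6263)
theorem F7953 : act 3 n2222 = n1728 := d18_1 D2222 (iv D1728) (iv D1331) (iv F4879) D1724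
theorem F7954 : act 6 n2222 = n1735 := d23_2 (iv F6264) D2222 (iv D1735)
theorem F7955 : act 7 n2222 = n2222 := d24_2 F6265 D2222 (iv D2222)
def n2223 : Q := act 5 n1725
theorem D2223 : act 5 n1725 = n2223 := rfl
theorem F7957 : act 6 n2223 = n1736 := d25_2 (iv F6267) D2223 (iv D1736)
def n2224 : Q := act 2 n1726
theorem D2224 : act 2 n1726 = n2224 := rfl
theorem F7959 : act 0 n2224 = n1727 := d1_1 D2224 (iv D1727) (iv F6269)
theorem F7960 : act 3 n2224 = n2224 := d13_2 D1726 D2224 (iv D2224) (iv D1726) F4884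
theorem F7961 : act 5 n2224 = n1798 := d15_2 (iv F6270) D2224 (iv D1798)
theorem F7962 : act 6 n2224 = n2224 := d16_2 (iv F6271) D2224 (iv D2224) F6271 F4909
theorem F7963 : act 7 n2224 = n2224 := d17_2 F6272 D2224 (iv D2224)
def n2225 : Q := act 4 n1726
theorem D2225 : act 4 n1726 = n2225 := rfl
theorem F7964 : act 0 n2225 = n1728 := d3_1 D2225 (iv D1728) (iv F6269)
def n2226 : Q := act 4 n1727
theorem D2226 : act 4 n1727 = n2226 := rfl
theorem F7967 : act 1 n2226 = n2226 := d9_1 D2226 (iv D2226) F6273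
theorem F7968 : act 2 n2226 = n1728 := d14_1 D2226 (iv D1728) D1727
theorem F7969 : act 6 n2226 = n2226 := d23_2 F6276 D2226 (iv D2226)
theorem F7970 : act 7 n2226 = n2226 := d24_2 F6277 D2226 (iv D2226)
def n2227 : Q := act 5 n1728
theorem D2227 : act 5 n1728 = n2227 := rfl
theorem F7972 : act 4 n2227 = n1801 := d22_1 D2227 (iv D1801) (iv D1388) (iv F4889) D1728
def n2228 : Q := act 3 n1730
theorem D2228 : act 3 n1730 = n2228 := rfl
theorem F7975 : act 0 n2228 = n1731 := d2_1 D2228 (iv D1731) D1730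
theorem F7976 : act 5 n2228 = n1733 := d19_2 (iv F6287) D2228 (iv D1733)
theorem F7977 : act 7 n2228 = n1893 := d21_2 (iv F6288) D2228 (iv D1893)
def n2229 : Q := act 2 n1731
theorem D2229 : act 2 n1731 = n2229 := rfl
def n2230 : Q := act 4 n1731
theorem D2230 : act 4 n1731 = n2230 := rfl
theorem F7982 : act 3 n2230 = n1804 := d18_1 D2230 (iv D1804) (iv D1391) (iv F4896) D1731
theorem F7983 : act 7 n2230 = n1895 := d24_2 (iv F6291) D2230 (iv D1895)
def n2231 : Q := act 5 n1732
theorem D2231 : act 5 n1732 = n2231 := rfl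
theorem F7984 : act 3 n2231 = n1805 := d19_1 D2231 (iv D1805) (iv F6292)
def n2232 : Q := act 2 n1733
theorem D2232 : act 2 n1733 = n2232 := rfl
theorem F7987 : act 0 n2232 = n1734 := d1_1 D2232 (iv D1734) (iv F6294)
theorem F7989 : act 7 n2232 = n1897 := d17_2 (iv F6295) D2232 (iv D1897)
def n2233 : Q := act 4 n1733
theorem D2233 : act 4 n1733 = n2233 := rfl
theorem F7991 : act 3 n2233 = n1737 := d18_1 D2233 (iv D1737) (iv D1338) (iv F4902) D1733
def n2234 : Q := act 4 n1734
theorem D2234 : act 4 n1734 = n2234 := rfl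
theorem F7993 : act 2 n2234 = n1735 := d14_1 D2234 (iv D1735) D1734
theorem F7994 : act 3 n2234 = n2234 := d18_1 D2234 (iv D2234) F6296 F4937 (iv F6296)
theorem F7995 : act 7 n2234 = n1899 := d24_2 (iv F6297) D2234 (iv D1899)
def n2235 : Q := act 6 n1734
theorem D2235 : act 6 n1734 = n2235 := rfl
theorem F7996 : act 3 n2235 = n1743 := d20_1 D2235 (iv D1743) (iv F6296)
def n2236 : Q := act 5 n1735
theorem D2236 : act 5 n1735 = n2236 := rfl
theorem F7998 : act 3 n2236 = n1738 := d19_1 D2236 (iv D1738) (iv F6299)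
theorem F7999 : act 7 n2236 = n1901 := d26_2 (iv F6300) D2236 (iv D1901)
def n2237 : Q := act 5 n1737
theorem D2237 : act 5 n1737 = n2237 := rfl
theorem F8000 : act 0 n2237 = n1738 := d4_1 D2237 (iv D1738) (iv F6303)
theorem F8002 : act 4 n2237 = n1811 := d22_1 D2237 (iv D1811) (iv D1397) (iv F4910) D1737
theorem F8003 : act 7 n2237 = n1902 := d26_2 (iv F6305) D2237 (iv D1902)
def n2238 : Q := act 2 n1739
theorem D2238 : act 2 n1739 = n2238 := rfl
theorem F8004 : act 0 n2238 = n1740 := d1_1 D2238 (iv D1740) (iv F6310)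
def n2239 : Q := act 4 n1739
theorem D2239 : act 4 n1739 = n2239 := rfl
theorem F8009 : act 3 n2239 = n1813 := d18_1 D2239 (iv D1813) (iv D1399) (iv F4919) D1739
def n2240 : Q := act 4 n1740
theorem D2240 : act 4 n1740 = n2240 := rfl
theorem F8013 : act 2 n2240 = n1741 := d14_1 D2240 (iv D1741) D1740
theorem F8015 : act 7 n2240 = n1905 := d24_2 (iv F6316) D2240 (iv D1905)
def n2241 : Q := act 6 n1740
theorem D2241 : act 6 n1740 = n2241 := rfl
theorem F8017 : act 5 n2241 = n1743 := d25_1 D2241 (iv D1743) (iv F6315)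
def n2242 : Q := act 1 n1742
theorem D2242 : act 1 n1742 = n2242 := rfl
def n2243 : Q := act 6 n1742
theorem D2243 : act 6 n1742 = n2243 := rfl
theorem F8021 : act 0 n2243 = n1743 := d5_1 D2243 (iv D1743) (iv F6322)
def n2244 : Q := act 7 n1743
theorem D2244 : act 7 n1743 = n2244 := rfl
theorem F8024 : act 2 n2244 = n2244 := d17_1 D2244 (iv D2244) F6325
theorem F8025 : act 4 n2244 = n2244 := d24_1 D2244 (iv D2244) F6326
theorem F8026 : act 6 n2244 = n1909 := d27_1 D2244 (iv D1909) (iv D1474) (iv F4938) D1743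
def n2245 : Q := act 6 n1744
theorem D2245 : act 6 n1744 = n2245 := rfl
theorem F8032 : act 7 n2245 = n2018 := d27_2 D1744 D2245 (iv D2018) (iv D1566) (iv F4944)
def n2246 : Q := act 6 n1745
theorem D2246 : act 6 n1745 = n2246 := rfl
theorem F8038 : act 7 n2246 = n1746 := d27_2 D1745 D2246 (iv D1746) (iv D1348) D1347
def n2247 : Q := act 2 n1746
theorem D2247 : act 2 n1746 = n2247 := rfl
theorem F8041 : act 6 n2247 = n1749 := d16_2 D1746 D2247 (iv D1749) (iv D1351) (iv F4953)
def n2248 : Q := act 6 n1747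
theorem D2248 : act 6 n1747 = n2248 := rfl
theorem F8042 : act 0 n2248 = n2248 := d5_1 D2248 (iv D2248) F6343
theorem F8043 : act 1 n2248 = n1756 := d11_1 D2248 (iv D1756) (iv F6344)
theorem F8044 : act 3 n2248 = n1822 := d20_1 D2248 (iv D1822) (iv F6346)
theorem F8045 : act 4 n2248 = n1748 := d23_1 D2248 (iv D1748) (iv F6347)
theorem F8046 : act 5 n2248 = n2248 := d25_1 D2248 (iv D2248) F6348
theorem F8047 : act 7 n2248 = n2248 := d27_2 D1747 D2248 (iv D2248) (iv D1747) F4961
def n2249 : Q := act 2 n1748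
theorem D2249 : act 2 n1748 = n2249 := rfl
def n2250 : Q := act 1 n1749
theorem D2250 : act 1 n1749 = n2250 := rfl
theorem F8051 : act 2 n2250 = n1758 := d7_2 D1749 D2250 (iv D1758) (iv D1358) (iv F4967)
def n2251 : Q := act 3 n1749
theorem D2251 : act 3 n1749 = n2251 := rfl
theorem F8055 : act 2 n2251 = n1752 := d13_1 D2251 (iv D1752) (iv D1353) (iv F4968) D1749
def n2252 : Q := act 1 n1750
theorem D2252 : act 1 n1750 = n2252 := rfl
theorem F8057 : act 2 n2252 = n1760 := d7_2 D1750 D2252 (iv D1760) (iv D1359) (iv F4972)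
theorem F8058 : act 5 n2252 = n1751 := d10_2 (iv F6358) D2252 (iv D1751)
def n2253 : Q := act 3 n1750
theorem D2253 : act 3 n1750 = n2253 := rfl
def n2254 : Q := act 0 n1751
theorem D2254 : act 0 n1751 = n2254 := rfl
theorem F8066 : act 2 n2254 = n1762 := d1_2 (iv F6361) D2254 (iv D1762)
theorem F8067 : act 4 n2254 = n1753 := d3_2 (iv F6362) D2254 (iv D1753)
def n2255 : Q := act 3 n1751
theorem D2255 : act 3 n1751 = n2255 := rfl
theorem F8070 : act 1 n2255 = n1752 := d8_1 D2255 (iv D1752) D1751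
def n2257 : Q := act 3 n1753
theorem D2257 : act 3 n1753 = n2257 := rfl
theorem F8077 : act 0 n2257 = n1754 := d2_1 D2257 (iv D1754) D1753
def n2258 : Q := act 2 n1754
theorem D2258 : act 2 n1754 = n2258 := rfl
def n2259 : Q := act 4 n1754
theorem D2259 : act 4 n1754 = n2259 := rfl
theorem F8084 : act 1 n2259 = n1755 := d9_1 D2259 (iv D1755) (iv F6372)
def n2261 : Q := act 2 n1756
theorem D2261 : act 2 n1756 = n2261 := rfl
theorem F8091 : act 0 n2261 = n1785 := d1_1 D2261 (iv D1785) (iv F6379)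
theorem F8092 : act 4 n2261 = n1757 := d14_2 (iv F6380) D2261 (iv D1757)
theorem F8093 : act 5 n2261 = n2261 := d15_2 F6381 D2261 (iv D2261)
theorem F8094 : act 6 n2261 = n2261 := d16_2 D1756 D2261 (iv D2261) (iv D1756) F4987
theorem F8095 : act 7 n2261 = n2261 := d17_2 F6382 D2261 (iv D2261)
def n2262 : Q := act 1 n1757
theorem D2262 : act 1 n1757 = n2262 := rfl
def n2263 : Q := act 3 n1757
theorem D2263 : act 3 n1757 = n2263 := rfl
theorem F8099 : act 0 n2263 = n1787 := d2_1 D2263 (iv D1787) (iv F6383)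
def n2264 : Q := act 0 n1758
theorem D2264 : act 0 n1758 = n2264 := rfl
theorem F8104 : act 1 n2264 = n1788 := d0_2 D1758 D2264 (iv D1788) (iv D1379) (iv F4994)
def n2265 : Q := act 3 n1758
theorem D2265 : act 3 n1758 = n2265 := rfl
theorem F8108 : act 1 n2265 = n1759 := d8_1 D2265 (iv D1759) D1758
def n2266 : Q := act 4 n1759
theorem D2266 : act 4 n1759 = n2266 := rfl
theorem F8111 : act 0 n2266 = n1790 := d3_1 D2266 (iv D1790) (iv F6390)
def n2267 : Q := act 0 n1760
theorem D2267 : act 0 n1760 = n2267 := rfl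
theorem F8116 : act 1 n2267 = n1791 := d0_2 D1760 D2267 (iv D1791) (iv D1381) (iv F4998)
theorem F8117 : act 5 n2267 = n1762 := d4_2 (iv F6394) D2267 (iv D1762)
def n2268 : Q := act 3 n1760
theorem D2268 : act 3 n1760 = n2268 := rfl
theorem F8121 : act 5 n2268 = n1763 := d19_2 (iv F6394) D2268 (iv D1763)
theorem F8122 : act 6 n2268 = n1770 := d20_2 (iv F6395) D2268 (iv D1770)
def n2269 : Q := act 4 n1761
theorem D2269 : act 4 n1761 = n2269 := rfl
theorem F8124 : act 0 n2269 = n1793 := d3_1 D2269 (iv D1793) (iv F6397)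
def n2270 : Q := act 3 n1762
theorem D2270 : act 3 n1762 = n2270 := rfl
theorem F8127 : act 0 n2270 = n1763 := d2_1 D2270 (iv D1763) D1762
theorem F8128 : act 1 n2270 = n1794 := d8_1 D2270 (iv D1794) (iv F6401)
def n2271 : Q := act 2 n1763
theorem D2271 : act 2 n1763 = n2271 := rfl
def n2272 : Q := act 4 n1763
theorem D2272 : act 4 n1763 = n2272 := rfl
theorem F8133 : act 3 n2272 = n1767 := d18_1 D2272 (iv D1767) (iv D1363) (iv F5002) D1763
theorem F8134 : act 6 n2272 = n1774 := d23_2 (iv F6406) D2272 (iv D1774)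
def n2274 : Q := act 2 n1765
theorem D2274 : act 2 n1765 = n2274 := rfl
theorem F8140 : act 0 n2274 = n1766 := d1_1 D2274 (iv D1766) (iv F6412)
def n2275 : Q := act 4 n1765
theorem D2275 : act 4 n1765 = n2275 := rfl
theorem F8142 : act 0 n2275 = n1767 := d3_1 D2275 (iv D1767) (iv F6412)
theorem F8143 : act 1 n2275 = n1799 := d9_1 D2275 (iv D1799) (iv F6413)
theorem F8144 : act 6 n2275 = n1777 := d23_2 (iv F6414) D2275 (iv D1777)
def n2276 : Q := act 4 n1766
theorem D2276 : act 4 n1766 = n2276 := rfl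
theorem F8147 : act 2 n2276 = n1767 := d14_1 D2276 (iv D1767) D1766
def n2277 : Q := act 6 n1766
theorem D2277 : act 6 n1766 = n2277 := rfl
theorem F8150 : act 2 n2277 = n1779 := d16_1 D2277 (iv D1779) (iv D1371) (iv F5012) D1766
def n2278 : Q := act 5 n1767
theorem D2278 : act 5 n1767 = n2278 := rfl
theorem F8151 : act 1 n2278 = n1768 := d10_1 D2278 (iv D1768) (iv F6418)
theorem F8152 : act 6 n2278 = n1780 := d25_2 (iv F6419) D2278 (iv D1780)
def n2279 : Q := act 3 n1769
theorem D2279 : act 3 n1769 = n2279 := rfl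
theorem F8154 : act 0 n2279 = n1770 := d2_1 D2279 (iv D1770) D1769
theorem F8155 : act 1 n2279 = n1802 := d8_1 D2279 (iv D1802) (iv F6425)
theorem F8156 : act 5 n2279 = n1772 := d19_2 (iv F6427) D2279 (iv D1772)
theorem F8157 : act 7 n2279 = n1910 := d21_2 (iv F6428) D2279 (iv D1910)
def n2280 : Q := act 2 n1770
theorem D2280 : act 2 n1770 = n2280 := rfl
theorem F8160 : act 5 n2280 = n1773 := d15_2 (iv F6430) D2280 (iv D1773)
def n2281 : Q := act 4 n1770
theorem D2281 : act 4 n1770 = n2281 := rfl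
def n2282 : Q := act 5 n1771
theorem D2282 : act 5 n1771 = n2282 := rfl
theorem F8166 : act 4 n2282 = n1775 := d22_1 D2282 (iv D1775) (iv D1369) (iv F5023) D1771
def n2283 : Q := act 2 n1772
theorem D2283 : act 2 n1772 = n2283 := rfl
theorem F8168 : act 0 n2283 = n1773 := d1_1 D2283 (iv D1773) (iv F6435)
theorem F8170 : act 7 n2283 = n1914 := d17_2 (iv F6437) D2283 (iv D1914)
def n2284 : Q := act 4 n1772
theorem D2284 : act 4 n1772 = n2284 := rfl
theorem F8171 : act 0 n2284 = n1774 := d3_1 D2284 (iv D1774) (iv F6435)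
theorem F8172 : act 1 n2284 = n1807 := d9_1 D2284 (iv D1807) (iv F6436)
theorem F8173 : act 3 n2284 = n1777 := d18_1 D2284 (iv D1777) (iv D1370) (iv F5027) D1772
theorem F8174 : act 7 n2284 = n1915 := d24_2 (iv F6437) D2284 (iv D1915)
def n2285 : Q := act 4 n1773
theorem D2285 : act 4 n1773 = n2285 := rfl
theorem F8176 : act 2 n2285 = n1774 := d14_1 D2285 (iv D1774) D1773
theorem F8177 : act 7 n2285 = n1916 := d24_2 (iv F6440) D2285 (iv D1916)
def n2287 : Q := act 5 n1774
theorem D2287 : act 5 n1774 = n2287 := rfl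
theorem F8181 : act 3 n2287 = n1780 := d19_1 D2287 (iv D1780) (iv F6442)
theorem F8182 : act 7 n2287 = n1918 := d26_2 (iv F6443) D2287 (iv D1918)
def n2288 : Q := act 4 n1776
theorem D2288 : act 4 n1776 = n2288 := rfl
theorem F8185 : act 2 n2288 = n1777 := d14_1 D2288 (iv D1777) D1776
theorem F8186 : act 7 n2288 = n1919 := d24_2 (iv F6451) D2288 (iv D1919)
def n2290 : Q := act 5 n1777
theorem D2290 : act 5 n1777 = n2290 := rfl
theorem F8190 : act 0 n2290 = n1780 := d4_1 D2290 (iv D1780) (iv F6452)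
theorem F8191 : act 1 n2290 = n1811 := d10_1 D2290 (iv D1811) (iv F6453)
def n2291 : Q := act 3 n1778
theorem D2291 : act 3 n1778 = n2291 := rfl
theorem F8193 : act 1 n2291 = n1781 := d8_1 D2291 (iv D1781) (iv F6455)
theorem F8195 : act 7 n2291 = n1922 := d21_2 (iv F6457) D2291 (iv D1922)
def n2292 : Q := act 5 n1778
theorem D2292 : act 5 n1778 = n2292 := rfl
theorem F8196 : act 1 n2292 = n1782 := d10_1 D2292 (iv D1782) (iv F6455)
theorem F8197 : act 2 n2292 = n1780 := d15_1 D2292 (iv D1780) (iv F6456)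
def n2293 : Q := act 6 n1778
theorem D2293 : act 6 n1778 = n2293 := rfl
def n2295 : Q := act 5 n1781
theorem D2295 : act 5 n1781 = n2295 := rfl
theorem F8207 : act 7 n2295 = n1926 := d26_2 (iv F6465) D2295 (iv D1926)
def n2296 : Q := act 6 n1781
theorem D2296 : act 6 n1781 = n2296 := rfl
def n2297 : Q := act 6 n1782
theorem D2297 : act 6 n1782 = n2297 := rfl
def n2299 : Q := act 1 n1785
theorem D2299 : act 1 n1785 = n2299 := rfl
theorem F8219 : act 4 n2299 = n1786 := d9_2 (iv F6476) D2299 (iv D1786)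
def n2300 : Q := act 3 n1785
theorem D2300 : act 3 n1785 = n2300 := rfl
theorem F8223 : act 5 n2300 = n2300 := d19_2 F6477 D2300 (iv D2300)
theorem F8224 : act 6 n2300 = n2300 := d20_2 F6478 D2300 (iv D2300)
theorem F8225 : act 7 n2300 = n2300 := d21_2 F6479 D2300 (iv D2300)
def n2301 : Q := act 0 n1786
theorem D2301 : act 0 n1786 = n2301 := rfl
theorem F8227 : act 5 n2301 = n1788 := d4_2 (iv F6481) D2301 (iv D1788)
def n2302 : Q := act 3 n1786
theorem D2302 : act 3 n1786 = n2302 := rfl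
theorem F8230 : act 1 n2302 = n1787 := d8_1 D2302 (iv D1787) D1786
theorem F8231 : act 5 n2302 = n1789 := d19_2 (iv F6481) D2302 (iv D1789)
theorem F8232 : act 6 n2302 = n2302 := d20_2 F6482 D2302 (iv D2302)
theorem F8233 : act 7 n2302 = n2302 := d21_2 F6483 D2302 (iv D2302)
def n2303 : Q := act 4 n1787
theorem D2303 : act 4 n1787 = n2303 := rfl
def n2304 : Q := act 3 n1788
theorem D2304 : act 3 n1788 = n2304 := rfl
theorem F8237 : act 0 n2304 = n1789 := d2_1 D2304 (iv D1789) D1788
def n2305 : Q := act 2 n1789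
theorem D2305 : act 2 n1789 = n2305 := rfl
theorem F8240 : act 1 n2305 = n1795 := d7_1 D2305 (iv D1795) F5082 (iv F5068) (iv F6492)
theorem F8241 : act 3 n2305 = n2305 := d13_2 D1789 D2305 (iv D2305) (iv D1789) F5064
theorem F8242 : act 7 n2305 = n2305 := d17_2 F6494 D2305 (iv D2305)
def n2306 : Q := act 4 n1789
theorem D2306 : act 4 n1789 = n2306 := rfl
theorem F8243 : act 1 n2306 = n1790 := d9_1 D2306 (iv D1790) (iv F6492)
theorem F8245 : act 6 n2306 = n2306 := d23_2 F6493 D2306 (iv D2306)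
def n2308 : Q := act 3 n1791
theorem D2308 : act 3 n1791 = n2308 := rfl
theorem F8251 : act 0 n2308 = n1792 := d2_1 D2308 (iv D1792) D1791
theorem F8252 : act 5 n2308 = n1794 := d19_2 (iv F6500) D2308 (iv D1794)
theorem F8253 : act 6 n2308 = n1802 := d20_2 (iv F6501) D2308 (iv D1802)
def n2309 : Q := act 2 n1792
theorem D2309 : act 2 n1792 = n2309 := rfl
def n2310 : Q := act 4 n1792
theorem D2310 : act 4 n1792 = n2310 := rfl
def n2312 : Q := act 2 n1794
theorem D2312 : act 2 n1794 = n2312 := rfl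
theorem F8264 : act 0 n2312 = n1795 := d1_1 D2312 (iv D1795) (iv F6509)
theorem F8265 : act 3 n2312 = n2312 := d13_2 D1794 D2312 (iv D2312) (iv D1794) F5078
def n2313 : Q := act 4 n1794
theorem D2313 : act 4 n1794 = n2313 := rfl
theorem F8268 : act 3 n2313 = n1799 := d18_1 D2313 (iv D1799) (iv D1386) (iv F5079) D1794
theorem F8269 : act 6 n2313 = n1807 := d23_2 (iv F6510) D2313 (iv D1807)
def n2314 : Q := act 4 n1795
theorem D2314 : act 4 n1795 = n2314 := rfl
theorem F8271 : act 2 n2314 = n1796 := d14_1 D2314 (iv D1796) D1795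
theorem F8272 : act 7 n2314 = n2314 := d24_2 F6513 D2314 (iv D2314)
def n2315 : Q := act 6 n1795
theorem D2315 : act 6 n1795 = n2315 := rfl
theorem F8273 : act 2 n2315 = n1809 := d16_1 D2315 (iv D1809) (iv D1394) (iv F5083) D1795
def n2316 : Q := act 5 n1796
theorem D2316 : act 5 n1796 = n2316 := rfl
def n2317 : Q := act 1 n1798
theorem D2317 : act 1 n1798 = n2317 := rfl
theorem F8282 : act 7 n2317 = n2317 := d12_2 F6524 D2317 (iv D2317)
def n2318 : Q := act 4 n1798
theorem D2318 : act 4 n1798 = n2318 := rfl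
theorem F8283 : act 0 n2318 = n1800 := d3_1 D2318 (iv D1800) (iv F6521)
theorem F8284 : act 2 n2318 = n1799 := d14_1 D2318 (iv D1799) D1798
theorem F8285 : act 6 n2318 = n2318 := d23_2 F6523 D2318 (iv D2318)
def n2319 : Q := act 5 n1799
theorem D2319 : act 5 n1799 = n2319 := rfl
def n2320 : Q := act 3 n1800
theorem D2320 : act 3 n1800 = n2320 := rfl
def n2321 : Q := act 5 n1800
theorem D2321 : act 5 n1800 = n2321 := rfl
def n2322 : Q := act 2 n1802
theorem D2322 : act 2 n1802 = n2322 := rfl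
theorem F8299 : act 3 n2322 = n1812 := d13_2 D1802 D2322 (iv D1812) (iv D1399) (iv F5101)
theorem F8300 : act 5 n2322 = n1806 := d15_2 (iv F6536) D2322 (iv D1806)
theorem F8301 : act 7 n2322 = n1930 := d17_2 (iv F6537) D2322 (iv D1930)
def n2323 : Q := act 4 n1802
theorem D2323 : act 4 n1802 = n2323 := rfl
theorem F8303 : act 7 n2323 = n1931 := d24_2 (iv F6537) D2323 (iv D1931)
def n2324 : Q := act 4 n1803
theorem D2324 : act 4 n1803 = n2324 := rfl
theorem F8305 : act 2 n2324 = n1804 := d14_1 D2324 (iv D1804) D1803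
def n2325 : Q := act 6 n1803
theorem D2325 : act 6 n1803 = n2325 := rfl
theorem F8309 : act 5 n2325 = n1809 := d25_1 D2325 (iv D1809) (iv F6540)
def n2326 : Q := act 5 n1804
theorem D2326 : act 5 n1804 = n2326 := rfl
def n2327 : Q := act 1 n1806
theorem D2327 : act 1 n1806 = n2327 := rfl
theorem F8313 : act 0 n2327 = n2327 := d0_1 D2327 (iv D2327) F6547 F5111 (iv F6547)
theorem F8314 : act 3 n2327 = n1816 := d8_2 (iv F6548) D2327 (iv D1816)
theorem F8315 : act 7 n2327 = n1935 := d12_2 (iv F6549) D2327 (iv D1935)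
def n2328 : Q := act 4 n1806
theorem D2328 : act 4 n1806 = n2328 := rfl
theorem F8316 : act 0 n2328 = n1808 := d3_1 D2328 (iv D1808) (iv F6547)
theorem F8317 : act 2 n2328 = n1807 := d14_1 D2328 (iv D1807) D1806
theorem F8319 : act 7 n2328 = n1936 := d24_2 (iv F6549) D2328 (iv D1936)
def n2329 : Q := act 6 n1806
theorem D2329 : act 6 n1806 = n2329 := rfl
theorem F8320 : act 0 n2329 = n1809 := d5_1 D2329 (iv D1809) (iv F6547)
theorem F8321 : act 3 n2329 = n1817 := d20_1 D2329 (iv D1817) (iv F6548)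
def n2330 : Q := act 5 n1807
theorem D2330 : act 5 n1807 = n2330 := rfl
theorem F8323 : act 3 n2330 = n1811 := d19_1 D2330 (iv D1811) (iv F6551)
def n2331 : Q := act 5 n1808
theorem D2331 : act 5 n1808 = n2331 := rfl
theorem F8326 : act 2 n2331 = n1810 := d15_1 D2331 (iv D1810) (iv F6554)
def n2332 : Q := act 6 n1808
theorem D2332 : act 6 n1808 = n2332 := rfl
theorem F8329 : act 1 n2332 = n2332 := d11_1 D2332 (iv D2332) F6553
theorem F8331 : act 4 n2332 = n1809 := d23_1 D2332 (iv D1809) D1808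
def n2333 : Q := act 7 n1809
theorem D2333 : act 7 n1809 = n2333 := rfl
theorem F8332 : act 1 n2333 = n2333 := d12_1 D2333 (iv D2333) F6557
theorem F8333 : act 3 n2333 = n1818 := d21_1 D2333 (iv D1818) (iv F6558)
theorem F8334 : act 6 n2333 = n1941 := d27_1 D2333 (iv D1941) (iv D1498) (iv F5113) D1809
def n2334 : Q := act 1 n1812
theorem D2334 : act 1 n1812 = n2334 := rfl
theorem F8337 : act 5 n2334 = n1816 := d10_2 (iv F6566) D2334 (iv D1816)
theorem F8338 : act 7 n2334 = n1942 := d12_2 (iv F6567) D2334 (iv D1942)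
def n2335 : Q := act 4 n1812
theorem D2335 : act 4 n1812 = n2335 := rfl
theorem F8340 : act 2 n2335 = n1813 := d14_1 D2335 (iv D1813) D1812
theorem F8342 : act 7 n2335 = n1943 := d24_2 (iv F6567) D2335 (iv D1943)
def n2336 : Q := act 6 n1812
theorem D2336 : act 6 n1812 = n2336 := rfl
theorem F8345 : act 5 n2336 = n1817 := d25_1 D2336 (iv D1817) (iv F6566)
def n2337 : Q := act 3 n1814
theorem D2337 : act 3 n1814 = n2337 := rfl
theorem F8348 : act 7 n2337 = n1945 := d21_2 (iv F6576) D2337 (iv D1945)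
def n2338 : Q := act 6 n1814
theorem D2338 : act 6 n1814 = n2338 := rfl
theorem F8351 : act 4 n2338 = n1815 := d23_1 D2338 (iv D1815) D1814
def n2339 : Q := act 7 n1815
theorem D2339 : act 7 n1815 = n2339 := rfl
theorem F8355 : act 5 n2339 = n1818 := d26_1 D2339 (iv D1818) (iv F6579)
theorem F8356 : act 6 n2339 = n1947 := d27_1 D2339 (iv D1947) (iv D1504) (iv F5133) D1815
def n2340 : Q := act 6 n1816
theorem D2340 : act 6 n1816 = n2340 := rfl
theorem F8357 : act 0 n2340 = n2340 := d5_1 D2340 (iv D2340) F6580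
theorem F8358 : act 1 n2340 = n1817 := d11_1 D2340 (iv D1817) D1816
def n2341 : Q := act 7 n1817
theorem D2341 : act 7 n1817 = n2341 := rfl
theorem F8361 : act 2 n2341 = n2341 := d17_1 D2341 (iv D2341) F6585
theorem F8363 : act 6 n2341 = n1949 := d27_1 D2341 (iv D1949) (iv D1506) (iv F5140) D1817
def n2342 : Q := act 2 n1819
theorem D2342 : act 2 n1819 = n2342 := rfl
theorem F8364 : act 0 n2342 = n2342 := d1_1 D2342 (iv D2342) F6591
theorem F8365 : act 4 n2342 = n2342 := d14_2 F6594 D2342 (iv D2342)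
theorem F8366 : act 5 n2342 = n1821 := d15_2 (iv F6595) D2342 (iv D1821)
theorem F8367 : act 6 n2342 = n2342 := d16_2 D1819 D2342 (iv D2342) (iv D1819) F5146
def n2343 : Q := act 2 n1820
theorem D2343 : act 2 n1820 = n2343 := rfl
theorem F8368 : act 0 n2343 = n2343 := d1_1 D2343 (iv D2343) F6596
theorem F8369 : act 4 n2343 = n1823 := d14_2 (iv F6599) D2343 (iv D1823)
theorem F8370 : act 7 n2343 = n1821 := d17_2 (iv F6600) D2343 (iv D1821)
def n2344 : Q := act 1 n1821
theorem D2344 : act 1 n1821 = n2344 := rfl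
theorem F8371 : act 2 n2344 = n1829 := d7_2 D1821 D2344 (iv D1829) (iv D1413) (iv F5155)
theorem F8372 : act 4 n2344 = n1824 := d9_2 (iv F6602) D2344 (iv D1824)
theorem F8373 : act 6 n2344 = n2344 := d11_2 F6603 D2344 (iv D2344)
def n2345 : Q := act 3 n1821
theorem D2345 : act 3 n1821 = n2345 := rfl
theorem F8374 : act 0 n2345 = n2345 := d2_1 D2345 (iv D2345) F6601
theorem F8375 : act 2 n2345 = n2345 := d13_1 D2345 (iv D2345) (iv D1821) F5156 D1821
theorem F8376 : act 6 n2345 = n2345 := d20_2 F6603 D2345 (iv D2345)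
def n2346 : Q := act 2 n1822
theorem D2346 : act 2 n1822 = n2346 := rfl
theorem F8377 : act 0 n2346 = n2346 := d1_1 D2346 (iv D2346) F6604
theorem F8378 : act 5 n2346 = n2346 := d15_2 F6605 D2346 (iv D2346)
theorem F8379 : act 6 n2346 = n1823 := d16_2 D1822 D2346 (iv D1823) (iv D1408) (iv F5159)
theorem F8380 : act 7 n2346 = n2346 := d17_2 F6606 D2346 (iv D2346)
def n2347 : Q := act 1 n1823
theorem D2347 : act 1 n1823 = n2347 := rfl
theorem F8381 : act 2 n2347 = n1831 := d7_2 D1823 D2347 (iv D1831) (iv D1414) (iv F5162)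
theorem F8382 : act 5 n2347 = n2347 := d10_2 F6608 D2347 (iv D2347)
theorem F8383 : act 7 n2347 = n1824 := d12_2 (iv F6609) D2347 (iv D1824)
def n2348 : Q := act 3 n1823
theorem D2348 : act 3 n1823 = n2348 := rfl
theorem F8385 : act 2 n2348 = n1980 := d13_1 D2348 (iv D1980) (iv D1534) (iv F5163) D1823
theorem F8387 : act 7 n2348 = n1825 := d21_2 (iv F6609) D2348 (iv D1825)
def n2349 : Q := act 0 n1824
theorem D2349 : act 0 n1824 = n2349 := rfl
theorem F8388 : act 1 n2349 = n2349 := d0_2 D1824 D2349 (iv D2349) (iv D1824) F5166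
theorem F8389 : act 2 n2349 = n1833 := d1_2 (iv F6610) D2349 (iv D1833)
theorem F8390 : act 5 n2349 = n2349 := d4_2 F6611 D2349 (iv D2349)
theorem F8391 : act 6 n2349 = n2349 := d5_2 F6612 D2349 (iv D2349)
def n2350 : Q := act 3 n1824
theorem D2350 : act 3 n1824 = n2350 := rfl
def n2352 : Q := act 2 n1826
theorem D2352 : act 2 n1826 = n2352 := rfl
theorem F8398 : act 0 n2352 = n1848 := d1_1 D2352 (iv D1848) (iv F6617)
theorem F8399 : act 4 n2352 = n2352 := d14_2 F6619 D2352 (iv D2352)
theorem F8400 : act 5 n2352 = n1828 := d15_2 (iv F6620) D2352 (iv D1828)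
theorem F8401 : act 7 n2352 = n1827 := d17_2 (iv F6621) D2352 (iv D1827)
def n2353 : Q := act 1 n1827
theorem D2353 : act 1 n1827 = n2353 := rfl
theorem F8402 : act 4 n2353 = n2353 := d9_2 F6623 D2353 (iv D2353)
theorem F8403 : act 5 n2353 = n1829 := d10_2 (iv F6624) D2353 (iv D1829)
theorem F8404 : act 6 n2353 = n1836 := d11_2 (iv F6625) D2353 (iv D1836)
def n2354 : Q := act 3 n1827
theorem D2354 : act 3 n1827 = n2354 := rfl
theorem F8405 : act 0 n2354 = n1850 := d2_1 D2354 (iv D1850) (iv F6622)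
theorem F8406 : act 2 n2354 = n2354 := d13_1 D2354 (iv D2354) (iv D1827) F5174 D1827
theorem F8407 : act 5 n2354 = n1830 := d19_2 (iv F6624) D2354 (iv D1830)
theorem F8408 : act 6 n2354 = n1837 := d20_2 (iv F6625) D2354 (iv D1837)
def n2355 : Q := act 1 n1828
theorem D2355 : act 1 n1828 = n2355 := rfl
theorem F8409 : act 4 n2355 = n1831 := d9_2 (iv F6627) D2355 (iv D1831)
theorem F8410 : act 7 n2355 = n1829 := d12_2 (iv F6628) D2355 (iv D1829)
def n2356 : Q := act 3 n1828
theorem D2356 : act 3 n1828 = n2356 := rfl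
theorem F8411 : act 0 n2356 = n1852 := d2_1 D2356 (iv D1852) (iv F6626)
theorem F8412 : act 2 n2356 = n2356 := d13_1 D2356 (iv D2356) (iv D1828) F5178 D1828
theorem F8413 : act 7 n2356 = n1830 := d21_2 (iv F6628) D2356 (iv D1830)
def n2357 : Q := act 0 n1829
theorem D2357 : act 0 n1829 = n2357 := rfl
theorem F8414 : act 1 n2357 = n1853 := d0_2 D1829 D2357 (iv D1853) (iv D1429) (iv F5181)
theorem F8415 : act 4 n2357 = n1833 := d3_2 (iv F6629) D2357 (iv D1833)
theorem F8416 : act 6 n2357 = n1838 := d5_2 (iv F6630) D2357 (iv D1838)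
def n2358 : Q := act 3 n1829
theorem D2358 : act 3 n1829 = n2358 := rfl
theorem F8417 : act 1 n2358 = n1830 := d8_1 D2358 (iv D1830) D1829
theorem F8418 : act 6 n2358 = n1839 := d20_2 (iv F6630) D2358 (iv D1839)
def n2359 : Q := act 4 n1830
theorem D2359 : act 4 n1830 = n2359 := rfl
theorem F8419 : act 0 n2359 = n1855 := d3_1 D2359 (iv D1855) (iv F6631)
theorem F8420 : act 2 n2359 = n2359 := d14_1 D2359 (iv D2359) F6632
theorem F8421 : act 3 n2359 = n1835 := d18_1 D2359 (iv D1835) (iv D1416) (iv F5182) D1830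
theorem F8422 : act 6 n2359 = n1840 := d23_2 (iv F6633) D2359 (iv D1840)
def n2360 : Q := act 0 n1831
theorem D2360 : act 0 n1831 = n2360 := rfl
theorem F8423 : act 1 n2360 = n1856 := d0_2 D1831 D2360 (iv D1856) (iv D1431) (iv F5184)
theorem F8424 : act 5 n2360 = n2360 := d4_2 F6634 D2360 (iv D2360)
theorem F8425 : act 7 n2360 = n1833 := d6_2 (iv F6635) D2360 (iv D1833)
def n2361 : Q := act 3 n1831
theorem D2361 : act 3 n1831 = n2361 := rfl
theorem F8426 : act 1 n2361 = n1832 := d8_1 D2361 (iv D1832) D1831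
theorem F8427 : act 5 n2361 = n2361 := d19_2 F6634 D2361 (iv D2361)
theorem F8428 : act 7 n2361 = n1834 := d21_2 (iv F6635) D2361 (iv D1834)
def n2362 : Q := act 4 n1832
theorem D2362 : act 4 n1832 = n2362 := rfl
theorem F8429 : act 0 n2362 = n1858 := d3_1 D2362 (iv D1858) (iv F6636)
theorem F8430 : act 2 n2362 = n1986 := d14_1 D2362 (iv D1986) (iv F6637)
theorem F8431 : act 7 n2362 = n1835 := d24_2 (iv F6639) D2362 (iv D1835)
def n2363 : Q := act 3 n1833
theorem D2363 : act 3 n1833 = n2363 := rfl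
theorem F8432 : act 0 n2363 = n1834 := d2_1 D2363 (iv D1834) D1833
theorem F8433 : act 1 n2363 = n1859 := d8_1 D2363 (iv D1859) (iv F6640)
theorem F8434 : act 5 n2363 = n2363 := d19_2 F6641 D2363 (iv D2363)
theorem F8435 : act 6 n2363 = n1841 := d20_2 (iv F6642) D2363 (iv D1841)
def n2364 : Q := act 2 n1834
theorem D2364 : act 2 n1834 = n2364 := rfl
def n2365 : Q := act 4 n1834
theorem D2365 : act 4 n1834 = n2365 := rfl
theorem F8438 : act 1 n2365 = n1835 := d9_1 D2365 (iv D1835) (iv F6643)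
theorem F8439 : act 6 n2365 = n1843 := d23_2 (iv F6645) D2365 (iv D1843)
def n2367 : Q := act 0 n1836
theorem D2367 : act 0 n1836 = n2367 := rfl
theorem F8444 : act 1 n2367 = n1863 := d0_2 D1836 D2367 (iv D1863) (iv D1436) (iv F5193)
theorem F8445 : act 2 n2367 = n2367 := d1_2 F6649 D2367 (iv D2367)
theorem F8446 : act 4 n2367 = n2367 := d3_2 F6650 D2367 (iv D2367)
theorem F8447 : act 5 n2367 = n1838 := d4_2 (iv F6651) D2367 (iv D1838)
def n2368 : Q := act 3 n1836
theorem D2368 : act 3 n1836 = n2368 := rfl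
theorem F8448 : act 1 n2368 = n1837 := d8_1 D2368 (iv D1837) D1836
theorem F8449 : act 5 n2368 = n1839 := d19_2 (iv F6651) D2368 (iv D1839)
def n2369 : Q := act 4 n1837
theorem D2369 : act 4 n1837 = n2369 := rfl
theorem F8450 : act 0 n2369 = n1865 := d3_1 D2369 (iv D1865) (iv F6652)
theorem F8451 : act 2 n2369 = n1879 := d14_1 D2369 (iv D1879) (iv F6653)
theorem F8452 : act 3 n2369 = n2369 := d18_1 D2369 (iv D2369) (iv D1837) F5194 D1837
def n2370 : Q := act 3 n1838
theorem D2370 : act 3 n1838 = n2370 := rfl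
theorem F8453 : act 0 n2370 = n1839 := d2_1 D2370 (iv D1839) D1838
theorem F8454 : act 1 n2370 = n1866 := d8_1 D2370 (iv D1866) (iv F6655)
def n2371 : Q := act 2 n1839
theorem D2371 : act 2 n1839 = n2371 := rfl
theorem F8455 : act 1 n2371 = n1881 := d7_1 D2371 (iv D1881) F5293 (iv F5199) (iv F6658)
theorem F8456 : act 3 n2371 = n2371 := d13_2 D1839 D2371 (iv D2371) (iv D1839) F5196
def n2372 : Q := act 4 n1839
theorem D2372 : act 4 n1839 = n2372 := rfl
theorem F8457 : act 1 n2372 = n1840 := d9_1 D2372 (iv D1840) (iv F6658)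
theorem F8458 : act 3 n2372 = n1843 := d18_1 D2372 (iv D1843) (iv D1421) (iv F5197) D1839
def n2373 : Q := act 5 n1840
theorem D2373 : act 5 n1840 = n2373 := rfl
theorem F8459 : act 0 n2373 = n1869 := d4_1 D2373 (iv D1869) (iv F6659)
def n2374 : Q := act 2 n1841
theorem D2374 : act 2 n1841 = n2374 := rfl
theorem F8462 : act 0 n2374 = n1842 := d1_1 D2374 (iv D1842) (iv F6662)
theorem F8463 : act 1 n2374 = n2374 := d7_1 D2374 (iv D2374) F6663 F5258 (iv F6663)
theorem F8464 : act 3 n2374 = n2374 := d13_2 D1841 D2374 (iv D2374) (iv D1841) F5201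
theorem F8465 : act 5 n2374 = n2374 := d15_2 F6664 D2374 (iv D2374)
def n2375 : Q := act 4 n1841
theorem D2375 : act 4 n1841 = n2375 := rfl
theorem F8466 : act 0 n2375 = n1843 := d3_1 D2375 (iv D1843) (iv F6662)
theorem F8467 : act 1 n2375 = n1870 := d9_1 D2375 (iv D1870) (iv F6663)
def n2376 : Q := act 4 n1842
theorem D2376 : act 4 n1842 = n2376 := rfl
theorem F8469 : act 2 n2376 = n1843 := d14_1 D2376 (iv D1843) D1842
def n2377 : Q := act 6 n1842
theorem D2377 : act 6 n1842 = n2377 := rfl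
def n2383 : Q := act 1 n1848
theorem D2383 : act 1 n1848 = n2383 := rfl
theorem F8488 : act 2 n2383 = n2383 := d7_2 D1848 D2383 (iv D2383) (iv D1848) F5218
theorem F8489 : act 4 n2383 = n2383 := d9_2 F6683 D2383 (iv D2383)
theorem F8490 : act 5 n2383 = n1851 := d10_2 (iv F6684) D2383 (iv D1851)
theorem F8491 : act 7 n2383 = n1849 := d12_2 (iv F6685) D2383 (iv D1849)
def n2384 : Q := act 3 n1848
theorem D2384 : act 3 n1848 = n2384 := rfl
theorem F8492 : act 2 n2384 = n2384 := d13_1 D2384 (iv D2384) (iv D1848) F5219 D1848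
theorem F8493 : act 5 n2384 = n1852 := d19_2 (iv F6684) D2384 (iv D1852)
theorem F8494 : act 7 n2384 = n1850 := d21_2 (iv F6685) D2384 (iv D1850)
def n2385 : Q := act 0 n1849
theorem D2385 : act 0 n1849 = n2385 := rfl
theorem F8495 : act 2 n2385 = n2385 := d1_2 F6686 D2385 (iv D2385)
theorem F8496 : act 4 n2385 = n2385 := d3_2 F6687 D2385 (iv D2385)
theorem F8497 : act 5 n2385 = n1853 := d4_2 (iv F6688) D2385 (iv D1853)
theorem F8498 : act 6 n2385 = n1863 := d5_2 (iv F6689) D2385 (iv D1863)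
def n2386 : Q := act 3 n1849
theorem D2386 : act 3 n1849 = n2386 := rfl
theorem F8499 : act 1 n2386 = n1850 := d8_1 D2386 (iv D1850) D1849
theorem F8500 : act 5 n2386 = n1854 := d19_2 (iv F6688) D2386 (iv D1854)
theorem F8501 : act 6 n2386 = n1864 := d20_2 (iv F6689) D2386 (iv D1864)
def n2387 : Q := act 4 n1850
theorem D2387 : act 4 n1850 = n2387 := rfl
theorem F8502 : act 2 n2387 = n2387 := d14_1 D2387 (iv D2387) F6690
theorem F8503 : act 3 n2387 = n2387 := d18_1 D2387 (iv D2387) (iv D1850) F5223 D1850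
theorem F8504 : act 6 n2387 = n1865 := d23_2 (iv F6692) D2387 (iv D1865)
def n2388 : Q := act 0 n1851
theorem D2388 : act 0 n1851 = n2388 := rfl
theorem F8505 : act 2 n2388 = n2388 := d1_2 F6693 D2388 (iv D2388)
theorem F8506 : act 4 n2388 = n1856 := d3_2 (iv F6694) D2388 (iv D1856)
theorem F8507 : act 7 n2388 = n1853 := d6_2 (iv F6695) D2388 (iv D1853)
def n2389 : Q := act 3 n1851
theorem D2389 : act 3 n1851 = n2389 := rfl
theorem F8508 : act 1 n2389 = n1852 := d8_1 D2389 (iv D1852) D1851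
theorem F8509 : act 7 n2389 = n1854 := d21_2 (iv F6695) D2389 (iv D1854)
def n2390 : Q := act 4 n1852
theorem D2390 : act 4 n1852 = n2390 := rfl
theorem F8510 : act 2 n2390 = n2390 := d14_1 D2390 (iv D2390) F6696
theorem F8511 : act 3 n2390 = n1858 := d18_1 D2390 (iv D1858) (iv D1432) (iv F5226) D1852
theorem F8512 : act 7 n2390 = n1855 := d24_2 (iv F6697) D2390 (iv D1855)
def n2391 : Q := act 3 n1853
theorem D2391 : act 3 n1853 = n2391 := rfl
theorem F8513 : act 0 n2391 = n1854 := d2_1 D2391 (iv D1854) D1853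
theorem F8514 : act 6 n2391 = n1866 := d20_2 (iv F6700) D2391 (iv D1866)
def n2392 : Q := act 2 n1854
theorem D2392 : act 2 n1854 = n2392 := rfl
theorem F8515 : act 1 n2392 = n2392 := d7_1 D2392 (iv D2392) F6701 F5231 (iv F6701)
theorem F8516 : act 3 n2392 = n2392 := d13_2 D1854 D2392 (iv D2392) (iv D1854) F5228
def n2393 : Q := act 4 n1854
theorem D2393 : act 4 n1854 = n2393 := rfl
theorem F8517 : act 1 n2393 = n1855 := d9_1 D2393 (iv D1855) (iv F6701)
theorem F8518 : act 3 n2393 = n1861 := d18_1 D2393 (iv D1861) (iv D1434) (iv F5229) D1854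
theorem F8519 : act 6 n2393 = n1868 := d23_2 (iv F6702) D2393 (iv D1868)
def n2394 : Q := act 5 n1855
theorem D2394 : act 5 n1855 = n2394 := rfl
theorem F8520 : act 2 n2394 = n2394 := d15_1 D2394 (iv D2394) F6703
theorem F8521 : act 3 n2394 = n1862 := d19_1 D2394 (iv D1862) (iv F6704)
theorem F8522 : act 6 n2394 = n1869 := d25_2 (iv F6705) D2394 (iv D1869)
def n2395 : Q := act 3 n1856
theorem D2395 : act 3 n1856 = n2395 := rfl
theorem F8523 : act 0 n2395 = n1857 := d2_1 D2395 (iv D1857) D1856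
theorem F8524 : act 5 n2395 = n2395 := d19_2 F6707 D2395 (iv D2395)
theorem F8525 : act 7 n2395 = n1859 := d21_2 (iv F6708) D2395 (iv D1859)
def n2396 : Q := act 2 n1857
theorem D2396 : act 2 n1857 = n2396 := rfl
theorem F8526 : act 1 n2396 = n2001 := d7_1 D2396 (iv D2001) F5617 (iv F5236) (iv F6709)
theorem F8527 : act 3 n2396 = n2396 := d13_2 D1857 D2396 (iv D2396) (iv D1857) F5233
theorem F8528 : act 5 n2396 = n2396 := d15_2 F6710 D2396 (iv D2396)
theorem F8529 : act 7 n2396 = n1860 := d17_2 (iv F6711) D2396 (iv D1860)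
def n2397 : Q := act 4 n1857
theorem D2397 : act 4 n1857 = n2397 := rfl
theorem F8530 : act 1 n2397 = n1858 := d9_1 D2397 (iv D1858) (iv F6709)
theorem F8531 : act 7 n2397 = n1861 := d24_2 (iv F6711) D2397 (iv D1861)
def n2398 : Q := act 5 n1858
theorem D2398 : act 5 n1858 = n2398 := rfl
theorem F8532 : act 2 n2398 = n2003 := d15_1 D2398 (iv D2003) (iv F6712)
theorem F8533 : act 4 n2398 = n2398 := d22_1 D2398 (iv D2398) (iv D1858) F5237 D1858
theorem F8534 : act 7 n2398 = n1862 := d26_2 (iv F6713) D2398 (iv D1862)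
def n2399 : Q := act 2 n1859
theorem D2399 : act 2 n1859 = n2399 := rfl
theorem F8535 : act 0 n2399 = n1860 := d1_1 D2399 (iv D1860) (iv F6714)
theorem F8536 : act 3 n2399 = n2399 := d13_2 D1859 D2399 (iv D2399) (iv D1859) F5239
theorem F8537 : act 5 n2399 = n2399 := d15_2 F6715 D2399 (iv D2399)
theorem F8538 : act 6 n2399 = n2399 := d16_2 (iv F6716) D2399 (iv D2399) F6716 F5258
def n2400 : Q := act 4 n1859
theorem D2400 : act 4 n1859 = n2400 := rfl
theorem F8539 : act 0 n2400 = n1861 := d3_1 D2400 (iv D1861) (iv F6714)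
theorem F8540 : act 6 n2400 = n1870 := d23_2 (iv F6716) D2400 (iv D1870)
def n2401 : Q := act 4 n1860
theorem D2401 : act 4 n1860 = n2401 := rfl
theorem F8541 : act 1 n2401 = n2006 := d9_1 D2401 (iv D2006) (iv F6717)
theorem F8542 : act 2 n2401 = n1861 := d14_1 D2401 (iv D1861) D1860
theorem F8543 : act 6 n2401 = n2401 := d23_2 F6720 D2401 (iv D2401)
def n2402 : Q := act 5 n1861
theorem D2402 : act 5 n1861 = n2402 := rfl
theorem F8544 : act 1 n2402 = n1862 := d10_1 D2402 (iv D1862) (iv F6721)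
theorem F8545 : act 4 n2402 = n2402 := d22_1 D2402 (iv D2402) (iv D1861) F5243 D1861
theorem F8546 : act 6 n2402 = n1871 := d25_2 (iv F6722) D2402 (iv D1871)
def n2403 : Q := act 3 n1863
theorem D2403 : act 3 n1863 = n2403 := rfl
theorem F8547 : act 0 n2403 = n1864 := d2_1 D2403 (iv D1864) D1863
theorem F8548 : act 5 n2403 = n1866 := d19_2 (iv F6728) D2403 (iv D1866)
def n2404 : Q := act 2 n1864
theorem D2404 : act 2 n1864 = n2404 := rfl
theorem F8549 : act 1 n2404 = n1894 := d7_1 D2404 (iv D1894) F5325 (iv F5250) (iv F6729)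
def n2405 : Q := act 4 n1864
theorem D2405 : act 4 n1864 = n2405 := rfl
theorem F8552 : act 1 n2405 = n1865 := d9_1 D2405 (iv D1865) (iv F6729)
def n2406 : Q := act 5 n1865
theorem D2406 : act 5 n1865 = n2406 := rfl
theorem F8554 : act 2 n2406 = n1896 := d15_1 D2406 (iv D1896) (iv F6731)
theorem F8555 : act 3 n2406 = n2406 := d19_1 D2406 (iv D2406) F6732
theorem F8556 : act 4 n2406 = n1869 := d22_1 D2406 (iv D1869) (iv D1440) (iv F5251) D1865
def n2407 : Q := act 2 n1866
theorem D2407 : act 2 n1866 = n2407 := rfl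
theorem F8557 : act 0 n2407 = n1867 := d1_1 D2407 (iv D1867) (iv F6733)
theorem F8558 : act 3 n2407 = n1875 := d13_2 D1866 D2407 (iv D1875) (iv D1447) (iv F5252)
def n2408 : Q := act 4 n1866
theorem D2408 : act 4 n1866 = n2408 := rfl
theorem F8559 : act 0 n2408 = n1868 := d3_1 D2408 (iv D1868) (iv F6733)
theorem F8560 : act 3 n2408 = n1870 := d18_1 D2408 (iv D1870) (iv D1441) (iv F5253) D1866
def n2409 : Q := act 4 n1867
theorem D2409 : act 4 n1867 = n2409 := rfl
theorem F8561 : act 1 n2409 = n1899 := d9_1 D2409 (iv D1899) (iv F6734)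
theorem F8562 : act 2 n2409 = n1868 := d14_1 D2409 (iv D1868) D1867
theorem F8563 : act 3 n2409 = n2409 := d18_1 D2409 (iv D2409) F6735 F5281 (iv F6735)
def n2410 : Q := act 6 n1867
theorem D2410 : act 6 n1867 = n2410 := rfl
theorem F8564 : act 1 n2410 = n1900 := d11_1 D2410 (iv D1900) (iv F6734)
theorem F8565 : act 3 n2410 = n1876 := d20_1 D2410 (iv D1876) (iv F6735)
def n2411 : Q := act 5 n1868
theorem D2411 : act 5 n1868 = n2411 := rfl
theorem F8566 : act 1 n2411 = n1869 := d10_1 D2411 (iv D1869) (iv F6736)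
theorem F8567 : act 3 n2411 = n1871 := d19_1 D2411 (iv D1871) (iv F6737)
def n2412 : Q := act 5 n1870
theorem D2412 : act 5 n1870 = n2412 := rfl
theorem F8568 : act 0 n2412 = n1871 := d4_1 D2412 (iv D1871) (iv F6740)
theorem F8569 : act 2 n2412 = n2412 := d15_1 D2412 (iv D2412) F6741
theorem F8570 : act 4 n2412 = n2412 := d22_1 D2412 (iv D2412) (iv D1870) F5259 D1870
def n2413 : Q := act 2 n1872
theorem D2413 : act 2 n1872 = n2413 := rfl
theorem F8571 : act 0 n2413 = n1873 := d1_1 D2413 (iv D1873) (iv F6745)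
theorem F8572 : act 5 n2413 = n1875 := d15_2 (iv F6747) D2413 (iv D1875)
def n2414 : Q := act 4 n1872
theorem D2414 : act 4 n1872 = n2414 := rfl
theorem F8577 : act 6 n2414 = n2414 := d23_2 F6748 D2414 (iv D2414)
def n2415 : Q := act 4 n1873
theorem D2415 : act 4 n1873 = n2415 := rfl
theorem F8578 : act 1 n2415 = n1905 := d9_1 D2415 (iv D1905) (iv F6749)
theorem F8579 : act 2 n2415 = n1874 := d14_1 D2415 (iv D1874) D1873
def n2416 : Q := act 6 n1873
theorem D2416 : act 6 n1873 = n2416 := rfl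
theorem F8582 : act 2 n2416 = n2416 := d16_1 D2416 (iv D2416) (iv D1873) F5270 D1873
theorem F8583 : act 5 n2416 = n1876 := d25_1 D2416 (iv D1876) (iv F6750)
def n2417 : Q := act 1 n1875
theorem D2417 : act 1 n1875 = n2417 := rfl
theorem F8584 : act 0 n2417 = n1907 := d0_1 D2417 (iv D1907) F5354 (iv F5280) (iv F6755)
def n2418 : Q := act 6 n1875
theorem D2418 : act 6 n1875 = n2418 := rfl
theorem F8587 : act 0 n2418 = n1876 := d5_1 D2418 (iv D1876) (iv F6755)
theorem F8588 : act 2 n2418 = n2418 := d16_1 D2418 (iv D2418) (iv D1875) F5279 D1875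
theorem F8589 : act 4 n2418 = n2418 := d23_1 D2418 (iv D2418) F6756
def n2419 : Q := act 7 n1876
theorem D2419 : act 7 n1876 = n2419 := rfl
theorem F8590 : act 1 n2419 = n1909 := d12_1 D2419 (iv D1909) (iv F6757)
theorem F8591 : act 2 n2419 = n2419 := d17_1 D2419 (iv D2419) F6758
theorem F8592 : act 4 n2419 = n2419 := d24_1 D2419 (iv D2419) F6759
def n2420 : Q := act 3 n1877
theorem D2420 : act 3 n1877 = n2420 := rfl
theorem F8593 : act 0 n2420 = n1878 := d2_1 D2420 (iv D1878) D1877
def n2421 : Q := act 2 n1878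
theorem D2421 : act 2 n1878 = n2421 := rfl
theorem F8598 : act 5 n2421 = n1881 := d15_2 (iv F6766) D2421 (iv D1881)
def n2422 : Q := act 4 n1878
theorem D2422 : act 4 n1878 = n2422 := rfl
theorem F8599 : act 1 n2422 = n1879 := d9_1 D2422 (iv D1879) (iv F6765)
theorem F8600 : act 3 n2422 = n1912 := d18_1 D2422 (iv D1912) (iv D1476) (iv F5283) D1878
def n2423 : Q := act 5 n1879
theorem D2423 : act 5 n1879 = n2423 := rfl
theorem F8603 : act 3 n2423 = n1913 := d19_1 D2423 (iv D1913) (iv F6769)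
def n2424 : Q := act 2 n1880
theorem D2424 : act 2 n1880 = n2424 := rfl
theorem F8606 : act 0 n2424 = n1881 := d1_1 D2424 (iv D1881) (iv F6771)
def n2425 : Q := act 4 n1880
theorem D2425 : act 4 n1880 = n2425 := rfl
theorem F8610 : act 3 n2425 = n1885 := d18_1 D2425 (iv D1885) (iv D1454) (iv F5291) D1880
def n2426 : Q := act 4 n1881
theorem D2426 : act 4 n1881 = n2426 := rfl
theorem F8612 : act 2 n2426 = n1882 := d14_1 D2426 (iv D1882) D1881
def n2428 : Q := act 5 n1882
theorem D2428 : act 5 n1882 = n2428 := rfl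
def n2429 : Q := act 4 n1884
theorem D2429 : act 4 n1884 = n2429 := rfl
theorem F8620 : act 2 n2429 = n1885 := d14_1 D2429 (iv D1885) D1884
def n2432 : Q := act 3 n1886
theorem D2432 : act 3 n1886 = n2432 := rfl
def n2440 : Q := act 2 n1893
theorem D2440 : act 2 n1893 = n2440 := rfl
theorem F8654 : act 0 n2440 = n1894 := d1_1 D2440 (iv D1894) (iv F6809)
theorem F8656 : act 5 n2440 = n1897 := d15_2 (iv F6810) D2440 (iv D1897)
def n2441 : Q := act 4 n1893
theorem D2441 : act 4 n1893 = n2441 := rfl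
def n2444 : Q := act 5 n1895
theorem D2444 : act 5 n1895 = n2444 := rfl
theorem F8664 : act 1 n2444 = n1896 := d10_1 D2444 (iv D1896) (iv F6814)
def n2445 : Q := act 1 n1897
theorem D2445 : act 1 n1897 = n2445 := rfl
def n2446 : Q := act 4 n1897
theorem D2446 : act 4 n1897 = n2446 := rfl
theorem F8670 : act 2 n2446 = n1898 := d14_1 D2446 (iv D1898) D1897
def n2449 : Q := act 5 n1899
theorem D2449 : act 5 n1899 = n2449 := rfl
def n2450 : Q := act 6 n1899
theorem D2450 : act 6 n1899 = n2450 := rfl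
theorem F8680 : act 2 n2450 = n2450 := d16_1 D2450 (iv D2450) F6825 F5335 (iv F6825)
theorem F8681 : act 3 n2450 = n2450 := d20_1 D2450 (iv D2450) F6826
theorem F8682 : act 4 n2450 = n1900 := d23_1 D2450 (iv D1900) D1899
def n2451 : Q := act 7 n1900
theorem D2451 : act 7 n1900 = n2451 := rfl
theorem F8683 : act 2 n2451 = n2451 := d17_1 D2451 (iv D2451) F6827
theorem F8684 : act 3 n2451 = n1909 := d21_1 D2451 (iv D1909) (iv F6828)
def n2452 : Q := act 1 n1903
theorem D2452 : act 1 n1903 = n2452 := rfl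
theorem F8686 : act 5 n2452 = n1907 := d10_2 (iv F6837) D2452 (iv D1907)
def n2453 : Q := act 4 n1903
theorem D2453 : act 4 n1903 = n2453 := rfl
theorem F8688 : act 2 n2453 = n1904 := d14_1 D2453 (iv D1904) D1903
def n2454 : Q := act 6 n1903
theorem D2454 : act 6 n1903 = n2454 := rfl
theorem F8691 : act 2 n2454 = n1952 := d16_1 D2454 (iv D1952) (iv D1508) (iv F5348) D1903
def n2455 : Q := act 3 n1905
theorem D2455 : act 3 n1905 = n2455 := rfl
theorem F8693 : act 2 n2455 = n1945 := d13_1 D2455 (iv D1945) F5439 (iv F5351) (iv F6843)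
def n2456 : Q := act 6 n1905
theorem D2456 : act 6 n1905 = n2456 := rfl
theorem F8695 : act 2 n2456 = n1954 := d16_1 D2456 (iv D1954) F5463 (iv F5353) (iv F6843)
def n2457 : Q := act 7 n1906
theorem D2457 : act 7 n1906 = n2457 := rfl
theorem F8699 : act 5 n2457 = n1909 := d26_1 D2457 (iv D1909) (iv F6846)
def n2458 : Q := act 6 n1907
theorem D2458 : act 6 n1907 = n2458 := rfl
theorem F8700 : act 1 n2458 = n1908 := d11_1 D2458 (iv D1908) D1907
def n2459 : Q := act 7 n1908
theorem D2459 : act 7 n1908 = n2459 := rfl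
theorem F8702 : act 0 n2459 = n1909 := d6_1 D2459 (iv D1909) (iv F6849)
def n2460 : Q := act 2 n1910
theorem D2460 : act 2 n1910 = n2460 := rfl
theorem F8705 : act 0 n2460 = n1911 := d1_1 D2460 (iv D1911) (iv F6854)
theorem F8707 : act 5 n2460 = n1914 := d15_2 (iv F6856) D2460 (iv D1914)
def n2461 : Q := act 4 n1910
theorem D2461 : act 4 n1910 = n2461 := rfl
theorem F8708 : act 0 n2461 = n1912 := d3_1 D2461 (iv D1912) (iv F6854)
theorem F8709 : act 1 n2461 = n1931 := d9_1 D2461 (iv D1931) (iv F6855)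
def n2462 : Q := act 4 n1911
theorem D2462 : act 4 n1911 = n2462 := rfl
theorem F8712 : act 2 n2462 = n1912 := d14_1 D2462 (iv D1912) D1911
def n2465 : Q := act 1 n1914
theorem D2465 : act 1 n1914 = n2465 := rfl
theorem F8721 : act 2 n2465 = n1935 := d7_2 D1914 D2465 (iv D1935) (iv D1495) (iv F5369)
def n2466 : Q := act 4 n1914
theorem D2466 : act 4 n1914 = n2466 := rfl
theorem F8723 : act 0 n2466 = n1916 := d3_1 D2466 (iv D1916) (iv F6867)
theorem F8724 : act 2 n2466 = n1915 := d14_1 D2466 (iv D1915) D1914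
def n2469 : Q := act 3 n1916
theorem D2469 : act 3 n1916 = n2469 := rfl
theorem F8733 : act 2 n2469 = n1922 := d13_1 D2469 (iv D1922) F5387 (iv F5374) (iv F6874)
def n2470 : Q := act 5 n1916
theorem D2470 : act 5 n1916 = n2470 := rfl
def n2471 : Q := act 6 n1916
theorem D2471 : act 6 n1916 = n2471 := rfl
def n2473 : Q := act 3 n1919
theorem D2473 : act 3 n1919 = n2473 := rfl
def n2477 : Q := act 5 n1922
theorem D2477 : act 5 n1922 = n2477 := rfl
theorem F8757 : act 1 n2477 = n1926 := d10_1 D2477 (iv D1926) (iv F6891)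
def n2478 : Q := act 6 n1922
theorem D2478 : act 6 n1922 = n2478 := rfl
def n2481 : Q := act 4 n1926
theorem D2481 : act 4 n1926 = n2481 := rfl
def n2482 : Q := act 6 n1926
theorem D2482 : act 6 n1926 = n2482 := rfl
theorem F8773 : act 5 n2482 = n1927 := d25_1 D2482 (iv D1927) D1926
def n2483 : Q := act 2 n1927
theorem D2483 : act 2 n1927 = n2483 := rfl
def n2484 : Q := act 7 n1927
theorem D2484 : act 7 n1927 = n2484 := rfl
def n2485 : Q := act 7 n1928
theorem D2485 : act 7 n1928 = n2485 := rfl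
def n2486 : Q := act 1 n1930
theorem D2486 : act 1 n1930 = n2486 := rfl
theorem F8785 : act 3 n2486 = n1942 := d8_2 (iv F6914) D2486 (iv D1942)
def n2487 : Q := act 4 n1930
theorem D2487 : act 4 n1930 = n2487 := rfl
theorem F8788 : act 2 n2487 = n1931 := d14_1 D2487 (iv D1931) D1930
def n2489 : Q := act 5 n1931
theorem D2489 : act 5 n1931 = n2489 := rfl
def n2494 : Q := act 4 n1935
theorem D2494 : act 4 n1935 = n2494 := rfl
def n2495 : Q := act 6 n1935
theorem D2495 : act 6 n1935 = n2495 := rfl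
def n2496 : Q := act 5 n1936
theorem D2496 : act 5 n1936 = n2496 := rfl
theorem F8815 : act 2 n2496 = n1938 := d15_1 D2496 (iv D1938) (iv F6930)
def n2497 : Q := act 6 n1936
theorem D2497 : act 6 n1936 = n2497 := rfl
theorem F8818 : act 2 n2497 = n2497 := d16_1 D2497 (iv D2497) F6930 F5419 (iv F6930)
theorem F8820 : act 4 n2497 = n1937 := d23_1 D2497 (iv D1937) D1936
def n2498 : Q := act 7 n1937
theorem D2498 : act 7 n1937 = n2498 := rfl
theorem F8823 : act 3 n2498 = n1949 := d21_1 D2498 (iv D1949) (iv F6934)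
def n2501 : Q := act 4 n1942
theorem D2501 : act 4 n1942 = n2501 := rfl
theorem F8833 : act 1 n2501 = n1943 := d9_1 D2501 (iv D1943) D1942
def n2502 : Q := act 6 n1942
theorem D2502 : act 6 n1942 = n2502 := rfl
def n2503 : Q := act 3 n1943
theorem D2503 : act 3 n1943 = n2503 := rfl
theorem F8839 : act 0 n2503 = n1945 := d2_1 D2503 (iv D1945) (iv F6951)
def n2504 : Q := act 6 n1943
theorem D2504 : act 6 n1943 = n2504 := rfl
theorem F8841 : act 0 n2504 = n1946 := d5_1 D2504 (iv D1946) (iv F6951)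
theorem F8842 : act 2 n2504 = n1961 := d16_1 D2504 (iv D1961) F5487 (iv F5437) (iv F6952)
def n2505 : Q := act 7 n1944
theorem D2505 : act 7 n1944 = n2505 := rfl
theorem F8846 : act 2 n2505 = n1962 := d17_1 D2505 (iv D1962) (iv F6955)
def n2506 : Q := act 6 n1945
theorem D2506 : act 6 n1945 = n2506 := rfl
def n2507 : Q := act 7 n1946
theorem D2507 : act 7 n1946 = n2507 := rfl
theorem F8852 : act 2 n2507 = n1964 := d17_1 D2507 (iv D1964) (iv F6960)
def n2508 : Q := act 2 n1948
theorem D2508 : act 2 n1948 = n2508 := rfl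
theorem F8856 : act 1 n2508 = n1965 := d7_1 D2508 (iv D1965) F5505 (iv F5448) (iv F6967)
def n2509 : Q := act 7 n1948
theorem D2509 : act 7 n1948 = n2509 := rfl
def n2510 : Q := act 4 n1950
theorem D2510 : act 4 n1950 = n2510 := rfl
theorem F8862 : act 0 n2510 = n2510 := d3_1 D2510 (iv D2510) F6972
theorem F8863 : act 1 n2510 = n1951 := d9_1 D2510 (iv D1951) D1950
def n2511 : Q := act 6 n1950
theorem D2511 : act 6 n1950 = n2511 := rfl
theorem F8868 : act 1 n2511 = n1952 := d11_1 D2511 (iv D1952) D1950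
theorem F8870 : act 5 n2511 = n1956 := d25_1 D2511 (iv D1956) (iv F6975)
def n2512 : Q := act 3 n1951
theorem D2512 : act 3 n1951 = n2512 := rfl
theorem F8871 : act 0 n2512 = n1953 := d2_1 D2512 (iv D1953) (iv F6977)
theorem F8872 : act 2 n2512 = n1960 := d13_1 D2512 (iv D1960) F5487 (iv F5459) (iv F6978)
def n2514 : Q := act 7 n1952
theorem D2514 : act 7 n1952 = n2514 := rfl
theorem F8879 : act 0 n2514 = n1955 := d6_1 D2514 (iv D1955) (iv F6981)
theorem F8881 : act 5 n2514 = n1957 := d26_1 D2514 (iv D1957) (iv F6983)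
def n2515 : Q := act 6 n1953
theorem D2515 : act 6 n1953 = n2515 := rfl
theorem F8883 : act 1 n2515 = n2515 := d11_1 D2515 (iv D2515) F6984
def n2516 : Q := act 7 n1954
theorem D2516 : act 7 n1954 = n2516 := rfl
theorem F8887 : act 1 n2516 = n2516 := d12_1 D2516 (iv D2516) F6989
theorem F8888 : act 4 n2516 = n1955 := d24_1 D2516 (iv D1955) (iv F6990)
def n2517 : Q := act 2 n1956
theorem D2517 : act 2 n1956 = n2517 := rfl
theorem F8891 : act 0 n2517 = n2517 := d1_1 D2517 (iv D2517) F6996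
theorem F8892 : act 4 n2517 = n2517 := d14_2 F6999 D2517 (iv D2517)
theorem F8893 : act 6 n2517 = n2517 := d16_2 D1956 D2517 (iv D2517) (iv D1956) F5470
def n2518 : Q := act 7 n1956
theorem D2518 : act 7 n1956 = n2518 := rfl
theorem F8894 : act 0 n2518 = n2518 := d6_1 D2518 (iv D2518) F6996
theorem F8895 : act 1 n2518 = n1957 := d12_1 D2518 (iv D1957) (iv F6997)
theorem F8896 : act 3 n2518 = n2518 := d21_1 D2518 (iv D2518) F6998
theorem F8897 : act 4 n2518 = n2518 := d24_1 D2518 (iv D2518) F6999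
theorem F8898 : act 6 n2518 = n2518 := d27_1 D2518 (iv D2518) (iv D1956) F5473 D1956
def n2519 : Q := act 3 n1958
theorem D2519 : act 3 n1958 = n2519 := rfl
theorem F8900 : act 1 n2519 = n1960 := d8_1 D2519 (iv D1960) (iv F7005)
def n2520 : Q := act 6 n1958
theorem D2520 : act 6 n1958 = n2520 := rfl
theorem F8904 : act 0 n2520 = n1968 := d5_1 D2520 (iv D1968) (iv F7004)
theorem F8905 : act 1 n2520 = n1961 := d11_1 D2520 (iv D1961) (iv F7005)
def n2521 : Q := act 2 n1959
theorem D2521 : act 2 n1959 = n2521 := rfl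
theorem F8909 : act 5 n2521 = n1965 := d15_2 (iv F7012) D2521 (iv D1965)
def n2522 : Q := act 7 n1959
theorem D2522 : act 7 n1959 = n2522 := rfl
theorem F8911 : act 0 n2522 = n1970 := d6_1 D2522 (iv D1970) (iv F7009)
theorem F8912 : act 1 n2522 = n1962 := d12_1 D2522 (iv D1962) (iv F7010)
def n2523 : Q := act 6 n1960
theorem D2523 : act 6 n1960 = n2523 := rfl
theorem F8917 : act 3 n2523 = n1961 := d20_1 D2523 (iv D1961) D1960
def n2524 : Q := act 7 n1961
theorem D2524 : act 7 n1961 = n2524 := rfl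
def n2528 : Q := act 7 n1965
theorem D2528 : act 7 n1965 = n2528 := rfl
def n2529 : Q := act 2 n1967
theorem D2529 : act 2 n1967 = n2529 := rfl
theorem F8937 : act 1 n2529 = n2529 := d7_1 D2529 (iv D2529) F7040 F5520 (iv F7040)
def n2530 : Q := act 6 n1967
theorem D2530 : act 6 n1967 = n2530 := rfl
theorem F8942 : act 1 n2530 = n1971 := d11_1 D2530 (iv D1971) (iv F7040)
theorem F8943 : act 3 n2530 = n1968 := d20_1 D2530 (iv D1968) D1967
def n2532 : Q := act 7 n1968
theorem D2532 : act 7 n1968 = n2532 := rfl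
def n2535 : Q := act 2 n1971
theorem D2535 : act 2 n1971 = n2535 := rfl
theorem F8965 : act 6 n2535 = n2535 := d16_2 D1971 D2535 (iv D2535) (iv D1971) F5520
def n2542 : Q := act 2 n1977
theorem D2542 : act 2 n1977 = n2542 := rfl
def n2546 : Q := act 3 n1979
theorem D2546 : act 3 n1979 = n2546 := rfl
theorem F9007 : act 1 n2546 = n1980 := d8_1 D2546 (iv D1980) D1979
def n2572 : Q := act 2 n2000
theorem D2572 : act 2 n2000 = n2572 := rfl
theorem F9095 : act 0 n2572 = n2001 := d1_1 D2572 (iv D2001) (iv F7163)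
theorem F9098 : act 7 n2572 = n2004 := d17_2 (iv F7166) D2572 (iv D2004)
def n2573 : Q := act 4 n2000
theorem D2573 : act 4 n2000 = n2573 := rfl
theorem F9099 : act 0 n2573 = n2002 := d3_1 D2573 (iv D2002) (iv F7163)
theorem F9102 : act 7 n2573 = n2005 := d24_2 (iv F7166) D2573 (iv D2005)
def n2574 : Q := act 4 n2001
theorem D2574 : act 4 n2001 = n2574 := rfl
theorem F9103 : act 2 n2574 = n2002 := d14_1 D2574 (iv D2002) D2001
theorem F9104 : act 7 n2574 = n2006 := d24_2 (iv F7169) D2574 (iv D2006)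
def n2575 : Q := act 6 n2001
theorem D2575 : act 6 n2001 = n2575 := rfl
theorem F9105 : act 2 n2575 = n2575 := d16_1 D2575 (iv D2575) (iv D2001) F5619 D2001
theorem F9106 : act 3 n2575 = n2575 := d20_1 D2575 (iv D2575) F7167
theorem F9107 : act 5 n2575 = n2575 := d25_1 D2575 (iv D2575) F7168
theorem F9108 : act 7 n2575 = n2575 := d27_2 (iv F7169) D2575 (iv D2575) F7169 F5629
def n2578 : Q := act 4 n2004
theorem D2578 : act 4 n2004 = n2578 := rfl
theorem F9117 : act 0 n2578 = n2006 := d3_1 D2578 (iv D2006) (iv F7178)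
theorem F9118 : act 2 n2578 = n2005 := d14_1 D2578 (iv D2005) D2004
def n2580 : Q := act 3 n2006
theorem D2580 : act 3 n2006 = n2580 := rfl
theorem F9124 : act 2 n2580 = n2580 := d13_1 D2580 (iv D2580) F7185 F5631 (iv F7185)
theorem F9125 : act 4 n2580 = n2580 := d18_2 D2006 D2580 (iv D2580) (iv D2006) F5627
theorem F9126 : act 6 n2580 = n2580 := d20_2 F7186 D2580 (iv D2580)
def n2581 : Q := act 5 n2006
theorem D2581 : act 5 n2006 = n2581 := rfl
def n2656 : Q := act 2 n2069
theorem D2656 : act 2 n2069 = n2656 := rfl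
theorem F9396 : act 0 n2656 = n2114 := d1_1 D2656 (iv D2114) (iv F7420)
theorem F9397 : act 4 n2656 = n2071 := d14_2 (iv F7423) D2656 (iv D2071)
theorem F9398 : act 5 n2656 = n2142 := d15_2 (iv F7424) D2656 (iv D2142)
theorem F9399 : act 6 n2656 = n2656 := d16_2 D2069 D2656 (iv D2656) (iv D2069) F5842
theorem F9400 : act 7 n2656 = n2141 := d17_2 (iv F7425) D2656 (iv D2141)
def n2657 : Q := act 2 n2070
theorem D2657 : act 2 n2070 = n2657 := rfl
theorem F9401 : act 0 n2657 = n2116 := d1_1 D2657 (iv D2116) (iv F7426)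
theorem F9402 : act 4 n2657 = n2141 := d14_2 (iv F7429) D2657 (iv D2141)
theorem F9403 : act 5 n2657 = n2657 := d15_2 F7430 D2657 (iv D2657)
theorem F9404 : act 6 n2657 = n2211 := d16_2 D2070 D2657 (iv D2211) (iv D1717) (iv F5848)
theorem F9405 : act 7 n2657 = n2071 := d17_2 (iv F7431) D2657 (iv D2071)
def n2658 : Q := act 1 n2071
theorem D2658 : act 1 n2071 = n2658 := rfl
theorem F9406 : act 2 n2658 = n2077 := d7_2 D2071 D2658 (iv D2077) (iv D1616) (iv F5853)
theorem F9407 : act 5 n2658 = n2658 := d10_2 F7433 D2658 (iv D2658)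
theorem F9408 : act 6 n2658 = n2658 := d11_2 F7434 D2658 (iv D2658)
def n2659 : Q := act 3 n2071
theorem D2659 : act 3 n2071 = n2659 := rfl
theorem F9409 : act 0 n2659 = n2118 := d2_1 D2659 (iv D2118) (iv F7432)
theorem F9410 : act 2 n2659 = n2659 := d13_1 D2659 (iv D2659) (iv D2071) F5854 D2071
theorem F9411 : act 5 n2659 = n2659 := d19_2 F7433 D2659 (iv D2659)
theorem F9412 : act 6 n2659 = n2659 := d20_2 F7434 D2659 (iv D2659)
def n2660 : Q := act 2 n2072
theorem D2660 : act 2 n2072 = n2660 := rfl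
theorem F9413 : act 0 n2660 = n2088 := d1_1 D2660 (iv D2088) (iv F7435)
theorem F9414 : act 4 n2660 = n2660 := d14_2 F7438 D2660 (iv D2660)
theorem F9415 : act 5 n2660 = n2090 := d15_2 (iv F7439) D2660 (iv D2090)
theorem F9416 : act 6 n2660 = n2660 := d16_2 D2072 D2660 (iv D2660) (iv D2072) F5858
theorem F9417 : act 7 n2660 = n2089 := d17_2 (iv F7440) D2660 (iv D2089)
def n2661 : Q := act 2 n2073
theorem D2661 : act 2 n2073 = n2661 := rfl
theorem F9418 : act 0 n2661 = n2089 := d1_1 D2661 (iv D2089) (iv F7441)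
theorem F9419 : act 4 n2661 = n2661 := d14_2 F7444 D2661 (iv D2661)
theorem F9420 : act 5 n2661 = n2075 := d15_2 (iv F7445) D2661 (iv D2075)
theorem F9421 : act 6 n2661 = n2079 := d16_2 D2073 D2661 (iv D2079) (iv D1617) (iv F5864)
theorem F9422 : act 7 n2661 = n2088 := d17_2 (iv F7446) D2661 (iv D2088)
def n2662 : Q := act 2 n2074
theorem D2662 : act 2 n2074 = n2662 := rfl
theorem F9423 : act 0 n2662 = n2090 := d1_1 D2662 (iv D2090) (iv F7447)
theorem F9424 : act 4 n2662 = n2076 := d14_2 (iv F7450) D2662 (iv D2076)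
theorem F9425 : act 5 n2662 = n2088 := d15_2 (iv F7451) D2662 (iv D2088)
theorem F9426 : act 6 n2662 = n2662 := d16_2 D2074 D2662 (iv D2662) (iv D2074) F5870
theorem F9427 : act 7 n2662 = n2075 := d17_2 (iv F7452) D2662 (iv D2075)
def n2663 : Q := act 1 n2075
theorem D2663 : act 1 n2075 = n2663 := rfl
theorem F9428 : act 4 n2663 = n2077 := d9_2 (iv F7454) D2663 (iv D2077)
theorem F9429 : act 6 n2663 = n2080 := d11_2 (iv F7455) D2663 (iv D2080)
def n2664 : Q := act 3 n2075
theorem D2664 : act 3 n2075 = n2664 := rfl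
theorem F9430 : act 0 n2664 = n2092 := d2_1 D2664 (iv D2092) (iv F7453)
theorem F9431 : act 6 n2664 = n2081 := d20_2 (iv F7455) D2664 (iv D2081)
def n2665 : Q := act 1 n2076
theorem D2665 : act 1 n2076 = n2665 := rfl
theorem F9432 : act 5 n2665 = n2665 := d10_2 F7457 D2665 (iv D2665)
theorem F9433 : act 6 n2665 = n2665 := d11_2 F7458 D2665 (iv D2665)
theorem F9434 : act 7 n2665 = n2077 := d12_2 (iv F7459) D2665 (iv D2077)
def n2666 : Q := act 3 n2076
theorem D2666 : act 3 n2076 = n2666 := rfl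
theorem F9435 : act 0 n2666 = n2094 := d2_1 D2666 (iv D2094) (iv F7456)
theorem F9436 : act 2 n2666 = n2666 := d13_1 D2666 (iv D2666) (iv D2076) F5877 D2076
theorem F9437 : act 5 n2666 = n2666 := d19_2 F7457 D2666 (iv D2666)
theorem F9438 : act 6 n2666 = n2666 := d20_2 F7458 D2666 (iv D2666)
theorem F9439 : act 7 n2666 = n2078 := d21_2 (iv F7459) D2666 (iv D2078)
def n2667 : Q := act 0 n2077
theorem D2667 : act 0 n2077 = n2667 := rfl
theorem F9440 : act 1 n2667 = n2095 := d0_2 D2077 D2667 (iv D2095) (iv D1628) (iv F5880)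
theorem F9441 : act 5 n2667 = n2667 := d4_2 F7460 D2667 (iv D2667)
theorem F9442 : act 6 n2667 = n2082 := d5_2 (iv F7461) D2667 (iv D2082)
def n2668 : Q := act 3 n2077
theorem D2668 : act 3 n2077 = n2668 := rfl
theorem F9443 : act 1 n2668 = n2078 := d8_1 D2668 (iv D2078) D2077
theorem F9444 : act 5 n2668 = n2668 := d19_2 F7460 D2668 (iv D2668)
theorem F9445 : act 6 n2668 = n2083 := d20_2 (iv F7461) D2668 (iv D2083)
def n2669 : Q := act 4 n2078
theorem D2669 : act 4 n2078 = n2669 := rfl
theorem F9446 : act 0 n2669 = n2097 := d3_1 D2669 (iv D2097) (iv F7462)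
theorem F9447 : act 2 n2669 = n2669 := d14_1 D2669 (iv D2669) F7463
theorem F9448 : act 6 n2669 = n2084 := d23_2 (iv F7465) D2669 (iv D2084)
def n2670 : Q := act 1 n2079
theorem D2670 : act 1 n2079 = n2670 := rfl
theorem F9449 : act 2 n2670 = n2670 := d7_2 D2079 D2670 (iv D2670) (iv D2079) F5884
theorem F9450 : act 4 n2670 = n2670 := d9_2 F7467 D2670 (iv D2670)
theorem F9451 : act 5 n2670 = n2080 := d10_2 (iv F7468) D2670 (iv D2080)
theorem F9452 : act 7 n2670 = n2670 := d12_2 F7469 D2670 (iv D2670)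
def n2671 : Q := act 3 n2079
theorem D2671 : act 3 n2079 = n2671 := rfl
theorem F9453 : act 0 n2671 = n2099 := d2_1 D2671 (iv D2099) (iv F7466)
theorem F9454 : act 2 n2671 = n2671 := d13_1 D2671 (iv D2671) (iv D2079) F5885 D2079
theorem F9455 : act 5 n2671 = n2081 := d19_2 (iv F7468) D2671 (iv D2081)
theorem F9456 : act 7 n2671 = n2671 := d21_2 F7469 D2671 (iv D2671)
def n2672 : Q := act 0 n2080
theorem D2672 : act 0 n2080 = n2672 := rfl
theorem F9457 : act 1 n2672 = n2100 := d0_2 D2080 D2672 (iv D2100) (iv D1631) (iv F5889)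
theorem F9458 : act 2 n2672 = n2672 := d1_2 F7470 D2672 (iv D2672)
theorem F9459 : act 4 n2672 = n2082 := d3_2 (iv F7471) D2672 (iv D2082)
theorem F9460 : act 7 n2672 = n2672 := d6_2 F7472 D2672 (iv D2672)
def n2673 : Q := act 3 n2080
theorem D2673 : act 3 n2080 = n2673 := rfl
theorem F9461 : act 1 n2673 = n2081 := d8_1 D2673 (iv D2081) D2080
theorem F9462 : act 7 n2673 = n2673 := d21_2 F7472 D2673 (iv D2673)
def n2674 : Q := act 4 n2081
theorem D2674 : act 4 n2081 = n2674 := rfl
theorem F9463 : act 0 n2674 = n2102 := d3_1 D2674 (iv D2102) (iv F7473)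
theorem F9464 : act 2 n2674 = n2674 := d14_1 D2674 (iv D2674) F7474
theorem F9465 : act 3 n2674 = n2084 := d18_1 D2674 (iv D2084) (iv D1620) (iv F5890) D2081
theorem F9466 : act 7 n2674 = n2674 := d24_2 F7475 D2674 (iv D2674)
def n2675 : Q := act 3 n2082
theorem D2675 : act 3 n2082 = n2675 := rfl
theorem F9467 : act 0 n2675 = n2083 := d2_1 D2675 (iv D2083) D2082
theorem F9468 : act 1 n2675 = n2103 := d8_1 D2675 (iv D2103) (iv F7476)
theorem F9469 : act 5 n2675 = n2675 := d19_2 F7478 D2675 (iv D2675)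
theorem F9470 : act 7 n2675 = n2675 := d21_2 F7479 D2675 (iv D2675)
def n2676 : Q := act 2 n2083
theorem D2676 : act 2 n2083 = n2676 := rfl
theorem F9471 : act 1 n2676 = n2085 := d7_1 D2676 (iv D2085) F5900 (iv F5896) (iv F7480)
theorem F9472 : act 3 n2676 = n2676 := d13_2 D2083 D2676 (iv D2676) (iv D2083) F5892
theorem F9473 : act 5 n2676 = n2676 := d15_2 F7481 D2676 (iv D2676)
theorem F9474 : act 7 n2676 = n2676 := d17_2 F7482 D2676 (iv D2676)
def n2677 : Q := act 4 n2083
theorem D2677 : act 4 n2083 = n2677 := rfl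
theorem F9475 : act 1 n2677 = n2084 := d9_1 D2677 (iv D2084) (iv F7480)
theorem F9476 : act 7 n2677 = n2677 := d24_2 F7482 D2677 (iv D2677)
def n2678 : Q := act 5 n2084
theorem D2678 : act 5 n2084 = n2678 := rfl
theorem F9477 : act 0 n2678 = n2105 := d4_1 D2678 (iv D2105) (iv F7483)
theorem F9478 : act 2 n2678 = n2087 := d15_1 D2678 (iv D2087) (iv F7484)
theorem F9479 : act 4 n2678 = n2678 := d22_1 D2678 (iv D2678) (iv D2084) F5897 D2084
theorem F9480 : act 7 n2678 = n2678 := d26_2 F7485 D2678 (iv D2678)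
def n2679 : Q := act 4 n2085
theorem D2679 : act 4 n2085 = n2679 := rfl
theorem F9481 : act 0 n2679 = n2679 := d3_1 D2679 (iv D2679) F7486
theorem F9482 : act 2 n2679 = n2086 := d14_1 D2679 (iv D2086) D2085
theorem F9483 : act 7 n2679 = n2679 := d24_2 F7489 D2679 (iv D2679)
def n2680 : Q := act 6 n2085
theorem D2680 : act 6 n2085 = n2680 := rfl
theorem F9484 : act 0 n2680 = n2680 := d5_1 D2680 (iv D2680) F7486
theorem F9485 : act 2 n2680 = n2680 := d16_1 D2680 (iv D2680) (iv D2085) F5902 D2085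
theorem F9486 : act 3 n2680 = n2680 := d20_1 D2680 (iv D2680) F7487
theorem F9487 : act 5 n2680 = n2680 := d25_1 D2680 (iv D2680) F7488
def n2681 : Q := act 5 n2086
theorem D2681 : act 5 n2086 = n2681 := rfl
theorem F9488 : act 0 n2681 = n2681 := d4_1 D2681 (iv D2681) F7490
theorem F9489 : act 1 n2681 = n2087 := d10_1 D2681 (iv D2087) (iv F7491)
theorem F9490 : act 3 n2681 = n2681 := d19_1 D2681 (iv D2681) F7492
theorem F9491 : act 4 n2681 = n2681 := d22_1 D2681 (iv D2681) (iv D2086) F5901 D2086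
theorem F9492 : act 6 n2681 = n2681 := d25_2 F7493 D2681 (iv D2681)
theorem F9493 : act 7 n2681 = n2681 := d26_2 F7494 D2681 (iv D2681)
def n2682 : Q := act 1 n2088
theorem D2682 : act 1 n2088 = n2682 := rfl
theorem F9494 : act 2 n2682 = n2143 := d7_2 D2088 D2682 (iv D2143) (iv D1666) (iv F5908)
theorem F9495 : act 4 n2682 = n2682 := d9_2 F7500 D2682 (iv D2682)
theorem F9496 : act 6 n2682 = n2682 := d11_2 F7501 D2682 (iv D2682)
def n2683 : Q := act 3 n2088
theorem D2683 : act 3 n2088 = n2683 := rfl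
theorem F9497 : act 2 n2683 = n2092 := d13_1 D2683 (iv D2092) (iv D1626) (iv F5909) D2088
theorem F9498 : act 6 n2683 = n2683 := d20_2 F7501 D2683 (iv D2683)
def n2684 : Q := act 1 n2089
theorem D2684 : act 1 n2089 = n2684 := rfl
theorem F9499 : act 2 n2684 = n2146 := d7_2 D2089 D2684 (iv D2146) (iv D1668) (iv F5911)
theorem F9500 : act 4 n2684 = n2684 := d9_2 F7502 D2684 (iv D2684)
theorem F9501 : act 5 n2684 = n2091 := d10_2 (iv F7503) D2684 (iv D2091)
theorem F9502 : act 6 n2684 = n2098 := d11_2 (iv F7504) D2684 (iv D2098)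
def n2685 : Q := act 3 n2089
theorem D2685 : act 3 n2089 = n2685 := rfl
theorem F9503 : act 5 n2685 = n2092 := d19_2 (iv F7503) D2685 (iv D2092)
theorem F9504 : act 6 n2685 = n2099 := d20_2 (iv F7504) D2685 (iv D2099)
def n2686 : Q := act 1 n2090
theorem D2686 : act 1 n2090 = n2686 := rfl
theorem F9505 : act 2 n2686 = n2148 := d7_2 D2090 D2686 (iv D2148) (iv D1669) (iv F5914)
theorem F9506 : act 4 n2686 = n2093 := d9_2 (iv F7505) D2686 (iv D2093)
theorem F9507 : act 6 n2686 = n2686 := d11_2 F7506 D2686 (iv D2686)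
theorem F9508 : act 7 n2686 = n2091 := d12_2 (iv F7507) D2686 (iv D2091)
def n2687 : Q := act 3 n2090
theorem D2687 : act 3 n2090 = n2687 := rfl
theorem F9509 : act 6 n2687 = n2687 := d20_2 F7506 D2687 (iv D2687)
theorem F9510 : act 7 n2687 = n2092 := d21_2 (iv F7507) D2687 (iv D2092)
def n2688 : Q := act 0 n2091
theorem D2688 : act 0 n2091 = n2688 := rfl
theorem F9511 : act 2 n2688 = n2150 := d1_2 (iv F7508) D2688 (iv D2150)
theorem F9512 : act 4 n2688 = n2095 := d3_2 (iv F7509) D2688 (iv D2095)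
theorem F9513 : act 6 n2688 = n2100 := d5_2 (iv F7510) D2688 (iv D2100)
def n2689 : Q := act 3 n2091
theorem D2689 : act 3 n2091 = n2689 := rfl
theorem F9514 : act 1 n2689 = n2092 := d8_1 D2689 (iv D2092) D2091
theorem F9515 : act 6 n2689 = n2101 := d20_2 (iv F7510) D2689 (iv D2101)
def n2690 : Q := act 4 n2092
theorem D2690 : act 4 n2092 = n2690 := rfl
theorem F9516 : act 3 n2690 = n2097 := d18_1 D2690 (iv D2097) (iv D1629) (iv F5917) D2092
theorem F9517 : act 6 n2690 = n2102 := d23_2 (iv F7511) D2690 (iv D2102)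
def n2691 : Q := act 0 n2093
theorem D2691 : act 0 n2093 = n2691 := rfl
theorem F9518 : act 2 n2691 = n2153 := d1_2 (iv F7512) D2691 (iv D2153)
theorem F9519 : act 5 n2691 = n2691 := d4_2 F7513 D2691 (iv D2691)
theorem F9520 : act 6 n2691 = n2691 := d5_2 F7514 D2691 (iv D2691)
theorem F9521 : act 7 n2691 = n2095 := d6_2 (iv F7515) D2691 (iv D2095)
def n2692 : Q := act 3 n2093
theorem D2692 : act 3 n2093 = n2692 := rfl
theorem F9522 : act 1 n2692 = n2094 := d8_1 D2692 (iv D2094) D2093
theorem F9523 : act 5 n2692 = n2692 := d19_2 F7513 D2692 (iv D2692)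
theorem F9524 : act 6 n2692 = n2692 := d20_2 F7514 D2692 (iv D2692)
theorem F9525 : act 7 n2692 = n2096 := d21_2 (iv F7515) D2692 (iv D2096)
def n2693 : Q := act 4 n2094
theorem D2693 : act 4 n2094 = n2693 := rfl
theorem F9526 : act 2 n2693 = n2693 := d14_1 D2693 (iv D2693) F7516
theorem F9527 : act 6 n2693 = n2693 := d23_2 F7518 D2693 (iv D2693)
theorem F9528 : act 7 n2693 = n2097 := d24_2 (iv F7519) D2693 (iv D2097)
def n2694 : Q := act 3 n2095
theorem D2694 : act 3 n2095 = n2694 := rfl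
theorem F9529 : act 0 n2694 = n2096 := d2_1 D2694 (iv D2096) D2095
theorem F9530 : act 5 n2694 = n2694 := d19_2 F7521 D2694 (iv D2694)
theorem F9531 : act 6 n2694 = n2103 := d20_2 (iv F7522) D2694 (iv D2103)
def n2695 : Q := act 2 n2096
theorem D2695 : act 2 n2096 = n2695 := rfl
theorem F9532 : act 1 n2695 = n2695 := d7_1 D2695 (iv D2695) F7523 F5925 (iv F7523)
theorem F9533 : act 3 n2695 = n2157 := d13_2 D2096 D2695 (iv D2157) (iv D1675) (iv F5922)
theorem F9534 : act 5 n2695 = n2695 := d15_2 F7524 D2695 (iv D2695)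
theorem F9535 : act 6 n2695 = n2695 := d16_2 (iv F7525) D2695 (iv D2695) F7525 F5940
def n2696 : Q := act 4 n2096
theorem D2696 : act 4 n2096 = n2696 := rfl
theorem F9536 : act 1 n2696 = n2097 := d9_1 D2696 (iv D2097) (iv F7523)
theorem F9537 : act 6 n2696 = n2104 := d23_2 (iv F7525) D2696 (iv D2104)
def n2697 : Q := act 5 n2097
theorem D2697 : act 5 n2097 = n2697 := rfl
theorem F9538 : act 2 n2697 = n2697 := d15_1 D2697 (iv D2697) F7526
theorem F9539 : act 4 n2697 = n2697 := d22_1 D2697 (iv D2697) (iv D2097) F5926 D2097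
theorem F9540 : act 6 n2697 = n2105 := d25_2 (iv F7527) D2697 (iv D2105)
def n2698 : Q := act 0 n2098
theorem D2698 : act 0 n2098 = n2698 := rfl
theorem F9541 : act 2 n2698 = n2106 := d1_2 (iv F7528) D2698 (iv D2106)
theorem F9542 : act 4 n2698 = n2698 := d3_2 F7529 D2698 (iv D2698)
theorem F9543 : act 5 n2698 = n2100 := d4_2 (iv F7530) D2698 (iv D2100)
theorem F9544 : act 7 n2698 = n2698 := d6_2 F7531 D2698 (iv D2698)
def n2699 : Q := act 3 n2098
theorem D2699 : act 3 n2098 = n2699 := rfl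
theorem F9545 : act 1 n2699 = n2099 := d8_1 D2699 (iv D2099) D2098
theorem F9546 : act 5 n2699 = n2101 := d19_2 (iv F7530) D2699 (iv D2101)
theorem F9547 : act 7 n2699 = n2699 := d21_2 F7531 D2699 (iv D2699)
def n2700 : Q := act 4 n2099
theorem D2700 : act 4 n2099 = n2700 := rfl
theorem F9548 : act 2 n2700 = n2700 := d14_1 D2700 (iv D2700) F7532
theorem F9549 : act 3 n2700 = n2700 := d18_1 D2700 (iv D2700) (iv D2099) F5928 D2099
theorem F9550 : act 7 n2700 = n2700 := d24_2 F7534 D2700 (iv D2700)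
def n2701 : Q := act 3 n2100
theorem D2701 : act 3 n2100 = n2701 := rfl
theorem F9551 : act 0 n2701 = n2101 := d2_1 D2701 (iv D2101) D2100
theorem F9552 : act 7 n2701 = n2701 := d21_2 F7537 D2701 (iv D2701)
def n2702 : Q := act 2 n2101
theorem D2702 : act 2 n2101 = n2702 := rfl
theorem F9553 : act 1 n2702 = n2702 := d7_1 D2702 (iv D2702) F7538 F5934 (iv F7538)
theorem F9554 : act 3 n2702 = n2110 := d13_2 D2101 D2702 (iv D2110) (iv D1640) (iv F5931)
theorem F9555 : act 7 n2702 = n2702 := d17_2 F7539 D2702 (iv D2702)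
def n2703 : Q := act 4 n2101
theorem D2703 : act 4 n2101 = n2703 := rfl
theorem F9556 : act 1 n2703 = n2102 := d9_1 D2703 (iv D2102) (iv F7538)
theorem F9557 : act 3 n2703 = n2104 := d18_1 D2703 (iv D2104) (iv D1634) (iv F5932) D2101
theorem F9558 : act 7 n2703 = n2703 := d24_2 F7539 D2703 (iv D2703)
def n2704 : Q := act 5 n2102
theorem D2704 : act 5 n2102 = n2704 := rfl
theorem F9559 : act 2 n2704 = n2704 := d15_1 D2704 (iv D2704) F7540
theorem F9560 : act 3 n2704 = n2105 := d19_1 D2704 (iv D2105) (iv F7541)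
theorem F9561 : act 7 n2704 = n2704 := d26_2 F7542 D2704 (iv D2704)
def n2705 : Q := act 4 n2103
theorem D2705 : act 4 n2103 = n2705 := rfl
theorem F9562 : act 0 n2705 = n2104 := d3_1 D2705 (iv D2104) (iv F7543)
theorem F9563 : act 2 n2705 = n2705 := d14_1 D2705 (iv D2705) F7544
theorem F9564 : act 7 n2705 = n2705 := d24_2 F7546 D2705 (iv D2705)
def n2706 : Q := act 5 n2104
theorem D2706 : act 5 n2104 = n2706 := rfl
theorem F9565 : act 1 n2706 = n2105 := d10_1 D2706 (iv D2105) (iv F7547)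
theorem F9566 : act 2 n2706 = n2706 := d15_1 D2706 (iv D2706) F7548
theorem F9567 : act 4 n2706 = n2706 := d22_1 D2706 (iv D2706) (iv D2104) F5941 D2104
theorem F9568 : act 7 n2706 = n2706 := d26_2 F7549 D2706 (iv D2706)
def n2707 : Q := act 3 n2106
theorem D2707 : act 3 n2106 = n2707 := rfl
theorem F9569 : act 0 n2707 = n2107 := d2_1 D2707 (iv D2107) D2106
theorem F9570 : act 1 n2707 = n2707 := d8_1 D2707 (iv D2707) F7553
theorem F9571 : act 5 n2707 = n2109 := d19_2 (iv F7555) D2707 (iv D2109)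
theorem F9572 : act 6 n2707 = n2169 := d20_2 (iv F7556) D2707 (iv D2169)
theorem F9573 : act 7 n2707 = n2707 := d21_2 F7557 D2707 (iv D2707)
def n2708 : Q := act 2 n2107
theorem D2708 : act 2 n2107 = n2708 := rfl
theorem F9574 : act 1 n2708 = n2708 := d7_1 D2708 (iv D2708) F7558 F5955 (iv F7558)
theorem F9575 : act 5 n2708 = n2110 := d15_2 (iv F7559) D2708 (iv D2110)
theorem F9576 : act 7 n2708 = n2708 := d17_2 F7561 D2708 (iv D2708)
def n2709 : Q := act 4 n2107
theorem D2709 : act 4 n2107 = n2709 := rfl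
theorem F9577 : act 1 n2709 = n2108 := d9_1 D2709 (iv D2108) (iv F7558)
theorem F9578 : act 3 n2709 = n2709 := d18_1 D2709 (iv D2709) (iv D2107) F5950 D2107
theorem F9579 : act 5 n2709 = n2709 := d22_2 (iv F7559) D2709 (iv D2709) F7559 F5964
theorem F9580 : act 6 n2709 = n2171 := d23_2 (iv F7560) D2709 (iv D2171)
theorem F9581 : act 7 n2709 = n2709 := d24_2 F7561 D2709 (iv D2709)
def n2710 : Q := act 2 n2109
theorem D2710 : act 2 n2109 = n2710 := rfl
theorem F9582 : act 0 n2710 = n2110 := d1_1 D2710 (iv D2110) (iv F7568)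
theorem F9583 : act 4 n2710 = n2710 := d14_2 F7570 D2710 (iv D2710)
theorem F9584 : act 7 n2710 = n2710 := d17_2 F7572 D2710 (iv D2710)
def n2711 : Q := act 6 n2110
theorem D2711 : act 6 n2110 = n2711 := rfl
theorem F9585 : act 1 n2711 = n2711 := d11_1 D2711 (iv D2711) F7573
theorem F9586 : act 2 n2711 = n2173 := d16_1 D2711 (iv D2173) (iv D1689) (iv F5965) D2110
theorem F9587 : act 4 n2711 = n2711 := d23_1 D2711 (iv D2711) F7574
def n2712 : Q := act 2 n2111
theorem D2712 : act 2 n2111 = n2712 := rfl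
theorem F9588 : act 0 n2712 = n2145 := d1_1 D2712 (iv D2145) (iv F7576)
theorem F9589 : act 4 n2712 = n2712 := d14_2 F7579 D2712 (iv D2712)
theorem F9590 : act 5 n2712 = n2121 := d15_2 (iv F7580) D2712 (iv D2121)
theorem F9591 : act 6 n2712 = n2352 := d16_2 D2111 D2712 (iv D2352) (iv D1826) (iv F5969)
theorem F9592 : act 7 n2712 = n2120 := d17_2 (iv F7581) D2712 (iv D2120)
def n2713 : Q := act 2 n2112
theorem D2713 : act 2 n2112 = n2713 := rfl
theorem F9593 : act 0 n2713 = n2142 := d1_1 D2713 (iv D2142) (iv F7582)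
theorem F9594 : act 4 n2713 = n2713 := d14_2 F7585 D2713 (iv D2713)
theorem F9595 : act 5 n2713 = n2114 := d15_2 (iv F7586) D2713 (iv D2114)
theorem F9596 : act 6 n2713 = n2713 := d16_2 D2112 D2713 (iv D2713) (iv D2112) F5975
theorem F9597 : act 7 n2713 = n2119 := d17_2 (iv F7587) D2713 (iv D2119)
def n2714 : Q := act 2 n2113
theorem D2714 : act 2 n2113 = n2714 := rfl
theorem F9598 : act 0 n2714 = n2141 := d1_1 D2714 (iv D2141) (iv F7588)
theorem F9599 : act 4 n2714 = n2116 := d14_2 (iv F7591) D2714 (iv D2116)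
theorem F9600 : act 5 n2714 = n2119 := d15_2 (iv F7592) D2714 (iv D2119)
theorem F9601 : act 6 n2714 = n2183 := d16_2 D2113 D2714 (iv D2183) (iv D1697) (iv F5981)
theorem F9602 : act 7 n2714 = n2114 := d17_2 (iv F7593) D2714 (iv D2114)
def n2715 : Q := act 1 n2114
theorem D2715 : act 1 n2114 = n2715 := rfl
theorem F9603 : act 2 n2715 = n2122 := d7_2 D2114 D2715 (iv D2122) (iv D1651) (iv F5985)
theorem F9604 : act 4 n2715 = n2117 := d9_2 (iv F7594) D2715 (iv D2117)
theorem F9605 : act 6 n2715 = n2715 := d11_2 F7595 D2715 (iv D2715)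
def n2716 : Q := act 3 n2114
theorem D2716 : act 3 n2114 = n2716 := rfl
theorem F9606 : act 6 n2716 = n2716 := d20_2 F7595 D2716 (iv D2716)
def n2717 : Q := act 2 n2115
theorem D2717 : act 2 n2115 = n2717 := rfl
theorem F9607 : act 0 n2717 = n2211 := d1_1 D2717 (iv D2211) (iv F7596)
theorem F9608 : act 4 n2717 = n2183 := d14_2 (iv F7599) D2717 (iv D2183)
theorem F9609 : act 5 n2717 = n2717 := d15_2 F7600 D2717 (iv D2717)
theorem F9610 : act 6 n2717 = n2116 := d16_2 D2115 D2717 (iv D2116) (iv D1646) (iv F5989)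
theorem F9611 : act 7 n2717 = n2717 := d17_2 F7601 D2717 (iv D2717)
def n2718 : Q := act 1 n2116
theorem D2718 : act 1 n2116 = n2718 := rfl
theorem F9612 : act 2 n2718 = n2124 := d7_2 D2116 D2718 (iv D2124) (iv D1652) (iv F5993)
theorem F9613 : act 5 n2718 = n2718 := d10_2 F7602 D2718 (iv D2718)
theorem F9614 : act 7 n2718 = n2117 := d12_2 (iv F7603) D2718 (iv D2117)
def n2719 : Q := act 3 n2116
theorem D2719 : act 3 n2116 = n2719 := rfl
theorem F9615 : act 2 n2719 = n2719 := d13_1 D2719 (iv D2719) (iv D2116) F5994 D2116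
theorem F9616 : act 5 n2719 = n2719 := d19_2 F7602 D2719 (iv D2719)
theorem F9617 : act 7 n2719 = n2118 := d21_2 (iv F7603) D2719 (iv D2118)
def n2720 : Q := act 0 n2117
theorem D2720 : act 0 n2117 = n2720 := rfl
theorem F9618 : act 2 n2720 = n2126 := d1_2 (iv F7604) D2720 (iv D2126)
theorem F9619 : act 5 n2720 = n2720 := d4_2 F7605 D2720 (iv D2720)
theorem F9620 : act 6 n2720 = n2720 := d5_2 F7606 D2720 (iv D2720)
def n2721 : Q := act 3 n2117
theorem D2721 : act 3 n2117 = n2721 := rfl
theorem F9621 : act 1 n2721 = n2118 := d8_1 D2721 (iv D2118) D2117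
theorem F9622 : act 5 n2721 = n2721 := d19_2 F7605 D2721 (iv D2721)
theorem F9623 : act 6 n2721 = n2721 := d20_2 F7606 D2721 (iv D2721)
def n2722 : Q := act 4 n2118
theorem D2722 : act 4 n2118 = n2722 := rfl
theorem F9624 : act 2 n2722 = n2722 := d14_1 D2722 (iv D2722) F7607
theorem F9625 : act 6 n2722 = n2722 := d23_2 F7609 D2722 (iv D2722)
def n2723 : Q := act 1 n2119
theorem D2723 : act 1 n2119 = n2723 := rfl
theorem F9626 : act 4 n2723 = n2723 := d9_2 F7611 D2723 (iv D2723)
theorem F9627 : act 6 n2723 = n2184 := d11_2 (iv F7612) D2723 (iv D2184)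
def n2724 : Q := act 3 n2119
theorem D2724 : act 3 n2119 = n2724 := rfl
theorem F9628 : act 0 n2724 = n2144 := d2_1 D2724 (iv D2144) (iv F7610)
theorem F9629 : act 2 n2724 = n2123 := d13_1 D2724 (iv D2123) (iv D1651) (iv F6000) D2119
theorem F9630 : act 6 n2724 = n2185 := d20_2 (iv F7612) D2724 (iv D2185)
def n2725 : Q := act 1 n2120
theorem D2725 : act 1 n2120 = n2725 := rfl
theorem F9631 : act 4 n2725 = n2725 := d9_2 F7614 D2725 (iv D2725)
theorem F9632 : act 5 n2725 = n2122 := d10_2 (iv F7615) D2725 (iv D2122)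
theorem F9633 : act 6 n2725 = n2129 := d11_2 (iv F7616) D2725 (iv D2129)
def n2726 : Q := act 3 n2120
theorem D2726 : act 3 n2120 = n2726 := rfl
theorem F9634 : act 0 n2726 = n2147 := d2_1 D2726 (iv D2147) (iv F7613)
theorem F9635 : act 5 n2726 = n2123 := d19_2 (iv F7615) D2726 (iv D2123)
theorem F9636 : act 6 n2726 = n2130 := d20_2 (iv F7616) D2726 (iv D2130)
def n2727 : Q := act 1 n2121
theorem D2727 : act 1 n2121 = n2727 := rfl
theorem F9637 : act 4 n2727 = n2124 := d9_2 (iv F7618) D2727 (iv D2124)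
theorem F9638 : act 6 n2727 = n2355 := d11_2 (iv F7619) D2727 (iv D2355)
theorem F9639 : act 7 n2727 = n2122 := d12_2 (iv F7620) D2727 (iv D2122)
def n2728 : Q := act 3 n2121
theorem D2728 : act 3 n2121 = n2728 := rfl
theorem F9640 : act 0 n2728 = n2149 := d2_1 D2728 (iv D2149) (iv F7617)
theorem F9641 : act 6 n2728 = n2356 := d20_2 (iv F7619) D2728 (iv D2356)
theorem F9642 : act 7 n2728 = n2123 := d21_2 (iv F7620) D2728 (iv D2123)
def n2729 : Q := act 0 n2122
theorem D2729 : act 0 n2122 = n2729 := rfl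
theorem F9643 : act 1 n2729 = n2150 := d0_2 D2122 D2729 (iv D2150) (iv D1670) (iv F6008)
theorem F9644 : act 4 n2729 = n2126 := d3_2 (iv F7621) D2729 (iv D2126)
theorem F9645 : act 6 n2729 = n2131 := d5_2 (iv F7622) D2729 (iv D2131)
def n2730 : Q := act 3 n2122
theorem D2730 : act 3 n2122 = n2730 := rfl
theorem F9646 : act 1 n2730 = n2123 := d8_1 D2730 (iv D2123) D2122
theorem F9647 : act 6 n2730 = n2132 := d20_2 (iv F7622) D2730 (iv D2132)
def n2731 : Q := act 4 n2123
theorem D2731 : act 4 n2123 = n2731 := rfl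
theorem F9648 : act 0 n2731 = n2152 := d3_1 D2731 (iv D2152) (iv F7623)
theorem F9649 : act 3 n2731 = n2128 := d18_1 D2731 (iv D2128) (iv D1654) (iv F6009) D2123
theorem F9650 : act 6 n2731 = n2133 := d23_2 (iv F7624) D2731 (iv D2133)
def n2732 : Q := act 0 n2124
theorem D2732 : act 0 n2124 = n2732 := rfl
theorem F9651 : act 1 n2732 = n2153 := d0_2 D2124 D2732 (iv D2153) (iv D1672) (iv F6011)
theorem F9652 : act 5 n2732 = n2732 := d4_2 F7625 D2732 (iv D2732)
theorem F9653 : act 6 n2732 = n2360 := d5_2 (iv F7626) D2732 (iv D2360)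
theorem F9654 : act 7 n2732 = n2126 := d6_2 (iv F7627) D2732 (iv D2126)
def n2733 : Q := act 3 n2124
theorem D2733 : act 3 n2124 = n2733 := rfl
theorem F9655 : act 1 n2733 = n2125 := d8_1 D2733 (iv D2125) D2124
theorem F9656 : act 5 n2733 = n2733 := d19_2 F7625 D2733 (iv D2733)
theorem F9657 : act 6 n2733 = n2361 := d20_2 (iv F7626) D2733 (iv D2361)
theorem F9658 : act 7 n2733 = n2127 := d21_2 (iv F7627) D2733 (iv D2127)
def n2734 : Q := act 4 n2125
theorem D2734 : act 4 n2125 = n2734 := rfl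
theorem F9659 : act 0 n2734 = n2155 := d3_1 D2734 (iv D2155) (iv F7628)
theorem F9660 : act 2 n2734 = n2734 := d14_1 D2734 (iv D2734) F7629
theorem F9661 : act 6 n2734 = n2362 := d23_2 (iv F7631) D2734 (iv D2362)
theorem F9662 : act 7 n2734 = n2128 := d24_2 (iv F7632) D2734 (iv D2128)
def n2735 : Q := act 3 n2126
theorem D2735 : act 3 n2126 = n2735 := rfl
theorem F9663 : act 0 n2735 = n2127 := d2_1 D2735 (iv D2127) D2126
theorem F9664 : act 1 n2735 = n2156 := d8_1 D2735 (iv D2156) (iv F7633)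
theorem F9665 : act 5 n2735 = n2735 := d19_2 F7634 D2735 (iv D2735)
theorem F9666 : act 6 n2735 = n2134 := d20_2 (iv F7635) D2735 (iv D2134)
def n2736 : Q := act 2 n2127
theorem D2736 : act 2 n2127 = n2736 := rfl
theorem F9667 : act 1 n2736 = n2736 := d7_1 D2736 (iv D2736) F7636 F6018 (iv F7636)
theorem F9668 : act 5 n2736 = n2736 := d15_2 F7637 D2736 (iv D2736)
def n2737 : Q := act 4 n2127
theorem D2737 : act 4 n2127 = n2737 := rfl
theorem F9669 : act 1 n2737 = n2128 := d9_1 D2737 (iv D2128) (iv F7636)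
theorem F9670 : act 6 n2737 = n2136 := d23_2 (iv F7638) D2737 (iv D2136)
def n2739 : Q := act 0 n2129
theorem D2739 : act 0 n2129 = n2739 := rfl
theorem F9675 : act 1 n2739 = n2160 := d0_2 D2129 D2739 (iv D2160) (iv D1677) (iv F6021)
theorem F9676 : act 2 n2739 = n2739 := d1_2 F7642 D2739 (iv D2739)
theorem F9677 : act 4 n2739 = n2739 := d3_2 F7643 D2739 (iv D2739)
theorem F9678 : act 5 n2739 = n2131 := d4_2 (iv F7644) D2739 (iv D2131)
theorem F9679 : act 7 n2739 = n2367 := d6_2 (iv F7645) D2739 (iv D2367)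
def n2740 : Q := act 3 n2129
theorem D2740 : act 3 n2129 = n2740 := rfl
theorem F9680 : act 1 n2740 = n2130 := d8_1 D2740 (iv D2130) D2129
theorem F9681 : act 5 n2740 = n2132 := d19_2 (iv F7644) D2740 (iv D2132)
theorem F9682 : act 7 n2740 = n2368 := d21_2 (iv F7645) D2740 (iv D2368)
def n2741 : Q := act 4 n2130
theorem D2741 : act 4 n2130 = n2741 := rfl
theorem F9683 : act 0 n2741 = n2162 := d3_1 D2741 (iv D2162) (iv F7646)
theorem F9684 : act 2 n2741 = n2197 := d14_1 D2741 (iv D2197) (iv F7647)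
theorem F9685 : act 3 n2741 = n2741 := d18_1 D2741 (iv D2741) (iv D2130) F6022 D2130
theorem F9686 : act 7 n2741 = n2369 := d24_2 (iv F7649) D2741 (iv D2369)
def n2742 : Q := act 3 n2131
theorem D2742 : act 3 n2131 = n2742 := rfl
theorem F9687 : act 0 n2742 = n2132 := d2_1 D2742 (iv D2132) D2131
theorem F9688 : act 1 n2742 = n2163 := d8_1 D2742 (iv D2163) (iv F7650)
theorem F9689 : act 7 n2742 = n2370 := d21_2 (iv F7653) D2742 (iv D2370)
def n2743 : Q := act 2 n2132
theorem D2743 : act 2 n2132 = n2743 := rfl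
theorem F9690 : act 1 n2743 = n2199 := d7_1 D2743 (iv D2199) F6208 (iv F6029) (iv F7654)
theorem F9691 : act 3 n2743 = n2743 := d13_2 D2132 D2743 (iv D2743) (iv D2132) F6025
theorem F9692 : act 7 n2743 = n2371 := d17_2 (iv F7655) D2743 (iv D2371)
def n2744 : Q := act 4 n2132
theorem D2744 : act 4 n2132 = n2744 := rfl
theorem F9693 : act 1 n2744 = n2133 := d9_1 D2744 (iv D2133) (iv F7654)
theorem F9694 : act 3 n2744 = n2136 := d18_1 D2744 (iv D2136) (iv D1659) (iv F6026) D2132
theorem F9695 : act 7 n2744 = n2372 := d24_2 (iv F7655) D2744 (iv D2372)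
def n2745 : Q := act 5 n2133
theorem D2745 : act 5 n2133 = n2745 := rfl
theorem F9696 : act 0 n2745 = n2166 := d4_1 D2745 (iv D2166) (iv F7656)
theorem F9697 : act 2 n2745 = n2201 := d15_1 D2745 (iv D2201) (iv F7657)
theorem F9699 : act 7 n2745 = n2373 := d26_2 (iv F7659) D2745 (iv D2373)
def n2746 : Q := act 2 n2134
theorem D2746 : act 2 n2134 = n2746 := rfl
theorem F9700 : act 0 n2746 = n2135 := d1_1 D2746 (iv D2135) (iv F7660)
theorem F9701 : act 1 n2746 = n2746 := d7_1 D2746 (iv D2746) F7661 F6104 (iv F7661)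
theorem F9702 : act 3 n2746 = n2746 := d13_2 D2134 D2746 (iv D2746) (iv D2134) F6032
theorem F9703 : act 5 n2746 = n2746 := d15_2 F7662 D2746 (iv D2746)
theorem F9704 : act 7 n2746 = n2374 := d17_2 (iv F7663) D2746 (iv D2374)
def n2747 : Q := act 4 n2134
theorem D2747 : act 4 n2134 = n2747 := rfl
theorem F9705 : act 0 n2747 = n2136 := d3_1 D2747 (iv D2136) (iv F7660)
theorem F9706 : act 1 n2747 = n2167 := d9_1 D2747 (iv D2167) (iv F7661)
theorem F9707 : act 7 n2747 = n2375 := d24_2 (iv F7663) D2747 (iv D2375)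
def n2748 : Q := act 4 n2135
theorem D2748 : act 4 n2135 = n2748 := rfl
theorem F9708 : act 1 n2748 = n2138 := d9_1 D2748 (iv D2138) (iv F7664)
theorem F9709 : act 2 n2748 = n2136 := d14_1 D2748 (iv D2136) D2135
theorem F9710 : act 7 n2748 = n2376 := d24_2 (iv F7667) D2748 (iv D2376)
def n2749 : Q := act 6 n2135
theorem D2749 : act 6 n2135 = n2749 := rfl
def n2750 : Q := act 5 n2136
theorem D2750 : act 5 n2136 = n2750 := rfl
theorem F9714 : act 1 n2750 = n2137 := d10_1 D2750 (iv D2137) (iv F7668)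
def n2752 : Q := act 5 n2138
theorem D2752 : act 5 n2138 = n2752 := rfl
theorem F9722 : act 2 n2752 = n2140 := d15_1 D2752 (iv D2140) (iv F7675)
def n2755 : Q := act 1 n2141
theorem D2755 : act 1 n2141 = n2755 := rfl
theorem F9733 : act 5 n2755 = n2143 := d10_2 (iv F7687) D2755 (iv D2143)
theorem F9734 : act 6 n2755 = n2212 := d11_2 (iv F7688) D2755 (iv D2212)
def n2756 : Q := act 3 n2141
theorem D2756 : act 3 n2141 = n2756 := rfl
theorem F9735 : act 2 n2756 = n2147 := d13_1 D2756 (iv D2147) (iv D1668) (iv F6055) D2141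
theorem F9736 : act 5 n2756 = n2144 := d19_2 (iv F7687) D2756 (iv D2144)
theorem F9737 : act 6 n2756 = n2213 := d20_2 (iv F7688) D2756 (iv D2213)
def n2757 : Q := act 1 n2142
theorem D2757 : act 1 n2142 = n2757 := rfl
theorem F9738 : act 4 n2757 = n2757 := d9_2 F7689 D2757 (iv D2757)
theorem F9739 : act 6 n2757 = n2757 := d11_2 F7690 D2757 (iv D2757)
theorem F9740 : act 7 n2757 = n2143 := d12_2 (iv F7691) D2757 (iv D2143)
def n2758 : Q := act 3 n2142
theorem D2758 : act 3 n2142 = n2758 := rfl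
theorem F9741 : act 2 n2758 = n2149 := d13_1 D2758 (iv D2149) (iv D1669) (iv F6057) D2142
theorem F9742 : act 6 n2758 = n2758 := d20_2 F7690 D2758 (iv D2758)
theorem F9743 : act 7 n2758 = n2144 := d21_2 (iv F7691) D2758 (iv D2144)
def n2759 : Q := act 0 n2143
theorem D2759 : act 0 n2143 = n2759 := rfl
theorem F9744 : act 4 n2759 = n2759 := d3_2 F7692 D2759 (iv D2759)
theorem F9745 : act 6 n2759 = n2214 := d5_2 (iv F7693) D2759 (iv D2214)
def n2760 : Q := act 3 n2143
theorem D2760 : act 3 n2143 = n2760 := rfl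
theorem F9746 : act 1 n2760 = n2144 := d8_1 D2760 (iv D2144) D2143
theorem F9747 : act 6 n2760 = n2215 := d20_2 (iv F7693) D2760 (iv D2215)
def n2761 : Q := act 4 n2144
theorem D2761 : act 4 n2144 = n2761 := rfl
theorem F9748 : act 2 n2761 = n2152 := d14_1 D2761 (iv D2152) (iv F7694)
theorem F9749 : act 3 n2761 = n2761 := d18_1 D2761 (iv D2761) (iv D2144) F6060 D2144
theorem F9750 : act 6 n2761 = n2216 := d23_2 (iv F7695) D2761 (iv D2216)
def n2762 : Q := act 1 n2145
theorem D2762 : act 1 n2145 = n2762 := rfl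
theorem F9751 : act 4 n2762 = n2762 := d9_2 F7696 D2762 (iv D2762)
theorem F9752 : act 5 n2762 = n2148 := d10_2 (iv F7697) D2762 (iv D2148)
theorem F9753 : act 6 n2762 = n2383 := d11_2 (iv F7698) D2762 (iv D2383)
theorem F9754 : act 7 n2762 = n2146 := d12_2 (iv F7699) D2762 (iv D2146)
def n2763 : Q := act 3 n2145
theorem D2763 : act 3 n2145 = n2763 := rfl
theorem F9755 : act 5 n2763 = n2149 := d19_2 (iv F7697) D2763 (iv D2149)
theorem F9756 : act 6 n2763 = n2384 := d20_2 (iv F7698) D2763 (iv D2384)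
theorem F9757 : act 7 n2763 = n2147 := d21_2 (iv F7699) D2763 (iv D2147)
def n2764 : Q := act 0 n2146
theorem D2764 : act 0 n2146 = n2764 := rfl
theorem F9758 : act 4 n2764 = n2764 := d3_2 F7700 D2764 (iv D2764)
theorem F9759 : act 5 n2764 = n2150 := d4_2 (iv F7701) D2764 (iv D2150)
theorem F9760 : act 6 n2764 = n2160 := d5_2 (iv F7702) D2764 (iv D2160)
def n2765 : Q := act 3 n2146
theorem D2765 : act 3 n2146 = n2765 := rfl
theorem F9761 : act 1 n2765 = n2147 := d8_1 D2765 (iv D2147) D2146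
theorem F9762 : act 5 n2765 = n2151 := d19_2 (iv F7701) D2765 (iv D2151)
theorem F9763 : act 6 n2765 = n2161 := d20_2 (iv F7702) D2765 (iv D2161)
def n2766 : Q := act 4 n2147
theorem D2766 : act 4 n2147 = n2766 := rfl
theorem F9764 : act 3 n2766 = n2766 := d18_1 D2766 (iv D2766) (iv D2147) F6065 D2147
theorem F9765 : act 6 n2766 = n2162 := d23_2 (iv F7704) D2766 (iv D2162)
def n2767 : Q := act 0 n2148
theorem D2767 : act 0 n2148 = n2767 := rfl
theorem F9766 : act 4 n2767 = n2153 := d3_2 (iv F7705) D2767 (iv D2153)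
theorem F9767 : act 6 n2767 = n2388 := d5_2 (iv F7706) D2767 (iv D2388)
theorem F9768 : act 7 n2767 = n2150 := d6_2 (iv F7707) D2767 (iv D2150)
def n2768 : Q := act 3 n2148
theorem D2768 : act 3 n2148 = n2768 := rfl
theorem F9769 : act 1 n2768 = n2149 := d8_1 D2768 (iv D2149) D2148
theorem F9770 : act 6 n2768 = n2389 := d20_2 (iv F7706) D2768 (iv D2389)
theorem F9771 : act 7 n2768 = n2151 := d21_2 (iv F7707) D2768 (iv D2151)
def n2769 : Q := act 4 n2149
theorem D2769 : act 4 n2149 = n2769 := rfl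
theorem F9772 : act 3 n2769 = n2155 := d18_1 D2769 (iv D2155) (iv D1673) (iv F6068) D2149
theorem F9773 : act 6 n2769 = n2390 := d23_2 (iv F7708) D2769 (iv D2390)
theorem F9774 : act 7 n2769 = n2152 := d24_2 (iv F7709) D2769 (iv D2152)
def n2770 : Q := act 3 n2150
theorem D2770 : act 3 n2150 = n2770 := rfl
theorem F9775 : act 0 n2770 = n2151 := d2_1 D2770 (iv D2151) D2150
theorem F9776 : act 6 n2770 = n2163 := d20_2 (iv F7711) D2770 (iv D2163)
def n2771 : Q := act 2 n2151
theorem D2771 : act 2 n2151 = n2771 := rfl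
def n2772 : Q := act 4 n2151
theorem D2772 : act 4 n2151 = n2772 := rfl
theorem F9777 : act 1 n2772 = n2152 := d9_1 D2772 (iv D2152) (iv F7712)
theorem F9778 : act 3 n2772 = n2158 := d18_1 D2772 (iv D2158) (iv D1675) (iv F6071) D2151
theorem F9779 : act 6 n2772 = n2165 := d23_2 (iv F7713) D2772 (iv D2165)
def n2773 : Q := act 5 n2152
theorem D2773 : act 5 n2152 = n2773 := rfl
theorem F9780 : act 3 n2773 = n2159 := d19_1 D2773 (iv D2159) (iv F7714)
theorem F9781 : act 6 n2773 = n2166 := d25_2 (iv F7715) D2773 (iv D2166)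
def n2774 : Q := act 3 n2153
theorem D2774 : act 3 n2153 = n2774 := rfl
theorem F9782 : act 0 n2774 = n2154 := d2_1 D2774 (iv D2154) D2153
theorem F9783 : act 5 n2774 = n2774 := d19_2 F7716 D2774 (iv D2774)
theorem F9784 : act 6 n2774 = n2395 := d20_2 (iv F7717) D2774 (iv D2395)
theorem F9785 : act 7 n2774 = n2156 := d21_2 (iv F7718) D2774 (iv D2156)
def n2775 : Q := act 2 n2154
theorem D2775 : act 2 n2154 = n2775 := rfl
theorem F9786 : act 1 n2775 = n2775 := d7_1 D2775 (iv D2775) F7719 F6077 (iv F7719)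
theorem F9787 : act 5 n2775 = n2775 := d15_2 F7720 D2775 (iv D2775)
theorem F9788 : act 7 n2775 = n2157 := d17_2 (iv F7722) D2775 (iv D2157)
def n2776 : Q := act 4 n2154
theorem D2776 : act 4 n2154 = n2776 := rfl
theorem F9789 : act 1 n2776 = n2155 := d9_1 D2776 (iv D2155) (iv F7719)
theorem F9790 : act 6 n2776 = n2397 := d23_2 (iv F7721) D2776 (iv D2397)
theorem F9791 : act 7 n2776 = n2158 := d24_2 (iv F7722) D2776 (iv D2158)
def n2777 : Q := act 5 n2155
theorem D2777 : act 5 n2155 = n2777 := rfl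
theorem F9792 : act 2 n2777 = n2777 := d15_1 D2777 (iv D2777) F7723
theorem F9793 : act 4 n2777 = n2777 := d22_1 D2777 (iv D2777) (iv D2155) F6078 D2155
theorem F9794 : act 6 n2777 = n2398 := d25_2 (iv F7724) D2777 (iv D2398)
theorem F9795 : act 7 n2777 = n2159 := d26_2 (iv F7725) D2777 (iv D2159)
def n2778 : Q := act 2 n2156
theorem D2778 : act 2 n2156 = n2778 := rfl
theorem F9796 : act 0 n2778 = n2157 := d1_1 D2778 (iv D2157) (iv F7726)
theorem F9797 : act 5 n2778 = n2778 := d15_2 F7727 D2778 (iv D2778)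
theorem F9798 : act 6 n2778 = n2778 := d16_2 (iv F7728) D2778 (iv D2778) F7728 F6104
def n2779 : Q := act 4 n2156
theorem D2779 : act 4 n2156 = n2779 := rfl
theorem F9799 : act 0 n2779 = n2158 := d3_1 D2779 (iv D2158) (iv F7726)
theorem F9800 : act 6 n2779 = n2167 := d23_2 (iv F7728) D2779 (iv D2167)
def n2780 : Q := act 4 n2157
theorem D2780 : act 4 n2157 = n2780 := rfl
theorem F9801 : act 1 n2780 = n2780 := d9_1 D2780 (iv D2780) F7729
theorem F9802 : act 2 n2780 = n2158 := d14_1 D2780 (iv D2158) D2157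
theorem F9803 : act 6 n2780 = n2780 := d23_2 F7731 D2780 (iv D2780)
def n2781 : Q := act 5 n2158
theorem D2781 : act 5 n2158 = n2781 := rfl
theorem F9804 : act 1 n2781 = n2159 := d10_1 D2781 (iv D2159) (iv F7732)
theorem F9805 : act 4 n2781 = n2781 := d22_1 D2781 (iv D2781) (iv D2158) F6084 D2158
theorem F9806 : act 6 n2781 = n2168 := d25_2 (iv F7733) D2781 (iv D2168)
def n2782 : Q := act 3 n2160
theorem D2782 : act 3 n2160 = n2782 := rfl
theorem F9807 : act 0 n2782 = n2161 := d2_1 D2782 (iv D2161) D2160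
theorem F9808 : act 5 n2782 = n2163 := d19_2 (iv F7739) D2782 (iv D2163)
theorem F9809 : act 7 n2782 = n2403 := d21_2 (iv F7740) D2782 (iv D2403)
def n2783 : Q := act 2 n2161
theorem D2783 : act 2 n2161 = n2783 := rfl
theorem F9810 : act 1 n2783 = n2229 := d7_1 D2783 (iv D2229) F6289 (iv F6092) (iv F7741)
theorem F9813 : act 7 n2783 = n2404 := d17_2 (iv F7743) D2783 (iv D2404)
def n2784 : Q := act 4 n2161
theorem D2784 : act 4 n2161 = n2784 := rfl
theorem F9814 : act 1 n2784 = n2162 := d9_1 D2784 (iv D2162) (iv F7741)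
theorem F9816 : act 7 n2784 = n2405 := d24_2 (iv F7743) D2784 (iv D2405)
def n2785 : Q := act 5 n2162
theorem D2785 : act 5 n2162 = n2785 := rfl
theorem F9817 : act 2 n2785 = n2231 := d15_1 D2785 (iv D2231) (iv F7744)
theorem F9818 : act 3 n2785 = n2785 := d19_1 D2785 (iv D2785) F7745
theorem F9819 : act 4 n2785 = n2166 := d22_1 D2785 (iv D2166) (iv D1681) (iv F6093) D2162
theorem F9820 : act 7 n2785 = n2406 := d26_2 (iv F7746) D2785 (iv D2406)
def n2786 : Q := act 2 n2163
theorem D2786 : act 2 n2163 = n2786 := rfl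
theorem F9821 : act 0 n2786 = n2164 := d1_1 D2786 (iv D2164) (iv F7747)
theorem F9822 : act 3 n2786 = n2172 := d13_2 D2163 D2786 (iv D2172) (iv D1688) (iv F6095)
theorem F9823 : act 7 n2786 = n2407 := d17_2 (iv F7748) D2786 (iv D2407)
def n2787 : Q := act 4 n2163
theorem D2787 : act 4 n2163 = n2787 := rfl
theorem F9824 : act 0 n2787 = n2165 := d3_1 D2787 (iv D2165) (iv F7747)
theorem F9825 : act 3 n2787 = n2167 := d18_1 D2787 (iv D2167) (iv D1682) (iv F6096) D2163
theorem F9826 : act 7 n2787 = n2408 := d24_2 (iv F7748) D2787 (iv D2408)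
def n2788 : Q := act 4 n2164
theorem D2788 : act 4 n2164 = n2788 := rfl
theorem F9827 : act 1 n2788 = n2234 := d9_1 D2788 (iv D2234) (iv F7749)
theorem F9828 : act 2 n2788 = n2165 := d14_1 D2788 (iv D2165) D2164
theorem F9829 : act 3 n2788 = n2788 := d18_1 D2788 (iv D2788) F7750 F6130 (iv F7750)
theorem F9830 : act 7 n2788 = n2409 := d24_2 (iv F7751) D2788 (iv D2409)
def n2789 : Q := act 6 n2164
theorem D2789 : act 6 n2164 = n2789 := rfl
theorem F9831 : act 1 n2789 = n2235 := d11_1 D2789 (iv D2235) (iv F7749)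
theorem F9832 : act 3 n2789 = n2173 := d20_1 D2789 (iv D2173) (iv F7750)
def n2790 : Q := act 5 n2165
theorem D2790 : act 5 n2165 = n2790 := rfl
theorem F9833 : act 1 n2790 = n2166 := d10_1 D2790 (iv D2166) (iv F7752)
theorem F9834 : act 3 n2790 = n2168 := d19_1 D2790 (iv D2168) (iv F7753)
theorem F9835 : act 7 n2790 = n2411 := d26_2 (iv F7754) D2790 (iv D2411)
def n2791 : Q := act 5 n2167
theorem D2791 : act 5 n2167 = n2791 := rfl
theorem F9836 : act 0 n2791 = n2168 := d4_1 D2791 (iv D2168) (iv F7758)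
theorem F9837 : act 2 n2791 = n2791 := d15_1 D2791 (iv D2791) F7759
theorem F9838 : act 4 n2791 = n2791 := d22_1 D2791 (iv D2791) (iv D2167) F6105 D2167
theorem F9839 : act 7 n2791 = n2412 := d26_2 (iv F7760) D2791 (iv D2412)
def n2792 : Q := act 2 n2169
theorem D2792 : act 2 n2169 = n2792 := rfl
theorem F9840 : act 0 n2792 = n2170 := d1_1 D2792 (iv D2170) (iv F7765)
theorem F9841 : act 5 n2792 = n2172 := d15_2 (iv F7767) D2792 (iv D2172)
def n2793 : Q := act 4 n2169
theorem D2793 : act 4 n2169 = n2793 := rfl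
theorem F9847 : act 7 n2793 = n2414 := d24_2 (iv F7768) D2793 (iv D2414)
def n2794 : Q := act 4 n2170
theorem D2794 : act 4 n2170 = n2794 := rfl
theorem F9848 : act 1 n2794 = n2240 := d9_1 D2794 (iv D2240) (iv F7769)
theorem F9849 : act 2 n2794 = n2171 := d14_1 D2794 (iv D2171) D2170
def n2795 : Q := act 6 n2170
theorem D2795 : act 6 n2170 = n2795 := rfl
theorem F9853 : act 5 n2795 = n2173 := d25_1 D2795 (iv D2173) (iv F7770)
def n2796 : Q := act 1 n2172
theorem D2796 : act 1 n2172 = n2796 := rfl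
theorem F9854 : act 0 n2796 = n2242 := d0_1 D2796 (iv D2242) F6322 (iv F6129) (iv F7776)
def n2797 : Q := act 6 n2172
theorem D2797 : act 6 n2172 = n2797 := rfl
theorem F9858 : act 0 n2797 = n2173 := d5_1 D2797 (iv D2173) (iv F7776)
theorem F9859 : act 4 n2797 = n2797 := d23_1 D2797 (iv D2797) F7777
def n2798 : Q := act 7 n2173
theorem D2798 : act 7 n2173 = n2798 := rfl
theorem F9860 : act 1 n2798 = n2244 := d12_1 D2798 (iv D2244) (iv F7779)
theorem F9861 : act 4 n2798 = n2798 := d24_1 D2798 (iv D2798) F7780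
theorem F9862 : act 6 n2798 = n2419 := d27_1 D2798 (iv D2419) (iv D1876) (iv F6131) D2173
def n2799 : Q := act 2 n2174
theorem D2799 : act 2 n2174 = n2799 := rfl
theorem F9863 : act 0 n2799 = n2799 := d1_1 D2799 (iv D2799) F7781
theorem F9864 : act 4 n2799 = n2799 := d14_2 F7784 D2799 (iv D2799)
theorem F9865 : act 5 n2799 = n2343 := d15_2 (iv F7785) D2799 (iv D2343)
theorem F9866 : act 6 n2799 = n2176 := d16_2 D2174 D2799 (iv D2176) (iv D1692) (iv F6134)
theorem F9867 : act 7 n2799 = n2342 := d17_2 (iv F7786) D2799 (iv D2342)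
def n2800 : Q := act 2 n2175
theorem D2800 : act 2 n2175 = n2800 := rfl
theorem F9868 : act 0 n2800 = n2800 := d1_1 D2800 (iv D2800) F7787
theorem F9869 : act 4 n2800 = n2346 := d14_2 (iv F7790) D2800 (iv D2346)
theorem F9870 : act 5 n2800 = n2176 := d15_2 (iv F7791) D2800 (iv D2176)
theorem F9871 : act 6 n2800 = n2343 := d16_2 D2175 D2800 (iv D2343) (iv D1820) (iv F6140)
theorem F9872 : act 7 n2800 = n2800 := d17_2 F7792 D2800 (iv D2800)
def n2801 : Q := act 1 n2176
theorem D2801 : act 1 n2176 = n2801 := rfl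
theorem F9873 : act 2 n2801 = n2184 := d7_2 D2176 D2801 (iv D2184) (iv D1698) (iv F6145)
theorem F9874 : act 4 n2801 = n2801 := d9_2 F7794 D2801 (iv D2801)
theorem F9875 : act 7 n2801 = n2801 := d12_2 F7795 D2801 (iv D2801)
def n2802 : Q := act 3 n2176
theorem D2802 : act 3 n2176 = n2802 := rfl
theorem F9876 : act 0 n2802 = n2802 := d2_1 D2802 (iv D2802) F7793
theorem F9877 : act 2 n2802 = n2179 := d13_1 D2802 (iv D2179) (iv D1694) (iv F6146) D2176
theorem F9878 : act 7 n2802 = n2802 := d21_2 F7795 D2802 (iv D2802)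
def n2803 : Q := act 1 n2177
theorem D2803 : act 1 n2177 = n2803 := rfl
theorem F9879 : act 2 n2803 = n2186 := d7_2 D2177 D2803 (iv D2186) (iv D1699) (iv F6150)
theorem F9880 : act 4 n2803 = n2252 := d9_2 (iv F7797) D2803 (iv D2252)
theorem F9881 : act 5 n2803 = n2178 := d10_2 (iv F7798) D2803 (iv D2178)
theorem F9882 : act 6 n2803 = n2803 := d11_2 F7799 D2803 (iv D2803)
theorem F9883 : act 7 n2803 = n2803 := d12_2 F7800 D2803 (iv D2803)
def n2804 : Q := act 3 n2177
theorem D2804 : act 3 n2177 = n2804 := rfl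
theorem F9884 : act 0 n2804 = n2804 := d2_1 D2804 (iv D2804) F7796
theorem F9885 : act 5 n2804 = n2179 := d19_2 (iv F7798) D2804 (iv D2179)
theorem F9886 : act 6 n2804 = n2804 := d20_2 F7799 D2804 (iv D2804)
theorem F9887 : act 7 n2804 = n2804 := d21_2 F7800 D2804 (iv D2804)
def n2805 : Q := act 0 n2178
theorem D2805 : act 0 n2178 = n2805 := rfl
theorem F9888 : act 1 n2805 = n2805 := d0_2 D2178 D2805 (iv D2805) (iv D2178) F6154
theorem F9889 : act 2 n2805 = n2188 := d1_2 (iv F7801) D2805 (iv D2188)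
theorem F9890 : act 4 n2805 = n2180 := d3_2 (iv F7802) D2805 (iv D2180)
theorem F9891 : act 6 n2805 = n2805 := d5_2 F7803 D2805 (iv D2805)
theorem F9892 : act 7 n2805 = n2805 := d6_2 F7804 D2805 (iv D2805)
def n2806 : Q := act 3 n2178
theorem D2806 : act 3 n2178 = n2806 := rfl
theorem F9893 : act 1 n2806 = n2179 := d8_1 D2806 (iv D2179) D2178
theorem F9894 : act 6 n2806 = n2806 := d20_2 F7803 D2806 (iv D2806)
theorem F9895 : act 7 n2806 = n2806 := d21_2 F7804 D2806 (iv D2806)
def n2807 : Q := act 4 n2179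
theorem D2807 : act 4 n2179 = n2807 := rfl
theorem F9896 : act 0 n2807 = n2807 := d3_1 D2807 (iv D2807) F7805
theorem F9897 : act 3 n2807 = n2182 := d18_1 D2807 (iv D2182) (iv D1696) (iv F6155) D2179
theorem F9898 : act 6 n2807 = n2807 := d23_2 F7806 D2807 (iv D2807)
theorem F9899 : act 7 n2807 = n2807 := d24_2 F7807 D2807 (iv D2807)
def n2808 : Q := act 3 n2180
theorem D2808 : act 3 n2180 = n2808 := rfl
theorem F9900 : act 0 n2808 = n2181 := d2_1 D2808 (iv D2181) D2180
theorem F9902 : act 5 n2808 = n2257 := d19_2 (iv F7810) D2808 (iv D2257)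
def n2809 : Q := act 2 n2181
theorem D2809 : act 2 n2181 = n2809 := rfl
theorem F9907 : act 5 n2809 = n2258 := d15_2 (iv F7814) D2809 (iv D2258)
def n2810 : Q := act 4 n2181
theorem D2810 : act 4 n2181 = n2810 := rfl
theorem F9909 : act 1 n2810 = n2182 := d9_1 D2810 (iv D2182) (iv F7813)
def n2811 : Q := act 5 n2182
theorem D2811 : act 5 n2182 = n2811 := rfl
def n2812 : Q := act 1 n2183
theorem D2812 : act 1 n2183 = n2812 := rfl
theorem F9917 : act 5 n2812 = n2184 := d10_2 (iv F7822) D2812 (iv D2184)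
theorem F9918 : act 7 n2812 = n2812 := d12_2 F7823 D2812 (iv D2812)
def n2813 : Q := act 3 n2183
theorem D2813 : act 3 n2183 = n2813 := rfl
theorem F9919 : act 0 n2813 = n2213 := d2_1 D2813 (iv D2213) (iv F7821)
theorem F9920 : act 2 n2813 = n2187 := d13_1 D2813 (iv D2187) (iv D1699) (iv F6168) D2183
theorem F9921 : act 5 n2813 = n2185 := d19_2 (iv F7822) D2813 (iv D2185)
theorem F9922 : act 7 n2813 = n2813 := d21_2 F7823 D2813 (iv D2813)
def n2814 : Q := act 0 n2184
theorem D2814 : act 0 n2184 = n2814 := rfl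
theorem F9923 : act 1 n2814 = n2214 := d0_2 D2184 D2814 (iv D2214) (iv D1719) (iv F6171)
theorem F9924 : act 4 n2814 = n2814 := d3_2 F7824 D2814 (iv D2814)
theorem F9925 : act 7 n2814 = n2814 := d6_2 F7825 D2814 (iv D2814)
def n2815 : Q := act 3 n2184
theorem D2815 : act 3 n2184 = n2815 := rfl
theorem F9926 : act 1 n2815 = n2185 := d8_1 D2815 (iv D2185) D2184
theorem F9927 : act 7 n2815 = n2815 := d21_2 F7825 D2815 (iv D2815)
def n2816 : Q := act 4 n2185
theorem D2816 : act 4 n2185 = n2816 := rfl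
theorem F9928 : act 0 n2816 = n2216 := d3_1 D2816 (iv D2216) (iv F7826)
theorem F9929 : act 2 n2816 = n2190 := d14_1 D2816 (iv D2190) (iv F7827)
theorem F9930 : act 3 n2816 = n2816 := d18_1 D2816 (iv D2816) (iv D2185) F6172 D2185
theorem F9931 : act 7 n2816 = n2816 := d24_2 F7828 D2816 (iv D2816)
def n2817 : Q := act 0 n2186
theorem D2817 : act 0 n2186 = n2817 := rfl
theorem F9933 : act 4 n2817 = n2267 := d3_2 (iv F7829) D2817 (iv D2267)
theorem F9934 : act 5 n2817 = n2188 := d4_2 (iv F7830) D2817 (iv D2188)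
def n2818 : Q := act 3 n2186
theorem D2818 : act 3 n2186 = n2818 := rfl
theorem F9937 : act 1 n2818 = n2187 := d8_1 D2818 (iv D2187) D2186
theorem F9938 : act 5 n2818 = n2189 := d19_2 (iv F7830) D2818 (iv D2189)
theorem F9939 : act 6 n2818 = n2196 := d20_2 (iv F7831) D2818 (iv D2196)
theorem F9940 : act 7 n2818 = n2818 := d21_2 F7832 D2818 (iv D2818)
def n2819 : Q := act 4 n2187
theorem D2819 : act 4 n2187 = n2819 := rfl
theorem F9941 : act 0 n2819 = n2219 := d3_1 D2819 (iv D2219) (iv F7833)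
theorem F9942 : act 3 n2819 = n2269 := d18_1 D2819 (iv D2269) (iv D1761) (iv F6175) D2187
theorem F9943 : act 6 n2819 = n2197 := d23_2 (iv F7835) D2819 (iv D2197)
theorem F9944 : act 7 n2819 = n2819 := d24_2 F7836 D2819 (iv D2819)
def n2820 : Q := act 3 n2188
theorem D2820 : act 3 n2188 = n2820 := rfl
theorem F9946 : act 1 n2820 = n2220 := d8_1 D2820 (iv D2220) (iv F7837)
theorem F9947 : act 6 n2820 = n2198 := d20_2 (iv F7839) D2820 (iv D2198)
def n2821 : Q := act 2 n2189
theorem D2821 : act 2 n2189 = n2821 := rfl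
theorem F9949 : act 7 n2821 = n2821 := d17_2 F7843 D2821 (iv D2821)
def n2822 : Q := act 4 n2189
theorem D2822 : act 4 n2189 = n2822 := rfl
theorem F9951 : act 3 n2822 = n2193 := d18_1 D2822 (iv D2193) (iv D1703) (iv F6179) D2189
def n2823 : Q := act 5 n2190
theorem D2823 : act 5 n2190 = n2823 := rfl
theorem F9955 : act 3 n2823 = n2194 := d19_1 D2823 (iv D2194) (iv F7845)
def n2825 : Q := act 4 n2191
theorem D2825 : act 4 n2191 = n2825 := rfl
def n2828 : Q := act 5 n2193
theorem D2828 : act 5 n2193 = n2828 := rfl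
theorem F9972 : act 4 n2828 = n2278 := d22_1 D2828 (iv D2278) (iv D1767) (iv F6190) D2193
def n2829 : Q := act 3 n2195
theorem D2829 : act 3 n2195 = n2829 := rfl
theorem F9975 : act 0 n2829 = n2196 := d2_1 D2829 (iv D2196) D2195
theorem F9976 : act 1 n2829 = n2228 := d8_1 D2829 (iv D2228) (iv F7864)
theorem F9977 : act 5 n2829 = n2198 := d19_2 (iv F7867) D2829 (iv D2198)
def n2830 : Q := act 2 n2196
theorem D2830 : act 2 n2196 = n2830 := rfl
def n2831 : Q := act 4 n2196
theorem D2831 : act 4 n2196 = n2831 := rfl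
theorem F9982 : act 1 n2831 = n2197 := d9_1 D2831 (iv D2197) (iv F7869)
theorem F9983 : act 3 n2831 = n2281 := d18_1 D2831 (iv D2281) (iv D1770) (iv F6198) D2196
def n2832 : Q := act 5 n2197
theorem D2832 : act 5 n2197 = n2832 := rfl
theorem F9985 : act 0 n2832 = n2231 := d4_1 D2832 (iv D2231) (iv F7872)
theorem F9986 : act 3 n2832 = n2282 := d19_1 D2832 (iv D2282) (iv F7873)
def n2833 : Q := act 2 n2198
theorem D2833 : act 2 n2198 = n2833 := rfl
theorem F9989 : act 0 n2833 = n2199 := d1_1 D2833 (iv D2199) (iv F7875)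
theorem F9991 : act 7 n2833 = n2424 := d17_2 (iv F7877) D2833 (iv D2424)
def n2834 : Q := act 4 n2198
theorem D2834 : act 4 n2198 = n2834 := rfl
theorem F9994 : act 3 n2834 = n2203 := d18_1 D2834 (iv D2203) (iv D1710) (iv F6206) D2198
def n2835 : Q := act 4 n2199
theorem D2835 : act 4 n2199 = n2835 := rfl
theorem F9996 : act 2 n2835 = n2200 := d14_1 D2835 (iv D2200) D2199
theorem F9997 : act 7 n2835 = n2426 := d24_2 (iv F7879) D2835 (iv D2426)
def n2837 : Q := act 5 n2200
theorem D2837 : act 5 n2200 = n2837 := rfl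
theorem F10000 : act 3 n2837 = n2206 := d19_1 D2837 (iv D2206) (iv F7881)
theorem F10001 : act 7 n2837 = n2428 := d26_2 (iv F7882) D2837 (iv D2428)
def n2838 : Q := act 4 n2202
theorem D2838 : act 4 n2202 = n2838 := rfl
theorem F10004 : act 2 n2838 = n2203 := d14_1 D2838 (iv D2203) D2202
theorem F10005 : act 7 n2838 = n2429 := d24_2 (iv F7890) D2838 (iv D2429)
def n2840 : Q := act 5 n2203
theorem D2840 : act 5 n2203 = n2840 := rfl
theorem F10012 : act 4 n2840 = n2290 := d22_1 D2840 (iv D2290) (iv D1777) (iv F6215) D2203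
def n2841 : Q := act 3 n2204
theorem D2841 : act 3 n2204 = n2841 := rfl
theorem F10016 : act 7 n2841 = n2432 := d21_2 (iv F7896) D2841 (iv D2432)
def n2842 : Q := act 5 n2204
theorem D2842 : act 5 n2204 = n2842 := rfl
theorem F10019 : act 4 n2842 = n2292 := d22_1 D2842 (iv D2292) (iv D1778) (iv F6219) D2204
def n2849 : Q := act 1 n2211
theorem D2849 : act 1 n2211 = n2849 := rfl
theorem F10041 : act 2 n2849 = n2849 := d7_2 D2211 D2849 (iv D2849) (iv D2211) F6239
theorem F10042 : act 4 n2849 = n2212 := d9_2 (iv F7918) D2849 (iv D2212)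
theorem F10043 : act 5 n2849 = n2849 := d10_2 F7919 D2849 (iv D2849)
theorem F10044 : act 7 n2849 = n2849 := d12_2 F7920 D2849 (iv D2849)
def n2850 : Q := act 3 n2211
theorem D2850 : act 3 n2211 = n2850 := rfl
theorem F10045 : act 2 n2850 = n2300 := d13_1 D2850 (iv D2300) (iv D1785) (iv F6240) D2211
theorem F10046 : act 5 n2850 = n2850 := d19_2 F7919 D2850 (iv D2850)
theorem F10047 : act 7 n2850 = n2850 := d21_2 F7920 D2850 (iv D2850)
def n2851 : Q := act 0 n2212
theorem D2851 : act 0 n2212 = n2851 := rfl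
theorem F10048 : act 2 n2851 = n2851 := d1_2 F7921 D2851 (iv D2851)
theorem F10049 : act 5 n2851 = n2214 := d4_2 (iv F7922) D2851 (iv D2214)
theorem F10050 : act 7 n2851 = n2851 := d6_2 F7923 D2851 (iv D2851)
def n2852 : Q := act 3 n2212
theorem D2852 : act 3 n2212 = n2852 := rfl
theorem F10051 : act 1 n2852 = n2213 := d8_1 D2852 (iv D2213) D2212
theorem F10052 : act 5 n2852 = n2215 := d19_2 (iv F7922) D2852 (iv D2215)
theorem F10053 : act 7 n2852 = n2852 := d21_2 F7923 D2852 (iv D2852)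
def n2853 : Q := act 4 n2213
theorem D2853 : act 4 n2213 = n2853 := rfl
theorem F10054 : act 2 n2853 = n2219 := d14_1 D2853 (iv D2219) (iv F7924)
def n2854 : Q := act 3 n2214
theorem D2854 : act 3 n2214 = n2854 := rfl
theorem F10056 : act 0 n2854 = n2215 := d2_1 D2854 (iv D2215) D2214
theorem F10057 : act 7 n2854 = n2854 := d21_2 F7929 D2854 (iv D2854)
def n2855 : Q := act 2 n2215
theorem D2855 : act 2 n2215 = n2855 := rfl
theorem F10058 : act 1 n2855 = n2221 := d7_1 D2855 (iv D2221) F6263 (iv F6249) (iv F7930)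
theorem F10059 : act 3 n2855 = n2855 := d13_2 D2215 D2855 (iv D2855) (iv D2215) F6246
theorem F10060 : act 7 n2855 = n2855 := d17_2 F7931 D2855 (iv D2855)
def n2856 : Q := act 4 n2215
theorem D2856 : act 4 n2215 = n2856 := rfl
theorem F10061 : act 1 n2856 = n2216 := d9_1 D2856 (iv D2216) (iv F7930)
theorem F10062 : act 3 n2856 = n2856 := d18_1 D2856 (iv D2856) (iv D2215) F6247 D2215
theorem F10063 : act 7 n2856 = n2856 := d24_2 F7931 D2856 (iv D2856)
def n2857 : Q := act 5 n2216
theorem D2857 : act 5 n2216 = n2857 := rfl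
theorem F10064 : act 2 n2857 = n2223 := d15_1 D2857 (iv D2223) (iv F7932)
theorem F10065 : act 3 n2857 = n2857 := d19_1 D2857 (iv D2857) F7933
theorem F10066 : act 7 n2857 = n2857 := d26_2 F7934 D2857 (iv D2857)
def n2858 : Q := act 3 n2217
theorem D2858 : act 3 n2217 = n2858 := rfl
theorem F10067 : act 0 n2858 = n2218 := d2_1 D2858 (iv D2218) D2217
theorem F10068 : act 5 n2858 = n2220 := d19_2 (iv F7937) D2858 (iv D2220)
theorem F10069 : act 6 n2858 = n2228 := d20_2 (iv F7938) D2858 (iv D2228)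
def n2859 : Q := act 2 n2218
theorem D2859 : act 2 n2218 = n2859 := rfl
theorem F10072 : act 5 n2859 = n2221 := d15_2 (iv F7941) D2859 (iv D2221)
def n2860 : Q := act 4 n2218
theorem D2860 : act 4 n2218 = n2860 := rfl
theorem F10075 : act 3 n2860 = n2310 := d18_1 D2860 (iv D2310) (iv D1792) (iv F6252) D2218
def n2861 : Q := act 5 n2219
theorem D2861 : act 5 n2219 = n2861 := rfl
theorem F10079 : act 4 n2861 = n2223 := d22_1 D2861 (iv D2223) (iv D1725) (iv F6256) D2219
theorem F10080 : act 6 n2861 = n2231 := d25_2 (iv F7945) D2861 (iv D2231)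
def n2862 : Q := act 2 n2220
theorem D2862 : act 2 n2220 = n2862 := rfl
theorem F10082 : act 0 n2862 = n2221 := d1_1 D2862 (iv D2221) (iv F7947)
def n2863 : Q := act 4 n2220
theorem D2863 : act 4 n2220 = n2863 := rfl
theorem F10086 : act 3 n2863 = n2225 := d18_1 D2863 (iv D2225) (iv D1726) (iv F6260) D2220
theorem F10087 : act 6 n2863 = n2233 := d23_2 (iv F7948) D2863 (iv D2233)
def n2864 : Q := act 4 n2221
theorem D2864 : act 4 n2221 = n2864 := rfl
theorem F10089 : act 2 n2864 = n2222 := d14_1 D2864 (iv D2222) D2221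
theorem F10090 : act 7 n2864 = n2864 := d24_2 F7951 D2864 (iv D2864)
def n2865 : Q := act 6 n2221
theorem D2865 : act 6 n2221 = n2865 := rfl
theorem F10091 : act 2 n2865 = n2235 := d16_1 D2865 (iv D2235) (iv D1734) (iv F6264) D2221
theorem F10092 : act 3 n2865 = n2865 := d20_1 D2865 (iv D2865) F7950
def n2866 : Q := act 5 n2222
theorem D2866 : act 5 n2222 = n2866 := rfl
theorem F10094 : act 3 n2866 = n2227 := d19_1 D2866 (iv D2227) (iv F7953)
def n2867 : Q := act 1 n2224
theorem D2867 : act 1 n2224 = n2867 := rfl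
theorem F10099 : act 5 n2867 = n2317 := d10_2 (iv F7961) D2867 (iv D2317)
def n2868 : Q := act 4 n2224
theorem D2868 : act 4 n2224 = n2868 := rfl
theorem F10102 : act 0 n2868 = n2226 := d3_1 D2868 (iv D2226) (iv F7959)
theorem F10103 : act 2 n2868 = n2225 := d14_1 D2868 (iv D2225) D2224
def n2869 : Q := act 5 n2225
theorem D2869 : act 5 n2225 = n2869 := rfl
theorem F10106 : act 0 n2869 = n2227 := d4_1 D2869 (iv D2227) (iv F7964)
theorem F10107 : act 4 n2869 = n2319 := d22_1 D2869 (iv D2319) (iv D1799) (iv F6270) D2225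
def n2870 : Q := act 3 n2226
theorem D2870 : act 3 n2226 = n2870 := rfl
theorem F10110 : act 1 n2870 = n2870 := d8_1 D2870 (iv D2870) F7967
theorem F10111 : act 4 n2870 = n2870 := d18_2 D2226 D2870 (iv D2870) (iv D2226) F6274
theorem F10112 : act 6 n2870 = n2870 := d20_2 F7969 D2870 (iv D2870)
theorem F10113 : act 7 n2870 = n2870 := d21_2 F7970 D2870 (iv D2870)
def n2871 : Q := act 5 n2226
theorem D2871 : act 5 n2226 = n2871 := rfl
theorem F10116 : act 4 n2871 = n2321 := d22_1 D2871 (iv D2321) (iv D1800) (iv F6275) D2226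
def n2872 : Q := act 2 n2228
theorem D2872 : act 2 n2228 = n2872 := rfl
theorem F10119 : act 0 n2872 = n2229 := d1_1 D2872 (iv D2229) (iv F7975)
theorem F10120 : act 3 n2872 = n2238 := d13_2 D2228 D2872 (iv D2238) (iv D1739) (iv F6285)
theorem F10121 : act 5 n2872 = n2232 := d15_2 (iv F7976) D2872 (iv D2232)
theorem F10122 : act 7 n2872 = n2440 := d17_2 (iv F7977) D2872 (iv D2440)
def n2873 : Q := act 4 n2228
theorem D2873 : act 4 n2228 = n2873 := rfl
theorem F10124 : act 3 n2873 = n2323 := d18_1 D2873 (iv D2323) (iv D1802) (iv F6286) D2228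
theorem F10125 : act 7 n2873 = n2441 := d24_2 (iv F7977) D2873 (iv D2441)
def n2874 : Q := act 4 n2229
theorem D2874 : act 4 n2229 = n2874 := rfl
theorem F10126 : act 2 n2874 = n2230 := d14_1 D2874 (iv D2230) D2229
def n2875 : Q := act 6 n2229
theorem D2875 : act 6 n2229 = n2875 := rfl
def n2876 : Q := act 5 n2230
theorem D2876 : act 5 n2230 = n2876 := rfl
theorem F10131 : act 3 n2876 = n2326 := d19_1 D2876 (iv D2326) (iv F7982)
theorem F10132 : act 4 n2876 = n2236 := d22_1 D2876 (iv D2236) (iv D1735) (iv F6290) D2230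
theorem F10133 : act 7 n2876 = n2444 := d26_2 (iv F7983) D2876 (iv D2444)
def n2877 : Q := act 1 n2232
theorem D2877 : act 1 n2232 = n2877 := rfl
theorem F10135 : act 7 n2877 = n2445 := d12_2 (iv F7989) D2877 (iv D2445)
def n2878 : Q := act 4 n2232
theorem D2878 : act 4 n2232 = n2878 := rfl
theorem F10137 : act 2 n2878 = n2233 := d14_1 D2878 (iv D2233) D2232
def n2879 : Q := act 6 n2232
theorem D2879 : act 6 n2232 = n2879 := rfl
def n2880 : Q := act 5 n2233
theorem D2880 : act 5 n2233 = n2880 := rfl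
theorem F10143 : act 3 n2880 = n2237 := d19_1 D2880 (iv D2237) (iv F7991)
def n2881 : Q := act 5 n2234
theorem D2881 : act 5 n2234 = n2881 := rfl
theorem F10145 : act 2 n2881 = n2236 := d15_1 D2881 (iv D2236) (iv F7993)
theorem F10147 : act 7 n2881 = n2449 := d26_2 (iv F7995) D2881 (iv D2449)
def n2882 : Q := act 6 n2234
theorem D2882 : act 6 n2234 = n2882 := rfl
theorem F10148 : act 3 n2882 = n2882 := d20_1 D2882 (iv D2882) F7994
theorem F10149 : act 4 n2882 = n2235 := d23_1 D2882 (iv D2235) D2234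
def n2883 : Q := act 7 n2235
theorem D2883 : act 7 n2235 = n2883 := rfl
theorem F10150 : act 3 n2883 = n2244 := d21_1 D2883 (iv D2244) (iv F7996)
theorem F10151 : act 6 n2883 = n2451 := d27_1 D2883 (iv D2451) (iv D1900) (iv F6297) D2235
def n2884 : Q := act 1 n2238
theorem D2884 : act 1 n2238 = n2884 := rfl
def n2885 : Q := act 4 n2238
theorem D2885 : act 4 n2238 = n2885 := rfl
theorem F10155 : act 0 n2885 = n2240 := d3_1 D2885 (iv D2240) (iv F8004)
def n2887 : Q := act 3 n2240
theorem D2887 : act 3 n2240 = n2887 := rfl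
theorem F10162 : act 2 n2887 = n2337 := d13_1 D2887 (iv D2337) F6574 (iv F6318) (iv F8013)
def n2888 : Q := act 6 n2240
theorem D2888 : act 6 n2240 = n2888 := rfl
def n2889 : Q := act 7 n2241
theorem D2889 : act 7 n2241 = n2889 := rfl
theorem F10169 : act 5 n2889 = n2244 := d26_1 D2889 (iv D2244) (iv F8017)
def n2891 : Q := act 7 n2243
theorem D2891 : act 7 n2243 = n2891 := rfl
theorem F10173 : act 0 n2891 = n2244 := d6_1 D2891 (iv D2244) (iv F8021)
def n2892 : Q := act 2 n2245
theorem D2892 : act 2 n2245 = n2892 := rfl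
theorem F10180 : act 6 n2892 = n2249 := d16_2 D2245 D2892 (iv D2249) (iv D1748) (iv F6329)
def n2896 : Q := act 2 n2248
theorem D2896 : act 2 n2248 = n2896 := rfl
theorem F10194 : act 4 n2896 = n2249 := d14_2 (iv F8045) D2896 (iv D2249)
theorem F10196 : act 6 n2896 = n2542 := d16_2 D2248 D2896 (iv D2542) (iv D1977) (iv F6345)
def n2897 : Q := act 1 n2249
theorem D2897 : act 1 n2249 = n2897 := rfl
theorem F10198 : act 2 n2897 = n2262 := d7_2 D2249 D2897 (iv D2262) (iv D1757) (iv F6350)
def n2899 : Q := act 0 n2250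
theorem D2899 : act 0 n2250 = n2899 := rfl
theorem F10206 : act 2 n2899 = n2264 := d1_2 (iv F8051) D2899 (iv D2264)
def n2900 : Q := act 3 n2250
theorem D2900 : act 3 n2250 = n2900 := rfl
theorem F10209 : act 1 n2900 = n2251 := d8_1 D2900 (iv D2251) D2250
def n2902 : Q := act 0 n2252
theorem D2902 : act 0 n2252 = n2902 := rfl
theorem F10216 : act 2 n2902 = n2267 := d1_2 (iv F8057) D2902 (iv D2267)
theorem F10217 : act 5 n2902 = n2254 := d4_2 (iv F8058) D2902 (iv D2254)
def n2903 : Q := act 3 n2252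
theorem D2903 : act 3 n2252 = n2903 := rfl
theorem F10220 : act 1 n2903 = n2253 := d8_1 D2903 (iv D2253) D2252
theorem F10221 : act 5 n2903 = n2255 := d19_2 (iv F8058) D2903 (iv D2255)
def n2904 : Q := act 4 n2253
theorem D2904 : act 4 n2253 = n2904 := rfl
def n2905 : Q := act 3 n2254
theorem D2905 : act 3 n2254 = n2905 := rfl
theorem F10227 : act 0 n2905 = n2255 := d2_1 D2905 (iv D2255) D2254
def n2906 : Q := act 2 n2255
theorem D2906 : act 2 n2255 = n2906 := rfl
theorem F10231 : act 3 n2906 = n2271 := d13_2 D2255 D2906 (iv D2271) (iv D1763) (iv F6361)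
def n2907 : Q := act 4 n2255
theorem D2907 : act 4 n2255 = n2907 := rfl
theorem F10234 : act 3 n2907 = n2259 := d18_1 D2907 (iv D2259) (iv D1754) (iv F6362) D2255
def n2909 : Q := act 2 n2257
theorem D2909 : act 2 n2257 = n2909 := rfl
theorem F10241 : act 0 n2909 = n2258 := d1_1 D2909 (iv D2258) (iv F8077)
theorem F10242 : act 3 n2909 = n2274 := d13_2 D2257 D2909 (iv D2274) (iv D1765) (iv F6369)
def n2910 : Q := act 4 n2257
theorem D2910 : act 4 n2257 = n2910 := rfl
def n2911 : Q := act 4 n2258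
theorem D2911 : act 4 n2258 = n2911 := rfl
theorem F10249 : act 2 n2911 = n2259 := d14_1 D2911 (iv D2259) D2258
def n2912 : Q := act 6 n2258
theorem D2912 : act 6 n2258 = n2912 := rfl
def n2914 : Q := act 1 n2261
theorem D2914 : act 1 n2261 = n2914 := rfl
theorem F10257 : act 4 n2914 = n2262 := d9_2 (iv F8092) D2914 (iv D2262)
def n2915 : Q := act 3 n2261
theorem D2915 : act 3 n2261 = n2915 := rfl
theorem F10261 : act 0 n2915 = n2300 := d2_1 D2915 (iv D2300) (iv F8091)
theorem F10262 : act 5 n2915 = n2915 := d19_2 F8093 D2915 (iv D2915)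
theorem F10263 : act 6 n2915 = n2915 := d20_2 F8094 D2915 (iv D2915)
theorem F10264 : act 7 n2915 = n2915 := d21_2 F8095 D2915 (iv D2915)
def n2916 : Q := act 0 n2262
theorem D2916 : act 0 n2262 = n2916 := rfl
theorem F10265 : act 1 n2916 = n2301 := d0_2 D2262 D2916 (iv D2301) (iv D1786) (iv F6383)
def n2917 : Q := act 3 n2262
theorem D2917 : act 3 n2262 = n2917 := rfl
def n2918 : Q := act 4 n2263
theorem D2918 : act 4 n2263 = n2918 := rfl
theorem F10273 : act 0 n2918 = n2303 := d3_1 D2918 (iv D2303) (iv F8099)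
def n2919 : Q := act 3 n2264
theorem D2919 : act 3 n2264 = n2919 := rfl
theorem F10277 : act 0 n2919 = n2265 := d2_1 D2919 (iv D2265) D2264
theorem F10278 : act 1 n2919 = n2304 := d8_1 D2919 (iv D2304) (iv F8104)
def n2920 : Q := act 2 n2265
theorem D2920 : act 2 n2265 = n2920 := rfl
theorem F10281 : act 1 n2920 = n2271 := d7_1 D2920 (iv D2271) F6405 (iv F6391) (iv F8108)
def n2923 : Q := act 3 n2267
theorem D2923 : act 3 n2267 = n2923 := rfl
theorem F10292 : act 0 n2923 = n2268 := d2_1 D2923 (iv D2268) D2267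
theorem F10293 : act 1 n2923 = n2308 := d8_1 D2923 (iv D2308) (iv F8116)
theorem F10294 : act 5 n2923 = n2270 := d19_2 (iv F8117) D2923 (iv D2270)
def n2924 : Q := act 2 n2268
theorem D2924 : act 2 n2268 = n2924 := rfl
theorem F10297 : act 5 n2924 = n2271 := d15_2 (iv F8121) D2924 (iv D2271)
def n2925 : Q := act 4 n2268
theorem D2925 : act 4 n2268 = n2925 := rfl
theorem F10300 : act 6 n2925 = n2281 := d23_2 (iv F8122) D2925 (iv D2281)
def n2927 : Q := act 2 n2270
theorem D2927 : act 2 n2270 = n2927 := rfl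
theorem F10306 : act 0 n2927 = n2271 := d1_1 D2927 (iv D2271) (iv F8127)
def n2928 : Q := act 4 n2270
theorem D2928 : act 4 n2270 = n2928 := rfl
theorem F10310 : act 3 n2928 = n2275 := d18_1 D2928 (iv D2275) (iv D1765) (iv F6402) D2270
def n2929 : Q := act 4 n2271
theorem D2929 : act 4 n2271 = n2929 := rfl
theorem F10313 : act 2 n2929 = n2272 := d14_1 D2929 (iv D2272) D2271
def n2930 : Q := act 6 n2271
theorem D2930 : act 6 n2271 = n2930 := rfl
def n2931 : Q := act 5 n2272
theorem D2931 : act 5 n2272 = n2931 := rfl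
theorem F10318 : act 6 n2931 = n2287 := d25_2 (iv F8134) D2931 (iv D2287)
def n2932 : Q := act 1 n2274
theorem D2932 : act 1 n2274 = n2932 := rfl
theorem F10321 : act 2 n2932 = n2317 := d7_2 D2274 D2932 (iv D2317) (iv D1798) (iv F6413)
def n2933 : Q := act 4 n2274
theorem D2933 : act 4 n2274 = n2933 := rfl
theorem F10323 : act 0 n2933 = n2276 := d3_1 D2933 (iv D2276) (iv F8140)
theorem F10324 : act 2 n2933 = n2275 := d14_1 D2933 (iv D2275) D2274
def n2936 : Q := act 3 n2276
theorem D2936 : act 3 n2276 = n2936 := rfl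
def n2937 : Q := act 5 n2276
theorem D2937 : act 5 n2276 = n2937 := rfl
theorem F10335 : act 2 n2937 = n2278 := d15_1 D2937 (iv D2278) (iv F8147)
def n2938 : Q := act 6 n2276
theorem D2938 : act 6 n2276 = n2938 := rfl
theorem F10338 : act 2 n2938 = n2293 := d16_1 D2938 (iv D2293) F6456 (iv F6419) (iv F8147)
theorem F10339 : act 4 n2938 = n2277 := d23_1 D2938 (iv D2277) D2276
def n2940 : Q := act 2 n2279
theorem D2940 : act 2 n2279 = n2940 := rfl
theorem F10345 : act 5 n2940 = n2283 := d15_2 (iv F8156) D2940 (iv D2283)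
theorem F10346 : act 7 n2940 = n2460 := d17_2 (iv F8157) D2940 (iv D2460)
def n2941 : Q := act 4 n2279
theorem D2941 : act 4 n2279 = n2941 := rfl
theorem F10348 : act 1 n2941 = n2323 := d9_1 D2941 (iv D2323) (iv F8155)
def n2942 : Q := act 4 n2280
theorem D2942 : act 4 n2280 = n2942 := rfl
theorem F10351 : act 2 n2942 = n2281 := d14_1 D2942 (iv D2281) D2280
def n2944 : Q := act 5 n2281
theorem D2944 : act 5 n2281 = n2944 := rfl
theorem F10357 : act 4 n2944 = n2287 := d22_1 D2944 (iv D2287) (iv D1774) (iv F6430) D2281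
def n2945 : Q := act 1 n2283
theorem D2945 : act 1 n2283 = n2945 := rfl
theorem F10360 : act 2 n2945 = n2327 := d7_2 D2283 D2945 (iv D2327) (iv D1806) (iv F6436)
theorem F10362 : act 7 n2945 = n2465 := d12_2 (iv F8170) D2945 (iv D2465)
def n2946 : Q := act 4 n2283
theorem D2946 : act 4 n2283 = n2946 := rfl
theorem F10363 : act 0 n2946 = n2285 := d3_1 D2946 (iv D2285) (iv F8168)
theorem F10364 : act 2 n2946 = n2284 := d14_1 D2946 (iv D2284) D2283
theorem F10365 : act 7 n2946 = n2466 := d24_2 (iv F8170) D2946 (iv D2466)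
def n2948 : Q := act 5 n2284
theorem D2948 : act 5 n2284 = n2948 := rfl
theorem F10368 : act 0 n2948 = n2287 := d4_1 D2948 (iv D2287) (iv F8171)
theorem F10369 : act 1 n2948 = n2330 := d10_1 D2948 (iv D2330) (iv F8172)
theorem F10370 : act 3 n2948 = n2290 := d19_1 D2948 (iv D2290) (iv F8173)
def n2949 : Q := act 3 n2285
theorem D2949 : act 3 n2285 = n2949 := rfl
theorem F10373 : act 2 n2949 = n2291 := d13_1 D2949 (iv D2291) F6456 (iv F6442) (iv F8176)
theorem F10375 : act 7 n2949 = n2469 := d21_2 (iv F8177) D2949 (iv D2469)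
def n2950 : Q := act 5 n2285
theorem D2950 : act 5 n2285 = n2950 := rfl
theorem F10377 : act 2 n2950 = n2287 := d15_1 D2950 (iv D2287) (iv F8176)
def n2953 : Q := act 3 n2288
theorem D2953 : act 3 n2288 = n2953 := rfl
theorem F10387 : act 7 n2953 = n2473 := d21_2 (iv F8186) D2953 (iv D2473)
def n2954 : Q := act 5 n2288
theorem D2954 : act 5 n2288 = n2954 := rfl
def n2955 : Q := act 6 n2288
theorem D2955 : act 6 n2288 = n2955 := rfl
def n2957 : Q := act 5 n2291
theorem D2957 : act 5 n2291 = n2957 := rfl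
theorem F10399 : act 1 n2957 = n2295 := d10_1 D2957 (iv D2295) (iv F8193)
theorem F10400 : act 3 n2957 = n2292 := d19_1 D2957 (iv D2292) D2291
theorem F10401 : act 7 n2957 = n2477 := d26_2 (iv F8195) D2957 (iv D2477)
def n2958 : Q := act 6 n2291
theorem D2958 : act 6 n2291 = n2958 := rfl
theorem F10402 : act 1 n2958 = n2296 := d11_1 D2958 (iv D2296) (iv F8193)
theorem F10403 : act 3 n2958 = n2293 := d20_1 D2958 (iv D2293) D2291
def n2959 : Q := act 6 n2292
theorem D2959 : act 6 n2292 = n2959 := rfl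
theorem F10405 : act 1 n2959 = n2297 := d11_1 D2959 (iv D2297) (iv F8196)
def n2961 : Q := act 4 n2295
theorem D2961 : act 4 n2295 = n2961 := rfl
theorem F10413 : act 7 n2961 = n2481 := d24_2 (iv F8207) D2961 (iv D2481)
def n2962 : Q := act 6 n2295
theorem D2962 : act 6 n2295 = n2962 := rfl
theorem F10416 : act 5 n2962 = n2296 := d25_1 D2962 (iv D2296) D2295
def n2963 : Q := act 2 n2296
theorem D2963 : act 2 n2296 = n2963 := rfl
def n2964 : Q := act 7 n2296
theorem D2964 : act 7 n2296 = n2964 := rfl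
theorem F10424 : act 6 n2964 = n2484 := d27_1 D2964 (iv D2484) (iv D1927) (iv F6465) D2296
def n2965 : Q := act 7 n2297
theorem D2965 : act 7 n2297 = n2965 := rfl
theorem F10428 : act 6 n2965 = n2485 := d27_1 D2965 (iv D2485) (iv D1928) (iv F6468) D2297
def n2966 : Q := act 0 n2299
theorem D2966 : act 0 n2299 = n2966 := rfl
theorem F10430 : act 4 n2966 = n2301 := d3_2 (iv F8219) D2966 (iv D2301)
def n2967 : Q := act 3 n2299
theorem D2967 : act 3 n2299 = n2967 := rfl
theorem F10434 : act 1 n2967 = n2300 := d8_1 D2967 (iv D2300) D2299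
def n2968 : Q := act 4 n2300
theorem D2968 : act 4 n2300 = n2968 := rfl
theorem F10438 : act 3 n2968 = n2303 := d18_1 D2968 (iv D2303) (iv D1787) (iv F6476) D2300
def n2969 : Q := act 3 n2301
theorem D2969 : act 3 n2301 = n2969 := rfl
theorem F10442 : act 5 n2969 = n2304 := d19_2 (iv F8227) D2969 (iv D2304)
def n2970 : Q := act 2 n2302
theorem D2970 : act 2 n2302 = n2970 := rfl
theorem F10445 : act 1 n2970 = n2309 := d7_1 D2970 (iv D2309) F6503 (iv F6484) (iv F8230)
theorem F10447 : act 5 n2970 = n2305 := d15_2 (iv F8231) D2970 (iv D2305)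
theorem F10448 : act 7 n2970 = n2970 := d17_2 F8233 D2970 (iv D2970)
def n2971 : Q := act 4 n2302
theorem D2971 : act 4 n2302 = n2971 := rfl
theorem F10449 : act 1 n2971 = n2303 := d9_1 D2971 (iv D2303) (iv F8230)
def n2972 : Q := act 5 n2303
theorem D2972 : act 5 n2303 = n2972 := rfl
def n2973 : Q := act 2 n2304
theorem D2973 : act 2 n2304 = n2973 := rfl
theorem F10456 : act 0 n2973 = n2305 := d1_1 D2973 (iv D2305) (iv F8237)
theorem F10457 : act 3 n2973 = n2973 := d13_2 D2304 D2973 (iv D2973) (iv D2304) F6488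
def n2975 : Q := act 4 n2305
theorem D2975 : act 4 n2305 = n2975 := rfl
theorem F10463 : act 1 n2975 = n2314 := d9_1 D2975 (iv D2314) (iv F8240)
theorem F10464 : act 2 n2975 = n2306 := d14_1 D2975 (iv D2306) D2305
theorem F10465 : act 7 n2975 = n2975 := d24_2 F8242 D2975 (iv D2975)
def n2976 : Q := act 6 n2305
theorem D2976 : act 6 n2305 = n2976 := rfl
theorem F10466 : act 1 n2976 = n2315 := d11_1 D2976 (iv D2315) (iv F8240)
theorem F10467 : act 2 n2976 = n2976 := d16_1 D2976 (iv D2976) (iv D2305) F6493 D2305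
def n2977 : Q := act 5 n2306
theorem D2977 : act 5 n2306 = n2977 := rfl
def n2978 : Q := act 2 n2308
theorem D2978 : act 2 n2308 = n2978 := rfl
theorem F10473 : act 0 n2978 = n2309 := d1_1 D2978 (iv D2309) (iv F8251)
theorem F10475 : act 5 n2978 = n2312 := d15_2 (iv F8252) D2978 (iv D2312)
def n2979 : Q := act 4 n2308
theorem D2979 : act 4 n2308 = n2979 := rfl
def n2981 : Q := act 6 n2309
theorem D2981 : act 6 n2309 = n2981 := rfl
def n2982 : Q := act 5 n2310
theorem D2982 : act 5 n2310 = n2982 := rfl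
theorem F10486 : act 4 n2982 = n2316 := d22_1 D2982 (iv D2316) (iv D1796) (iv F6504) D2310
def n2983 : Q := act 1 n2312
theorem D2983 : act 1 n2312 = n2983 := rfl
def n2984 : Q := act 4 n2312
theorem D2984 : act 4 n2312 = n2984 := rfl
theorem F10491 : act 0 n2984 = n2314 := d3_1 D2984 (iv D2314) (iv F8264)
theorem F10492 : act 2 n2984 = n2313 := d14_1 D2984 (iv D2313) D2312
def n2985 : Q := act 6 n2312
theorem D2985 : act 6 n2312 = n2985 := rfl
theorem F10494 : act 0 n2985 = n2315 := d5_1 D2985 (iv D2315) (iv F8264)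
theorem F10495 : act 2 n2985 = n2329 := d16_1 D2985 (iv D2329) (iv D1806) (iv F6510) D2312
theorem F10496 : act 3 n2985 = n2985 := d20_1 D2985 (iv D2985) F8265
def n2986 : Q := act 5 n2313
theorem D2986 : act 5 n2313 = n2986 := rfl
def n2987 : Q := act 3 n2314
theorem D2987 : act 3 n2314 = n2987 := rfl
theorem F10501 : act 2 n2987 = n2320 := d13_1 D2987 (iv D2320) F6529 (iv F6515) (iv F8271)
theorem F10502 : act 4 n2987 = n2987 := d18_2 D2314 D2987 (iv D2987) (iv D2314) F6512
def n2989 : Q := act 6 n2314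
theorem D2989 : act 6 n2314 = n2989 := rfl
theorem F10506 : act 2 n2989 = n2332 := d16_1 D2989 (iv D2332) F6554 (iv F6516) (iv F8271)
theorem F10507 : act 4 n2989 = n2315 := d23_1 D2989 (iv D2315) D2314
def n2990 : Q := act 7 n2315
theorem D2990 : act 7 n2315 = n2990 := rfl
theorem F10508 : act 2 n2990 = n2333 := d17_1 D2990 (iv D2333) (iv F8273)
theorem F10510 : act 6 n2990 = n2990 := d27_1 D2990 (iv D2990) (iv D2315) F6513 D2315
def n2991 : Q := act 4 n2317
theorem D2991 : act 4 n2317 = n2991 := rfl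
theorem F10512 : act 1 n2991 = n2318 := d9_1 D2991 (iv D2318) D2317
theorem F10514 : act 7 n2991 = n2991 := d24_2 F8282 D2991 (iv D2991)
def n2992 : Q := act 3 n2318
theorem D2992 : act 3 n2318 = n2992 := rfl
theorem F10517 : act 6 n2992 = n2992 := d20_2 F8285 D2992 (iv D2992)
def n2993 : Q := act 5 n2318
theorem D2993 : act 5 n2318 = n2993 := rfl
theorem F10519 : act 0 n2993 = n2321 := d4_1 D2993 (iv D2321) (iv F8283)
def n2995 : Q := act 1 n2322
theorem D2995 : act 1 n2322 = n2995 := rfl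
theorem F10528 : act 3 n2995 = n2334 := d8_2 (iv F8299) D2995 (iv D2334)
theorem F10529 : act 5 n2995 = n2327 := d10_2 (iv F8300) D2995 (iv D2327)
theorem F10530 : act 7 n2995 = n2486 := d12_2 (iv F8301) D2995 (iv D2486)
def n2996 : Q := act 4 n2322
theorem D2996 : act 4 n2322 = n2996 := rfl
theorem F10532 : act 2 n2996 = n2323 := d14_1 D2996 (iv D2323) D2322
theorem F10533 : act 7 n2996 = n2487 := d24_2 (iv F8301) D2996 (iv D2487)
def n2997 : Q := act 6 n2322
theorem D2997 : act 6 n2322 = n2997 := rfl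
theorem F10536 : act 5 n2997 = n2329 := d25_1 D2997 (iv D2329) (iv F8300)
def n2998 : Q := act 5 n2323
theorem D2998 : act 5 n2323 = n2998 := rfl
theorem F10538 : act 4 n2998 = n2330 := d22_1 D2998 (iv D2330) (iv D1807) (iv F6536) D2323
theorem F10539 : act 7 n2998 = n2489 := d26_2 (iv F8303) D2998 (iv D2489)
def n3000 : Q := act 5 n2324
theorem D3000 : act 5 n2324 = n3000 := rfl
theorem F10544 : act 2 n3000 = n2326 := d15_1 D3000 (iv D2326) (iv F8305)
theorem F10545 : act 4 n3000 = n2331 := d22_1 D3000 (iv D2331) (iv D1808) (iv F6540) D2324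
def n3002 : Q := act 7 n2325
theorem D3002 : act 7 n2325 = n3002 := rfl
theorem F10551 : act 5 n3002 = n2333 := d26_1 D3002 (iv D2333) (iv F8309)
def n3003 : Q := act 4 n2327
theorem D3003 : act 4 n2327 = n3003 := rfl
theorem F10554 : act 1 n3003 = n2328 := d9_1 D3003 (iv D2328) D2327
theorem F10556 : act 7 n3003 = n2494 := d24_2 (iv F8315) D3003 (iv D2494)
def n3004 : Q := act 6 n2327
theorem D3004 : act 6 n2327 = n3004 := rfl
theorem F10557 : act 0 n3004 = n3004 := d5_1 D3004 (iv D3004) F8313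
theorem F10558 : act 1 n3004 = n2329 := d11_1 D3004 (iv D2329) D2327
theorem F10559 : act 3 n3004 = n2340 := d20_1 D3004 (iv D2340) (iv F8314)
def n3005 : Q := act 5 n2328
theorem D3005 : act 5 n2328 = n3005 := rfl
theorem F10561 : act 2 n3005 = n2330 := d15_1 D3005 (iv D2330) (iv F8317)
theorem F10563 : act 7 n3005 = n2496 := d26_2 (iv F8319) D3005 (iv D2496)
def n3006 : Q := act 6 n2328
theorem D3006 : act 6 n2328 = n3006 := rfl
theorem F10564 : act 0 n3006 = n2332 := d5_1 D3006 (iv D2332) (iv F8316)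
theorem F10566 : act 4 n3006 = n2329 := d23_1 D3006 (iv D2329) D2328
def n3007 : Q := act 7 n2329
theorem D3007 : act 7 n2329 = n3007 := rfl
theorem F10567 : act 0 n3007 = n2333 := d6_1 D3007 (iv D2333) (iv F8320)
theorem F10568 : act 3 n3007 = n2341 := d21_1 D3007 (iv D2341) (iv F8321)
def n3008 : Q := act 6 n2331
theorem D3008 : act 6 n2331 = n3008 := rfl
theorem F10572 : act 5 n3008 = n2332 := d25_1 D3008 (iv D2332) D2331
def n3009 : Q := act 7 n2332
theorem D3009 : act 7 n2332 = n3009 := rfl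
theorem F10573 : act 1 n3009 = n3009 := d12_1 D3009 (iv D3009) F8329
theorem F10575 : act 4 n3009 = n2333 := d24_1 D3009 (iv D2333) (iv F8331)
def n3010 : Q := act 4 n2334
theorem D3010 : act 4 n2334 = n3010 := rfl
theorem F10581 : act 7 n3010 = n2501 := d24_2 (iv F8338) D3010 (iv D2501)
def n3011 : Q := act 6 n2334
theorem D3011 : act 6 n2334 = n3011 := rfl
theorem F10584 : act 5 n3011 = n2340 := d25_1 D3011 (iv D2340) (iv F8337)
def n3012 : Q := act 3 n2335
theorem D3012 : act 3 n2335 = n3012 := rfl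
theorem F10587 : act 7 n3012 = n2503 := d21_2 (iv F8342) D3012 (iv D2503)
def n3013 : Q := act 6 n2335
theorem D3013 : act 6 n2335 = n3013 := rfl
theorem F10590 : act 4 n3013 = n2336 := d23_1 D3013 (iv D2336) D2335
def n3014 : Q := act 7 n2336
theorem D3014 : act 7 n2336 = n3014 := rfl
theorem F10594 : act 5 n3014 = n2341 := d26_1 D3014 (iv D2341) (iv F8345)
theorem F10595 : act 6 n3014 = n2505 := d27_1 D3014 (iv D2505) (iv D1944) (iv F6567) D2336
def n3015 : Q := act 6 n2337
theorem D3015 : act 6 n2337 = n3015 := rfl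
theorem F10597 : act 3 n3015 = n2338 := d20_1 D3015 (iv D2338) D2337
def n3016 : Q := act 7 n2338
theorem D3016 : act 7 n2338 = n3016 := rfl
theorem F10601 : act 4 n3016 = n2339 := d24_1 D3016 (iv D2339) (iv F8351)
theorem F10603 : act 6 n3016 = n2507 := d27_1 D3016 (iv D2507) (iv D1946) (iv F6576) D2338
def n3017 : Q := act 2 n2340
theorem D3017 : act 2 n2340 = n3017 := rfl
theorem F10604 : act 0 n3017 = n3017 := d1_1 D3017 (iv D3017) F8357
theorem F10605 : act 1 n3017 = n3017 := d7_1 D3017 (iv D3017) F8358 F6585 (iv F8358)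
def n3018 : Q := act 7 n2340
theorem D3018 : act 7 n2340 = n3018 := rfl
theorem F10609 : act 1 n3018 = n2341 := d12_1 D3018 (iv D2341) (iv F8358)
theorem F10611 : act 6 n3018 = n2509 := d27_1 D3018 (iv D2509) (iv D1948) (iv F6583) D2340
def n3019 : Q := act 1 n2342
theorem D3019 : act 1 n2342 = n3019 := rfl
theorem F10612 : act 2 n3019 = n2353 := d7_2 D2342 D3019 (iv D2353) (iv D1827) (iv F6592)
theorem F10613 : act 4 n3019 = n3019 := d9_2 F8365 D3019 (iv D3019)
theorem F10614 : act 5 n3019 = n2344 := d10_2 (iv F8366) D3019 (iv D2344)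
theorem F10615 : act 6 n3019 = n3019 := d11_2 F8367 D3019 (iv D3019)
def n3020 : Q := act 3 n2342
theorem D3020 : act 3 n2342 = n3020 := rfl
theorem F10616 : act 0 n3020 = n3020 := d2_1 D3020 (iv D3020) F8364
theorem F10617 : act 2 n3020 = n3020 := d13_1 D3020 (iv D3020) (iv D2342) F6593 D2342
theorem F10618 : act 5 n3020 = n2345 := d19_2 (iv F8366) D3020 (iv D2345)
theorem F10619 : act 6 n3020 = n3020 := d20_2 F8367 D3020 (iv D3020)
def n3021 : Q := act 1 n2343
theorem D3021 : act 1 n2343 = n3021 := rfl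
theorem F10620 : act 2 n3021 = n2355 := d7_2 D2343 D3021 (iv D2355) (iv D1828) (iv F6597)
theorem F10621 : act 4 n3021 = n2347 := d9_2 (iv F8369) D3021 (iv D2347)
theorem F10622 : act 7 n3021 = n2344 := d12_2 (iv F8370) D3021 (iv D2344)
def n3022 : Q := act 3 n2343
theorem D3022 : act 3 n2343 = n3022 := rfl
theorem F10623 : act 0 n3022 = n3022 := d2_1 D3022 (iv D3022) F8368
theorem F10624 : act 2 n3022 = n3022 := d13_1 D3022 (iv D3022) (iv D2343) F6598 D2343
theorem F10625 : act 7 n3022 = n2345 := d21_2 (iv F8370) D3022 (iv D2345)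
def n3023 : Q := act 0 n2344
theorem D3023 : act 0 n2344 = n3023 := rfl
theorem F10626 : act 1 n3023 = n3023 := d0_2 D2344 D3023 (iv D3023) (iv D2344) F6601
theorem F10627 : act 2 n3023 = n2357 := d1_2 (iv F8371) D3023 (iv D2357)
theorem F10628 : act 4 n3023 = n2349 := d3_2 (iv F8372) D3023 (iv D2349)
theorem F10629 : act 6 n3023 = n3023 := d5_2 F8373 D3023 (iv D3023)
def n3024 : Q := act 3 n2344
theorem D3024 : act 3 n2344 = n3024 := rfl
theorem F10630 : act 1 n3024 = n2345 := d8_1 D3024 (iv D2345) D2344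
theorem F10631 : act 6 n3024 = n3024 := d20_2 F8373 D3024 (iv D3024)
def n3025 : Q := act 4 n2345
theorem D3025 : act 4 n2345 = n3025 := rfl
def n3026 : Q := act 1 n2346
theorem D3026 : act 1 n2346 = n3026 := rfl
theorem F10636 : act 5 n3026 = n3026 := d10_2 F8378 D3026 (iv D3026)
theorem F10637 : act 6 n3026 = n2347 := d11_2 (iv F8379) D3026 (iv D2347)
theorem F10638 : act 7 n3026 = n3026 := d12_2 F8380 D3026 (iv D3026)
def n3027 : Q := act 3 n2346
theorem D3027 : act 3 n2346 = n3027 := rfl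
theorem F10641 : act 6 n3027 = n2348 := d20_2 (iv F8379) D3027 (iv D2348)
def n3028 : Q := act 0 n2347
theorem D3028 : act 0 n2347 = n3028 := rfl
theorem F10643 : act 1 n3028 = n3028 := d0_2 D2347 D3028 (iv D3028) (iv D2347) F6607
theorem F10644 : act 2 n3028 = n2360 := d1_2 (iv F8381) D3028 (iv D2360)
theorem F10645 : act 5 n3028 = n3028 := d4_2 F8382 D3028 (iv D3028)
theorem F10646 : act 7 n3028 = n2349 := d6_2 (iv F8383) D3028 (iv D2349)
def n3029 : Q := act 3 n2347
theorem D3029 : act 3 n2347 = n3029 := rfl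
theorem F10649 : act 7 n3029 = n2350 := d21_2 (iv F8383) D3029 (iv D2350)
def n3031 : Q := act 3 n2349
theorem D3031 : act 3 n2349 = n3031 := rfl
def n3035 : Q := act 1 n2352
theorem D3035 : act 1 n2352 = n3035 := rfl
theorem F10666 : act 4 n3035 = n3035 := d9_2 F8399 D3035 (iv D3035)
theorem F10667 : act 5 n3035 = n2355 := d10_2 (iv F8400) D3035 (iv D2355)
theorem F10668 : act 7 n3035 = n2353 := d12_2 (iv F8401) D3035 (iv D2353)
def n3036 : Q := act 3 n2352
theorem D3036 : act 3 n2352 = n3036 := rfl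
theorem F10669 : act 0 n3036 = n2384 := d2_1 D3036 (iv D2384) (iv F8398)
theorem F10670 : act 2 n3036 = n3036 := d13_1 D3036 (iv D3036) (iv D2352) F6618 D2352
theorem F10671 : act 5 n3036 = n2356 := d19_2 (iv F8400) D3036 (iv D2356)
theorem F10672 : act 7 n3036 = n2354 := d21_2 (iv F8401) D3036 (iv D2354)
def n3037 : Q := act 0 n2353
theorem D3037 : act 0 n2353 = n3037 := rfl
theorem F10673 : act 1 n3037 = n2385 := d0_2 D2353 D3037 (iv D2385) (iv D1849) (iv F6622)
theorem F10674 : act 4 n3037 = n3037 := d3_2 F8402 D3037 (iv D3037)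
theorem F10675 : act 5 n3037 = n2357 := d4_2 (iv F8403) D3037 (iv D2357)
theorem F10676 : act 6 n3037 = n2367 := d5_2 (iv F8404) D3037 (iv D2367)
def n3038 : Q := act 3 n2353
theorem D3038 : act 3 n2353 = n3038 := rfl
theorem F10677 : act 1 n3038 = n2354 := d8_1 D3038 (iv D2354) D2353
theorem F10678 : act 5 n3038 = n2358 := d19_2 (iv F8403) D3038 (iv D2358)
theorem F10679 : act 6 n3038 = n2368 := d20_2 (iv F8404) D3038 (iv D2368)
def n3039 : Q := act 4 n2354
theorem D3039 : act 4 n2354 = n3039 := rfl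
theorem F10680 : act 0 n3039 = n2387 := d3_1 D3039 (iv D2387) (iv F8405)
theorem F10681 : act 2 n3039 = n3039 := d14_1 D3039 (iv D3039) F8406
theorem F10682 : act 3 n3039 = n3039 := d18_1 D3039 (iv D3039) (iv D2354) F6623 D2354
theorem F10683 : act 6 n3039 = n2369 := d23_2 (iv F8408) D3039 (iv D2369)
def n3040 : Q := act 0 n2355
theorem D3040 : act 0 n2355 = n3040 := rfl
theorem F10684 : act 1 n3040 = n2388 := d0_2 D2355 D3040 (iv D2388) (iv D1851) (iv F6626)
theorem F10685 : act 4 n3040 = n2360 := d3_2 (iv F8409) D3040 (iv D2360)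
theorem F10686 : act 7 n3040 = n2357 := d6_2 (iv F8410) D3040 (iv D2357)
def n3041 : Q := act 3 n2355
theorem D3041 : act 3 n2355 = n3041 := rfl
theorem F10687 : act 1 n3041 = n2356 := d8_1 D3041 (iv D2356) D2355
theorem F10688 : act 7 n3041 = n2358 := d21_2 (iv F8410) D3041 (iv D2358)
def n3042 : Q := act 4 n2356
theorem D3042 : act 4 n2356 = n3042 := rfl
theorem F10689 : act 0 n3042 = n2390 := d3_1 D3042 (iv D2390) (iv F8411)
theorem F10690 : act 2 n3042 = n3042 := d14_1 D3042 (iv D3042) F8412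
theorem F10691 : act 3 n3042 = n2362 := d18_1 D3042 (iv D2362) (iv D1832) (iv F6627) D2356
theorem F10692 : act 7 n3042 = n2359 := d24_2 (iv F8413) D3042 (iv D2359)
def n3043 : Q := act 3 n2357
theorem D3043 : act 3 n2357 = n3043 := rfl
theorem F10693 : act 0 n3043 = n2358 := d2_1 D3043 (iv D2358) D2357
theorem F10694 : act 1 n3043 = n2391 := d8_1 D3043 (iv D2391) (iv F8414)
theorem F10695 : act 6 n3043 = n2370 := d20_2 (iv F8416) D3043 (iv D2370)
def n3044 : Q := act 2 n2358
theorem D3044 : act 2 n2358 = n3044 := rfl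
theorem F10696 : act 1 n3044 = n3044 := d7_1 D3044 (iv D3044) F8417 F6632 (iv F8417)
def n3045 : Q := act 4 n2358
theorem D3045 : act 4 n2358 = n3045 := rfl
theorem F10697 : act 1 n3045 = n2359 := d9_1 D3045 (iv D2359) (iv F8417)
theorem F10698 : act 3 n3045 = n2365 := d18_1 D3045 (iv D2365) (iv D1834) (iv F6629) D2358
theorem F10699 : act 6 n3045 = n2372 := d23_2 (iv F8418) D3045 (iv D2372)
def n3046 : Q := act 5 n2359
theorem D3046 : act 5 n2359 = n3046 := rfl
theorem F10700 : act 0 n3046 = n2394 := d4_1 D3046 (iv D2394) (iv F8419)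
theorem F10703 : act 6 n3046 = n2373 := d25_2 (iv F8422) D3046 (iv D2373)
def n3047 : Q := act 3 n2360
theorem D3047 : act 3 n2360 = n3047 := rfl
theorem F10704 : act 0 n3047 = n2361 := d2_1 D3047 (iv D2361) D2360
theorem F10705 : act 1 n3047 = n2395 := d8_1 D3047 (iv D2395) (iv F8423)
theorem F10706 : act 5 n3047 = n3047 := d19_2 F8424 D3047 (iv D3047)
theorem F10707 : act 7 n3047 = n2363 := d21_2 (iv F8425) D3047 (iv D2363)
def n3048 : Q := act 2 n2361
theorem D3048 : act 2 n2361 = n3048 := rfl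
def n3049 : Q := act 4 n2361
theorem D3049 : act 4 n2361 = n3049 := rfl
theorem F10711 : act 1 n3049 = n2362 := d9_1 D3049 (iv D2362) (iv F8426)
theorem F10712 : act 7 n3049 = n2365 := d24_2 (iv F8428) D3049 (iv D2365)
def n3051 : Q := act 2 n2363
theorem D3051 : act 2 n2363 = n3051 := rfl
def n3052 : Q := act 4 n2363
theorem D3052 : act 4 n2363 = n3052 := rfl
theorem F10719 : act 0 n3052 = n2365 := d3_1 D3052 (iv D2365) (iv F8432)
theorem F10720 : act 1 n3052 = n2400 := d9_1 D3052 (iv D2400) (iv F8433)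
theorem F10721 : act 6 n3052 = n2375 := d23_2 (iv F8435) D3052 (iv D2375)
def n3053 : Q := act 4 n2364
theorem D3053 : act 4 n2364 = n3053 := rfl
theorem F10723 : act 2 n3053 = n2365 := d14_1 D3053 (iv D2365) D2364
def n3056 : Q := act 3 n2367
theorem D3056 : act 3 n2367 = n3056 := rfl
theorem F10730 : act 0 n3056 = n2368 := d2_1 D3056 (iv D2368) D2367
theorem F10731 : act 1 n3056 = n2403 := d8_1 D3056 (iv D2403) (iv F8444)
theorem F10732 : act 5 n3056 = n2370 := d19_2 (iv F8447) D3056 (iv D2370)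
def n3057 : Q := act 2 n2368
theorem D3057 : act 2 n2368 = n3057 := rfl
theorem F10733 : act 1 n3057 = n2421 := d7_1 D3057 (iv D2421) F6765 (iv F6653) (iv F8448)
theorem F10734 : act 3 n3057 = n3057 := d13_2 D2368 D3057 (iv D3057) (iv D2368) F6649
theorem F10735 : act 5 n3057 = n2371 := d15_2 (iv F8449) D3057 (iv D2371)
def n3058 : Q := act 4 n2368
theorem D3058 : act 4 n2368 = n3058 := rfl
theorem F10736 : act 1 n3058 = n2369 := d9_1 D3058 (iv D2369) (iv F8448)
theorem F10737 : act 3 n3058 = n3058 := d18_1 D3058 (iv D3058) (iv D2368) F6650 D2368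
def n3059 : Q := act 5 n2369
theorem D3059 : act 5 n2369 = n3059 := rfl
theorem F10738 : act 0 n3059 = n2406 := d4_1 D3059 (iv D2406) (iv F8450)
theorem F10739 : act 2 n3059 = n2423 := d15_1 D3059 (iv D2423) (iv F8451)
def n3060 : Q := act 2 n2370
theorem D3060 : act 2 n2370 = n3060 := rfl
theorem F10742 : act 0 n3060 = n2371 := d1_1 D3060 (iv D2371) (iv F8453)
theorem F10743 : act 3 n3060 = n3060 := d13_2 D2370 D3060 (iv D3060) (iv D2370) F6656
def n3061 : Q := act 4 n2370
theorem D3061 : act 4 n2370 = n3061 := rfl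
theorem F10744 : act 0 n3061 = n2372 := d3_1 D3061 (iv D2372) (iv F8453)
theorem F10745 : act 1 n3061 = n2408 := d9_1 D3061 (iv D2408) (iv F8454)
theorem F10746 : act 3 n3061 = n2375 := d18_1 D3061 (iv D2375) (iv D1841) (iv F6657) D2370
def n3062 : Q := act 4 n2371
theorem D3062 : act 4 n2371 = n3062 := rfl
theorem F10748 : act 2 n3062 = n2372 := d14_1 D3062 (iv D2372) D2371
def n3063 : Q := act 6 n2371
theorem D3063 : act 6 n2371 = n3063 := rfl
theorem F10750 : act 3 n3063 = n3063 := d20_1 D3063 (iv D3063) F8456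
def n3064 : Q := act 5 n2372
theorem D3064 : act 5 n2372 = n3064 := rfl
def n3065 : Q := act 4 n2374
theorem D3065 : act 4 n2374 = n3065 := rfl
theorem F10755 : act 2 n3065 = n2375 := d14_1 D3065 (iv D2375) D2374
def n3066 : Q := act 6 n2374
theorem D3066 : act 6 n2374 = n3066 := rfl
def n3076 : Q := act 0 n2383
theorem D3076 : act 0 n2383 = n3076 := rfl
theorem F10786 : act 2 n3076 = n3076 := d1_2 F8488 D3076 (iv D3076)
theorem F10787 : act 4 n3076 = n3076 := d3_2 F8489 D3076 (iv D3076)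
theorem F10788 : act 5 n3076 = n2388 := d4_2 (iv F8490) D3076 (iv D2388)
theorem F10789 : act 7 n3076 = n2385 := d6_2 (iv F8491) D3076 (iv D2385)
def n3077 : Q := act 3 n2383
theorem D3077 : act 3 n2383 = n3077 := rfl
theorem F10790 : act 1 n3077 = n2384 := d8_1 D3077 (iv D2384) D2383
theorem F10791 : act 5 n3077 = n2389 := d19_2 (iv F8490) D3077 (iv D2389)
theorem F10792 : act 7 n3077 = n2386 := d21_2 (iv F8491) D3077 (iv D2386)
def n3078 : Q := act 4 n2384
theorem D3078 : act 4 n2384 = n3078 := rfl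
theorem F10793 : act 2 n3078 = n3078 := d14_1 D3078 (iv D3078) F8492
theorem F10794 : act 3 n3078 = n3078 := d18_1 D3078 (iv D3078) (iv D2384) F6683 D2384
theorem F10795 : act 7 n3078 = n2387 := d24_2 (iv F8494) D3078 (iv D2387)
def n3079 : Q := act 3 n2385
theorem D3079 : act 3 n2385 = n3079 := rfl
theorem F10796 : act 0 n3079 = n2386 := d2_1 D3079 (iv D2386) D2385
theorem F10797 : act 5 n3079 = n2391 := d19_2 (iv F8497) D3079 (iv D2391)
theorem F10798 : act 6 n3079 = n2403 := d20_2 (iv F8498) D3079 (iv D2403)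
def n3080 : Q := act 2 n2386
theorem D3080 : act 2 n2386 = n3080 := rfl
theorem F10799 : act 1 n3080 = n3080 := d7_1 D3080 (iv D3080) F8499 F6690 (iv F8499)
theorem F10800 : act 3 n3080 = n3080 := d13_2 D2386 D3080 (iv D3080) (iv D2386) F6686
theorem F10801 : act 5 n3080 = n2392 := d15_2 (iv F8500) D3080 (iv D2392)
def n3081 : Q := act 4 n2386
theorem D3081 : act 4 n2386 = n3081 := rfl
theorem F10802 : act 1 n3081 = n2387 := d9_1 D3081 (iv D2387) (iv F8499)
theorem F10804 : act 6 n3081 = n2405 := d23_2 (iv F8501) D3081 (iv D2405)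
def n3082 : Q := act 5 n2387
theorem D3082 : act 5 n2387 = n3082 := rfl
theorem F10805 : act 2 n3082 = n3082 := d15_1 D3082 (iv D3082) F8502
theorem F10806 : act 3 n3082 = n3082 := d19_1 D3082 (iv D3082) F8503
theorem F10807 : act 4 n3082 = n2394 := d22_1 D3082 (iv D2394) (iv D1855) (iv F6691) D2387
theorem F10808 : act 6 n3082 = n2406 := d25_2 (iv F8504) D3082 (iv D2406)
def n3083 : Q := act 3 n2388
theorem D3083 : act 3 n2388 = n3083 := rfl
theorem F10809 : act 0 n3083 = n2389 := d2_1 D3083 (iv D2389) D2388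
theorem F10810 : act 7 n3083 = n2391 := d21_2 (iv F8507) D3083 (iv D2391)
def n3084 : Q := act 2 n2389
theorem D3084 : act 2 n2389 = n3084 := rfl
theorem F10811 : act 1 n3084 = n3084 := d7_1 D3084 (iv D3084) F8508 F6696 (iv F8508)
theorem F10812 : act 3 n3084 = n3084 := d13_2 D2389 D3084 (iv D3084) (iv D2389) F6693
theorem F10813 : act 7 n3084 = n2392 := d17_2 (iv F8509) D3084 (iv D2392)
def n3085 : Q := act 4 n2389
theorem D3085 : act 4 n2389 = n3085 := rfl
theorem F10814 : act 1 n3085 = n2390 := d9_1 D3085 (iv D2390) (iv F8508)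
theorem F10815 : act 3 n3085 = n2397 := d18_1 D3085 (iv D2397) (iv D1857) (iv F6694) D2389
theorem F10816 : act 7 n3085 = n2393 := d24_2 (iv F8509) D3085 (iv D2393)
def n3086 : Q := act 5 n2390
theorem D3086 : act 5 n2390 = n3086 := rfl
theorem F10817 : act 2 n3086 = n3086 := d15_1 D3086 (iv D3086) F8510
theorem F10818 : act 3 n3086 = n2398 := d19_1 D3086 (iv D2398) (iv F8511)
theorem F10819 : act 7 n3086 = n2394 := d26_2 (iv F8512) D3086 (iv D2394)
def n3087 : Q := act 2 n2391
theorem D3087 : act 2 n2391 = n3087 := rfl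
theorem F10820 : act 0 n3087 = n2392 := d1_1 D3087 (iv D2392) (iv F8513)
theorem F10821 : act 3 n3087 = n3087 := d13_2 D2391 D3087 (iv D3087) (iv D2391) F6698
def n3088 : Q := act 4 n2391
theorem D3088 : act 4 n2391 = n3088 := rfl
theorem F10822 : act 0 n3088 = n2393 := d3_1 D3088 (iv D2393) (iv F8513)
theorem F10823 : act 3 n3088 = n2400 := d18_1 D3088 (iv D2400) (iv D1859) (iv F6699) D2391
theorem F10824 : act 6 n3088 = n2408 := d23_2 (iv F8514) D3088 (iv D2408)
def n3089 : Q := act 4 n2392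
theorem D3089 : act 4 n2392 = n3089 := rfl
theorem F10825 : act 1 n3089 = n3089 := d9_1 D3089 (iv D3089) F8515
theorem F10826 : act 2 n3089 = n2393 := d14_1 D3089 (iv D2393) D2392
def n3090 : Q := act 6 n2392
theorem D3090 : act 6 n2392 = n3090 := rfl
theorem F10827 : act 1 n3090 = n3090 := d11_1 D3090 (iv D3090) F8515
theorem F10828 : act 2 n3090 = n2410 := d16_1 D3090 (iv D2410) (iv D1867) (iv F6702) D2392
theorem F10829 : act 3 n3090 = n3090 := d20_1 D3090 (iv D3090) F8516
def n3091 : Q := act 5 n2393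
theorem D3091 : act 5 n2393 = n3091 := rfl
theorem F10830 : act 1 n3091 = n2394 := d10_1 D3091 (iv D2394) (iv F8517)
theorem F10831 : act 3 n3091 = n2402 := d19_1 D3091 (iv D2402) (iv F8518)
theorem F10832 : act 6 n3091 = n2411 := d25_2 (iv F8519) D3091 (iv D2411)
def n3092 : Q := act 2 n2395
theorem D3092 : act 2 n2395 = n3092 := rfl
theorem F10833 : act 0 n3092 = n2396 := d1_1 D3092 (iv D2396) (iv F8523)
theorem F10834 : act 3 n3092 = n3092 := d13_2 D2395 D3092 (iv D3092) (iv D2395) F6706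
theorem F10835 : act 5 n3092 = n3092 := d15_2 F8524 D3092 (iv D3092)
theorem F10836 : act 7 n3092 = n2399 := d17_2 (iv F8525) D3092 (iv D2399)
def n3093 : Q := act 4 n2395
theorem D3093 : act 4 n2395 = n3093 := rfl
theorem F10837 : act 0 n3093 = n2397 := d3_1 D3093 (iv D2397) (iv F8523)
theorem F10838 : act 7 n3093 = n2400 := d24_2 (iv F8525) D3093 (iv D2400)
def n3094 : Q := act 4 n2396
theorem D3094 : act 4 n2396 = n3094 := rfl
theorem F10839 : act 1 n3094 = n2574 := d9_1 D3094 (iv D2574) (iv F8526)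
theorem F10840 : act 2 n3094 = n2397 := d14_1 D3094 (iv D2397) D2396
theorem F10841 : act 7 n3094 = n2401 := d24_2 (iv F8529) D3094 (iv D2401)
def n3095 : Q := act 6 n2396
theorem D3095 : act 6 n2396 = n3095 := rfl
theorem F10842 : act 1 n3095 = n2575 := d11_1 D3095 (iv D2575) (iv F8526)
theorem F10843 : act 3 n3095 = n3095 := d20_1 D3095 (iv D3095) F8527
theorem F10844 : act 5 n3095 = n3095 := d25_1 D3095 (iv D3095) F8528
theorem F10845 : act 7 n3095 = n3095 := d27_2 (iv F8529) D3095 (iv D3095) F8529 F6720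
def n3096 : Q := act 5 n2397
theorem D3096 : act 5 n2397 = n3096 := rfl
theorem F10846 : act 1 n3096 = n2398 := d10_1 D3096 (iv D2398) (iv F8530)
theorem F10847 : act 4 n3096 = n3096 := d22_1 D3096 (iv D3096) (iv D2397) F6710 D2397
theorem F10848 : act 7 n3096 = n2402 := d26_2 (iv F8531) D3096 (iv D2402)
def n3097 : Q := act 1 n2399
theorem D3097 : act 1 n2399 = n3097 := rfl
def n3098 : Q := act 4 n2399
theorem D3098 : act 4 n2399 = n3098 := rfl
theorem F10853 : act 0 n3098 = n2401 := d3_1 D3098 (iv D2401) (iv F8535)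
theorem F10854 : act 2 n3098 = n2400 := d14_1 D3098 (iv D2400) D2399
theorem F10855 : act 6 n3098 = n3098 := d23_2 F8538 D3098 (iv D3098)
def n3099 : Q := act 5 n2400
theorem D3099 : act 5 n2400 = n3099 := rfl
theorem F10856 : act 0 n3099 = n2402 := d4_1 D3099 (iv D2402) (iv F8539)
theorem F10857 : act 4 n3099 = n3099 := d22_1 D3099 (iv D3099) (iv D2400) F6715 D2400
theorem F10858 : act 6 n3099 = n2412 := d25_2 (iv F8540) D3099 (iv D2412)
def n3100 : Q := act 3 n2401
theorem D3100 : act 3 n2401 = n3100 := rfl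
theorem F10859 : act 1 n3100 = n2580 := d8_1 D3100 (iv D2580) (iv F8541)
theorem F10860 : act 4 n3100 = n3100 := d18_2 D2401 D3100 (iv D3100) (iv D2401) F6718
theorem F10861 : act 6 n3100 = n3100 := d20_2 F8543 D3100 (iv D3100)
def n3101 : Q := act 5 n2401
theorem D3101 : act 5 n2401 = n3101 := rfl
theorem F10862 : act 1 n3101 = n2581 := d10_1 D3101 (iv D2581) (iv F8541)
theorem F10863 : act 2 n3101 = n2402 := d15_1 D3101 (iv D2402) (iv F8542)
theorem F10864 : act 4 n3101 = n3101 := d22_1 D3101 (iv D3101) (iv D2401) F6719 D2401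
theorem F10865 : act 6 n3101 = n3101 := d25_2 F8543 D3101 (iv D3101)
def n3102 : Q := act 2 n2403
theorem D3102 : act 2 n2403 = n3102 := rfl
theorem F10866 : act 0 n3102 = n2404 := d1_1 D3102 (iv D2404) (iv F8547)
theorem F10868 : act 5 n3102 = n2407 := d15_2 (iv F8548) D3102 (iv D2407)
def n3103 : Q := act 4 n2403
theorem D3103 : act 4 n2403 = n3103 := rfl
theorem F10869 : act 0 n3103 = n2405 := d3_1 D3103 (iv D2405) (iv F8547)
def n3104 : Q := act 4 n2404
theorem D3104 : act 4 n2404 = n3104 := rfl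
theorem F10872 : act 2 n3104 = n2405 := d14_1 D3104 (iv D2405) D2404
def n3105 : Q := act 6 n2404
theorem D3105 : act 6 n2404 = n3105 := rfl
def n3106 : Q := act 5 n2405
theorem D3106 : act 5 n2405 = n3106 := rfl
theorem F10876 : act 1 n3106 = n2406 := d10_1 D3106 (iv D2406) (iv F8552)
theorem F10878 : act 4 n3106 = n2411 := d22_1 D3106 (iv D2411) (iv D1868) (iv F6730) D2405
def n3107 : Q := act 1 n2407
theorem D3107 : act 1 n2407 = n3107 := rfl
theorem F10879 : act 0 n3107 = n2445 := d0_1 D3107 (iv D2445) F6820 (iv F6734) (iv F8557)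
theorem F10880 : act 3 n3107 = n2417 := d8_2 (iv F8558) D3107 (iv D2417)
def n3108 : Q := act 4 n2407
theorem D3108 : act 4 n2407 = n3108 := rfl
theorem F10881 : act 0 n3108 = n2409 := d3_1 D3108 (iv D2409) (iv F8557)
theorem F10882 : act 2 n3108 = n2408 := d14_1 D3108 (iv D2408) D2407
theorem F10883 : act 3 n3108 = n3108 := d18_1 D3108 (iv D3108) F8558 F6756 (iv F8558)
def n3109 : Q := act 6 n2407
theorem D3109 : act 6 n2407 = n3109 := rfl
theorem F10884 : act 0 n3109 = n2410 := d5_1 D3109 (iv D2410) (iv F8557)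
theorem F10885 : act 3 n3109 = n2418 := d20_1 D3109 (iv D2418) (iv F8558)
def n3110 : Q := act 5 n2408
theorem D3110 : act 5 n2408 = n3110 := rfl
theorem F10886 : act 0 n3110 = n2411 := d4_1 D3110 (iv D2411) (iv F8559)
def n3111 : Q := act 5 n2409
theorem D3111 : act 5 n2409 = n3111 := rfl
theorem F10889 : act 2 n3111 = n2411 := d15_1 D3111 (iv D2411) (iv F8562)
def n3112 : Q := act 6 n2409
theorem D3112 : act 6 n2409 = n3112 := rfl
theorem F10891 : act 1 n3112 = n2450 := d11_1 D3112 (iv D2450) (iv F8561)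
theorem F10892 : act 3 n3112 = n3112 := d20_1 D3112 (iv D3112) F8563
theorem F10893 : act 4 n3112 = n2410 := d23_1 D3112 (iv D2410) D2409
def n3113 : Q := act 7 n2410
theorem D3113 : act 7 n2410 = n3113 := rfl
theorem F10894 : act 1 n3113 = n2451 := d12_1 D3113 (iv D2451) (iv F8564)
theorem F10895 : act 3 n3113 = n2419 := d21_1 D3113 (iv D2419) (iv F8565)
def n3114 : Q := act 1 n2413
theorem D3114 : act 1 n2413 = n3114 := rfl
theorem F10896 : act 0 n3114 = n2452 := d0_1 D3114 (iv D2452) F6836 (iv F6749) (iv F8571)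
theorem F10898 : act 5 n3114 = n2417 := d10_2 (iv F8572) D3114 (iv D2417)
def n3115 : Q := act 4 n2413
theorem D3115 : act 4 n2413 = n3115 := rfl
theorem F10899 : act 0 n3115 = n2415 := d3_1 D3115 (iv D2415) (iv F8571)
theorem F10900 : act 2 n3115 = n2414 := d14_1 D3115 (iv D2414) D2413
def n3116 : Q := act 6 n2413
theorem D3116 : act 6 n2413 = n3116 := rfl
theorem F10903 : act 2 n3116 = n3116 := d16_1 D3116 (iv D3116) (iv D2413) F6748 D2413
theorem F10904 : act 5 n3116 = n2418 := d25_1 D3116 (iv D2418) (iv F8572)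
def n3117 : Q := act 3 n2415
theorem D3117 : act 3 n2415 = n3117 := rfl
theorem F10905 : act 1 n3117 = n2455 := d8_1 D3117 (iv D2455) (iv F8578)
def n3118 : Q := act 6 n2415
theorem D3118 : act 6 n2415 = n3118 := rfl
theorem F10909 : act 2 n3118 = n3118 := d16_1 D3118 (iv D3118) F8579 F6754 (iv F8579)
def n3119 : Q := act 7 n2416
theorem D3119 : act 7 n2416 = n3119 := rfl
theorem F10914 : act 5 n3119 = n2419 := d26_1 D3119 (iv D2419) (iv F8583)
def n3120 : Q := act 6 n2417
theorem D3120 : act 6 n2417 = n3120 := rfl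
theorem F10915 : act 0 n3120 = n2458 := d5_1 D3120 (iv D2458) (iv F8584)
theorem F10916 : act 1 n3120 = n2418 := d11_1 D3120 (iv D2418) D2417
def n3121 : Q := act 7 n2418
theorem D3121 : act 7 n2418 = n3121 := rfl
theorem F10918 : act 0 n3121 = n2419 := d6_1 D3121 (iv D2419) (iv F8587)
theorem F10919 : act 2 n3121 = n3121 := d17_1 D3121 (iv D3121) F8588
theorem F10920 : act 4 n3121 = n3121 := d24_1 D3121 (iv D3121) F8589
def n3122 : Q := act 2 n2420
theorem D3122 : act 2 n2420 = n3122 := rfl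
theorem F10921 : act 0 n3122 = n2421 := d1_1 D3122 (iv D2421) (iv F8593)
def n3123 : Q := act 4 n2420
theorem D3123 : act 4 n2420 = n3123 := rfl
theorem F10926 : act 3 n3123 = n2461 := d18_1 D3123 (iv D2461) (iv D1910) (iv F6762) D2420
def n3124 : Q := act 4 n2421
theorem D3124 : act 4 n2421 = n3124 := rfl
theorem F10928 : act 2 n3124 = n2422 := d14_1 D3124 (iv D2422) D2421
def n3127 : Q := act 1 n2424
theorem D3127 : act 1 n2424 = n3127 := rfl
theorem F10936 : act 2 n3127 = n2445 := d7_2 D2424 D3127 (iv D2445) (iv D1897) (iv F6772)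
def n3128 : Q := act 4 n2424
theorem D3128 : act 4 n2424 = n3128 := rfl
theorem F10939 : act 2 n3128 = n2425 := d14_1 D3128 (iv D2425) D2424
def n3131 : Q := act 3 n2426
theorem D3131 : act 3 n2426 = n3131 := rfl
theorem F10947 : act 2 n3131 = n2432 := d13_1 D3131 (iv D2432) F6789 (iv F6776) (iv F8612)
def n3132 : Q := act 5 n2426
theorem D3132 : act 5 n2426 = n3132 := rfl
def n3135 : Q := act 3 n2429
theorem D3135 : act 3 n2429 = n3135 := rfl
def n3139 : Q := act 5 n2432
theorem D3139 : act 5 n2432 = n3139 := rfl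
def n3148 : Q := act 1 n2440
theorem D3148 : act 1 n2440 = n3148 := rfl
theorem F10999 : act 5 n3148 = n2445 := d10_2 (iv F8656) D3148 (iv D2445)
def n3149 : Q := act 4 n2440
theorem D3149 : act 4 n2440 = n3149 := rfl
def n3151 : Q := act 5 n2441
theorem D3151 : act 5 n2441 = n3151 := rfl
def n3156 : Q := act 4 n2445
theorem D3156 : act 4 n2445 = n3156 := rfl
theorem F11019 : act 1 n3156 = n2446 := d9_1 D3156 (iv D2446) D2445
def n3157 : Q := act 6 n2445
theorem D3157 : act 6 n2445 = n3157 := rfl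
def n3161 : Q := act 6 n2449
theorem D3161 : act 6 n2449 = n3161 := rfl
theorem F11035 : act 5 n3161 = n2450 := d25_1 D3161 (iv D2450) D2449
def n3162 : Q := act 7 n2450
theorem D3162 : act 7 n2450 = n3162 := rfl
theorem F11036 : act 2 n3162 = n3162 := d17_1 D3162 (iv D3162) F8680
theorem F11037 : act 3 n3162 = n3162 := d21_1 D3162 (iv D3162) F8681
theorem F11038 : act 4 n3162 = n2451 := d24_1 D3162 (iv D2451) (iv F8682)
def n3163 : Q := act 4 n2452
theorem D3163 : act 4 n2452 = n3163 := rfl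
theorem F11039 : act 1 n3163 = n2453 := d9_1 D3163 (iv D2453) D2452
def n3164 : Q := act 6 n2452
theorem D3164 : act 6 n2452 = n3164 := rfl
theorem F11042 : act 1 n3164 = n2454 := d11_1 D3164 (iv D2454) D2452
theorem F11043 : act 5 n3164 = n2458 := d25_1 D3164 (iv D2458) (iv F8686)
def n3168 : Q := act 6 n2455
theorem D3168 : act 6 n2455 = n3168 := rfl
theorem F11054 : act 3 n3168 = n2456 := d20_1 D3168 (iv D2456) D2455
def n3169 : Q := act 7 n2456
theorem D3169 : act 7 n2456 = n3169 := rfl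
theorem F11056 : act 2 n3169 = n2516 := d17_1 D3169 (iv D2516) (iv F8695)
def n3170 : Q := act 2 n2458
theorem D3170 : act 2 n2458 = n3170 := rfl
theorem F11059 : act 1 n3170 = n2517 := d7_1 D3170 (iv D2517) F6997 (iv F6850) (iv F8700)
def n3172 : Q := act 1 n2460
theorem D3172 : act 1 n2460 = n3172 := rfl
theorem F11065 : act 2 n3172 = n2486 := d7_2 D2460 D3172 (iv D2486) (iv D1930) (iv F6855)
def n3173 : Q := act 4 n2460
theorem D3173 : act 4 n2460 = n3173 := rfl
theorem F11068 : act 0 n3173 = n2462 := d3_1 D3173 (iv D2462) (iv F8705)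
theorem F11069 : act 2 n3173 = n2461 := d14_1 D3173 (iv D2461) D2460
def n3176 : Q := act 3 n2462
theorem D3176 : act 3 n2462 = n3176 := rfl
def n3177 : Q := act 5 n2462
theorem D3177 : act 5 n2462 = n3177 := rfl
theorem F11082 : act 4 n3177 = n2470 := d22_1 D3177 (iv D2470) (iv D1916) (iv F6860) D2462
def n3180 : Q := act 4 n2465
theorem D3180 : act 4 n2465 = n3180 := rfl
theorem F11091 : act 1 n3180 = n2466 := d9_1 D3180 (iv D2466) D2465
theorem F11092 : act 2 n3180 = n2494 := d14_1 D3180 (iv D2494) (iv F8721)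
def n3181 : Q := act 6 n2465
theorem D3181 : act 6 n2465 = n3181 := rfl
def n3182 : Q := act 3 n2466
theorem D3182 : act 3 n2466 = n3182 := rfl
theorem F11096 : act 0 n3182 = n2469 := d2_1 D3182 (iv D2469) (iv F8723)
theorem F11097 : act 2 n3182 = n2473 := d13_1 D3182 (iv D2473) F6883 (iv F6871) (iv F8724)
def n3183 : Q := act 5 n2466
theorem D3183 : act 5 n2466 = n3183 := rfl
theorem F11099 : act 0 n3183 = n2470 := d4_1 D3183 (iv D2470) (iv F8723)
def n3184 : Q := act 6 n2466
theorem D3184 : act 6 n2466 = n3184 := rfl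
def n3186 : Q := act 5 n2469
theorem D3186 : act 5 n2469 = n3186 := rfl
theorem F11108 : act 2 n3186 = n2477 := d15_1 D3186 (iv D2477) (iv F8733)
theorem F11109 : act 3 n3186 = n2470 := d19_1 D3186 (iv D2470) D2469
def n3187 : Q := act 6 n2469
theorem D3187 : act 6 n2469 = n3187 := rfl
theorem F11111 : act 3 n3187 = n2471 := d20_1 D3187 (iv D2471) D2469
def n3188 : Q := act 6 n2470
theorem D3188 : act 6 n2470 = n3188 := rfl
def n3190 : Q := act 5 n2473
theorem D3190 : act 5 n2473 = n3190 := rfl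
def n3194 : Q := act 4 n2477
theorem D3194 : act 4 n2477 = n3194 := rfl
theorem F11134 : act 1 n3194 = n2481 := d9_1 D3194 (iv D2481) (iv F8757)
def n3195 : Q := act 6 n2477
theorem D3195 : act 6 n2477 = n3195 := rfl
theorem F11136 : act 1 n3195 = n2482 := d11_1 D3195 (iv D2482) (iv F8757)
theorem F11138 : act 5 n3195 = n2478 := d25_1 D3195 (iv D2478) D2477
def n3196 : Q := act 2 n2478
theorem D3196 : act 2 n2478 = n3196 := rfl
def n3197 : Q := act 7 n2478
theorem D3197 : act 7 n2478 = n3197 := rfl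
def n3199 : Q := act 6 n2481
theorem D3199 : act 6 n2481 = n3199 := rfl
def n3200 : Q := act 2 n2482
theorem D3200 : act 2 n2482 = n3200 := rfl
theorem F11152 : act 5 n3200 = n2483 := d15_2 (iv F8773) D3200 (iv D2483)
def n3201 : Q := act 7 n2482
theorem D3201 : act 7 n2482 = n3201 := rfl
def n3203 : Q := act 7 n2483
theorem D3203 : act 7 n2483 = n3203 := rfl
theorem F11161 : act 2 n3203 = n2484 := d17_1 D3203 (iv D2484) D2483
def n3204 : Q := act 4 n2486
theorem D3204 : act 4 n2486 = n3204 := rfl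
def n3205 : Q := act 6 n2486
theorem D3205 : act 6 n2486 = n3205 := rfl
theorem F11168 : act 3 n3205 = n2502 := d20_1 D3205 (iv D2502) (iv F8785)
def n3208 : Q := act 6 n2487
theorem D3208 : act 6 n2487 = n3208 := rfl
def n3214 : Q := act 5 n2494
theorem D3214 : act 5 n2494 = n3214 := rfl
def n3215 : Q := act 6 n2494
theorem D3215 : act 6 n2494 = n3215 := rfl
def n3216 : Q := act 2 n2495
theorem D3216 : act 2 n2495 = n3216 := rfl
def n3217 : Q := act 7 n2495
theorem D3217 : act 7 n2495 = n3217 := rfl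
def n3218 : Q := act 6 n2496
theorem D3218 : act 6 n2496 = n3218 := rfl
def n3219 : Q := act 7 n2497
theorem D3219 : act 7 n2497 = n3219 := rfl
theorem F11212 : act 2 n3219 = n3219 := d17_1 D3219 (iv D3219) F8818
theorem F11214 : act 4 n3219 = n2498 := d24_1 D3219 (iv D2498) (iv F8820)
def n3222 : Q := act 6 n2501
theorem D3222 : act 6 n2501 = n3222 := rfl
theorem F11223 : act 1 n3222 = n2504 := d11_1 D3222 (iv D2504) (iv F8833)
def n3223 : Q := act 2 n2502
theorem D3223 : act 2 n2502 = n3223 := rfl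
def n3224 : Q := act 7 n2502
theorem D3224 : act 7 n2502 = n3224 := rfl
def n3225 : Q := act 6 n2503
theorem D3225 : act 6 n2503 = n3225 := rfl
theorem F11234 : act 3 n3225 = n2504 := d20_1 D3225 (iv D2504) D2503
def n3226 : Q := act 7 n2504
theorem D3226 : act 7 n2504 = n3226 := rfl
theorem F11237 : act 2 n3226 = n2524 := d17_1 D3226 (iv D2524) (iv F8842)
def n3227 : Q := act 2 n2506
theorem D3227 : act 2 n2506 = n3227 := rfl
def n3228 : Q := act 7 n2506
theorem D3228 : act 7 n2506 = n3228 := rfl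
def n3230 : Q := act 7 n2508
theorem D3230 : act 7 n2508 = n3230 := rfl
theorem F11249 : act 1 n3230 = n2528 := d12_1 D3230 (iv D2528) (iv F8856)
theorem F11250 : act 2 n3230 = n2509 := d17_1 D3230 (iv D2509) D2508
def n3231 : Q := act 3 n2510
theorem D3231 : act 3 n2510 = n3231 := rfl
theorem F11252 : act 0 n3231 = n3231 := d2_1 D3231 (iv D3231) F8862
theorem F11253 : act 1 n3231 = n2512 := d8_1 D3231 (iv D2512) (iv F8863)
def n3233 : Q := act 2 n2511
theorem D3233 : act 2 n2511 = n3233 := rfl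
theorem F11262 : act 5 n3233 = n2517 := d15_2 (iv F8870) D3233 (iv D2517)
def n3234 : Q := act 7 n2511
theorem D3234 : act 7 n2511 = n3234 := rfl
theorem F11267 : act 5 n3234 = n2518 := d26_1 D3234 (iv D2518) (iv F8870)
def n3235 : Q := act 6 n2512
theorem D3235 : act 6 n2512 = n3235 := rfl
theorem F11269 : act 0 n3235 = n2515 := d5_1 D3235 (iv D2515) (iv F8871)
def n3239 : Q := act 3 n2517
theorem D3239 : act 3 n2517 = n3239 := rfl
theorem F11285 : act 0 n3239 = n3239 := d2_1 D3239 (iv D3239) F8891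
theorem F11286 : act 2 n3239 = n3239 := d13_1 D3239 (iv D3239) (iv D2517) F6998 D2517
theorem F11287 : act 6 n3239 = n3239 := d20_2 F8893 D3239 (iv D3239)
def n3240 : Q := act 7 n2517
theorem D3240 : act 7 n2517 = n3240 := rfl
theorem F11288 : act 0 n3240 = n3240 := d6_1 D3240 (iv D3240) F8891
theorem F11289 : act 2 n3240 = n2518 := d17_1 D3240 (iv D2518) D2517
theorem F11290 : act 4 n3240 = n3240 := d24_1 D3240 (iv D3240) F8892
def n3241 : Q := act 2 n2519
theorem D3241 : act 2 n2519 = n3241 := rfl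
def n3244 : Q := act 7 n2520
theorem D3244 : act 7 n2520 = n3244 := rfl
theorem F11305 : act 0 n3244 = n2532 := d6_1 D3244 (iv D2532) (iv F8904)
theorem F11306 : act 1 n3244 = n2524 := d12_1 D3244 (iv D2524) (iv F8905)
def n3246 : Q := act 7 n2521
theorem D3246 : act 7 n2521 = n3246 := rfl
theorem F11316 : act 5 n3246 = n2528 := d26_1 D3246 (iv D2528) (iv F8909)
def n3247 : Q := act 2 n2523
theorem D3247 : act 2 n2523 = n3247 := rfl
def n3248 : Q := act 7 n2523
theorem D3248 : act 7 n2523 = n3248 := rfl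
theorem F11321 : act 3 n3248 = n2524 := d21_1 D3248 (iv D2524) (iv F8917)
def n3256 : Q := act 7 n2530
theorem D3256 : act 7 n2530 = n3256 := rfl
theorem F11349 : act 3 n3256 = n2532 := d21_1 D3256 (iv D2532) (iv F8943)
def n3311 : Q := act 4 n2572
theorem D3311 : act 4 n2572 = n3311 := rfl
theorem F11543 : act 0 n3311 = n2574 := d3_1 D3311 (iv D2574) (iv F9095)
theorem F11545 : act 7 n3311 = n2578 := d24_2 (iv F9098) D3311 (iv D2578)
def n3312 : Q := act 6 n2572
theorem D3312 : act 6 n2572 = n3312 := rfl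
theorem F11546 : act 0 n3312 = n2575 := d5_1 D3312 (iv D2575) (iv F9095)
def n3314 : Q := act 3 n2574
theorem D3314 : act 3 n2574 = n3314 := rfl
theorem F11556 : act 2 n3314 = n3314 := d13_1 D3314 (iv D3314) F9103 F7171 (iv F9103)
theorem F11557 : act 4 n3314 = n3314 := d18_2 D2574 D3314 (iv D3314) (iv D2574) F7167
theorem F11558 : act 7 n3314 = n2580 := d21_2 (iv F9104) D3314 (iv D2580)
def n3315 : Q := act 5 n2574
theorem D3315 : act 5 n2574 = n3315 := rfl
theorem F11561 : act 7 n3315 = n2581 := d26_2 (iv F9104) D3315 (iv D2581)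
def n3316 : Q := act 6 n2574
theorem D3316 : act 6 n2574 = n3316 := rfl
theorem F11562 : act 2 n3316 = n3316 := d16_1 D3316 (iv D3316) F9103 F7172 (iv F9103)
theorem F11563 : act 4 n3316 = n2575 := d23_1 D3316 (iv D2575) D2574
theorem F11564 : act 7 n3316 = n3316 := d27_2 (iv F9104) D3316 (iv D3316) F9104 F7186
def n3318 : Q := act 3 n2578
theorem D3318 : act 3 n2578 = n3318 := rfl
theorem F11567 : act 0 n3318 = n2580 := d2_1 D3318 (iv D2580) (iv F9117)
def n3320 : Q := act 5 n2580
theorem D3320 : act 5 n2580 = n3320 := rfl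
theorem F11576 : act 3 n3320 = n2581 := d19_1 D3320 (iv D2581) D2580
def n3414 : Q := act 1 n2656
theorem D3414 : act 1 n2656 = n3414 := rfl
theorem F11902 : act 2 n3414 = n2663 := d7_2 D2656 D3414 (iv D2663) (iv D2075) (iv F7421)
theorem F11903 : act 4 n3414 = n2658 := d9_2 (iv F9397) D3414 (iv D2658)
theorem F11904 : act 5 n3414 = n2757 := d10_2 (iv F9398) D3414 (iv D2757)
theorem F11905 : act 6 n3414 = n3414 := d11_2 F9399 D3414 (iv D3414)
theorem F11906 : act 7 n3414 = n2755 := d12_2 (iv F9400) D3414 (iv D2755)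
def n3415 : Q := act 3 n2656
theorem D3415 : act 3 n2656 = n3415 := rfl
theorem F11907 : act 0 n3415 = n2716 := d2_1 D3415 (iv D2716) (iv F9396)
theorem F11908 : act 2 n3415 = n2763 := d13_1 D3415 (iv D2763) (iv D2145) (iv F7422) D2656
theorem F11909 : act 5 n3415 = n2758 := d19_2 (iv F9398) D3415 (iv D2758)
theorem F11910 : act 6 n3415 = n3415 := d20_2 F9399 D3415 (iv D3415)
theorem F11911 : act 7 n3415 = n2756 := d21_2 (iv F9400) D3415 (iv D2756)
def n3416 : Q := act 1 n2657
theorem D3416 : act 1 n2657 = n3416 := rfl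
theorem F11912 : act 2 n3416 = n2665 := d7_2 D2657 D3416 (iv D2665) (iv D2076) (iv F7427)
theorem F11913 : act 4 n3416 = n2755 := d9_2 (iv F9402) D3416 (iv D2755)
theorem F11914 : act 5 n3416 = n3416 := d10_2 F9403 D3416 (iv D3416)
theorem F11915 : act 6 n3416 = n2849 := d11_2 (iv F9404) D3416 (iv D2849)
theorem F11916 : act 7 n3416 = n2658 := d12_2 (iv F9405) D3416 (iv D2658)
def n3417 : Q := act 3 n2657
theorem D3417 : act 3 n2657 = n3417 := rfl
theorem F11917 : act 0 n3417 = n2719 := d2_1 D3417 (iv D2719) (iv F9401)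
theorem F11918 : act 2 n3417 = n3417 := d13_1 D3417 (iv D3417) (iv D2657) F7428 D2657
theorem F11919 : act 5 n3417 = n3417 := d19_2 F9403 D3417 (iv D3417)
theorem F11920 : act 6 n3417 = n2850 := d20_2 (iv F9404) D3417 (iv D2850)
theorem F11921 : act 7 n3417 = n2659 := d21_2 (iv F9405) D3417 (iv D2659)
def n3418 : Q := act 0 n2658
theorem D3418 : act 0 n2658 = n3418 := rfl
theorem F11922 : act 1 n3418 = n2720 := d0_2 D2658 D3418 (iv D2720) (iv D2117) (iv F7432)
theorem F11923 : act 2 n3418 = n2667 := d1_2 (iv F9406) D3418 (iv D2667)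
theorem F11924 : act 5 n3418 = n3418 := d4_2 F9407 D3418 (iv D3418)
theorem F11925 : act 6 n3418 = n3418 := d5_2 F9408 D3418 (iv D3418)
def n3419 : Q := act 3 n2658
theorem D3419 : act 3 n2658 = n3419 := rfl
theorem F11926 : act 1 n3419 = n2659 := d8_1 D3419 (iv D2659) D2658
theorem F11927 : act 5 n3419 = n3419 := d19_2 F9407 D3419 (iv D3419)
theorem F11928 : act 6 n3419 = n3419 := d20_2 F9408 D3419 (iv D3419)
def n3420 : Q := act 4 n2659
theorem D3420 : act 4 n2659 = n3420 := rfl
theorem F11929 : act 0 n3420 = n2722 := d3_1 D3420 (iv D2722) (iv F9409)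
theorem F11930 : act 2 n3420 = n3420 := d14_1 D3420 (iv D3420) F9410
theorem F11931 : act 6 n3420 = n3420 := d23_2 F9412 D3420 (iv D3420)
def n3421 : Q := act 1 n2660
theorem D3421 : act 1 n2660 = n3421 := rfl
theorem F11932 : act 2 n3421 = n2762 := d7_2 D2660 D3421 (iv D2762) (iv D2145) (iv F7436)
theorem F11933 : act 4 n3421 = n3421 := d9_2 F9414 D3421 (iv D3421)
theorem F11934 : act 5 n3421 = n2686 := d10_2 (iv F9415) D3421 (iv D2686)
theorem F11935 : act 6 n3421 = n3421 := d11_2 F9416 D3421 (iv D3421)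
theorem F11936 : act 7 n3421 = n2684 := d12_2 (iv F9417) D3421 (iv D2684)
def n3422 : Q := act 3 n2660
theorem D3422 : act 3 n2660 = n3422 := rfl
theorem F11937 : act 0 n3422 = n2683 := d2_1 D3422 (iv D2683) (iv F9413)
theorem F11938 : act 2 n3422 = n2664 := d13_1 D3422 (iv D2664) (iv D2075) (iv F7437) D2660
theorem F11939 : act 5 n3422 = n2687 := d19_2 (iv F9415) D3422 (iv D2687)
theorem F11940 : act 6 n3422 = n3422 := d20_2 F9416 D3422 (iv D3422)
theorem F11941 : act 7 n3422 = n2685 := d21_2 (iv F9417) D3422 (iv D2685)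
def n3423 : Q := act 1 n2661
theorem D3423 : act 1 n2661 = n3423 := rfl
theorem F11942 : act 2 n3423 = n2757 := d7_2 D2661 D3423 (iv D2757) (iv D2142) (iv F7442)
theorem F11943 : act 4 n3423 = n3423 := d9_2 F9419 D3423 (iv D3423)
theorem F11944 : act 5 n3423 = n2663 := d10_2 (iv F9420) D3423 (iv D2663)
theorem F11945 : act 6 n3423 = n2670 := d11_2 (iv F9421) D3423 (iv D2670)
theorem F11946 : act 7 n3423 = n2682 := d12_2 (iv F9422) D3423 (iv D2682)
def n3424 : Q := act 3 n2661
theorem D3424 : act 3 n2661 = n3424 := rfl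
theorem F11947 : act 0 n3424 = n2685 := d2_1 D3424 (iv D2685) (iv F9418)
theorem F11948 : act 2 n3424 = n2687 := d13_1 D3424 (iv D2687) (iv D2090) (iv F7443) D2661
theorem F11949 : act 5 n3424 = n2664 := d19_2 (iv F9420) D3424 (iv D2664)
theorem F11950 : act 6 n3424 = n2671 := d20_2 (iv F9421) D3424 (iv D2671)
theorem F11951 : act 7 n3424 = n2683 := d21_2 (iv F9422) D3424 (iv D2683)
def n3425 : Q := act 1 n2662
theorem D3425 : act 1 n2662 = n3425 := rfl
theorem F11952 : act 2 n3425 = n2755 := d7_2 D2662 D3425 (iv D2755) (iv D2141) (iv F7448)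
theorem F11953 : act 4 n3425 = n2665 := d9_2 (iv F9424) D3425 (iv D2665)
theorem F11954 : act 5 n3425 = n2682 := d10_2 (iv F9425) D3425 (iv D2682)
theorem F11955 : act 6 n3425 = n3425 := d11_2 F9426 D3425 (iv D3425)
theorem F11956 : act 7 n3425 = n2663 := d12_2 (iv F9427) D3425 (iv D2663)
def n3426 : Q := act 3 n2662
theorem D3426 : act 3 n2662 = n3426 := rfl
theorem F11957 : act 0 n3426 = n2687 := d2_1 D3426 (iv D2687) (iv F9423)
theorem F11958 : act 2 n3426 = n2685 := d13_1 D3426 (iv D2685) (iv D2089) (iv F7449) D2662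
theorem F11959 : act 5 n3426 = n2683 := d19_2 (iv F9425) D3426 (iv D2683)
theorem F11960 : act 6 n3426 = n3426 := d20_2 F9426 D3426 (iv D3426)
theorem F11961 : act 7 n3426 = n2664 := d21_2 (iv F9427) D3426 (iv D2664)
def n3427 : Q := act 0 n2663
theorem D3427 : act 0 n2663 = n3427 := rfl
theorem F11962 : act 1 n3427 = n2688 := d0_2 D2663 D3427 (iv D2688) (iv D2091) (iv F7453)
theorem F11963 : act 4 n3427 = n2667 := d3_2 (iv F9428) D3427 (iv D2667)
theorem F11964 : act 6 n3427 = n2672 := d5_2 (iv F9429) D3427 (iv D2672)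
def n3428 : Q := act 3 n2663
theorem D3428 : act 3 n2663 = n3428 := rfl
theorem F11965 : act 1 n3428 = n2664 := d8_1 D3428 (iv D2664) D2663
theorem F11966 : act 6 n3428 = n2673 := d20_2 (iv F9429) D3428 (iv D2673)
def n3429 : Q := act 4 n2664
theorem D3429 : act 4 n2664 = n3429 := rfl
theorem F11967 : act 0 n3429 = n2690 := d3_1 D3429 (iv D2690) (iv F9430)
theorem F11968 : act 3 n3429 = n2669 := d18_1 D3429 (iv D2669) (iv D2078) (iv F7454) D2664
theorem F11969 : act 6 n3429 = n2674 := d23_2 (iv F9431) D3429 (iv D2674)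
def n3430 : Q := act 0 n2665
theorem D3430 : act 0 n2665 = n3430 := rfl
theorem F11970 : act 1 n3430 = n2691 := d0_2 D2665 D3430 (iv D2691) (iv D2093) (iv F7456)
theorem F11971 : act 5 n3430 = n3430 := d4_2 F9432 D3430 (iv D3430)
theorem F11972 : act 6 n3430 = n3430 := d5_2 F9433 D3430 (iv D3430)
theorem F11973 : act 7 n3430 = n2667 := d6_2 (iv F9434) D3430 (iv D2667)
def n3431 : Q := act 3 n2665
theorem D3431 : act 3 n2665 = n3431 := rfl
theorem F11974 : act 1 n3431 = n2666 := d8_1 D3431 (iv D2666) D2665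
theorem F11975 : act 5 n3431 = n3431 := d19_2 F9432 D3431 (iv D3431)
theorem F11976 : act 6 n3431 = n3431 := d20_2 F9433 D3431 (iv D3431)
theorem F11977 : act 7 n3431 = n2668 := d21_2 (iv F9434) D3431 (iv D2668)
def n3432 : Q := act 4 n2666
theorem D3432 : act 4 n2666 = n3432 := rfl
theorem F11978 : act 0 n3432 = n2693 := d3_1 D3432 (iv D2693) (iv F9435)
theorem F11979 : act 2 n3432 = n3432 := d14_1 D3432 (iv D3432) F9436
theorem F11980 : act 6 n3432 = n3432 := d23_2 F9438 D3432 (iv D3432)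
theorem F11981 : act 7 n3432 = n2669 := d24_2 (iv F9439) D3432 (iv D2669)
def n3433 : Q := act 3 n2667
theorem D3433 : act 3 n2667 = n3433 := rfl
theorem F11982 : act 0 n3433 = n2668 := d2_1 D3433 (iv D2668) D2667
theorem F11983 : act 1 n3433 = n2694 := d8_1 D3433 (iv D2694) (iv F9440)
theorem F11984 : act 5 n3433 = n3433 := d19_2 F9441 D3433 (iv D3433)
theorem F11985 : act 6 n3433 = n2675 := d20_2 (iv F9442) D3433 (iv D2675)
def n3434 : Q := act 2 n2668
theorem D3434 : act 2 n2668 = n3434 := rfl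
theorem F11986 : act 1 n3434 = n3434 := d7_1 D3434 (iv D3434) F9443 F7463 (iv F9443)
theorem F11987 : act 5 n3434 = n3434 := d15_2 F9444 D3434 (iv D3434)
def n3435 : Q := act 4 n2668
theorem D3435 : act 4 n2668 = n3435 := rfl
theorem F11988 : act 1 n3435 = n2669 := d9_1 D3435 (iv D2669) (iv F9443)
theorem F11989 : act 6 n3435 = n2677 := d23_2 (iv F9445) D3435 (iv D2677)
def n3436 : Q := act 5 n2669
theorem D3436 : act 5 n2669 = n3436 := rfl
theorem F11990 : act 0 n3436 = n2697 := d4_1 D3436 (iv D2697) (iv F9446)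
theorem F11991 : act 2 n3436 = n3436 := d15_1 D3436 (iv D3436) F9447
theorem F11992 : act 4 n3436 = n3436 := d22_1 D3436 (iv D3436) (iv D2669) F7464 D2669
theorem F11993 : act 6 n3436 = n2678 := d25_2 (iv F9448) D3436 (iv D2678)
def n3437 : Q := act 0 n2670
theorem D3437 : act 0 n2670 = n3437 := rfl
theorem F11994 : act 1 n3437 = n2698 := d0_2 D2670 D3437 (iv D2698) (iv D2098) (iv F7466)
theorem F11995 : act 2 n3437 = n3437 := d1_2 F9449 D3437 (iv D3437)
theorem F11996 : act 4 n3437 = n3437 := d3_2 F9450 D3437 (iv D3437)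
theorem F11997 : act 5 n3437 = n2672 := d4_2 (iv F9451) D3437 (iv D2672)
theorem F11998 : act 7 n3437 = n3437 := d6_2 F9452 D3437 (iv D3437)
def n3438 : Q := act 3 n2670
theorem D3438 : act 3 n2670 = n3438 := rfl
theorem F11999 : act 1 n3438 = n2671 := d8_1 D3438 (iv D2671) D2670
theorem F12000 : act 5 n3438 = n2673 := d19_2 (iv F9451) D3438 (iv D2673)
theorem F12001 : act 7 n3438 = n3438 := d21_2 F9452 D3438 (iv D3438)
def n3439 : Q := act 4 n2671
theorem D3439 : act 4 n2671 = n3439 := rfl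
theorem F12002 : act 0 n3439 = n2700 := d3_1 D3439 (iv D2700) (iv F9453)
theorem F12003 : act 2 n3439 = n3439 := d14_1 D3439 (iv D3439) F9454
theorem F12004 : act 3 n3439 = n3439 := d18_1 D3439 (iv D3439) (iv D2671) F7467 D2671
theorem F12005 : act 7 n3439 = n3439 := d24_2 F9456 D3439 (iv D3439)
def n3440 : Q := act 3 n2672
theorem D3440 : act 3 n2672 = n3440 := rfl
theorem F12006 : act 0 n3440 = n2673 := d2_1 D3440 (iv D2673) D2672
theorem F12007 : act 1 n3440 = n2701 := d8_1 D3440 (iv D2701) (iv F9457)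
theorem F12008 : act 7 n3440 = n3440 := d21_2 F9460 D3440 (iv D3440)
def n3441 : Q := act 2 n2673
theorem D3441 : act 2 n2673 = n3441 := rfl
theorem F12009 : act 1 n3441 = n3441 := d7_1 D3441 (iv D3441) F9461 F7474 (iv F9461)
theorem F12010 : act 3 n3441 = n3441 := d13_2 D2673 D3441 (iv D3441) (iv D2673) F7470
theorem F12011 : act 7 n3441 = n3441 := d17_2 F9462 D3441 (iv D3441)
def n3442 : Q := act 4 n2673
theorem D3442 : act 4 n2673 = n3442 := rfl
theorem F12012 : act 1 n3442 = n2674 := d9_1 D3442 (iv D2674) (iv F9461)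
theorem F12013 : act 3 n3442 = n2677 := d18_1 D3442 (iv D2677) (iv D2083) (iv F7471) D2673
theorem F12014 : act 7 n3442 = n3442 := d24_2 F9462 D3442 (iv D3442)
def n3443 : Q := act 5 n2674
theorem D3443 : act 5 n2674 = n3443 := rfl
theorem F12015 : act 0 n3443 = n2704 := d4_1 D3443 (iv D2704) (iv F9463)
theorem F12016 : act 2 n3443 = n3443 := d15_1 D3443 (iv D3443) F9464
theorem F12017 : act 3 n3443 = n2678 := d19_1 D3443 (iv D2678) (iv F9465)
theorem F12018 : act 7 n3443 = n3443 := d26_2 F9466 D3443 (iv D3443)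
def n3444 : Q := act 2 n2675
theorem D3444 : act 2 n2675 = n3444 := rfl
theorem F12019 : act 0 n3444 = n2676 := d1_1 D3444 (iv D2676) (iv F9467)
theorem F12020 : act 1 n3444 = n3444 := d7_1 D3444 (iv D3444) F9468 F7544 (iv F9468)
theorem F12021 : act 3 n3444 = n3444 := d13_2 D2675 D3444 (iv D3444) (iv D2675) F7477
theorem F12022 : act 5 n3444 = n3444 := d15_2 F9469 D3444 (iv D3444)
theorem F12023 : act 7 n3444 = n3444 := d17_2 F9470 D3444 (iv D3444)
def n3445 : Q := act 4 n2675
theorem D3445 : act 4 n2675 = n3445 := rfl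
theorem F12024 : act 0 n3445 = n2677 := d3_1 D3445 (iv D2677) (iv F9467)
theorem F12025 : act 1 n3445 = n2705 := d9_1 D3445 (iv D2705) (iv F9468)
theorem F12026 : act 7 n3445 = n3445 := d24_2 F9470 D3445 (iv D3445)
def n3446 : Q := act 4 n2676
theorem D3446 : act 4 n2676 = n3446 := rfl
theorem F12027 : act 1 n3446 = n2679 := d9_1 D3446 (iv D2679) (iv F9471)
theorem F12028 : act 2 n3446 = n2677 := d14_1 D3446 (iv D2677) D2676
theorem F12029 : act 7 n3446 = n3446 := d24_2 F9474 D3446 (iv D3446)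
def n3447 : Q := act 6 n2676
theorem D3447 : act 6 n2676 = n3447 := rfl
theorem F12030 : act 1 n3447 = n2680 := d11_1 D3447 (iv D2680) (iv F9471)
theorem F12031 : act 3 n3447 = n3447 := d20_1 D3447 (iv D3447) F9472
theorem F12032 : act 5 n3447 = n3447 := d25_1 D3447 (iv D3447) F9473
def n3448 : Q := act 5 n2677
theorem D3448 : act 5 n2677 = n3448 := rfl
theorem F12033 : act 1 n3448 = n2678 := d10_1 D3448 (iv D2678) (iv F9475)
theorem F12034 : act 4 n3448 = n3448 := d22_1 D3448 (iv D3448) (iv D2677) F7481 D2677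
theorem F12035 : act 7 n3448 = n3448 := d26_2 F9476 D3448 (iv D3448)
def n3449 : Q := act 3 n2679
theorem D3449 : act 3 n2679 = n3449 := rfl
theorem F12036 : act 0 n3449 = n3449 := d2_1 D3449 (iv D3449) F9481
theorem F12037 : act 2 n3449 = n3449 := d13_1 D3449 (iv D3449) F9482 F7492 (iv F9482)
theorem F12038 : act 4 n3449 = n3449 := d18_2 D2679 D3449 (iv D3449) (iv D2679) F7487
theorem F12039 : act 7 n3449 = n3449 := d21_2 F9483 D3449 (iv D3449)
def n3450 : Q := act 5 n2679
theorem D3450 : act 5 n2679 = n3450 := rfl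
theorem F12040 : act 0 n3450 = n3450 := d4_1 D3450 (iv D3450) F9481
theorem F12041 : act 2 n3450 = n2681 := d15_1 D3450 (iv D2681) (iv F9482)
theorem F12042 : act 4 n3450 = n3450 := d22_1 D3450 (iv D3450) (iv D2679) F7488 D2679
theorem F12043 : act 7 n3450 = n3450 := d26_2 F9483 D3450 (iv D3450)
def n3451 : Q := act 6 n2679
theorem D3451 : act 6 n2679 = n3451 := rfl
theorem F12044 : act 0 n3451 = n3451 := d5_1 D3451 (iv D3451) F9481
theorem F12045 : act 2 n3451 = n3451 := d16_1 D3451 (iv D3451) F9482 F7493 (iv F9482)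
theorem F12046 : act 4 n3451 = n2680 := d23_1 D3451 (iv D2680) D2679
def n3452 : Q := act 7 n2680
theorem D3452 : act 7 n2680 = n3452 := rfl
theorem F12047 : act 0 n3452 = n3452 := d6_1 D3452 (iv D3452) F9484
theorem F12048 : act 2 n3452 = n3452 := d17_1 D3452 (iv D3452) F9485
theorem F12049 : act 3 n3452 = n3452 := d21_1 D3452 (iv D3452) F9486
theorem F12050 : act 5 n3452 = n3452 := d26_1 D3452 (iv D3452) F9487
theorem F12051 : act 6 n3452 = n3452 := d27_1 D3452 (iv D3452) (iv D2680) F7489 D2680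
def n3453 : Q := act 0 n2682
theorem D3453 : act 0 n2682 = n3453 := rfl
theorem F12052 : act 2 n3453 = n2759 := d1_2 (iv F9494) D3453 (iv D2759)
theorem F12053 : act 4 n3453 = n3453 := d3_2 F9495 D3453 (iv D3453)
theorem F12054 : act 6 n3453 = n3453 := d5_2 F9496 D3453 (iv D3453)
def n3454 : Q := act 3 n2682
theorem D3454 : act 3 n2682 = n3454 := rfl
theorem F12055 : act 1 n3454 = n2683 := d8_1 D3454 (iv D2683) D2682
theorem F12056 : act 6 n3454 = n3454 := d20_2 F9496 D3454 (iv D3454)
def n3455 : Q := act 4 n2683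
theorem D3455 : act 4 n2683 = n3455 := rfl
theorem F12057 : act 2 n3455 = n2690 := d14_1 D3455 (iv D2690) (iv F9497)
theorem F12058 : act 3 n3455 = n3455 := d18_1 D3455 (iv D3455) (iv D2683) F7500 D2683
theorem F12059 : act 6 n3455 = n3455 := d23_2 F9498 D3455 (iv D3455)
def n3456 : Q := act 0 n2684
theorem D3456 : act 0 n2684 = n3456 := rfl
theorem F12060 : act 2 n3456 = n2764 := d1_2 (iv F9499) D3456 (iv D2764)
theorem F12061 : act 4 n3456 = n3456 := d3_2 F9500 D3456 (iv D3456)
theorem F12062 : act 5 n3456 = n2688 := d4_2 (iv F9501) D3456 (iv D2688)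
theorem F12063 : act 6 n3456 = n2698 := d5_2 (iv F9502) D3456 (iv D2698)
def n3457 : Q := act 3 n2684
theorem D3457 : act 3 n2684 = n3457 := rfl
theorem F12064 : act 1 n3457 = n2685 := d8_1 D3457 (iv D2685) D2684
theorem F12065 : act 5 n3457 = n2689 := d19_2 (iv F9501) D3457 (iv D2689)
theorem F12066 : act 6 n3457 = n2699 := d20_2 (iv F9502) D3457 (iv D2699)
def n3458 : Q := act 4 n2685
theorem D3458 : act 4 n2685 = n3458 := rfl
theorem F12067 : act 3 n3458 = n3458 := d18_1 D3458 (iv D3458) (iv D2685) F7502 D2685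
theorem F12068 : act 6 n3458 = n2700 := d23_2 (iv F9504) D3458 (iv D2700)
def n3459 : Q := act 0 n2686
theorem D3459 : act 0 n2686 = n3459 := rfl
theorem F12069 : act 2 n3459 = n2767 := d1_2 (iv F9505) D3459 (iv D2767)
theorem F12070 : act 4 n3459 = n2691 := d3_2 (iv F9506) D3459 (iv D2691)
theorem F12071 : act 6 n3459 = n3459 := d5_2 F9507 D3459 (iv D3459)
theorem F12072 : act 7 n3459 = n2688 := d6_2 (iv F9508) D3459 (iv D2688)
def n3460 : Q := act 3 n2686
theorem D3460 : act 3 n2686 = n3460 := rfl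
theorem F12073 : act 1 n3460 = n2687 := d8_1 D3460 (iv D2687) D2686
theorem F12074 : act 6 n3460 = n3460 := d20_2 F9507 D3460 (iv D3460)
theorem F12075 : act 7 n3460 = n2689 := d21_2 (iv F9508) D3460 (iv D2689)
def n3461 : Q := act 4 n2687
theorem D3461 : act 4 n2687 = n3461 := rfl
theorem F12076 : act 3 n3461 = n2693 := d18_1 D3461 (iv D2693) (iv D2094) (iv F7505) D2687
theorem F12077 : act 6 n3461 = n3461 := d23_2 F9509 D3461 (iv D3461)
theorem F12078 : act 7 n3461 = n2690 := d24_2 (iv F9510) D3461 (iv D2690)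
def n3462 : Q := act 3 n2688
theorem D3462 : act 3 n2688 = n3462 := rfl
theorem F12079 : act 0 n3462 = n2689 := d2_1 D3462 (iv D2689) D2688
theorem F12080 : act 6 n3462 = n2701 := d20_2 (iv F9513) D3462 (iv D2701)
def n3463 : Q := act 2 n2689
theorem D3463 : act 2 n2689 = n3463 := rfl
theorem F12081 : act 3 n3463 = n2771 := d13_2 D2689 D3463 (iv D2771) (iv D2151) (iv F7508)
def n3464 : Q := act 4 n2689
theorem D3464 : act 4 n2689 = n3464 := rfl
theorem F12082 : act 1 n3464 = n2690 := d9_1 D3464 (iv D2690) (iv F9514)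
theorem F12083 : act 3 n3464 = n2696 := d18_1 D3464 (iv D2696) (iv D2096) (iv F7509) D2689
theorem F12084 : act 6 n3464 = n2703 := d23_2 (iv F9515) D3464 (iv D2703)
def n3465 : Q := act 5 n2690
theorem D3465 : act 5 n2690 = n3465 := rfl
theorem F12085 : act 3 n3465 = n2697 := d19_1 D3465 (iv D2697) (iv F9516)
theorem F12086 : act 6 n3465 = n2704 := d25_2 (iv F9517) D3465 (iv D2704)
def n3466 : Q := act 3 n2691
theorem D3466 : act 3 n2691 = n3466 := rfl
theorem F12087 : act 0 n3466 = n2692 := d2_1 D3466 (iv D2692) D2691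
theorem F12088 : act 5 n3466 = n3466 := d19_2 F9519 D3466 (iv D3466)
theorem F12089 : act 6 n3466 = n3466 := d20_2 F9520 D3466 (iv D3466)
theorem F12090 : act 7 n3466 = n2694 := d21_2 (iv F9521) D3466 (iv D2694)
def n3467 : Q := act 2 n2692
theorem D3467 : act 2 n2692 = n3467 := rfl
theorem F12091 : act 1 n3467 = n3467 := d7_1 D3467 (iv D3467) F9522 F7516 (iv F9522)
theorem F12092 : act 3 n3467 = n2775 := d13_2 D2692 D3467 (iv D2775) (iv D2154) (iv F7512)
theorem F12093 : act 5 n3467 = n3467 := d15_2 F9523 D3467 (iv D3467)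
theorem F12094 : act 7 n3467 = n2695 := d17_2 (iv F9525) D3467 (iv D2695)
def n3468 : Q := act 4 n2692
theorem D3468 : act 4 n2692 = n3468 := rfl
theorem F12095 : act 1 n3468 = n2693 := d9_1 D3468 (iv D2693) (iv F9522)
theorem F12096 : act 6 n3468 = n3468 := d23_2 F9524 D3468 (iv D3468)
theorem F12097 : act 7 n3468 = n2696 := d24_2 (iv F9525) D3468 (iv D2696)
def n3469 : Q := act 5 n2693
theorem D3469 : act 5 n2693 = n3469 := rfl
theorem F12098 : act 2 n3469 = n3469 := d15_1 D3469 (iv D3469) F9526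
theorem F12099 : act 4 n3469 = n3469 := d22_1 D3469 (iv D3469) (iv D2693) F7517 D2693
theorem F12100 : act 6 n3469 = n3469 := d25_2 F9527 D3469 (iv D3469)
theorem F12101 : act 7 n3469 = n2697 := d26_2 (iv F9528) D3469 (iv D2697)
def n3470 : Q := act 2 n2694
theorem D3470 : act 2 n2694 = n3470 := rfl
theorem F12102 : act 0 n3470 = n2695 := d1_1 D3470 (iv D2695) (iv F9529)
theorem F12103 : act 3 n3470 = n2778 := d13_2 D2694 D3470 (iv D2778) (iv D2156) (iv F7520)
theorem F12104 : act 5 n3470 = n3470 := d15_2 F9530 D3470 (iv D3470)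
theorem F12105 : act 6 n3470 = n3470 := d16_2 (iv F9531) D3470 (iv D3470) F9531 F7544
def n3471 : Q := act 4 n2694
theorem D3471 : act 4 n2694 = n3471 := rfl
theorem F12106 : act 0 n3471 = n2696 := d3_1 D3471 (iv D2696) (iv F9529)
theorem F12107 : act 6 n3471 = n2705 := d23_2 (iv F9531) D3471 (iv D2705)
def n3472 : Q := act 4 n2695
theorem D3472 : act 4 n2695 = n3472 := rfl
theorem F12108 : act 1 n3472 = n3472 := d9_1 D3472 (iv D3472) F9532
theorem F12109 : act 2 n3472 = n2696 := d14_1 D3472 (iv D2696) D2695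
theorem F12110 : act 6 n3472 = n3472 := d23_2 F9535 D3472 (iv D3472)
def n3473 : Q := act 5 n2696
theorem D3473 : act 5 n2696 = n3473 := rfl
theorem F12111 : act 1 n3473 = n2697 := d10_1 D3473 (iv D2697) (iv F9536)
theorem F12112 : act 4 n3473 = n3473 := d22_1 D3473 (iv D3473) (iv D2696) F7524 D2696
theorem F12113 : act 6 n3473 = n2706 := d25_2 (iv F9537) D3473 (iv D2706)
def n3474 : Q := act 3 n2698
theorem D3474 : act 3 n2698 = n3474 := rfl
theorem F12114 : act 0 n3474 = n2699 := d2_1 D3474 (iv D2699) D2698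
theorem F12115 : act 5 n3474 = n2701 := d19_2 (iv F9543) D3474 (iv D2701)
theorem F12116 : act 7 n3474 = n3474 := d21_2 F9544 D3474 (iv D3474)
def n3475 : Q := act 2 n2699
theorem D3475 : act 2 n2699 = n3475 := rfl
theorem F12117 : act 1 n3475 = n3475 := d7_1 D3475 (iv D3475) F9545 F7532 (iv F9545)
theorem F12118 : act 3 n3475 = n2708 := d13_2 D2699 D3475 (iv D2708) (iv D2107) (iv F7528)
theorem F12119 : act 5 n3475 = n2702 := d15_2 (iv F9546) D3475 (iv D2702)
theorem F12120 : act 7 n3475 = n3475 := d17_2 F9547 D3475 (iv D3475)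
def n3476 : Q := act 4 n2699
theorem D3476 : act 4 n2699 = n3476 := rfl
theorem F12121 : act 1 n3476 = n2700 := d9_1 D3476 (iv D2700) (iv F9545)
theorem F12122 : act 3 n3476 = n3476 := d18_1 D3476 (iv D3476) (iv D2699) F7529 D2699
theorem F12123 : act 7 n3476 = n3476 := d24_2 F9547 D3476 (iv D3476)
def n3477 : Q := act 5 n2700
theorem D3477 : act 5 n2700 = n3477 := rfl
theorem F12124 : act 2 n3477 = n3477 := d15_1 D3477 (iv D3477) F9548
theorem F12125 : act 3 n3477 = n3477 := d19_1 D3477 (iv D3477) F9549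
theorem F12126 : act 4 n3477 = n2704 := d22_1 D3477 (iv D2704) (iv D2102) (iv F7533) D2700
theorem F12127 : act 7 n3477 = n3477 := d26_2 F9550 D3477 (iv D3477)
def n3478 : Q := act 2 n2701
theorem D3478 : act 2 n2701 = n3478 := rfl
theorem F12128 : act 0 n3478 = n2702 := d1_1 D3478 (iv D2702) (iv F9551)
theorem F12129 : act 3 n3478 = n2710 := d13_2 D2701 D3478 (iv D2710) (iv D2109) (iv F7535)
theorem F12130 : act 7 n3478 = n3478 := d17_2 F9552 D3478 (iv D3478)
def n3479 : Q := act 4 n2701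
theorem D3479 : act 4 n2701 = n3479 := rfl
theorem F12131 : act 0 n3479 = n2703 := d3_1 D3479 (iv D2703) (iv F9551)
theorem F12132 : act 3 n3479 = n2705 := d18_1 D3479 (iv D2705) (iv D2103) (iv F7536) D2701
theorem F12133 : act 7 n3479 = n3479 := d24_2 F9552 D3479 (iv D3479)
def n3480 : Q := act 4 n2702
theorem D3480 : act 4 n2702 = n3480 := rfl
theorem F12134 : act 1 n3480 = n3480 := d9_1 D3480 (iv D3480) F9553
theorem F12135 : act 2 n3480 = n2703 := d14_1 D3480 (iv D2703) D2702
theorem F12136 : act 3 n3480 = n3480 := d18_1 D3480 (iv D3480) F9554 F7574 (iv F9554)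
theorem F12137 : act 7 n3480 = n3480 := d24_2 F9555 D3480 (iv D3480)
def n3481 : Q := act 6 n2702
theorem D3481 : act 6 n2702 = n3481 := rfl
theorem F12138 : act 1 n3481 = n3481 := d11_1 D3481 (iv D3481) F9553
theorem F12139 : act 3 n3481 = n2711 := d20_1 D3481 (iv D2711) (iv F9554)
def n3482 : Q := act 5 n2703
theorem D3482 : act 5 n2703 = n3482 := rfl
theorem F12140 : act 1 n3482 = n2704 := d10_1 D3482 (iv D2704) (iv F9556)
theorem F12141 : act 3 n3482 = n2706 := d19_1 D3482 (iv D2706) (iv F9557)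
theorem F12142 : act 7 n3482 = n3482 := d26_2 F9558 D3482 (iv D3482)
def n3483 : Q := act 5 n2705
theorem D3483 : act 5 n2705 = n3483 := rfl
theorem F12143 : act 0 n3483 = n2706 := d4_1 D3483 (iv D2706) (iv F9562)
theorem F12144 : act 2 n3483 = n3483 := d15_1 D3483 (iv D3483) F9563
theorem F12145 : act 4 n3483 = n3483 := d22_1 D3483 (iv D3483) (iv D2705) F7545 D2705
theorem F12146 : act 7 n3483 = n3483 := d26_2 F9564 D3483 (iv D3483)
def n3484 : Q := act 2 n2707
theorem D3484 : act 2 n2707 = n3484 := rfl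
theorem F12147 : act 0 n3484 = n2708 := d1_1 D3484 (iv D2708) (iv F9569)
theorem F12148 : act 5 n3484 = n2710 := d15_2 (iv F9571) D3484 (iv D2710)
theorem F12149 : act 7 n3484 = n3484 := d17_2 F9573 D3484 (iv D3484)
def n3485 : Q := act 4 n2707
theorem D3485 : act 4 n2707 = n3485 := rfl
theorem F12150 : act 0 n3485 = n2709 := d3_1 D3485 (iv D2709) (iv F9569)
theorem F12151 : act 1 n3485 = n3485 := d9_1 D3485 (iv D3485) F9570
theorem F12152 : act 3 n3485 = n3485 := d18_1 D3485 (iv D3485) (iv D2707) F7554 D2707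
theorem F12153 : act 5 n3485 = n3485 := d22_2 (iv F9571) D3485 (iv D3485) F9571 F7570
theorem F12154 : act 6 n3485 = n2793 := d23_2 (iv F9572) D3485 (iv D2793)
theorem F12155 : act 7 n3485 = n3485 := d24_2 F9573 D3485 (iv D3485)
def n3486 : Q := act 4 n2708
theorem D3486 : act 4 n2708 = n3486 := rfl
theorem F12156 : act 1 n3486 = n3486 := d9_1 D3486 (iv D3486) F9574
theorem F12157 : act 2 n3486 = n2709 := d14_1 D3486 (iv D2709) D2708
theorem F12158 : act 5 n3486 = n3486 := d22_2 (iv F9575) D3486 (iv D3486) F9575 F7574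
theorem F12159 : act 7 n3486 = n3486 := d24_2 F9576 D3486 (iv D3486)
def n3487 : Q := act 6 n2708
theorem D3487 : act 6 n2708 = n3487 := rfl
theorem F12160 : act 1 n3487 = n3487 := d11_1 D3487 (iv D3487) F9574
theorem F12161 : act 2 n3487 = n2795 := d16_1 D3487 (iv D2795) (iv D2170) (iv F7560) D2708
theorem F12162 : act 5 n3487 = n2711 := d25_1 D3487 (iv D2711) (iv F9575)
def n3488 : Q := act 1 n2710
theorem D3488 : act 1 n2710 = n3488 := rfl
theorem F12163 : act 0 n3488 = n3488 := d0_1 D3488 (iv D3488) F9582 F7573 (iv F9582)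
theorem F12164 : act 2 n3488 = n3488 := d7_2 D2710 D3488 (iv D3488) (iv D2710) F7569
theorem F12165 : act 4 n3488 = n3488 := d9_2 F9583 D3488 (iv D3488)
theorem F12166 : act 7 n3488 = n3488 := d12_2 F9584 D3488 (iv D3488)
def n3489 : Q := act 6 n2710
theorem D3489 : act 6 n2710 = n3489 := rfl
theorem F12167 : act 0 n3489 = n2711 := d5_1 D3489 (iv D2711) (iv F9582)
theorem F12168 : act 2 n3489 = n2797 := d16_1 D3489 (iv D2797) (iv D2172) (iv F7571) D2710
theorem F12169 : act 4 n3489 = n3489 := d23_1 D3489 (iv D3489) F9583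
def n3490 : Q := act 7 n2711
theorem D3490 : act 7 n2711 = n3490 := rfl
theorem F12170 : act 1 n3490 = n3490 := d12_1 D3490 (iv D3490) F9585
theorem F12171 : act 2 n3490 = n2798 := d17_1 D3490 (iv D2798) (iv F9586)
theorem F12172 : act 4 n3490 = n3490 := d24_1 D3490 (iv D3490) F9587
theorem F12173 : act 6 n3490 = n3490 := d27_1 D3490 (iv D3490) (iv D2711) F7575 D2711
def n3491 : Q := act 1 n2712
theorem D3491 : act 1 n2712 = n3491 := rfl
theorem F12174 : act 2 n3491 = n2723 := d7_2 D2712 D3491 (iv D2723) (iv D2119) (iv F7577)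
theorem F12175 : act 4 n3491 = n3491 := d9_2 F9589 D3491 (iv D3491)
theorem F12176 : act 5 n3491 = n2727 := d10_2 (iv F9590) D3491 (iv D2727)
theorem F12177 : act 6 n3491 = n3035 := d11_2 (iv F9591) D3491 (iv D3035)
theorem F12178 : act 7 n3491 = n2725 := d12_2 (iv F9592) D3491 (iv D2725)
def n3492 : Q := act 3 n2712
theorem D3492 : act 3 n2712 = n3492 := rfl
theorem F12179 : act 0 n3492 = n2763 := d2_1 D3492 (iv D2763) (iv F9588)
theorem F12180 : act 2 n3492 = n2716 := d13_1 D3492 (iv D2716) (iv D2114) (iv F7578) D2712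
theorem F12181 : act 5 n3492 = n2728 := d19_2 (iv F9590) D3492 (iv D2728)
theorem F12182 : act 6 n3492 = n3036 := d20_2 (iv F9591) D3492 (iv D3036)
theorem F12183 : act 7 n3492 = n2726 := d21_2 (iv F9592) D3492 (iv D2726)
def n3493 : Q := act 1 n2713
theorem D3493 : act 1 n2713 = n3493 := rfl
theorem F12184 : act 2 n3493 = n2725 := d7_2 D2713 D3493 (iv D2725) (iv D2120) (iv F7583)
theorem F12185 : act 4 n3493 = n3493 := d9_2 F9594 D3493 (iv D3493)
theorem F12186 : act 5 n3493 = n2715 := d10_2 (iv F9595) D3493 (iv D2715)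
theorem F12187 : act 6 n3493 = n3493 := d11_2 F9596 D3493 (iv D3493)
theorem F12188 : act 7 n3493 = n2723 := d12_2 (iv F9597) D3493 (iv D2723)
def n3494 : Q := act 3 n2713
theorem D3494 : act 3 n2713 = n3494 := rfl
theorem F12189 : act 0 n3494 = n2758 := d2_1 D3494 (iv D2758) (iv F9593)
theorem F12190 : act 2 n3494 = n2728 := d13_1 D3494 (iv D2728) (iv D2121) (iv F7584) D2713
theorem F12191 : act 5 n3494 = n2716 := d19_2 (iv F9595) D3494 (iv D2716)
theorem F12192 : act 6 n3494 = n3494 := d20_2 F9596 D3494 (iv D3494)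
theorem F12193 : act 7 n3494 = n2724 := d21_2 (iv F9597) D3494 (iv D2724)
def n3495 : Q := act 1 n2714
theorem D3495 : act 1 n2714 = n3495 := rfl
theorem F12194 : act 2 n3495 = n2727 := d7_2 D2714 D3495 (iv D2727) (iv D2121) (iv F7589)
theorem F12195 : act 4 n3495 = n2718 := d9_2 (iv F9599) D3495 (iv D2718)
theorem F12196 : act 5 n3495 = n2723 := d10_2 (iv F9600) D3495 (iv D2723)
theorem F12197 : act 6 n3495 = n2812 := d11_2 (iv F9601) D3495 (iv D2812)
theorem F12198 : act 7 n3495 = n2715 := d12_2 (iv F9602) D3495 (iv D2715)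
def n3496 : Q := act 3 n2714
theorem D3496 : act 3 n2714 = n3496 := rfl
theorem F12199 : act 0 n3496 = n2756 := d2_1 D3496 (iv D2756) (iv F9598)
theorem F12200 : act 2 n3496 = n2726 := d13_1 D3496 (iv D2726) (iv D2120) (iv F7590) D2714
theorem F12201 : act 5 n3496 = n2724 := d19_2 (iv F9600) D3496 (iv D2724)
theorem F12202 : act 6 n3496 = n2813 := d20_2 (iv F9601) D3496 (iv D2813)
theorem F12203 : act 7 n3496 = n2716 := d21_2 (iv F9602) D3496 (iv D2716)
def n3497 : Q := act 0 n2715
theorem D3497 : act 0 n2715 = n3497 := rfl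
theorem F12204 : act 2 n3497 = n2729 := d1_2 (iv F9603) D3497 (iv D2729)
theorem F12205 : act 4 n3497 = n2720 := d3_2 (iv F9604) D3497 (iv D2720)
theorem F12206 : act 6 n3497 = n3497 := d5_2 F9605 D3497 (iv D3497)
def n3498 : Q := act 3 n2715
theorem D3498 : act 3 n2715 = n3498 := rfl
theorem F12207 : act 1 n3498 = n2716 := d8_1 D3498 (iv D2716) D2715
theorem F12208 : act 6 n3498 = n3498 := d20_2 F9605 D3498 (iv D3498)
def n3499 : Q := act 4 n2716
theorem D3499 : act 4 n2716 = n3499 := rfl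
theorem F12209 : act 3 n3499 = n2722 := d18_1 D3499 (iv D2722) (iv D2118) (iv F7594) D2716
theorem F12210 : act 6 n3499 = n3499 := d23_2 F9606 D3499 (iv D3499)
def n3500 : Q := act 1 n2717
theorem D3500 : act 1 n2717 = n3500 := rfl
theorem F12211 : act 2 n3500 = n3026 := d7_2 D2717 D3500 (iv D3026) (iv D2346) (iv F7597)
theorem F12212 : act 4 n3500 = n2812 := d9_2 (iv F9608) D3500 (iv D2812)
theorem F12213 : act 5 n3500 = n3500 := d10_2 F9609 D3500 (iv D3500)
theorem F12214 : act 6 n3500 = n2718 := d11_2 (iv F9610) D3500 (iv D2718)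
theorem F12215 : act 7 n3500 = n3500 := d12_2 F9611 D3500 (iv D3500)
def n3501 : Q := act 3 n2717
theorem D3501 : act 3 n2717 = n3501 := rfl
theorem F12216 : act 0 n3501 = n2850 := d2_1 D3501 (iv D2850) (iv F9607)
theorem F12217 : act 2 n3501 = n2915 := d13_1 D3501 (iv D2915) (iv D2261) (iv F7598) D2717
theorem F12218 : act 5 n3501 = n3501 := d19_2 F9609 D3501 (iv D3501)
theorem F12219 : act 6 n3501 = n2719 := d20_2 (iv F9610) D3501 (iv D2719)
theorem F12220 : act 7 n3501 = n3501 := d21_2 F9611 D3501 (iv D3501)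
def n3502 : Q := act 0 n2718
theorem D3502 : act 0 n2718 = n3502 := rfl
theorem F12221 : act 2 n3502 = n2732 := d1_2 (iv F9612) D3502 (iv D2732)
theorem F12222 : act 5 n3502 = n3502 := d4_2 F9613 D3502 (iv D3502)
theorem F12223 : act 7 n3502 = n2720 := d6_2 (iv F9614) D3502 (iv D2720)
def n3503 : Q := act 3 n2718
theorem D3503 : act 3 n2718 = n3503 := rfl
theorem F12224 : act 1 n3503 = n2719 := d8_1 D3503 (iv D2719) D2718
theorem F12225 : act 5 n3503 = n3503 := d19_2 F9613 D3503 (iv D3503)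
theorem F12226 : act 7 n3503 = n2721 := d21_2 (iv F9614) D3503 (iv D2721)
def n3504 : Q := act 4 n2719
theorem D3504 : act 4 n2719 = n3504 := rfl
theorem F12227 : act 2 n3504 = n3504 := d14_1 D3504 (iv D3504) F9615
theorem F12228 : act 7 n3504 = n2722 := d24_2 (iv F9617) D3504 (iv D2722)
def n3505 : Q := act 3 n2720
theorem D3505 : act 3 n2720 = n3505 := rfl
theorem F12229 : act 0 n3505 = n2721 := d2_1 D3505 (iv D2721) D2720
theorem F12230 : act 5 n3505 = n3505 := d19_2 F9619 D3505 (iv D3505)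
theorem F12231 : act 6 n3505 = n3505 := d20_2 F9620 D3505 (iv D3505)
def n3506 : Q := act 2 n2721
theorem D3506 : act 2 n2721 = n3506 := rfl
theorem F12232 : act 1 n3506 = n3506 := d7_1 D3506 (iv D3506) F9621 F7607 (iv F9621)
theorem F12233 : act 3 n3506 = n2736 := d13_2 D2721 D3506 (iv D2736) (iv D2127) (iv F7604)
theorem F12234 : act 5 n3506 = n3506 := d15_2 F9622 D3506 (iv D3506)
def n3507 : Q := act 4 n2721
theorem D3507 : act 4 n2721 = n3507 := rfl
theorem F12235 : act 1 n3507 = n2722 := d9_1 D3507 (iv D2722) (iv F9621)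
theorem F12236 : act 6 n3507 = n3507 := d23_2 F9623 D3507 (iv D3507)
def n3508 : Q := act 5 n2722
theorem D3508 : act 5 n2722 = n3508 := rfl
theorem F12237 : act 2 n3508 = n3508 := d15_1 D3508 (iv D3508) F9624
theorem F12238 : act 4 n3508 = n3508 := d22_1 D3508 (iv D3508) (iv D2722) F7608 D2722
theorem F12239 : act 6 n3508 = n3508 := d25_2 F9625 D3508 (iv D3508)
def n3509 : Q := act 0 n2723
theorem D3509 : act 0 n2723 = n3509 := rfl
theorem F12240 : act 1 n3509 = n2759 := d0_2 D2723 D3509 (iv D2759) (iv D2143) (iv F7610)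
theorem F12241 : act 4 n3509 = n3509 := d3_2 F9626 D3509 (iv D3509)
theorem F12242 : act 6 n3509 = n2814 := d5_2 (iv F9627) D3509 (iv D2814)
def n3510 : Q := act 3 n2723
theorem D3510 : act 3 n2723 = n3510 := rfl
theorem F12243 : act 1 n3510 = n2724 := d8_1 D3510 (iv D2724) D2723
theorem F12244 : act 6 n3510 = n2815 := d20_2 (iv F9627) D3510 (iv D2815)
def n3511 : Q := act 4 n2724
theorem D3511 : act 4 n2724 = n3511 := rfl
theorem F12245 : act 0 n3511 = n2761 := d3_1 D3511 (iv D2761) (iv F9628)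
theorem F12246 : act 2 n3511 = n2731 := d14_1 D3511 (iv D2731) (iv F9629)
theorem F12247 : act 3 n3511 = n3511 := d18_1 D3511 (iv D3511) (iv D2724) F7611 D2724
theorem F12248 : act 6 n3511 = n2816 := d23_2 (iv F9630) D3511 (iv D2816)
def n3512 : Q := act 0 n2725
theorem D3512 : act 0 n2725 = n3512 := rfl
theorem F12249 : act 1 n3512 = n2764 := d0_2 D2725 D3512 (iv D2764) (iv D2146) (iv F7613)
theorem F12250 : act 4 n3512 = n3512 := d3_2 F9631 D3512 (iv D3512)
theorem F12251 : act 5 n3512 = n2729 := d4_2 (iv F9632) D3512 (iv D2729)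
theorem F12252 : act 6 n3512 = n2739 := d5_2 (iv F9633) D3512 (iv D2739)
def n3513 : Q := act 3 n2725
theorem D3513 : act 3 n2725 = n3513 := rfl
theorem F12253 : act 1 n3513 = n2726 := d8_1 D3513 (iv D2726) D2725
theorem F12254 : act 5 n3513 = n2730 := d19_2 (iv F9632) D3513 (iv D2730)
theorem F12255 : act 6 n3513 = n2740 := d20_2 (iv F9633) D3513 (iv D2740)
def n3514 : Q := act 4 n2726
theorem D3514 : act 4 n2726 = n3514 := rfl
theorem F12256 : act 0 n3514 = n2766 := d3_1 D3514 (iv D2766) (iv F9634)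
theorem F12257 : act 3 n3514 = n3514 := d18_1 D3514 (iv D3514) (iv D2726) F7614 D2726
theorem F12258 : act 6 n3514 = n2741 := d23_2 (iv F9636) D3514 (iv D2741)
def n3515 : Q := act 0 n2727
theorem D3515 : act 0 n2727 = n3515 := rfl
theorem F12259 : act 1 n3515 = n2767 := d0_2 D2727 D3515 (iv D2767) (iv D2148) (iv F7617)
theorem F12260 : act 4 n3515 = n2732 := d3_2 (iv F9637) D3515 (iv D2732)
theorem F12261 : act 6 n3515 = n3040 := d5_2 (iv F9638) D3515 (iv D3040)
theorem F12262 : act 7 n3515 = n2729 := d6_2 (iv F9639) D3515 (iv D2729)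
def n3516 : Q := act 3 n2727
theorem D3516 : act 3 n2727 = n3516 := rfl
theorem F12263 : act 1 n3516 = n2728 := d8_1 D3516 (iv D2728) D2727
theorem F12264 : act 6 n3516 = n3041 := d20_2 (iv F9638) D3516 (iv D3041)
theorem F12265 : act 7 n3516 = n2730 := d21_2 (iv F9639) D3516 (iv D2730)
def n3517 : Q := act 4 n2728
theorem D3517 : act 4 n2728 = n3517 := rfl
theorem F12266 : act 0 n3517 = n2769 := d3_1 D3517 (iv D2769) (iv F9640)
theorem F12267 : act 3 n3517 = n2734 := d18_1 D3517 (iv D2734) (iv D2125) (iv F7618) D2728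
theorem F12268 : act 6 n3517 = n3042 := d23_2 (iv F9641) D3517 (iv D3042)
theorem F12269 : act 7 n3517 = n2731 := d24_2 (iv F9642) D3517 (iv D2731)
def n3518 : Q := act 3 n2729
theorem D3518 : act 3 n2729 = n3518 := rfl
theorem F12270 : act 0 n3518 = n2730 := d2_1 D3518 (iv D2730) D2729
theorem F12271 : act 1 n3518 = n2770 := d8_1 D3518 (iv D2770) (iv F9643)
theorem F12272 : act 6 n3518 = n2742 := d20_2 (iv F9645) D3518 (iv D2742)
def n3519 : Q := act 2 n2730
theorem D3519 : act 2 n2730 = n3519 := rfl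
def n3520 : Q := act 4 n2730
theorem D3520 : act 4 n2730 = n3520 := rfl
theorem F12273 : act 1 n3520 = n2731 := d9_1 D3520 (iv D2731) (iv F9646)
theorem F12274 : act 3 n3520 = n2737 := d18_1 D3520 (iv D2737) (iv D2127) (iv F7621) D2730
theorem F12275 : act 6 n3520 = n2744 := d23_2 (iv F9647) D3520 (iv D2744)
def n3521 : Q := act 5 n2731
theorem D3521 : act 5 n2731 = n3521 := rfl
theorem F12276 : act 0 n3521 = n2773 := d4_1 D3521 (iv D2773) (iv F9648)
theorem F12278 : act 6 n3521 = n2745 := d25_2 (iv F9650) D3521 (iv D2745)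
def n3522 : Q := act 3 n2732
theorem D3522 : act 3 n2732 = n3522 := rfl
theorem F12279 : act 0 n3522 = n2733 := d2_1 D3522 (iv D2733) D2732
theorem F12280 : act 1 n3522 = n2774 := d8_1 D3522 (iv D2774) (iv F9651)
theorem F12281 : act 5 n3522 = n3522 := d19_2 F9652 D3522 (iv D3522)
theorem F12282 : act 6 n3522 = n3047 := d20_2 (iv F9653) D3522 (iv D3047)
theorem F12283 : act 7 n3522 = n2735 := d21_2 (iv F9654) D3522 (iv D2735)
def n3523 : Q := act 2 n2733
theorem D3523 : act 2 n2733 = n3523 := rfl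
theorem F12284 : act 1 n3523 = n3523 := d7_1 D3523 (iv D3523) F9655 F7629 (iv F9655)
theorem F12285 : act 5 n3523 = n3523 := d15_2 F9656 D3523 (iv D3523)
theorem F12286 : act 7 n3523 = n2736 := d17_2 (iv F9658) D3523 (iv D2736)
def n3524 : Q := act 4 n2733
theorem D3524 : act 4 n2733 = n3524 := rfl
theorem F12287 : act 1 n3524 = n2734 := d9_1 D3524 (iv D2734) (iv F9655)
theorem F12288 : act 6 n3524 = n3049 := d23_2 (iv F9657) D3524 (iv D3049)
theorem F12289 : act 7 n3524 = n2737 := d24_2 (iv F9658) D3524 (iv D2737)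
def n3526 : Q := act 2 n2735
theorem D3526 : act 2 n2735 = n3526 := rfl
theorem F12295 : act 0 n3526 = n2736 := d1_1 D3526 (iv D2736) (iv F9663)
theorem F12296 : act 5 n3526 = n3526 := d15_2 F9665 D3526 (iv D3526)
def n3527 : Q := act 4 n2735
theorem D3527 : act 4 n2735 = n3527 := rfl
theorem F12297 : act 0 n3527 = n2737 := d3_1 D3527 (iv D2737) (iv F9663)
theorem F12298 : act 1 n3527 = n2779 := d9_1 D3527 (iv D2779) (iv F9664)
theorem F12299 : act 6 n3527 = n2747 := d23_2 (iv F9666) D3527 (iv D2747)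
def n3528 : Q := act 4 n2736
theorem D3528 : act 4 n2736 = n3528 := rfl
theorem F12301 : act 2 n3528 = n2737 := d14_1 D3528 (iv D2737) D2736
def n3529 : Q := act 6 n2736
theorem D3529 : act 6 n2736 = n3529 := rfl
theorem F12303 : act 2 n3529 = n2749 := d16_1 D3529 (iv D2749) (iv D2135) (iv F7638) D2736
def n3530 : Q := act 5 n2737
theorem D3530 : act 5 n2737 = n3530 := rfl
theorem F12307 : act 6 n3530 = n2750 := d25_2 (iv F9670) D3530 (iv D2750)
def n3531 : Q := act 3 n2739
theorem D3531 : act 3 n2739 = n3531 := rfl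
theorem F12308 : act 0 n3531 = n2740 := d2_1 D3531 (iv D2740) D2739
theorem F12309 : act 1 n3531 = n2782 := d8_1 D3531 (iv D2782) (iv F9675)
theorem F12310 : act 5 n3531 = n2742 := d19_2 (iv F9678) D3531 (iv D2742)
theorem F12311 : act 7 n3531 = n3056 := d21_2 (iv F9679) D3531 (iv D3056)
def n3532 : Q := act 2 n2740
theorem D3532 : act 2 n2740 = n3532 := rfl
theorem F12312 : act 1 n3532 = n2830 := d7_1 D3532 (iv D2830) F7869 (iv F7647) (iv F9680)
theorem F12313 : act 3 n3532 = n3532 := d13_2 D2740 D3532 (iv D3532) (iv D2740) F7642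
theorem F12314 : act 5 n3532 = n2743 := d15_2 (iv F9681) D3532 (iv D2743)
theorem F12315 : act 7 n3532 = n3057 := d17_2 (iv F9682) D3532 (iv D3057)
def n3533 : Q := act 4 n2740
theorem D3533 : act 4 n2740 = n3533 := rfl
theorem F12316 : act 1 n3533 = n2741 := d9_1 D3533 (iv D2741) (iv F9680)
theorem F12317 : act 3 n3533 = n3533 := d18_1 D3533 (iv D3533) (iv D2740) F7643 D2740
theorem F12318 : act 7 n3533 = n3058 := d24_2 (iv F9682) D3533 (iv D3058)
def n3534 : Q := act 5 n2741
theorem D3534 : act 5 n2741 = n3534 := rfl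
theorem F12319 : act 0 n3534 = n2785 := d4_1 D3534 (iv D2785) (iv F9683)
theorem F12320 : act 2 n3534 = n2832 := d15_1 D3534 (iv D2832) (iv F9684)
def n3535 : Q := act 2 n2742
theorem D3535 : act 2 n2742 = n3535 := rfl
theorem F12324 : act 0 n3535 = n2743 := d1_1 D3535 (iv D2743) (iv F9687)
theorem F12325 : act 3 n3535 = n3535 := d13_2 D2742 D3535 (iv D3535) (iv D2742) F7651
theorem F12326 : act 7 n3535 = n3060 := d17_2 (iv F9689) D3535 (iv D3060)
def n3536 : Q := act 4 n2742
theorem D3536 : act 4 n2742 = n3536 := rfl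
theorem F12327 : act 0 n3536 = n2744 := d3_1 D3536 (iv D2744) (iv F9687)
theorem F12328 : act 1 n3536 = n2787 := d9_1 D3536 (iv D2787) (iv F9688)
theorem F12329 : act 3 n3536 = n2747 := d18_1 D3536 (iv D2747) (iv D2134) (iv F7652) D2742
theorem F12330 : act 7 n3536 = n3061 := d24_2 (iv F9689) D3536 (iv D3061)
def n3537 : Q := act 4 n2743
theorem D3537 : act 4 n2743 = n3537 := rfl
theorem F12331 : act 1 n3537 = n2835 := d9_1 D3537 (iv D2835) (iv F9690)
theorem F12332 : act 2 n3537 = n2744 := d14_1 D3537 (iv D2744) D2743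
theorem F12333 : act 7 n3537 = n3062 := d24_2 (iv F9692) D3537 (iv D3062)
def n3538 : Q := act 6 n2743
theorem D3538 : act 6 n2743 = n3538 := rfl
theorem F12335 : act 3 n3538 = n3538 := d20_1 D3538 (iv D3538) F9691
def n3539 : Q := act 5 n2744
theorem D3539 : act 5 n2744 = n3539 := rfl
theorem F12336 : act 1 n3539 = n2745 := d10_1 D3539 (iv D2745) (iv F9693)
theorem F12338 : act 7 n3539 = n3064 := d26_2 (iv F9695) D3539 (iv D3064)
def n3540 : Q := act 4 n2746
theorem D3540 : act 4 n2746 = n3540 := rfl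
theorem F12339 : act 0 n3540 = n2748 := d3_1 D3540 (iv D2748) (iv F9700)
theorem F12341 : act 2 n3540 = n2747 := d14_1 D3540 (iv D2747) D2746
theorem F12342 : act 7 n3540 = n3065 := d24_2 (iv F9704) D3540 (iv D3065)
def n3541 : Q := act 6 n2746
theorem D3541 : act 6 n2746 = n3541 := rfl
def n3544 : Q := act 5 n2748
theorem D3544 : act 5 n2748 = n3544 := rfl
theorem F12354 : act 1 n3544 = n2752 := d10_1 D3544 (iv D2752) (iv F9708)
def n3551 : Q := act 0 n2755
theorem D3551 : act 0 n2755 = n3551 := rfl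
theorem F12379 : act 5 n3551 = n2759 := d4_2 (iv F9733) D3551 (iv D2759)
theorem F12380 : act 6 n3551 = n2851 := d5_2 (iv F9734) D3551 (iv D2851)
def n3552 : Q := act 3 n2755
theorem D3552 : act 3 n2755 = n3552 := rfl
theorem F12381 : act 1 n3552 = n2756 := d8_1 D3552 (iv D2756) D2755
theorem F12382 : act 5 n3552 = n2760 := d19_2 (iv F9733) D3552 (iv D2760)
theorem F12383 : act 6 n3552 = n2852 := d20_2 (iv F9734) D3552 (iv D2852)
def n3553 : Q := act 4 n2756
theorem D3553 : act 4 n2756 = n3553 := rfl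
theorem F12384 : act 2 n3553 = n2766 := d14_1 D3553 (iv D2766) (iv F9735)
theorem F12385 : act 6 n3553 = n2853 := d23_2 (iv F9737) D3553 (iv D2853)
def n3554 : Q := act 0 n2757
theorem D3554 : act 0 n2757 = n3554 := rfl
theorem F12386 : act 4 n3554 = n3554 := d3_2 F9738 D3554 (iv D3554)
theorem F12387 : act 6 n3554 = n3554 := d5_2 F9739 D3554 (iv D3554)
theorem F12388 : act 7 n3554 = n2759 := d6_2 (iv F9740) D3554 (iv D2759)
def n3555 : Q := act 3 n2757
theorem D3555 : act 3 n2757 = n3555 := rfl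
theorem F12389 : act 1 n3555 = n2758 := d8_1 D3555 (iv D2758) D2757
theorem F12390 : act 6 n3555 = n3555 := d20_2 F9739 D3555 (iv D3555)
theorem F12391 : act 7 n3555 = n2760 := d21_2 (iv F9740) D3555 (iv D2760)
def n3556 : Q := act 4 n2758
theorem D3556 : act 4 n2758 = n3556 := rfl
theorem F12392 : act 2 n3556 = n2769 := d14_1 D3556 (iv D2769) (iv F9741)
theorem F12393 : act 3 n3556 = n3556 := d18_1 D3556 (iv D3556) (iv D2758) F7689 D2758
theorem F12394 : act 6 n3556 = n3556 := d23_2 F9742 D3556 (iv D3556)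
theorem F12395 : act 7 n3556 = n2761 := d24_2 (iv F9743) D3556 (iv D2761)
def n3557 : Q := act 3 n2759
theorem D3557 : act 3 n2759 = n3557 := rfl
theorem F12396 : act 0 n3557 = n2760 := d2_1 D3557 (iv D2760) D2759
theorem F12397 : act 6 n3557 = n2854 := d20_2 (iv F9745) D3557 (iv D2854)
def n3558 : Q := act 2 n2760
theorem D3558 : act 2 n2760 = n3558 := rfl
theorem F12398 : act 1 n3558 = n2771 := d7_1 D3558 (iv D2771) F7712 (iv F7694) (iv F9746)
def n3559 : Q := act 4 n2760
theorem D3559 : act 4 n2760 = n3559 := rfl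
theorem F12399 : act 1 n3559 = n2761 := d9_1 D3559 (iv D2761) (iv F9746)
theorem F12400 : act 3 n3559 = n3559 := d18_1 D3559 (iv D3559) (iv D2760) F7692 D2760
theorem F12401 : act 6 n3559 = n2856 := d23_2 (iv F9747) D3559 (iv D2856)
def n3560 : Q := act 5 n2761
theorem D3560 : act 5 n2761 = n3560 := rfl
theorem F12402 : act 2 n3560 = n2773 := d15_1 D3560 (iv D2773) (iv F9748)
theorem F12403 : act 3 n3560 = n3560 := d19_1 D3560 (iv D3560) F9749
theorem F12404 : act 6 n3560 = n2857 := d25_2 (iv F9750) D3560 (iv D2857)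
def n3561 : Q := act 0 n2762
theorem D3561 : act 0 n2762 = n3561 := rfl
theorem F12405 : act 4 n3561 = n3561 := d3_2 F9751 D3561 (iv D3561)
theorem F12406 : act 5 n3561 = n2767 := d4_2 (iv F9752) D3561 (iv D2767)
theorem F12407 : act 6 n3561 = n3076 := d5_2 (iv F9753) D3561 (iv D3076)
theorem F12408 : act 7 n3561 = n2764 := d6_2 (iv F9754) D3561 (iv D2764)
def n3562 : Q := act 3 n2762
theorem D3562 : act 3 n2762 = n3562 := rfl
theorem F12409 : act 1 n3562 = n2763 := d8_1 D3562 (iv D2763) D2762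
theorem F12410 : act 5 n3562 = n2768 := d19_2 (iv F9752) D3562 (iv D2768)
theorem F12411 : act 6 n3562 = n3077 := d20_2 (iv F9753) D3562 (iv D3077)
theorem F12412 : act 7 n3562 = n2765 := d21_2 (iv F9754) D3562 (iv D2765)
def n3563 : Q := act 4 n2763
theorem D3563 : act 4 n2763 = n3563 := rfl
theorem F12413 : act 3 n3563 = n3563 := d18_1 D3563 (iv D3563) (iv D2763) F7696 D2763
theorem F12414 : act 6 n3563 = n3078 := d23_2 (iv F9756) D3563 (iv D3078)
theorem F12415 : act 7 n3563 = n2766 := d24_2 (iv F9757) D3563 (iv D2766)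
def n3564 : Q := act 3 n2764
theorem D3564 : act 3 n2764 = n3564 := rfl
theorem F12416 : act 0 n3564 = n2765 := d2_1 D3564 (iv D2765) D2764
theorem F12417 : act 5 n3564 = n2770 := d19_2 (iv F9759) D3564 (iv D2770)
theorem F12418 : act 6 n3564 = n2782 := d20_2 (iv F9760) D3564 (iv D2782)
def n3565 : Q := act 2 n2765
theorem D3565 : act 2 n2765 = n3565 := rfl
theorem F12419 : act 5 n3565 = n2771 := d15_2 (iv F9762) D3565 (iv D2771)
def n3566 : Q := act 4 n2765
theorem D3566 : act 4 n2765 = n3566 := rfl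
theorem F12420 : act 1 n3566 = n2766 := d9_1 D3566 (iv D2766) (iv F9761)
theorem F12422 : act 6 n3566 = n2784 := d23_2 (iv F9763) D3566 (iv D2784)
def n3567 : Q := act 5 n2766
theorem D3567 : act 5 n2766 = n3567 := rfl
theorem F12423 : act 3 n3567 = n3567 := d19_1 D3567 (iv D3567) F9764
theorem F12424 : act 4 n3567 = n2773 := d22_1 D3567 (iv D2773) (iv D2152) (iv F7703) D2766
theorem F12425 : act 6 n3567 = n2785 := d25_2 (iv F9765) D3567 (iv D2785)
def n3568 : Q := act 3 n2767
theorem D3568 : act 3 n2767 = n3568 := rfl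
theorem F12426 : act 0 n3568 = n2768 := d2_1 D3568 (iv D2768) D2767
theorem F12427 : act 6 n3568 = n3083 := d20_2 (iv F9767) D3568 (iv D3083)
theorem F12428 : act 7 n3568 = n2770 := d21_2 (iv F9768) D3568 (iv D2770)
def n3569 : Q := act 2 n2768
theorem D3569 : act 2 n2768 = n3569 := rfl
theorem F12429 : act 7 n3569 = n2771 := d17_2 (iv F9771) D3569 (iv D2771)
def n3570 : Q := act 4 n2768
theorem D3570 : act 4 n2768 = n3570 := rfl
theorem F12430 : act 1 n3570 = n2769 := d9_1 D3570 (iv D2769) (iv F9769)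
theorem F12431 : act 3 n3570 = n2776 := d18_1 D3570 (iv D2776) (iv D2154) (iv F7705) D2768
theorem F12432 : act 6 n3570 = n3085 := d23_2 (iv F9770) D3570 (iv D3085)
theorem F12433 : act 7 n3570 = n2772 := d24_2 (iv F9771) D3570 (iv D2772)
def n3571 : Q := act 5 n2769
theorem D3571 : act 5 n2769 = n3571 := rfl
theorem F12434 : act 3 n3571 = n2777 := d19_1 D3571 (iv D2777) (iv F9772)
theorem F12435 : act 6 n3571 = n3086 := d25_2 (iv F9773) D3571 (iv D3086)
theorem F12436 : act 7 n3571 = n2773 := d26_2 (iv F9774) D3571 (iv D2773)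
def n3572 : Q := act 2 n2770
theorem D3572 : act 2 n2770 = n3572 := rfl
theorem F12437 : act 0 n3572 = n2771 := d1_1 D3572 (iv D2771) (iv F9775)
def n3573 : Q := act 4 n2770
theorem D3573 : act 4 n2770 = n3573 := rfl
theorem F12438 : act 0 n3573 = n2772 := d3_1 D3573 (iv D2772) (iv F9775)
theorem F12439 : act 3 n3573 = n2779 := d18_1 D3573 (iv D2779) (iv D2156) (iv F7710) D2770
theorem F12440 : act 6 n3573 = n2787 := d23_2 (iv F9776) D3573 (iv D2787)
def n3574 : Q := act 4 n2771
theorem D3574 : act 4 n2771 = n3574 := rfl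
theorem F12441 : act 2 n3574 = n2772 := d14_1 D3574 (iv D2772) D2771
def n3575 : Q := act 6 n2771
theorem D3575 : act 6 n2771 = n3575 := rfl
theorem F12442 : act 2 n3575 = n2789 := d16_1 D3575 (iv D2789) (iv D2164) (iv F7713) D2771
def n3576 : Q := act 5 n2772
theorem D3576 : act 5 n2772 = n3576 := rfl
theorem F12443 : act 1 n3576 = n2773 := d10_1 D3576 (iv D2773) (iv F9777)
theorem F12444 : act 3 n3576 = n2781 := d19_1 D3576 (iv D2781) (iv F9778)
theorem F12445 : act 6 n3576 = n2790 := d25_2 (iv F9779) D3576 (iv D2790)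
def n3577 : Q := act 2 n2774
theorem D3577 : act 2 n2774 = n3577 := rfl
theorem F12446 : act 0 n3577 = n2775 := d1_1 D3577 (iv D2775) (iv F9782)
theorem F12447 : act 5 n3577 = n3577 := d15_2 F9783 D3577 (iv D3577)
theorem F12448 : act 7 n3577 = n2778 := d17_2 (iv F9785) D3577 (iv D2778)
def n3578 : Q := act 4 n2774
theorem D3578 : act 4 n2774 = n3578 := rfl
theorem F12449 : act 0 n3578 = n2776 := d3_1 D3578 (iv D2776) (iv F9782)
theorem F12450 : act 6 n3578 = n3093 := d23_2 (iv F9784) D3578 (iv D3093)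
theorem F12451 : act 7 n3578 = n2779 := d24_2 (iv F9785) D3578 (iv D2779)
def n3579 : Q := act 4 n2775
theorem D3579 : act 4 n2775 = n3579 := rfl
theorem F12452 : act 1 n3579 = n3579 := d9_1 D3579 (iv D3579) F9786
theorem F12453 : act 2 n3579 = n2776 := d14_1 D3579 (iv D2776) D2775
theorem F12454 : act 7 n3579 = n2780 := d24_2 (iv F9788) D3579 (iv D2780)
def n3580 : Q := act 6 n2775
theorem D3580 : act 6 n2775 = n3580 := rfl
theorem F12455 : act 1 n3580 = n3580 := d11_1 D3580 (iv D3580) F9786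
theorem F12456 : act 2 n3580 = n3095 := d16_1 D3580 (iv D3095) (iv D2396) (iv F7721) D2775
theorem F12457 : act 5 n3580 = n3580 := d25_1 D3580 (iv D3580) F9787
theorem F12458 : act 7 n3580 = n3580 := d27_2 (iv F9788) D3580 (iv D3580) F9788 F7731
def n3581 : Q := act 5 n2776
theorem D3581 : act 5 n2776 = n3581 := rfl
theorem F12459 : act 1 n3581 = n2777 := d10_1 D3581 (iv D2777) (iv F9789)
theorem F12460 : act 4 n3581 = n3581 := d22_1 D3581 (iv D3581) (iv D2776) F7720 D2776
theorem F12461 : act 6 n3581 = n3096 := d25_2 (iv F9790) D3581 (iv D3096)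
theorem F12462 : act 7 n3581 = n2781 := d26_2 (iv F9791) D3581 (iv D2781)
def n3582 : Q := act 1 n2778
theorem D3582 : act 1 n2778 = n3582 := rfl
theorem F12463 : act 0 n3582 = n3582 := d0_1 D3582 (iv D3582) F9796 F7729 (iv F9796)
theorem F12464 : act 5 n3582 = n3582 := d10_2 F9797 D3582 (iv D3582)
theorem F12465 : act 6 n3582 = n3582 := d11_2 F9798 D3582 (iv D3582)
def n3583 : Q := act 4 n2778
theorem D3583 : act 4 n2778 = n3583 := rfl
theorem F12466 : act 0 n3583 = n2780 := d3_1 D3583 (iv D2780) (iv F9796)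
theorem F12467 : act 2 n3583 = n2779 := d14_1 D3583 (iv D2779) D2778
theorem F12468 : act 6 n3583 = n3583 := d23_2 F9798 D3583 (iv D3583)
def n3584 : Q := act 5 n2779
theorem D3584 : act 5 n2779 = n3584 := rfl
theorem F12469 : act 0 n3584 = n2781 := d4_1 D3584 (iv D2781) (iv F9799)
theorem F12470 : act 4 n3584 = n3584 := d22_1 D3584 (iv D3584) (iv D2779) F7727 D2779
theorem F12471 : act 6 n3584 = n2791 := d25_2 (iv F9800) D3584 (iv D2791)
def n3585 : Q := act 3 n2780
theorem D3585 : act 3 n2780 = n3585 := rfl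
theorem F12472 : act 1 n3585 = n3585 := d8_1 D3585 (iv D3585) F9801
theorem F12473 : act 6 n3585 = n3585 := d20_2 F9803 D3585 (iv D3585)
def n3586 : Q := act 5 n2780
theorem D3586 : act 5 n2780 = n3586 := rfl
theorem F12474 : act 1 n3586 = n3586 := d10_1 D3586 (iv D3586) F9801
theorem F12475 : act 2 n3586 = n2781 := d15_1 D3586 (iv D2781) (iv F9802)
theorem F12476 : act 4 n3586 = n3586 := d22_1 D3586 (iv D3586) (iv D2780) F7730 D2780
theorem F12477 : act 6 n3586 = n3586 := d25_2 F9803 D3586 (iv D3586)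
def n3587 : Q := act 2 n2782
theorem D3587 : act 2 n2782 = n3587 := rfl
theorem F12478 : act 0 n3587 = n2783 := d1_1 D3587 (iv D2783) (iv F9807)
theorem F12480 : act 5 n3587 = n2786 := d15_2 (iv F9808) D3587 (iv D2786)
theorem F12481 : act 7 n3587 = n3102 := d17_2 (iv F9809) D3587 (iv D3102)
def n3588 : Q := act 4 n2782
theorem D3588 : act 4 n2782 = n3588 := rfl
theorem F12482 : act 0 n3588 = n2784 := d3_1 D3588 (iv D2784) (iv F9807)
theorem F12484 : act 7 n3588 = n3103 := d24_2 (iv F9809) D3588 (iv D3103)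
def n3589 : Q := act 4 n2783
theorem D3589 : act 4 n2783 = n3589 := rfl
theorem F12485 : act 1 n3589 = n2874 := d9_1 D3589 (iv D2874) (iv F9810)
theorem F12486 : act 2 n3589 = n2784 := d14_1 D3589 (iv D2784) D2783
theorem F12487 : act 7 n3589 = n3104 := d24_2 (iv F9813) D3589 (iv D3104)
def n3590 : Q := act 6 n2783
theorem D3590 : act 6 n2783 = n3590 := rfl
def n3591 : Q := act 5 n2784
theorem D3591 : act 5 n2784 = n3591 := rfl
theorem F12491 : act 1 n3591 = n2785 := d10_1 D3591 (iv D2785) (iv F9814)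
def n3592 : Q := act 1 n2786
theorem D3592 : act 1 n2786 = n3592 := rfl
theorem F12495 : act 0 n3592 = n2877 := d0_1 D3592 (iv D2877) F7987 (iv F7749) (iv F9821)
theorem F12496 : act 3 n3592 = n2796 := d8_2 (iv F9822) D3592 (iv D2796)
theorem F12497 : act 7 n3592 = n3107 := d12_2 (iv F9823) D3592 (iv D3107)
def n3593 : Q := act 4 n2786
theorem D3593 : act 4 n2786 = n3593 := rfl
theorem F12498 : act 0 n3593 = n2788 := d3_1 D3593 (iv D2788) (iv F9821)
theorem F12499 : act 2 n3593 = n2787 := d14_1 D3593 (iv D2787) D2786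
theorem F12500 : act 3 n3593 = n3593 := d18_1 D3593 (iv D3593) F9822 F7777 (iv F9822)
theorem F12501 : act 7 n3593 = n3108 := d24_2 (iv F9823) D3593 (iv D3108)
def n3594 : Q := act 6 n2786
theorem D3594 : act 6 n2786 = n3594 := rfl
theorem F12502 : act 0 n3594 = n2789 := d5_1 D3594 (iv D2789) (iv F9821)
theorem F12503 : act 3 n3594 = n2797 := d20_1 D3594 (iv D2797) (iv F9822)
def n3595 : Q := act 5 n2787
theorem D3595 : act 5 n2787 = n3595 := rfl
theorem F12504 : act 0 n3595 = n2790 := d4_1 D3595 (iv D2790) (iv F9824)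
def n3596 : Q := act 5 n2788
theorem D3596 : act 5 n2788 = n3596 := rfl
theorem F12507 : act 1 n3596 = n2881 := d10_1 D3596 (iv D2881) (iv F9827)
theorem F12508 : act 2 n3596 = n2790 := d15_1 D3596 (iv D2790) (iv F9828)
theorem F12510 : act 7 n3596 = n3111 := d26_2 (iv F9830) D3596 (iv D3111)
def n3597 : Q := act 6 n2788
theorem D3597 : act 6 n2788 = n3597 := rfl
theorem F12511 : act 1 n3597 = n2882 := d11_1 D3597 (iv D2882) (iv F9827)
theorem F12512 : act 3 n3597 = n3597 := d20_1 D3597 (iv D3597) F9829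
theorem F12513 : act 4 n3597 = n2789 := d23_1 D3597 (iv D2789) D2788
def n3598 : Q := act 7 n2789
theorem D3598 : act 7 n2789 = n3598 := rfl
theorem F12514 : act 1 n3598 = n2883 := d12_1 D3598 (iv D2883) (iv F9831)
theorem F12515 : act 3 n3598 = n2798 := d21_1 D3598 (iv D2798) (iv F9832)
theorem F12516 : act 6 n3598 = n3113 := d27_1 D3598 (iv D3113) (iv D2410) (iv F7751) D2789
def n3599 : Q := act 1 n2792
theorem D3599 : act 1 n2792 = n3599 := rfl
theorem F12517 : act 0 n3599 = n2884 := d0_1 D3599 (iv D2884) F8004 (iv F7769) (iv F9840)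
def n3600 : Q := act 4 n2792
theorem D3600 : act 4 n2792 = n3600 := rfl
theorem F12521 : act 0 n3600 = n2794 := d3_1 D3600 (iv D2794) (iv F9840)
theorem F12522 : act 2 n3600 = n2793 := d14_1 D3600 (iv D2793) D2792
def n3601 : Q := act 6 n2792
theorem D3601 : act 6 n2792 = n3601 := rfl
theorem F12526 : act 5 n3601 = n2797 := d25_1 D3601 (iv D2797) (iv F9841)
def n3602 : Q := act 3 n2794
theorem D3602 : act 3 n2794 = n3602 := rfl
theorem F12527 : act 1 n3602 = n2887 := d8_1 D3602 (iv D2887) (iv F9848)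
def n3603 : Q := act 6 n2794
theorem D3603 : act 6 n2794 = n3603 := rfl
def n3604 : Q := act 7 n2795
theorem D3604 : act 7 n2795 = n3604 := rfl
theorem F12535 : act 5 n3604 = n2798 := d26_1 D3604 (iv D2798) (iv F9853)
def n3605 : Q := act 6 n2796
theorem D3605 : act 6 n2796 = n3605 := rfl
theorem F12538 : act 1 n3605 = n2797 := d11_1 D3605 (iv D2797) D2796
def n3606 : Q := act 7 n2797
theorem D3606 : act 7 n2797 = n3606 := rfl
theorem F12540 : act 0 n3606 = n2798 := d6_1 D3606 (iv D2798) (iv F9858)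
theorem F12541 : act 4 n3606 = n3606 := d24_1 D3606 (iv D3606) F9859
theorem F12542 : act 6 n3606 = n3121 := d27_1 D3606 (iv D3121) (iv D2418) (iv F7778) D2797
def n3607 : Q := act 1 n2799
theorem D3607 : act 1 n2799 = n3607 := rfl
theorem F12543 : act 2 n3607 = n3035 := d7_2 D2799 D3607 (iv D3035) (iv D2352) (iv F7782)
theorem F12544 : act 4 n3607 = n3607 := d9_2 F9864 D3607 (iv D3607)
theorem F12545 : act 5 n3607 = n3021 := d10_2 (iv F9865) D3607 (iv D3021)
theorem F12546 : act 6 n3607 = n2801 := d11_2 (iv F9866) D3607 (iv D2801)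
theorem F12547 : act 7 n3607 = n3019 := d12_2 (iv F9867) D3607 (iv D3019)
def n3608 : Q := act 3 n2799
theorem D3608 : act 3 n2799 = n3608 := rfl
theorem F12548 : act 0 n3608 = n3608 := d2_1 D3608 (iv D3608) F9863
theorem F12549 : act 2 n3608 = n3608 := d13_1 D3608 (iv D3608) (iv D2799) F7783 D2799
theorem F12550 : act 5 n3608 = n3022 := d19_2 (iv F9865) D3608 (iv D3022)
theorem F12551 : act 6 n3608 = n2802 := d20_2 (iv F9866) D3608 (iv D2802)
theorem F12552 : act 7 n3608 = n3020 := d21_2 (iv F9867) D3608 (iv D3020)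
def n3609 : Q := act 1 n2800
theorem D3609 : act 1 n2800 = n3609 := rfl
theorem F12553 : act 2 n3609 = n2812 := d7_2 D2800 D3609 (iv D2812) (iv D2183) (iv F7788)
theorem F12554 : act 4 n3609 = n3026 := d9_2 (iv F9869) D3609 (iv D3026)
theorem F12555 : act 5 n3609 = n2801 := d10_2 (iv F9870) D3609 (iv D2801)
theorem F12556 : act 6 n3609 = n3021 := d11_2 (iv F9871) D3609 (iv D3021)
theorem F12557 : act 7 n3609 = n3609 := d12_2 F9872 D3609 (iv D3609)
def n3610 : Q := act 3 n2800
theorem D3610 : act 3 n2800 = n3610 := rfl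
theorem F12558 : act 0 n3610 = n3610 := d2_1 D3610 (iv D3610) F9868
theorem F12559 : act 2 n3610 = n2804 := d13_1 D3610 (iv D2804) (iv D2177) (iv F7789) D2800
theorem F12560 : act 5 n3610 = n2802 := d19_2 (iv F9870) D3610 (iv D2802)
theorem F12561 : act 6 n3610 = n3022 := d20_2 (iv F9871) D3610 (iv D3022)
theorem F12562 : act 7 n3610 = n3610 := d21_2 F9872 D3610 (iv D3610)
def n3611 : Q := act 0 n2801
theorem D3611 : act 0 n2801 = n3611 := rfl
theorem F12563 : act 1 n3611 = n3611 := d0_2 D2801 D3611 (iv D3611) (iv D2801) F7793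
theorem F12564 : act 2 n3611 = n2814 := d1_2 (iv F9873) D3611 (iv D2814)
theorem F12565 : act 4 n3611 = n3611 := d3_2 F9874 D3611 (iv D3611)
theorem F12566 : act 7 n3611 = n3611 := d6_2 F9875 D3611 (iv D3611)
def n3612 : Q := act 3 n2801
theorem D3612 : act 3 n2801 = n3612 := rfl
theorem F12567 : act 1 n3612 = n2802 := d8_1 D3612 (iv D2802) D2801
theorem F12568 : act 7 n3612 = n3612 := d21_2 F9875 D3612 (iv D3612)
def n3613 : Q := act 4 n2802
theorem D3613 : act 4 n2802 = n3613 := rfl
theorem F12569 : act 0 n3613 = n3613 := d3_1 D3613 (iv D3613) F9876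
theorem F12570 : act 2 n3613 = n2807 := d14_1 D3613 (iv D2807) (iv F9877)
theorem F12571 : act 3 n3613 = n3613 := d18_1 D3613 (iv D3613) (iv D2802) F7794 D2802
theorem F12572 : act 7 n3613 = n3613 := d24_2 F9878 D3613 (iv D3613)
def n3614 : Q := act 0 n2803
theorem D3614 : act 0 n2803 = n3614 := rfl
theorem F12576 : act 5 n3614 = n2805 := d4_2 (iv F9881) D3614 (iv D2805)
def n3615 : Q := act 3 n2803
theorem D3615 : act 3 n2803 = n3615 := rfl
theorem F12579 : act 1 n3615 = n2804 := d8_1 D3615 (iv D2804) D2803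
theorem F12580 : act 5 n3615 = n2806 := d19_2 (iv F9881) D3615 (iv D2806)
theorem F12581 : act 6 n3615 = n3615 := d20_2 F9882 D3615 (iv D3615)
theorem F12582 : act 7 n3615 = n3615 := d21_2 F9883 D3615 (iv D3615)
def n3616 : Q := act 4 n2804
theorem D3616 : act 4 n2804 = n3616 := rfl
theorem F12584 : act 3 n3616 = n2904 := d18_1 D3616 (iv D2904) (iv D2253) (iv F7797) D2804
def n3617 : Q := act 3 n2805
theorem D3617 : act 3 n2805 = n3617 := rfl
theorem F12587 : act 0 n3617 = n2806 := d2_1 D3617 (iv D2806) D2805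
theorem F12588 : act 1 n3617 = n3617 := d8_1 D3617 (iv D3617) F9888
theorem F12589 : act 6 n3617 = n3617 := d20_2 F9891 D3617 (iv D3617)
theorem F12590 : act 7 n3617 = n3617 := d21_2 F9892 D3617 (iv D3617)
def n3618 : Q := act 2 n2806
theorem D3618 : act 2 n2806 = n3618 := rfl
theorem F12591 : act 3 n3618 = n2821 := d13_2 D2806 D3618 (iv D2821) (iv D2189) (iv F7801)
theorem F12592 : act 7 n3618 = n3618 := d17_2 F9895 D3618 (iv D3618)
def n3619 : Q := act 4 n2806
theorem D3619 : act 4 n2806 = n3619 := rfl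
theorem F12594 : act 3 n3619 = n2810 := d18_1 D3619 (iv D2810) (iv D2181) (iv F7802) D2806
def n3620 : Q := act 5 n2807
theorem D3620 : act 5 n2807 = n3620 := rfl
theorem F12598 : act 3 n3620 = n2811 := d19_1 D3620 (iv D2811) (iv F9897)
def n3621 : Q := act 2 n2808
theorem D3621 : act 2 n2808 = n3621 := rfl
theorem F12601 : act 0 n3621 = n2809 := d1_1 D3621 (iv D2809) (iv F9900)
theorem F12603 : act 5 n3621 = n2909 := d15_2 (iv F9902) D3621 (iv D2909)
def n3623 : Q := act 4 n2809
theorem D3623 : act 4 n2809 = n3623 := rfl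
theorem F12610 : act 2 n3623 = n2810 := d14_1 D3623 (iv D2810) D2809
def n3624 : Q := act 6 n2809
theorem D3624 : act 6 n2809 = n3624 := rfl
theorem F12615 : act 5 n3624 = n2912 := d25_1 D3624 (iv D2912) (iv F9907)
def n3625 : Q := act 5 n2810
theorem D3625 : act 5 n2810 = n3625 := rfl
theorem F12616 : act 1 n3625 = n2811 := d10_1 D3625 (iv D2811) (iv F9909)
def n3626 : Q := act 0 n2812
theorem D3626 : act 0 n2812 = n3626 := rfl
theorem F12620 : act 1 n3626 = n2851 := d0_2 D2812 D3626 (iv D2851) (iv D2212) (iv F7821)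
theorem F12621 : act 5 n3626 = n2814 := d4_2 (iv F9917) D3626 (iv D2814)
theorem F12622 : act 7 n3626 = n3626 := d6_2 F9918 D3626 (iv D3626)
def n3627 : Q := act 3 n2812
theorem D3627 : act 3 n2812 = n3627 := rfl
theorem F12623 : act 1 n3627 = n2813 := d8_1 D3627 (iv D2813) D2812
theorem F12624 : act 5 n3627 = n2815 := d19_2 (iv F9917) D3627 (iv D2815)
theorem F12625 : act 7 n3627 = n3627 := d21_2 F9918 D3627 (iv D3627)
def n3628 : Q := act 4 n2813
theorem D3628 : act 4 n2813 = n3628 := rfl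
theorem F12626 : act 0 n3628 = n2853 := d3_1 D3628 (iv D2853) (iv F9919)
theorem F12627 : act 2 n3628 = n2819 := d14_1 D3628 (iv D2819) (iv F9920)
theorem F12628 : act 7 n3628 = n3628 := d24_2 F9922 D3628 (iv D3628)
def n3629 : Q := act 3 n2814
theorem D3629 : act 3 n2814 = n3629 := rfl
theorem F12629 : act 0 n3629 = n2815 := d2_1 D3629 (iv D2815) D2814
theorem F12630 : act 1 n3629 = n2854 := d8_1 D3629 (iv D2854) (iv F9923)
theorem F12631 : act 7 n3629 = n3629 := d21_2 F9925 D3629 (iv D3629)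
def n3630 : Q := act 2 n2815
theorem D3630 : act 2 n2815 = n3630 := rfl
theorem F12632 : act 1 n3630 = n2821 := d7_1 D3630 (iv D2821) F7841 (iv F7827) (iv F9926)
theorem F12633 : act 7 n3630 = n3630 := d17_2 F9927 D3630 (iv D3630)
def n3631 : Q := act 4 n2815
theorem D3631 : act 4 n2815 = n3631 := rfl
theorem F12634 : act 1 n3631 = n2816 := d9_1 D3631 (iv D2816) (iv F9926)
theorem F12635 : act 3 n3631 = n3631 := d18_1 D3631 (iv D3631) (iv D2815) F7824 D2815
theorem F12636 : act 7 n3631 = n3631 := d24_2 F9927 D3631 (iv D3631)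
def n3632 : Q := act 5 n2816
theorem D3632 : act 5 n2816 = n3632 := rfl
theorem F12638 : act 2 n3632 = n2823 := d15_1 D3632 (iv D2823) (iv F9929)
def n3634 : Q := act 2 n2818
theorem D3634 : act 2 n2818 = n3634 := rfl
theorem F12646 : act 5 n3634 = n2821 := d15_2 (iv F9938) D3634 (iv D2821)
theorem F12647 : act 7 n3634 = n3634 := d17_2 F9940 D3634 (iv D3634)
def n3635 : Q := act 4 n2818
theorem D3635 : act 4 n2818 = n3635 := rfl
theorem F12648 : act 1 n3635 = n2819 := d9_1 D3635 (iv D2819) (iv F9937)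
theorem F12649 : act 3 n3635 = n2925 := d18_1 D3635 (iv D2925) (iv D2268) (iv F7829) D2818
def n3636 : Q := act 5 n2819
theorem D3636 : act 5 n2819 = n3636 := rfl
theorem F12652 : act 0 n3636 = n2861 := d4_1 D3636 (iv D2861) (iv F9941)
theorem F12655 : act 6 n3636 = n2832 := d25_2 (iv F9943) D3636 (iv D2832)
def n3637 : Q := act 2 n2820
theorem D3637 : act 2 n2820 = n3637 := rfl
def n3638 : Q := act 4 n2820
theorem D3638 : act 4 n2820 = n3638 := rfl
theorem F12661 : act 3 n3638 = n2825 := d18_1 D3638 (iv D2825) (iv D2191) (iv F7838) D2820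
theorem F12662 : act 6 n3638 = n2834 := d23_2 (iv F9947) D3638 (iv D2834)
def n3639 : Q := act 4 n2821
theorem D3639 : act 4 n2821 = n3639 := rfl
theorem F12664 : act 2 n3639 = n2822 := d14_1 D3639 (iv D2822) D2821
def n3640 : Q := act 6 n2821
theorem D3640 : act 6 n2821 = n3640 := rfl
def n3641 : Q := act 5 n2822
theorem D3641 : act 5 n2822 = n3641 := rfl
theorem F12668 : act 3 n3641 = n2828 := d19_1 D3641 (iv D2828) (iv F9951)
def n3650 : Q := act 2 n2829
theorem D3650 : act 2 n2829 = n3650 := rfl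
theorem F12699 : act 0 n3650 = n2830 := d1_1 D3650 (iv D2830) (iv F9975)
theorem F12701 : act 5 n3650 = n2833 := d15_2 (iv F9977) D3650 (iv D2833)
def n3651 : Q := act 4 n2829
theorem D3651 : act 4 n2829 = n3651 := rfl
theorem F12705 : act 3 n3651 = n2941 := d18_1 D3651 (iv D2941) (iv D2279) (iv F7866) D2829
def n3652 : Q := act 4 n2830
theorem D3652 : act 4 n2830 = n3652 := rfl
theorem F12707 : act 2 n3652 = n2831 := d14_1 D3652 (iv D2831) D2830
def n3654 : Q := act 5 n2831
theorem D3654 : act 5 n2831 = n3654 := rfl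
theorem F12712 : act 3 n3654 = n2944 := d19_1 D3654 (iv D2944) (iv F9983)
theorem F12713 : act 4 n3654 = n2837 := d22_1 D3654 (iv D2837) (iv D2200) (iv F7870) D2831
def n3655 : Q := act 1 n2833
theorem D3655 : act 1 n2833 = n3655 := rfl
theorem F12717 : act 7 n3655 = n3127 := d12_2 (iv F9991) D3655 (iv D3127)
def n3656 : Q := act 4 n2833
theorem D3656 : act 4 n2833 = n3656 := rfl
theorem F12719 : act 2 n3656 = n2834 := d14_1 D3656 (iv D2834) D2833
def n3658 : Q := act 5 n2834
theorem D3658 : act 5 n2834 = n3658 := rfl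
theorem F12725 : act 3 n3658 = n2840 := d19_1 D3658 (iv D2840) (iv F9994)
def n3660 : Q := act 5 n2835
theorem D3660 : act 5 n2835 = n3660 := rfl
theorem F12730 : act 2 n3660 = n2837 := d15_1 D3660 (iv D2837) (iv F9996)
theorem F12731 : act 7 n3660 = n3132 := d26_2 (iv F9997) D3660 (iv D3132)
def n3663 : Q := act 3 n2838
theorem D3663 : act 3 n2838 = n3663 := rfl
theorem F12738 : act 7 n3663 = n3135 := d21_2 (iv F10005) D3663 (iv D3135)
def n3664 : Q := act 5 n2838
theorem D3664 : act 5 n2838 = n3664 := rfl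
theorem F12742 : act 4 n3664 = n2954 := d22_1 D3664 (iv D2954) (iv D2288) (iv F7889) D2838
def n3667 : Q := act 5 n2841
theorem D3667 : act 5 n2841 = n3667 := rfl
theorem F12753 : act 3 n3667 = n2842 := d19_1 D3667 (iv D2842) D2841
theorem F12754 : act 7 n3667 = n3139 := d26_2 (iv F10016) D3667 (iv D3139)
def n3676 : Q := act 0 n2849
theorem D3676 : act 0 n2849 = n3676 := rfl
theorem F12783 : act 2 n3676 = n3676 := d1_2 F10041 D3676 (iv D3676)
theorem F12784 : act 4 n3676 = n2851 := d3_2 (iv F10042) D3676 (iv D2851)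
theorem F12785 : act 5 n3676 = n3676 := d4_2 F10043 D3676 (iv D3676)
theorem F12786 : act 7 n3676 = n3676 := d6_2 F10044 D3676 (iv D3676)
def n3677 : Q := act 3 n2849
theorem D3677 : act 3 n2849 = n3677 := rfl
theorem F12787 : act 1 n3677 = n2850 := d8_1 D3677 (iv D2850) D2849
theorem F12788 : act 5 n3677 = n3677 := d19_2 F10043 D3677 (iv D3677)
theorem F12789 : act 7 n3677 = n3677 := d21_2 F10044 D3677 (iv D3677)
def n3678 : Q := act 4 n2850
theorem D3678 : act 4 n2850 = n3678 := rfl
theorem F12790 : act 2 n3678 = n2968 := d14_1 D3678 (iv D2968) (iv F10045)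
def n3679 : Q := act 3 n2851
theorem D3679 : act 3 n2851 = n3679 := rfl
theorem F12793 : act 0 n3679 = n2852 := d2_1 D3679 (iv D2852) D2851
theorem F12794 : act 5 n3679 = n2854 := d19_2 (iv F10049) D3679 (iv D2854)
theorem F12795 : act 7 n3679 = n3679 := d21_2 F10050 D3679 (iv D3679)
def n3680 : Q := act 2 n2852
theorem D3680 : act 2 n2852 = n3680 := rfl
theorem F12796 : act 1 n3680 = n2859 := d7_1 D3680 (iv D2859) F7940 (iv F7924) (iv F10051)
theorem F12798 : act 5 n3680 = n2855 := d15_2 (iv F10052) D3680 (iv D2855)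
def n3681 : Q := act 4 n2852
theorem D3681 : act 4 n2852 = n3681 := rfl
theorem F12800 : act 1 n3681 = n2853 := d9_1 D3681 (iv D2853) (iv F10051)
def n3682 : Q := act 5 n2853
theorem D3682 : act 5 n2853 = n3682 := rfl
theorem F12802 : act 2 n3682 = n2861 := d15_1 D3682 (iv D2861) (iv F10054)
theorem F12803 : act 4 n3682 = n2857 := d22_1 D3682 (iv D2857) (iv D2216) (iv F7925) D2853
def n3683 : Q := act 2 n2854
theorem D3683 : act 2 n2854 = n3683 := rfl
theorem F12805 : act 0 n3683 = n2855 := d1_1 D3683 (iv D2855) (iv F10056)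
theorem F12806 : act 3 n3683 = n3683 := d13_2 D2854 D3683 (iv D3683) (iv D2854) F7927
theorem F12807 : act 7 n3683 = n3683 := d17_2 F10057 D3683 (iv D3683)
def n3684 : Q := act 4 n2854
theorem D3684 : act 4 n2854 = n3684 := rfl
theorem F12808 : act 0 n3684 = n2856 := d3_1 D3684 (iv D2856) (iv F10056)
theorem F12809 : act 3 n3684 = n3684 := d18_1 D3684 (iv D3684) (iv D2854) F7928 D2854
theorem F12810 : act 7 n3684 = n3684 := d24_2 F10057 D3684 (iv D3684)
def n3685 : Q := act 4 n2855
theorem D3685 : act 4 n2855 = n3685 := rfl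
theorem F12811 : act 1 n3685 = n2864 := d9_1 D3685 (iv D2864) (iv F10058)
theorem F12812 : act 2 n3685 = n2856 := d14_1 D3685 (iv D2856) D2855
theorem F12813 : act 7 n3685 = n3685 := d24_2 F10060 D3685 (iv D3685)
def n3686 : Q := act 6 n2855
theorem D3686 : act 6 n2855 = n3686 := rfl
theorem F12814 : act 1 n3686 = n2865 := d11_1 D3686 (iv D2865) (iv F10058)
theorem F12815 : act 3 n3686 = n3686 := d20_1 D3686 (iv D3686) F10059
def n3687 : Q := act 5 n2856
theorem D3687 : act 5 n2856 = n3687 := rfl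
theorem F12816 : act 1 n3687 = n2857 := d10_1 D3687 (iv D2857) (iv F10061)
theorem F12817 : act 3 n3687 = n3687 := d19_1 D3687 (iv D3687) F10062
theorem F12818 : act 7 n3687 = n3687 := d26_2 F10063 D3687 (iv D3687)
def n3688 : Q := act 2 n2858
theorem D3688 : act 2 n2858 = n3688 := rfl
theorem F12819 : act 0 n3688 = n2859 := d1_1 D3688 (iv D2859) (iv F10067)
theorem F12821 : act 5 n3688 = n2862 := d15_2 (iv F10068) D3688 (iv D2862)
def n3689 : Q := act 4 n2858
theorem D3689 : act 4 n2858 = n3689 := rfl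
theorem F12824 : act 3 n3689 = n2979 := d18_1 D3689 (iv D2979) (iv D2308) (iv F7936) D2858
def n3690 : Q := act 4 n2859
theorem D3690 : act 4 n2859 = n3690 := rfl
theorem F12827 : act 2 n3690 = n2860 := d14_1 D3690 (iv D2860) D2859
def n3691 : Q := act 6 n2859
theorem D3691 : act 6 n2859 = n3691 := rfl
theorem F12829 : act 2 n3691 = n2875 := d16_1 D3691 (iv D2875) (iv D2229) (iv F7942) D2859
theorem F12831 : act 5 n3691 = n2865 := d25_1 D3691 (iv D2865) (iv F10072)
def n3692 : Q := act 5 n2860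
theorem D3692 : act 5 n2860 = n3692 := rfl
theorem F12833 : act 3 n3692 = n2982 := d19_1 D3692 (iv D2982) (iv F10075)
def n3693 : Q := act 1 n2862
theorem D3693 : act 1 n2862 = n3693 := rfl
def n3694 : Q := act 4 n2862
theorem D3694 : act 4 n2862 = n3694 := rfl
theorem F12840 : act 2 n3694 = n2863 := d14_1 D3694 (iv D2863) D2862
def n3695 : Q := act 6 n2862
theorem D3695 : act 6 n2862 = n3695 := rfl
theorem F12842 : act 0 n3695 = n2865 := d5_1 D3695 (iv D2865) (iv F10082)
theorem F12843 : act 2 n3695 = n2879 := d16_1 D3695 (iv D2879) (iv D2232) (iv F7948) D2862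
def n3697 : Q := act 3 n2864
theorem D3697 : act 3 n2864 = n3697 := rfl
theorem F12849 : act 2 n3697 = n2870 := d13_1 D3697 (iv D2870) F7968 (iv F7953) (iv F10089)
theorem F12850 : act 4 n3697 = n3697 := d18_2 D2864 D3697 (iv D3697) (iv D2864) F7950
theorem F12851 : act 7 n3697 = n3697 := d21_2 F10090 D3697 (iv D3697)
def n3698 : Q := act 5 n2864
theorem D3698 : act 5 n2864 = n3698 := rfl
theorem F12852 : act 2 n3698 = n2866 := d15_1 D3698 (iv D2866) (iv F10089)
def n3699 : Q := act 6 n2864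
theorem D3699 : act 6 n2864 = n3699 := rfl
theorem F12854 : act 2 n3699 = n2882 := d16_1 D3699 (iv D2882) F7993 (iv F7954) (iv F10089)
theorem F12855 : act 4 n3699 = n2865 := d23_1 D3699 (iv D2865) D2864
def n3700 : Q := act 7 n2865
theorem D3700 : act 7 n2865 = n3700 := rfl
theorem F12856 : act 2 n3700 = n2883 := d17_1 D3700 (iv D2883) (iv F10091)
theorem F12857 : act 3 n3700 = n3700 := d21_1 D3700 (iv D3700) F10092
theorem F12858 : act 6 n3700 = n3700 := d27_1 D3700 (iv D3700) (iv D2865) F7951 D2865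
def n3701 : Q := act 4 n2867
theorem D3701 : act 4 n2867 = n3701 := rfl
theorem F12860 : act 1 n3701 = n2868 := d9_1 D3701 (iv D2868) D2867
def n3702 : Q := act 3 n2868
theorem D3702 : act 3 n2868 = n3702 := rfl
theorem F12863 : act 0 n3702 = n2870 := d2_1 D3702 (iv D2870) (iv F10102)
def n3703 : Q := act 5 n2868
theorem D3703 : act 5 n2868 = n3703 := rfl
theorem F12867 : act 0 n3703 = n2871 := d4_1 D3703 (iv D2871) (iv F10102)
theorem F12869 : act 4 n3703 = n2993 := d22_1 D3703 (iv D2993) (iv D2318) (iv F7961) D2868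
def n3704 : Q := act 5 n2870
theorem D3704 : act 5 n2870 = n3704 := rfl
def n3705 : Q := act 1 n2872
theorem D3705 : act 1 n2872 = n3705 := rfl
theorem F12876 : act 3 n3705 = n2884 := d8_2 (iv F10120) D3705 (iv D2884)
theorem F12878 : act 7 n3705 = n3148 := d12_2 (iv F10122) D3705 (iv D3148)
def n3706 : Q := act 4 n2872
theorem D3706 : act 4 n2872 = n3706 := rfl
theorem F12880 : act 2 n3706 = n2873 := d14_1 D3706 (iv D2873) D2872
theorem F12881 : act 7 n3706 = n3149 := d24_2 (iv F10122) D3706 (iv D3149)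
def n3707 : Q := act 6 n2872
theorem D3707 : act 6 n2872 = n3707 := rfl
def n3708 : Q := act 5 n2873
theorem D3708 : act 5 n2873 = n3708 := rfl
theorem F12886 : act 3 n3708 = n2998 := d19_1 D3708 (iv D2998) (iv F10124)
theorem F12887 : act 4 n3708 = n2880 := d22_1 D3708 (iv D2880) (iv D2233) (iv F7976) D2873
theorem F12888 : act 7 n3708 = n3151 := d26_2 (iv F10125) D3708 (iv D3151)
def n3710 : Q := act 5 n2874
theorem D3710 : act 5 n2874 = n3710 := rfl
def n3711 : Q := act 6 n2874
theorem D3711 : act 6 n2874 = n3711 := rfl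
def n3713 : Q := act 4 n2877
theorem D3713 : act 4 n2877 = n3713 := rfl
theorem F12899 : act 1 n3713 = n2878 := d9_1 D3713 (iv D2878) D2877
theorem F12901 : act 7 n3713 = n3156 := d24_2 (iv F10135) D3713 (iv D3156)
def n3714 : Q := act 6 n2877
theorem D3714 : act 6 n2877 = n3714 := rfl
theorem F12902 : act 1 n3714 = n2879 := d11_1 D3714 (iv D2879) D2877
def n3715 : Q := act 5 n2878
theorem D3715 : act 5 n2878 = n3715 := rfl
theorem F12905 : act 2 n3715 = n2880 := d15_1 D3715 (iv D2880) (iv F10137)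
def n3716 : Q := act 6 n2878
theorem D3716 : act 6 n2878 = n3716 := rfl
def n3718 : Q := act 6 n2881
theorem D3718 : act 6 n2881 = n3718 := rfl
theorem F12915 : act 5 n3718 = n2882 := d25_1 D3718 (iv D2882) D2881
def n3719 : Q := act 7 n2882
theorem D3719 : act 7 n2882 = n3719 := rfl
theorem F12916 : act 3 n3719 = n3719 := d21_1 D3719 (iv D3719) F10148
theorem F12917 : act 4 n3719 = n2883 := d24_1 D3719 (iv D2883) (iv F10149)
theorem F12918 : act 6 n3719 = n3162 := d27_1 D3719 (iv D3162) (iv D2450) (iv F7995) D2882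
def n3721 : Q := act 6 n2884
theorem D3721 : act 6 n2884 = n3721 := rfl
def n3722 : Q := act 3 n2885
theorem D3722 : act 3 n2885 = n3722 := rfl
theorem F12925 : act 0 n3722 = n2887 := d2_1 D3722 (iv D2887) (iv F10155)
def n3725 : Q := act 6 n2887
theorem D3725 : act 6 n2887 = n3725 := rfl
theorem F12937 : act 3 n3725 = n2888 := d20_1 D3725 (iv D2888) D2887
def n3726 : Q := act 7 n2888
theorem D3726 : act 7 n2888 = n3726 := rfl
theorem F12942 : act 6 n3726 = n3169 := d27_1 D3726 (iv D3169) (iv D2456) (iv F8015) D2888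
def n3737 : Q := act 3 n2896
theorem D3737 : act 3 n2896 = n3737 := rfl
theorem F12985 : act 2 n3737 = n3027 := d13_1 D3737 (iv D3027) (iv D2346) (iv F8044) D2896
def n3741 : Q := act 3 n2899
theorem D3741 : act 3 n2899 = n3741 := rfl
theorem F12999 : act 0 n3741 = n2900 := d2_1 D3741 (iv D2900) D2899
def n3742 : Q := act 2 n2900
theorem D3742 : act 2 n2900 = n3742 := rfl
theorem F13002 : act 1 n3742 = n2906 := d7_1 D3742 (iv D2906) F8070 (iv F8055) (iv F10209)
theorem F13003 : act 3 n3742 = n2920 := d13_2 D2900 D3742 (iv D2920) (iv D2265) (iv F8051)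
def n3745 : Q := act 3 n2902
theorem D3745 : act 3 n2902 = n3745 := rfl
theorem F13012 : act 0 n3745 = n2903 := d2_1 D3745 (iv D2903) D2902
theorem F13014 : act 5 n3745 = n2905 := d19_2 (iv F10217) D3745 (iv D2905)
def n3746 : Q := act 2 n2903
theorem D3746 : act 2 n2903 = n3746 := rfl
theorem F13017 : act 3 n3746 = n2924 := d13_2 D2903 D3746 (iv D2924) (iv D2268) (iv F8057)
theorem F13018 : act 5 n3746 = n2906 := d15_2 (iv F10221) D3746 (iv D2906)
def n3747 : Q := act 4 n2903
theorem D3747 : act 4 n2903 = n3747 := rfl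
theorem F13020 : act 1 n3747 = n2904 := d9_1 D3747 (iv D2904) (iv F10220)
def n3749 : Q := act 2 n2905
theorem D3749 : act 2 n2905 = n3749 := rfl
theorem F13027 : act 0 n3749 = n2906 := d1_1 D3749 (iv D2906) (iv F10227)
theorem F13028 : act 3 n3749 = n2927 := d13_2 D2905 D3749 (iv D2927) (iv D2270) (iv F8066)
def n3750 : Q := act 4 n2905
theorem D3750 : act 4 n2905 = n3750 := rfl
theorem F13032 : act 3 n3750 = n2910 := d18_1 D3750 (iv D2910) (iv D2257) (iv F8067) D2905
def n3751 : Q := act 4 n2906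
theorem D3751 : act 4 n2906 = n3751 := rfl
theorem F13035 : act 2 n3751 = n2907 := d14_1 D3751 (iv D2907) D2906
def n3752 : Q := act 6 n2906
theorem D3752 : act 6 n2906 = n3752 := rfl
theorem F13038 : act 3 n3752 = n2930 := d20_1 D3752 (iv D2930) (iv F10231)
def n3754 : Q := act 1 n2909
theorem D3754 : act 1 n2909 = n3754 := rfl
theorem F13045 : act 3 n3754 = n2932 := d8_2 (iv F10242) D3754 (iv D2932)
def n3755 : Q := act 4 n2909
theorem D3755 : act 4 n2909 = n3755 := rfl
theorem F13047 : act 0 n3755 = n2911 := d3_1 D3755 (iv D2911) (iv F10241)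
theorem F13048 : act 2 n3755 = n2910 := d14_1 D3755 (iv D2910) D2909
def n3756 : Q := act 6 n2909
theorem D3756 : act 6 n2909 = n3756 := rfl
theorem F13050 : act 0 n3756 = n2912 := d5_1 D3756 (iv D2912) (iv F10241)
def n3757 : Q := act 5 n2910
theorem D3757 : act 5 n2910 = n3757 := rfl
def n3758 : Q := act 3 n2911
theorem D3758 : act 3 n2911 = n3758 := rfl
def n3759 : Q := act 5 n2911
theorem D3759 : act 5 n2911 = n3759 := rfl
def n3760 : Q := act 6 n2911
theorem D3760 : act 6 n2911 = n3760 := rfl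
def n3761 : Q := act 7 n2912
theorem D3761 : act 7 n2912 = n3761 := rfl
def n3763 : Q := act 3 n2914
theorem D3763 : act 3 n2914 = n3763 := rfl
theorem F13075 : act 1 n3763 = n2915 := d8_1 D3763 (iv D2915) D2914
def n3764 : Q := act 4 n2915
theorem D3764 : act 4 n2915 = n3764 := rfl
theorem F13079 : act 0 n3764 = n2968 := d3_1 D3764 (iv D2968) (iv F10261)
theorem F13080 : act 3 n3764 = n2918 := d18_1 D3764 (iv D2918) (iv D2263) (iv F8092) D2915
def n3765 : Q := act 3 n2916
theorem D3765 : act 3 n2916 = n3765 := rfl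
theorem F13083 : act 0 n3765 = n2917 := d2_1 D3765 (iv D2917) D2916
theorem F13084 : act 1 n3765 = n2969 := d8_1 D3765 (iv D2969) (iv F10265)
def n3767 : Q := act 4 n2917
theorem D3767 : act 4 n2917 = n3767 := rfl
def n3768 : Q := act 5 n2918
theorem D3768 : act 5 n2918 = n3768 := rfl
theorem F13094 : act 0 n3768 = n2972 := d4_1 D3768 (iv D2972) (iv F10273)
def n3769 : Q := act 2 n2919
theorem D3769 : act 2 n2919 = n3769 := rfl
theorem F13099 : act 0 n3769 = n2920 := d1_1 D3769 (iv D2920) (iv F10277)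
def n3771 : Q := act 4 n2920
theorem D3771 : act 4 n2920 = n3771 := rfl
theorem F13106 : act 1 n3771 = n2929 := d9_1 D3771 (iv D2929) (iv F10281)
def n3774 : Q := act 2 n2923
theorem D3774 : act 2 n2923 = n3774 := rfl
theorem F13115 : act 0 n3774 = n2924 := d1_1 D3774 (iv D2924) (iv F10292)
def n3775 : Q := act 4 n2923
theorem D3775 : act 4 n2923 = n3775 := rfl
theorem F13118 : act 0 n3775 = n2925 := d3_1 D3775 (iv D2925) (iv F10292)
theorem F13119 : act 1 n3775 = n2979 := d9_1 D3775 (iv D2979) (iv F10293)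
def n3776 : Q := act 4 n2924
theorem D3776 : act 4 n2924 = n3776 := rfl
theorem F13122 : act 2 n3776 = n2925 := d14_1 D3776 (iv D2925) D2924
def n3778 : Q := act 5 n2925
theorem D3778 : act 5 n2925 = n3778 := rfl
theorem F13127 : act 4 n3778 = n2931 := d22_1 D3778 (iv D2931) (iv D2272) (iv F8121) D2925
theorem F13128 : act 6 n3778 = n2944 := d25_2 (iv F10300) D3778 (iv D2944)
def n3779 : Q := act 1 n2927
theorem D3779 : act 1 n2927 = n3779 := rfl
theorem F13130 : act 2 n3779 = n2983 := d7_2 D2927 D3779 (iv D2983) (iv D2312) (iv F8128)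
def n3780 : Q := act 4 n2927
theorem D3780 : act 4 n2927 = n3780 := rfl
theorem F13133 : act 2 n3780 = n2928 := d14_1 D3780 (iv D2928) D2927
def n3781 : Q := act 6 n2927
theorem D3781 : act 6 n2927 = n3781 := rfl
theorem F13135 : act 0 n3781 = n2930 := d5_1 D3781 (iv D2930) (iv F10306)
def n3783 : Q := act 3 n2929
theorem D3783 : act 3 n2929 = n3783 := rfl
theorem F13142 : act 2 n3783 = n2936 := d13_1 D3783 (iv D2936) F8147 (iv F8133) (iv F10313)
def n3784 : Q := act 5 n2929
theorem D3784 : act 5 n2929 = n3784 := rfl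
theorem F13144 : act 2 n3784 = n2931 := d15_1 D3784 (iv D2931) (iv F10313)
def n3787 : Q := act 4 n2932
theorem D3787 : act 4 n2932 = n3787 := rfl
theorem F13151 : act 1 n3787 = n2933 := d9_1 D3787 (iv D2933) D2932
theorem F13152 : act 2 n3787 = n2991 := d14_1 D3787 (iv D2991) (iv F10321)
def n3789 : Q := act 3 n2933
theorem D3789 : act 3 n2933 = n3789 := rfl
theorem F13157 : act 0 n3789 = n2936 := d2_1 D3789 (iv D2936) (iv F10323)
def n3791 : Q := act 6 n2933
theorem D3791 : act 6 n2933 = n3791 := rfl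
theorem F13163 : act 2 n3791 = n2955 := d16_1 D3791 (iv D2955) F8185 (iv F8144) (iv F10324)
def n3793 : Q := act 5 n2936
theorem D3793 : act 5 n2936 = n3793 := rfl
def n3794 : Q := act 6 n2936
theorem D3794 : act 6 n2936 = n3794 := rfl
theorem F13172 : act 3 n3794 = n2938 := d20_1 D3794 (iv D2938) D2936
def n3795 : Q := act 6 n2937
theorem D3795 : act 6 n2937 = n3795 := rfl
theorem F13174 : act 2 n3795 = n2959 := d16_1 D3795 (iv D2959) F8197 (iv F8152) (iv F10335)
theorem F13175 : act 5 n3795 = n2938 := d25_1 D3795 (iv D2938) D2937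
def n3796 : Q := act 7 n2938
theorem D3796 : act 7 n2938 = n3796 := rfl
def n3797 : Q := act 1 n2940
theorem D3797 : act 1 n2940 = n3797 := rfl
theorem F13181 : act 2 n3797 = n2995 := d7_2 D2940 D3797 (iv D2995) (iv D2322) (iv F8155)
theorem F13183 : act 5 n3797 = n2945 := d10_2 (iv F10345) D3797 (iv D2945)
theorem F13184 : act 7 n3797 = n3172 := d12_2 (iv F10346) D3797 (iv D3172)
def n3798 : Q := act 4 n2940
theorem D3798 : act 4 n2940 = n3798 := rfl
theorem F13186 : act 2 n3798 = n2941 := d14_1 D3798 (iv D2941) D2940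
def n3800 : Q := act 5 n2941
theorem D3800 : act 5 n2941 = n3800 := rfl
theorem F13193 : act 4 n3800 = n2948 := d22_1 D3800 (iv D2948) (iv D2284) (iv F8156) D2941
def n3801 : Q := act 3 n2942
theorem D3801 : act 3 n2942 = n3801 := rfl
def n3802 : Q := act 5 n2942
theorem D3802 : act 5 n2942 = n3802 := rfl
theorem F13199 : act 2 n3802 = n2944 := d15_1 D3802 (iv D2944) (iv F10351)
theorem F13200 : act 4 n3802 = n2950 := d22_1 D3802 (iv D2950) (iv D2285) (iv F8160) D2942
def n3805 : Q := act 4 n2945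
theorem D3805 : act 4 n2945 = n3805 := rfl
theorem F13209 : act 1 n3805 = n2946 := d9_1 D3805 (iv D2946) D2945
theorem F13210 : act 2 n3805 = n3003 := d14_1 D3805 (iv D3003) (iv F10360)
def n3806 : Q := act 6 n2945
theorem D3806 : act 6 n2945 = n3806 := rfl
def n3807 : Q := act 3 n2946
theorem D3807 : act 3 n2946 = n3807 := rfl
theorem F13215 : act 0 n3807 = n2949 := d2_1 D3807 (iv D2949) (iv F10363)
theorem F13216 : act 2 n3807 = n2953 := d13_1 D3807 (iv D2953) F8185 (iv F8173) (iv F10364)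
def n3808 : Q := act 5 n2946
theorem D3808 : act 5 n2946 = n3808 := rfl
theorem F13219 : act 0 n3808 = n2950 := d4_1 D3808 (iv D2950) (iv F10363)
theorem F13221 : act 7 n3808 = n3183 := d26_2 (iv F10365) D3808 (iv D3183)
def n3811 : Q := act 5 n2949
theorem D3811 : act 5 n2949 = n3811 := rfl
theorem F13228 : act 2 n3811 = n2957 := d15_1 D3811 (iv D2957) (iv F10373)
theorem F13229 : act 3 n3811 = n2950 := d19_1 D3811 (iv D2950) D2949
theorem F13230 : act 7 n3811 = n3186 := d26_2 (iv F10375) D3811 (iv D3186)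
def n3813 : Q := act 6 n2950
theorem D3813 : act 6 n2950 = n3813 := rfl
def n3815 : Q := act 5 n2953
theorem D3815 : act 5 n2953 = n3815 := rfl
theorem F13241 : act 3 n3815 = n2954 := d19_1 D3815 (iv D2954) D2953
theorem F13242 : act 7 n3815 = n3190 := d26_2 (iv F10387) D3815 (iv D3190)
def n3816 : Q := act 6 n2953
theorem D3816 : act 6 n2953 = n3816 := rfl
theorem F13245 : act 3 n3816 = n2955 := d20_1 D3816 (iv D2955) D2953
def n3819 : Q := act 4 n2957
theorem D3819 : act 4 n2957 = n3819 := rfl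
theorem F13254 : act 1 n3819 = n2961 := d9_1 D3819 (iv D2961) (iv F10399)
theorem F13256 : act 7 n3819 = n3194 := d24_2 (iv F10401) D3819 (iv D3194)
def n3820 : Q := act 6 n2957
theorem D3820 : act 6 n2957 = n3820 := rfl
theorem F13257 : act 1 n3820 = n2962 := d11_1 D3820 (iv D2962) (iv F10399)
theorem F13259 : act 5 n3820 = n2958 := d25_1 D3820 (iv D2958) D2957
def n3821 : Q := act 2 n2958
theorem D3821 : act 2 n2958 = n3821 := rfl
def n3822 : Q := act 7 n2958
theorem D3822 : act 7 n2958 = n3822 := rfl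
theorem F13261 : act 1 n3822 = n2964 := d12_1 D3822 (iv D2964) (iv F10402)
theorem F13264 : act 6 n3822 = n3197 := d27_1 D3822 (iv D3197) (iv D2478) (iv F8195) D2958
def n3823 : Q := act 7 n2959
theorem D3823 : act 7 n2959 = n3823 := rfl
theorem F13265 : act 1 n3823 = n2965 := d12_1 D3823 (iv D2965) (iv F10405)
def n3824 : Q := act 6 n2961
theorem D3824 : act 6 n2961 = n3824 := rfl
theorem F13269 : act 4 n3824 = n2962 := d23_1 D3824 (iv D2962) D2961
def n3825 : Q := act 2 n2962
theorem D3825 : act 2 n2962 = n3825 := rfl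
theorem F13273 : act 5 n3825 = n2963 := d15_2 (iv F10416) D3825 (iv D2963)
def n3826 : Q := act 7 n2962
theorem D3826 : act 7 n2962 = n3826 := rfl
theorem F13277 : act 5 n3826 = n2964 := d26_1 D3826 (iv D2964) (iv F10416)
theorem F13278 : act 6 n3826 = n3201 := d27_1 D3826 (iv D3201) (iv D2482) (iv F8207) D2962
def n3827 : Q := act 1 n2963
theorem D3827 : act 1 n2963 = n3827 := rfl
def n3828 : Q := act 7 n2963
theorem D3828 : act 7 n2963 = n3828 := rfl
theorem F13283 : act 2 n3828 = n2964 := d17_1 D3828 (iv D2964) D2963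
def n3829 : Q := act 3 n2966
theorem D3829 : act 3 n2966 = n3829 := rfl
theorem F13286 : act 0 n3829 = n2967 := d2_1 D3829 (iv D2967) D2966
def n3830 : Q := act 2 n2967
theorem D3830 : act 2 n2967 = n3830 := rfl
def n3831 : Q := act 4 n2967
theorem D3831 : act 4 n2967 = n3831 := rfl
theorem F13293 : act 1 n3831 = n2968 := d9_1 D3831 (iv D2968) (iv F10434)
theorem F13294 : act 3 n3831 = n2971 := d18_1 D3831 (iv D2971) (iv D2302) (iv F8219) D2967
def n3832 : Q := act 5 n2968
theorem D3832 : act 5 n2968 = n3832 := rfl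
theorem F13297 : act 3 n3832 = n2972 := d19_1 D3832 (iv D2972) (iv F10438)
def n3833 : Q := act 2 n2969
theorem D3833 : act 2 n2969 = n3833 := rfl
theorem F13303 : act 5 n3833 = n2973 := d15_2 (iv F10442) D3833 (iv D2973)
def n3834 : Q := act 4 n2969
theorem D3834 : act 4 n2969 = n3834 := rfl
def n3835 : Q := act 4 n2970
theorem D3835 : act 4 n2970 = n3835 := rfl
theorem F13309 : act 2 n3835 = n2971 := d14_1 D3835 (iv D2971) D2970
def n3836 : Q := act 6 n2970
theorem D3836 : act 6 n2970 = n3836 := rfl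
theorem F13311 : act 1 n3836 = n2981 := d11_1 D3836 (iv D2981) (iv F10445)
theorem F13312 : act 2 n3836 = n3836 := d16_1 D3836 (iv D3836) (iv D2970) F8232 D2970
theorem F13314 : act 5 n3836 = n2976 := d25_1 D3836 (iv D2976) (iv F10447)
def n3837 : Q := act 5 n2971
theorem D3837 : act 5 n2971 = n3837 := rfl
theorem F13315 : act 1 n3837 = n2972 := d10_1 D3837 (iv D2972) (iv F10449)
def n3838 : Q := act 1 n2973
theorem D3838 : act 1 n2973 = n3838 := rfl
theorem F13319 : act 0 n3838 = n2983 := d0_1 D3838 (iv D2983) F8264 (iv F8240) (iv F10456)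
theorem F13320 : act 3 n3838 = n3838 := d8_2 F10457 D3838 (iv D3838)
def n3839 : Q := act 4 n2973
theorem D3839 : act 4 n2973 = n3839 := rfl
theorem F13322 : act 0 n3839 = n2975 := d3_1 D3839 (iv D2975) (iv F10456)
def n3840 : Q := act 6 n2973
theorem D3840 : act 6 n2973 = n3840 := rfl
def n3842 : Q := act 3 n2975
theorem D3842 : act 3 n2975 = n3842 := rfl
theorem F13332 : act 1 n3842 = n2987 := d8_1 D3842 (iv D2987) (iv F10463)
theorem F13334 : act 4 n3842 = n3842 := d18_2 D2975 D3842 (iv D3842) (iv D2975) F8241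
theorem F13335 : act 7 n3842 = n3842 := d21_2 F10465 D3842 (iv D3842)
def n3843 : Q := act 5 n2975
theorem D3843 : act 5 n2975 = n3843 := rfl
theorem F13337 : act 2 n3843 = n2977 := d15_1 D3843 (iv D2977) (iv F10464)
def n3844 : Q := act 6 n2975
theorem D3844 : act 6 n2975 = n3844 := rfl
theorem F13339 : act 1 n3844 = n2989 := d11_1 D3844 (iv D2989) (iv F10463)
theorem F13340 : act 2 n3844 = n3844 := d16_1 D3844 (iv D3844) F10464 F8245 (iv F10464)
theorem F13341 : act 4 n3844 = n2976 := d23_1 D3844 (iv D2976) D2975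
def n3845 : Q := act 7 n2976
theorem D3845 : act 7 n2976 = n3845 := rfl
theorem F13342 : act 1 n3845 = n2990 := d12_1 D3845 (iv D2990) (iv F10466)
theorem F13343 : act 2 n3845 = n3845 := d17_1 D3845 (iv D3845) F10467
theorem F13345 : act 6 n3845 = n3845 := d27_1 D3845 (iv D3845) (iv D2976) F8242 D2976
def n3846 : Q := act 1 n2978
theorem D3846 : act 1 n2978 = n3846 := rfl
theorem F13347 : act 5 n3846 = n2983 := d10_2 (iv F10475) D3846 (iv D2983)
def n3847 : Q := act 4 n2978
theorem D3847 : act 4 n2978 = n3847 := rfl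
theorem F13350 : act 2 n3847 = n2979 := d14_1 D3847 (iv D2979) D2978
def n3848 : Q := act 6 n2978
theorem D3848 : act 6 n2978 = n3848 := rfl
theorem F13352 : act 0 n3848 = n2981 := d5_1 D3848 (iv D2981) (iv F10473)
theorem F13353 : act 2 n3848 = n2997 := d16_1 D3848 (iv D2997) (iv D2322) (iv F8253) D2978
theorem F13355 : act 5 n3848 = n2985 := d25_1 D3848 (iv D2985) (iv F10475)
def n3849 : Q := act 5 n2979
theorem D3849 : act 5 n2979 = n3849 := rfl
theorem F13357 : act 4 n3849 = n2986 := d22_1 D3849 (iv D2986) (iv D2313) (iv F8252) D2979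
def n3853 : Q := act 7 n2981
theorem D3853 : act 7 n2981 = n3853 := rfl
def n3854 : Q := act 4 n2983
theorem D3854 : act 4 n2983 = n3854 := rfl
theorem F13371 : act 1 n3854 = n2984 := d9_1 D3854 (iv D2984) D2983
def n3855 : Q := act 6 n2983
theorem D3855 : act 6 n2983 = n3855 := rfl
def n3856 : Q := act 3 n2984
theorem D3856 : act 3 n2984 = n3856 := rfl
theorem F13375 : act 0 n3856 = n2987 := d2_1 D3856 (iv D2987) (iv F10491)
theorem F13376 : act 2 n3856 = n2992 := d13_1 D3856 (iv D2992) F8284 (iv F8268) (iv F10492)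
def n3857 : Q := act 5 n2984
theorem D3857 : act 5 n2984 = n3857 := rfl
def n3858 : Q := act 6 n2984
theorem D3858 : act 6 n2984 = n3858 := rfl
theorem F13382 : act 0 n3858 = n2989 := d5_1 D3858 (iv D2989) (iv F10491)
theorem F13383 : act 2 n3858 = n3006 := d16_1 D3858 (iv D3006) F8317 (iv F8269) (iv F10492)
theorem F13384 : act 4 n3858 = n2985 := d23_1 D3858 (iv D2985) D2984
def n3859 : Q := act 7 n2985
theorem D3859 : act 7 n2985 = n3859 := rfl
theorem F13385 : act 0 n3859 = n2990 := d6_1 D3859 (iv D2990) (iv F10494)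
theorem F13386 : act 2 n3859 = n3007 := d17_1 D3859 (iv D3007) (iv F10495)
theorem F13387 : act 3 n3859 = n3859 := d21_1 D3859 (iv D3859) F10496
def n3860 : Q := act 5 n2987
theorem D3860 : act 5 n2987 = n3860 := rfl
def n3861 : Q := act 6 n2987
theorem D3861 : act 6 n2987 = n3861 := rfl
theorem F13393 : act 3 n3861 = n2989 := d20_1 D3861 (iv D2989) D2987
theorem F13394 : act 4 n3861 = n3861 := d23_1 D3861 (iv D3861) F10502
def n3863 : Q := act 7 n2989
theorem D3863 : act 7 n2989 = n3863 := rfl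
theorem F13397 : act 2 n3863 = n3009 := d17_1 D3863 (iv D3009) (iv F10506)
theorem F13398 : act 4 n3863 = n2990 := d24_1 D3863 (iv D2990) (iv F10507)
theorem F13399 : act 6 n3863 = n3863 := d27_1 D3863 (iv D3863) (iv D2989) F8272 D2989
def n3864 : Q := act 3 n2991
theorem D3864 : act 3 n2991 = n3864 := rfl
theorem F13401 : act 1 n3864 = n2992 := d8_1 D3864 (iv D2992) (iv F10512)
def n3865 : Q := act 5 n2991
theorem D3865 : act 5 n2991 = n3865 := rfl
theorem F13406 : act 1 n3865 = n2993 := d10_1 D3865 (iv D2993) (iv F10512)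
def n3866 : Q := act 5 n2992
theorem D3866 : act 5 n2992 = n3866 := rfl
theorem F13410 : act 3 n3866 = n2993 := d19_1 D3866 (iv D2993) D2992
def n3868 : Q := act 4 n2995
theorem D3868 : act 4 n2995 = n3868 := rfl
theorem F13419 : act 7 n3868 = n3204 := d24_2 (iv F10530) D3868 (iv D3204)
def n3869 : Q := act 6 n2995
theorem D3869 : act 6 n2995 = n3869 := rfl
theorem F13421 : act 1 n3869 = n2997 := d11_1 D3869 (iv D2997) D2995
theorem F13422 : act 3 n3869 = n3011 := d20_1 D3869 (iv D3011) (iv F10528)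
theorem F13423 : act 5 n3869 = n3004 := d25_1 D3869 (iv D3004) (iv F10529)
def n3870 : Q := act 3 n2996
theorem D3870 : act 3 n2996 = n3870 := rfl
def n3871 : Q := act 5 n2996
theorem D3871 : act 5 n2996 = n3871 := rfl
theorem F13428 : act 2 n3871 = n2998 := d15_1 D3871 (iv D2998) (iv F10532)
theorem F13429 : act 4 n3871 = n3005 := d22_1 D3871 (iv D3005) (iv D2328) (iv F8300) D2996
def n3872 : Q := act 6 n2996
theorem D3872 : act 6 n2996 = n3872 := rfl
theorem F13432 : act 4 n3872 = n2997 := d23_1 D3872 (iv D2997) D2996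
def n3873 : Q := act 7 n2997
theorem D3873 : act 7 n2997 = n3873 := rfl
theorem F13435 : act 5 n3873 = n3007 := d26_1 D3873 (iv D3007) (iv F10536)
def n3876 : Q := act 6 n3000
theorem D3876 : act 6 n3000 = n3876 := rfl
theorem F13445 : act 4 n3876 = n3008 := d23_1 D3876 (iv D3008) (iv F10545)
def n3878 : Q := act 5 n3003
theorem D3878 : act 5 n3003 = n3878 := rfl
theorem F13453 : act 7 n3878 = n3214 := d26_2 (iv F10556) D3878 (iv D3214)
def n3879 : Q := act 6 n3003
theorem D3879 : act 6 n3003 = n3879 := rfl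
theorem F13455 : act 1 n3879 = n3006 := d11_1 D3879 (iv D3006) (iv F10554)
theorem F13457 : act 4 n3879 = n3004 := d23_1 D3879 (iv D3004) D3003
def n3880 : Q := act 2 n3004
theorem D3880 : act 2 n3004 = n3880 := rfl
def n3881 : Q := act 7 n3004
theorem D3881 : act 7 n3004 = n3881 := rfl
theorem F13459 : act 0 n3881 = n3881 := d6_1 D3881 (iv D3881) F10557
theorem F13460 : act 1 n3881 = n3007 := d12_1 D3881 (iv D3007) (iv F10558)
theorem F13461 : act 3 n3881 = n3018 := d21_1 D3881 (iv D3018) (iv F10559)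
theorem F13462 : act 6 n3881 = n3217 := d27_1 D3881 (iv D3217) (iv D2495) (iv F8315) D3004
def n3882 : Q := act 6 n3005
theorem D3882 : act 6 n3005 = n3882 := rfl
theorem F13465 : act 5 n3882 = n3006 := d25_1 D3882 (iv D3006) D3005
def n3883 : Q := act 7 n3006
theorem D3883 : act 7 n3006 = n3883 := rfl
theorem F13466 : act 0 n3883 = n3009 := d6_1 D3883 (iv D3009) (iv F10564)
theorem F13468 : act 4 n3883 = n3007 := d24_1 D3883 (iv D3007) (iv F10566)
theorem F13469 : act 6 n3883 = n3219 := d27_1 D3883 (iv D3219) (iv D2497) (iv F8319) D3006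
def n3884 : Q := act 7 n3008
theorem D3884 : act 7 n3008 = n3884 := rfl
theorem F13472 : act 5 n3884 = n3009 := d26_1 D3884 (iv D3009) (iv F10572)
def n3886 : Q := act 6 n3010
theorem D3886 : act 6 n3010 = n3886 := rfl
theorem F13480 : act 4 n3886 = n3011 := d23_1 D3886 (iv D3011) D3010
def n3887 : Q := act 2 n3011
theorem D3887 : act 2 n3011 = n3887 := rfl
theorem F13484 : act 5 n3887 = n3017 := d15_2 (iv F10584) D3887 (iv D3017)
def n3888 : Q := act 7 n3011
theorem D3888 : act 7 n3011 = n3888 := rfl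
theorem F13488 : act 5 n3888 = n3018 := d26_1 D3888 (iv D3018) (iv F10584)
theorem F13489 : act 6 n3888 = n3224 := d27_1 D3888 (iv D3224) (iv D2502) (iv F8338) D3011
def n3889 : Q := act 6 n3012
theorem D3889 : act 6 n3012 = n3889 := rfl
theorem F13491 : act 3 n3889 = n3013 := d20_1 D3889 (iv D3013) D3012
def n3890 : Q := act 7 n3013
theorem D3890 : act 7 n3013 = n3890 := rfl
theorem F13495 : act 4 n3890 = n3014 := d24_1 D3890 (iv D3014) (iv F10590)
theorem F13497 : act 6 n3890 = n3226 := d27_1 D3890 (iv D3226) (iv D2504) (iv F8342) D3013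
def n3891 : Q := act 2 n3015
theorem D3891 : act 2 n3015 = n3891 := rfl
def n3892 : Q := act 7 n3015
theorem D3892 : act 7 n3015 = n3892 := rfl
theorem F13501 : act 3 n3892 = n3016 := d21_1 D3892 (iv D3016) (iv F10597)
theorem F13503 : act 6 n3892 = n3228 := d27_1 D3892 (iv D3228) (iv D2506) (iv F8348) D3015
def n3893 : Q := act 3 n3017
theorem D3893 : act 3 n3017 = n3893 := rfl
def n3894 : Q := act 7 n3017
theorem D3894 : act 7 n3017 = n3894 := rfl
theorem F13507 : act 0 n3894 = n3894 := d6_1 D3894 (iv D3894) F10604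
theorem F13508 : act 1 n3894 = n3894 := d12_1 D3894 (iv D3894) F10605
theorem F13509 : act 2 n3894 = n3018 := d17_1 D3894 (iv D3018) D3017
def n3895 : Q := act 0 n3019
theorem D3895 : act 0 n3019 = n3895 := rfl
theorem F13511 : act 1 n3895 = n3895 := d0_2 D3019 D3895 (iv D3895) (iv D3019) F8364
theorem F13512 : act 2 n3895 = n3037 := d1_2 (iv F10612) D3895 (iv D3037)
theorem F13513 : act 4 n3895 = n3895 := d3_2 F10613 D3895 (iv D3895)
theorem F13514 : act 5 n3895 = n3023 := d4_2 (iv F10614) D3895 (iv D3023)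
theorem F13515 : act 6 n3895 = n3895 := d5_2 F10615 D3895 (iv D3895)
def n3896 : Q := act 3 n3019
theorem D3896 : act 3 n3019 = n3896 := rfl
theorem F13516 : act 1 n3896 = n3020 := d8_1 D3896 (iv D3020) D3019
theorem F13517 : act 5 n3896 = n3024 := d19_2 (iv F10614) D3896 (iv D3024)
theorem F13518 : act 6 n3896 = n3896 := d20_2 F10615 D3896 (iv D3896)
def n3897 : Q := act 4 n3020
theorem D3897 : act 4 n3020 = n3897 := rfl
theorem F13519 : act 0 n3897 = n3897 := d3_1 D3897 (iv D3897) F10616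
theorem F13520 : act 2 n3897 = n3897 := d14_1 D3897 (iv D3897) F10617
theorem F13521 : act 3 n3897 = n3897 := d18_1 D3897 (iv D3897) (iv D3020) F8365 D3020
theorem F13522 : act 6 n3897 = n3897 := d23_2 F10619 D3897 (iv D3897)
def n3898 : Q := act 0 n3021
theorem D3898 : act 0 n3021 = n3898 := rfl
theorem F13523 : act 1 n3898 = n3898 := d0_2 D3021 D3898 (iv D3898) (iv D3021) F8368
theorem F13524 : act 2 n3898 = n3040 := d1_2 (iv F10620) D3898 (iv D3040)
theorem F13525 : act 4 n3898 = n3028 := d3_2 (iv F10621) D3898 (iv D3028)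
theorem F13526 : act 7 n3898 = n3023 := d6_2 (iv F10622) D3898 (iv D3023)
def n3899 : Q := act 3 n3021
theorem D3899 : act 3 n3021 = n3899 := rfl
theorem F13527 : act 1 n3899 = n3022 := d8_1 D3899 (iv D3022) D3021
theorem F13528 : act 7 n3899 = n3024 := d21_2 (iv F10622) D3899 (iv D3024)
def n3900 : Q := act 4 n3022
theorem D3900 : act 4 n3022 = n3900 := rfl
theorem F13532 : act 7 n3900 = n3025 := d24_2 (iv F10625) D3900 (iv D3025)
def n3901 : Q := act 3 n3023
theorem D3901 : act 3 n3023 = n3901 := rfl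
theorem F13533 : act 0 n3901 = n3024 := d2_1 D3901 (iv D3024) D3023
theorem F13534 : act 1 n3901 = n3901 := d8_1 D3901 (iv D3901) F10626
theorem F13535 : act 6 n3901 = n3901 := d20_2 F10629 D3901 (iv D3901)
def n3902 : Q := act 2 n3024
theorem D3902 : act 2 n3024 = n3902 := rfl
theorem F13536 : act 1 n3902 = n3902 := d7_1 D3902 (iv D3902) F10630 F8375 (iv F10630)
theorem F13537 : act 3 n3902 = n3044 := d13_2 D3024 D3902 (iv D3044) (iv D2358) (iv F8371)
def n3903 : Q := act 4 n3024
theorem D3903 : act 4 n3024 = n3903 := rfl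
def n3905 : Q := act 0 n3026
theorem D3905 : act 0 n3026 = n3905 := rfl
theorem F13545 : act 1 n3905 = n3905 := d0_2 D3026 D3905 (iv D3905) (iv D3026) F8377
theorem F13546 : act 5 n3905 = n3905 := d4_2 F10636 D3905 (iv D3905)
theorem F13547 : act 6 n3905 = n3028 := d5_2 (iv F10637) D3905 (iv D3028)
theorem F13548 : act 7 n3905 = n3905 := d6_2 F10638 D3905 (iv D3905)
def n3906 : Q := act 3 n3026
theorem D3906 : act 3 n3026 = n3906 := rfl
theorem F13551 : act 6 n3906 = n3029 := d20_2 (iv F10637) D3906 (iv D3029)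
def n3908 : Q := act 3 n3028
theorem D3908 : act 3 n3028 = n3908 := rfl
theorem F13559 : act 7 n3908 = n3031 := d21_2 (iv F10646) D3908 (iv D3031)
def n3909 : Q := act 2 n3029
theorem D3909 : act 2 n3029 = n3909 := rfl
theorem F13561 : act 3 n3909 = n3048 := d13_2 D3029 D3909 (iv D3048) (iv D2361) (iv F8381)
def n3917 : Q := act 0 n3035
theorem D3917 : act 0 n3035 = n3917 := rfl
theorem F13585 : act 1 n3917 = n3076 := d0_2 D3035 D3917 (iv D3076) (iv D2383) (iv F8398)
theorem F13586 : act 4 n3917 = n3917 := d3_2 F10666 D3917 (iv D3917)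
theorem F13587 : act 5 n3917 = n3040 := d4_2 (iv F10667) D3917 (iv D3040)
theorem F13588 : act 7 n3917 = n3037 := d6_2 (iv F10668) D3917 (iv D3037)
def n3918 : Q := act 3 n3035
theorem D3918 : act 3 n3035 = n3918 := rfl
theorem F13589 : act 1 n3918 = n3036 := d8_1 D3918 (iv D3036) D3035
theorem F13590 : act 5 n3918 = n3041 := d19_2 (iv F10667) D3918 (iv D3041)
theorem F13591 : act 7 n3918 = n3038 := d21_2 (iv F10668) D3918 (iv D3038)
def n3919 : Q := act 4 n3036
theorem D3919 : act 4 n3036 = n3919 := rfl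
theorem F13592 : act 0 n3919 = n3078 := d3_1 D3919 (iv D3078) (iv F10669)
theorem F13593 : act 2 n3919 = n3919 := d14_1 D3919 (iv D3919) F10670
theorem F13594 : act 3 n3919 = n3919 := d18_1 D3919 (iv D3919) (iv D3036) F8399 D3036
theorem F13595 : act 7 n3919 = n3039 := d24_2 (iv F10672) D3919 (iv D3039)
def n3920 : Q := act 3 n3037
theorem D3920 : act 3 n3037 = n3920 := rfl
theorem F13596 : act 0 n3920 = n3038 := d2_1 D3920 (iv D3038) D3037
theorem F13597 : act 1 n3920 = n3079 := d8_1 D3920 (iv D3079) (iv F10673)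
theorem F13598 : act 5 n3920 = n3043 := d19_2 (iv F10675) D3920 (iv D3043)
theorem F13599 : act 6 n3920 = n3056 := d20_2 (iv F10676) D3920 (iv D3056)
def n3921 : Q := act 2 n3038
theorem D3921 : act 2 n3038 = n3921 := rfl
theorem F13600 : act 1 n3921 = n3921 := d7_1 D3921 (iv D3921) F10677 F8406 (iv F10677)
theorem F13601 : act 5 n3921 = n3044 := d15_2 (iv F10678) D3921 (iv D3044)
def n3922 : Q := act 4 n3038
theorem D3922 : act 4 n3038 = n3922 := rfl
theorem F13602 : act 1 n3922 = n3039 := d9_1 D3922 (iv D3039) (iv F10677)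
theorem F13603 : act 3 n3922 = n3922 := d18_1 D3922 (iv D3922) (iv D3038) F8402 D3038
theorem F13604 : act 6 n3922 = n3058 := d23_2 (iv F10679) D3922 (iv D3058)
def n3923 : Q := act 5 n3039
theorem D3923 : act 5 n3039 = n3923 := rfl
theorem F13605 : act 0 n3923 = n3082 := d4_1 D3923 (iv D3082) (iv F10680)
theorem F13609 : act 6 n3923 = n3059 := d25_2 (iv F10683) D3923 (iv D3059)
def n3924 : Q := act 3 n3040
theorem D3924 : act 3 n3040 = n3924 := rfl
theorem F13610 : act 0 n3924 = n3041 := d2_1 D3924 (iv D3041) D3040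
theorem F13611 : act 1 n3924 = n3083 := d8_1 D3924 (iv D3083) (iv F10684)
theorem F13612 : act 7 n3924 = n3043 := d21_2 (iv F10686) D3924 (iv D3043)
def n3925 : Q := act 2 n3041
theorem D3925 : act 2 n3041 = n3925 := rfl
theorem F13613 : act 1 n3925 = n3925 := d7_1 D3925 (iv D3925) F10687 F8412 (iv F10687)
theorem F13614 : act 7 n3925 = n3044 := d17_2 (iv F10688) D3925 (iv D3044)
def n3926 : Q := act 4 n3041
theorem D3926 : act 4 n3041 = n3926 := rfl
theorem F13615 : act 1 n3926 = n3042 := d9_1 D3926 (iv D3042) (iv F10687)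
theorem F13616 : act 3 n3926 = n3049 := d18_1 D3926 (iv D3049) (iv D2361) (iv F8409) D3041
theorem F13617 : act 7 n3926 = n3045 := d24_2 (iv F10688) D3926 (iv D3045)
def n3927 : Q := act 5 n3042
theorem D3927 : act 5 n3042 = n3927 := rfl
theorem F13618 : act 0 n3927 = n3086 := d4_1 D3927 (iv D3086) (iv F10689)
def n3928 : Q := act 2 n3043
theorem D3928 : act 2 n3043 = n3928 := rfl
theorem F13622 : act 0 n3928 = n3044 := d1_1 D3928 (iv D3044) (iv F10693)
def n3929 : Q := act 4 n3043
theorem D3929 : act 4 n3043 = n3929 := rfl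
theorem F13623 : act 0 n3929 = n3045 := d3_1 D3929 (iv D3045) (iv F10693)
theorem F13624 : act 1 n3929 = n3088 := d9_1 D3929 (iv D3088) (iv F10694)
theorem F13625 : act 3 n3929 = n3052 := d18_1 D3929 (iv D3052) (iv D2363) (iv F8415) D3043
theorem F13626 : act 6 n3929 = n3061 := d23_2 (iv F10695) D3929 (iv D3061)
def n3930 : Q := act 4 n3044
theorem D3930 : act 4 n3044 = n3930 := rfl
theorem F13627 : act 1 n3930 = n3930 := d9_1 D3930 (iv D3930) F10696
theorem F13628 : act 2 n3930 = n3045 := d14_1 D3930 (iv D3045) D3044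
def n3931 : Q := act 6 n3044
theorem D3931 : act 6 n3044 = n3931 := rfl
theorem F13629 : act 1 n3931 = n3931 := d11_1 D3931 (iv D3931) F10696
theorem F13630 : act 2 n3931 = n3063 := d16_1 D3931 (iv D3063) (iv D2371) (iv F8418) D3044
def n3932 : Q := act 5 n3045
theorem D3932 : act 5 n3045 = n3932 := rfl
theorem F13633 : act 6 n3932 = n3064 := d25_2 (iv F10699) D3932 (iv D3064)
def n3933 : Q := act 2 n3047
theorem D3933 : act 2 n3047 = n3933 := rfl
def n3934 : Q := act 4 n3047
theorem D3934 : act 4 n3047 = n3934 := rfl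
theorem F13637 : act 0 n3934 = n3049 := d3_1 D3934 (iv D3049) (iv F10704)
theorem F13638 : act 1 n3934 = n3093 := d9_1 D3934 (iv D3093) (iv F10705)
theorem F13639 : act 7 n3934 = n3052 := d24_2 (iv F10707) D3934 (iv D3052)
def n3935 : Q := act 4 n3048
theorem D3935 : act 4 n3048 = n3935 := rfl
theorem F13641 : act 2 n3935 = n3049 := d14_1 D3935 (iv D3049) D3048
def n3939 : Q := act 4 n3051
theorem D3939 : act 4 n3051 = n3939 := rfl
theorem F13652 : act 2 n3939 = n3052 := d14_1 D3939 (iv D3052) D3051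
def n3946 : Q := act 2 n3056
theorem D3946 : act 2 n3056 = n3946 := rfl
theorem F13670 : act 0 n3946 = n3057 := d1_1 D3946 (iv D3057) (iv F10730)
theorem F13671 : act 3 n3946 = n3946 := d13_2 D3056 D3946 (iv D3946) (iv D3056) F8445
theorem F13672 : act 5 n3946 = n3060 := d15_2 (iv F10732) D3946 (iv D3060)
def n3947 : Q := act 4 n3056
theorem D3947 : act 4 n3056 = n3947 := rfl
theorem F13673 : act 0 n3947 = n3058 := d3_1 D3947 (iv D3058) (iv F10730)
theorem F13674 : act 1 n3947 = n3103 := d9_1 D3947 (iv D3103) (iv F10731)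
theorem F13675 : act 3 n3947 = n3947 := d18_1 D3947 (iv D3947) (iv D3056) F8446 D3056
def n3948 : Q := act 4 n3057
theorem D3948 : act 4 n3057 = n3948 := rfl
theorem F13676 : act 1 n3948 = n3124 := d9_1 D3948 (iv D3124) (iv F10733)
theorem F13677 : act 2 n3948 = n3058 := d14_1 D3948 (iv D3058) D3057
def n3949 : Q := act 6 n3057
theorem D3949 : act 6 n3057 = n3949 := rfl
theorem F13679 : act 3 n3949 = n3949 := d20_1 D3949 (iv D3949) F10734
theorem F13680 : act 5 n3949 = n3063 := d25_1 D3949 (iv D3063) (iv F10735)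
def n3950 : Q := act 5 n3058
theorem D3950 : act 5 n3058 = n3950 := rfl
theorem F13681 : act 1 n3950 = n3059 := d10_1 D3950 (iv D3059) (iv F10736)
def n3951 : Q := act 1 n3060
theorem D3951 : act 1 n3060 = n3951 := rfl
theorem F13684 : act 0 n3951 = n3127 := d0_1 D3951 (iv D3127) F8606 (iv F8455) (iv F10742)
theorem F13685 : act 2 n3951 = n3107 := d7_2 D3060 D3951 (iv D3107) (iv D2407) (iv F8454)
def n3952 : Q := act 4 n3060
theorem D3952 : act 4 n3060 = n3952 := rfl
theorem F13688 : act 2 n3952 = n3061 := d14_1 D3952 (iv D3061) D3060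
def n3953 : Q := act 6 n3060
theorem D3953 : act 6 n3060 = n3953 := rfl
theorem F13689 : act 0 n3953 = n3063 := d5_1 D3953 (iv D3063) (iv F10742)
theorem F13690 : act 3 n3953 = n3953 := d20_1 D3953 (iv D3953) F10743
def n3954 : Q := act 5 n3061
theorem D3954 : act 5 n3061 = n3954 := rfl
def n3956 : Q := act 5 n3062
theorem D3956 : act 5 n3062 = n3956 := rfl
def n3957 : Q := act 6 n3062
theorem D3957 : act 6 n3062 = n3957 := rfl
def n3958 : Q := act 7 n3063
theorem D3958 : act 7 n3063 = n3958 := rfl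
theorem F13702 : act 3 n3958 = n3958 := d21_1 D3958 (iv D3958) F10750
def n3972 : Q := act 3 n3076
theorem D3972 : act 3 n3076 = n3972 := rfl
theorem F13745 : act 0 n3972 = n3077 := d2_1 D3972 (iv D3077) D3076
theorem F13746 : act 5 n3972 = n3083 := d19_2 (iv F10788) D3972 (iv D3083)
theorem F13747 : act 7 n3972 = n3079 := d21_2 (iv F10789) D3972 (iv D3079)
def n3973 : Q := act 2 n3077
theorem D3973 : act 2 n3077 = n3973 := rfl
theorem F13748 : act 1 n3973 = n3973 := d7_1 D3973 (iv D3973) F10790 F8492 (iv F10790)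
theorem F13749 : act 3 n3973 = n3973 := d13_2 D3077 D3973 (iv D3973) (iv D3077) F8488
theorem F13750 : act 5 n3973 = n3084 := d15_2 (iv F10791) D3973 (iv D3084)
theorem F13751 : act 7 n3973 = n3080 := d17_2 (iv F10792) D3973 (iv D3080)
def n3974 : Q := act 4 n3077
theorem D3974 : act 4 n3077 = n3974 := rfl
theorem F13752 : act 1 n3974 = n3078 := d9_1 D3974 (iv D3078) (iv F10790)
theorem F13754 : act 7 n3974 = n3081 := d24_2 (iv F10792) D3974 (iv D3081)
def n3975 : Q := act 5 n3078
theorem D3975 : act 5 n3078 = n3975 := rfl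
theorem F13755 : act 2 n3975 = n3975 := d15_1 D3975 (iv D3975) F10793
theorem F13756 : act 3 n3975 = n3975 := d19_1 D3975 (iv D3975) F10794
theorem F13757 : act 4 n3975 = n3086 := d22_1 D3975 (iv D3086) (iv D2390) (iv F8493) D3078
theorem F13758 : act 7 n3975 = n3082 := d26_2 (iv F10795) D3975 (iv D3082)
def n3976 : Q := act 2 n3079
theorem D3976 : act 2 n3079 = n3976 := rfl
theorem F13759 : act 0 n3976 = n3080 := d1_1 D3976 (iv D3080) (iv F10796)
theorem F13760 : act 3 n3976 = n3976 := d13_2 D3079 D3976 (iv D3976) (iv D3079) F8495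
theorem F13761 : act 5 n3976 = n3087 := d15_2 (iv F10797) D3976 (iv D3087)
def n3977 : Q := act 4 n3079
theorem D3977 : act 4 n3079 = n3977 := rfl
theorem F13764 : act 6 n3977 = n3103 := d23_2 (iv F10798) D3977 (iv D3103)
def n3978 : Q := act 4 n3080
theorem D3978 : act 4 n3080 = n3978 := rfl
theorem F13766 : act 2 n3978 = n3081 := d14_1 D3978 (iv D3081) D3080
def n3979 : Q := act 6 n3080
theorem D3979 : act 6 n3080 = n3979 := rfl
theorem F13768 : act 2 n3979 = n3105 := d16_1 D3979 (iv D3105) (iv D2404) (iv F8501) D3080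
theorem F13769 : act 3 n3979 = n3979 := d20_1 D3979 (iv D3979) F10800
def n3980 : Q := act 5 n3081
theorem D3980 : act 5 n3081 = n3980 := rfl
theorem F13771 : act 1 n3980 = n3082 := d10_1 D3980 (iv D3082) (iv F10802)
theorem F13773 : act 4 n3980 = n3091 := d22_1 D3980 (iv D3091) (iv D2393) (iv F8500) D3081
theorem F13774 : act 6 n3980 = n3106 := d25_2 (iv F10804) D3980 (iv D3106)
def n3981 : Q := act 2 n3083
theorem D3981 : act 2 n3083 = n3981 := rfl
theorem F13775 : act 0 n3981 = n3084 := d1_1 D3981 (iv D3084) (iv F10809)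
theorem F13776 : act 3 n3981 = n3981 := d13_2 D3083 D3981 (iv D3981) (iv D3083) F8505
theorem F13777 : act 7 n3981 = n3087 := d17_2 (iv F10810) D3981 (iv D3087)
def n3982 : Q := act 4 n3083
theorem D3982 : act 4 n3083 = n3982 := rfl
theorem F13778 : act 0 n3982 = n3085 := d3_1 D3982 (iv D3085) (iv F10809)
theorem F13779 : act 3 n3982 = n3093 := d18_1 D3982 (iv D3093) (iv D2395) (iv F8506) D3083
theorem F13780 : act 7 n3982 = n3088 := d24_2 (iv F10810) D3982 (iv D3088)
def n3983 : Q := act 4 n3084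
theorem D3983 : act 4 n3084 = n3983 := rfl
theorem F13781 : act 1 n3983 = n3983 := d9_1 D3983 (iv D3983) F10811
theorem F13782 : act 2 n3983 = n3085 := d14_1 D3983 (iv D3085) D3084
theorem F13783 : act 7 n3983 = n3089 := d24_2 (iv F10813) D3983 (iv D3089)
def n3984 : Q := act 6 n3084
theorem D3984 : act 6 n3084 = n3984 := rfl
theorem F13784 : act 1 n3984 = n3984 := d11_1 D3984 (iv D3984) F10811
theorem F13785 : act 3 n3984 = n3984 := d20_1 D3984 (iv D3984) F10812
def n3985 : Q := act 5 n3085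
theorem D3985 : act 5 n3085 = n3985 := rfl
theorem F13786 : act 1 n3985 = n3086 := d10_1 D3985 (iv D3086) (iv F10814)
theorem F13787 : act 3 n3985 = n3096 := d19_1 D3985 (iv D3096) (iv F10815)
theorem F13788 : act 7 n3985 = n3091 := d26_2 (iv F10816) D3985 (iv D3091)
def n3986 : Q := act 1 n3087
theorem D3986 : act 1 n3087 = n3986 := rfl
theorem F13789 : act 0 n3986 = n3986 := d0_1 D3986 (iv D3986) F10820 F8515 (iv F10820)
theorem F13790 : act 3 n3986 = n3986 := d8_2 F10821 D3986 (iv D3986)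
def n3987 : Q := act 4 n3087
theorem D3987 : act 4 n3087 = n3987 := rfl
theorem F13791 : act 0 n3987 = n3089 := d3_1 D3987 (iv D3089) (iv F10820)
theorem F13792 : act 2 n3987 = n3088 := d14_1 D3987 (iv D3088) D3087
def n3988 : Q := act 6 n3087
theorem D3988 : act 6 n3087 = n3988 := rfl
theorem F13793 : act 0 n3988 = n3090 := d5_1 D3988 (iv D3090) (iv F10820)
theorem F13794 : act 2 n3988 = n3109 := d16_1 D3988 (iv D3109) (iv D2407) (iv F8514) D3087
theorem F13795 : act 3 n3988 = n3988 := d20_1 D3988 (iv D3988) F10821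
def n3989 : Q := act 5 n3088
theorem D3989 : act 5 n3088 = n3989 := rfl
theorem F13796 : act 0 n3989 = n3091 := d4_1 D3989 (iv D3091) (iv F10822)
theorem F13797 : act 3 n3989 = n3099 := d19_1 D3989 (iv D3099) (iv F10823)
theorem F13798 : act 6 n3989 = n3110 := d25_2 (iv F10824) D3989 (iv D3110)
def n3990 : Q := act 3 n3089
theorem D3990 : act 3 n3089 = n3990 := rfl
theorem F13799 : act 1 n3990 = n3990 := d8_1 D3990 (iv D3990) F10825
theorem F13800 : act 2 n3990 = n3100 := d13_1 D3990 (iv D3100) F8542 (iv F8518) (iv F10826)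
theorem F13801 : act 4 n3990 = n3990 := d18_2 D3089 D3990 (iv D3990) (iv D3089) F8516
def n3991 : Q := act 5 n3089
theorem D3991 : act 5 n3089 = n3991 := rfl
theorem F13802 : act 1 n3991 = n3991 := d10_1 D3991 (iv D3991) F10825
theorem F13803 : act 2 n3991 = n3091 := d15_1 D3991 (iv D3091) (iv F10826)
def n3992 : Q := act 6 n3089
theorem D3992 : act 6 n3089 = n3992 := rfl
theorem F13804 : act 1 n3992 = n3992 := d11_1 D3992 (iv D3992) F10825
theorem F13805 : act 2 n3992 = n3112 := d16_1 D3992 (iv D3112) F8562 (iv F8519) (iv F10826)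
theorem F13806 : act 4 n3992 = n3090 := d23_1 D3992 (iv D3090) D3089
def n3993 : Q := act 7 n3090
theorem D3993 : act 7 n3090 = n3993 := rfl
theorem F13807 : act 1 n3993 = n3993 := d12_1 D3993 (iv D3993) F10827
theorem F13808 : act 2 n3993 = n3113 := d17_1 D3993 (iv D3113) (iv F10828)
theorem F13809 : act 3 n3993 = n3993 := d21_1 D3993 (iv D3993) F10829
def n3994 : Q := act 1 n3092
theorem D3994 : act 1 n3092 = n3994 := rfl
theorem F13813 : act 7 n3994 = n3097 := d12_2 (iv F10836) D3994 (iv D3097)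
def n3995 : Q := act 4 n3092
theorem D3995 : act 4 n3092 = n3995 := rfl
theorem F13814 : act 0 n3995 = n3094 := d3_1 D3995 (iv D3094) (iv F10833)
theorem F13815 : act 2 n3995 = n3093 := d14_1 D3995 (iv D3093) D3092
theorem F13816 : act 7 n3995 = n3098 := d24_2 (iv F10836) D3995 (iv D3098)
def n3996 : Q := act 6 n3092
theorem D3996 : act 6 n3092 = n3996 := rfl
theorem F13817 : act 0 n3996 = n3095 := d5_1 D3996 (iv D3095) (iv F10833)
theorem F13818 : act 3 n3996 = n3996 := d20_1 D3996 (iv D3996) F10834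
theorem F13819 : act 5 n3996 = n3996 := d25_1 D3996 (iv D3996) F10835
theorem F13820 : act 7 n3996 = n3996 := d27_2 (iv F10836) D3996 (iv D3996) F10836 F8538
def n3997 : Q := act 5 n3093
theorem D3997 : act 5 n3093 = n3997 := rfl
theorem F13821 : act 0 n3997 = n3096 := d4_1 D3997 (iv D3096) (iv F10837)
theorem F13822 : act 4 n3997 = n3997 := d22_1 D3997 (iv D3997) (iv D3093) F8524 D3093
theorem F13823 : act 7 n3997 = n3099 := d26_2 (iv F10838) D3997 (iv D3099)
def n3998 : Q := act 3 n3094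
theorem D3998 : act 3 n3094 = n3998 := rfl
theorem F13824 : act 1 n3998 = n3314 := d8_1 D3998 (iv D3314) (iv F10839)
theorem F13825 : act 4 n3998 = n3998 := d18_2 D3094 D3998 (iv D3998) (iv D3094) F8527
theorem F13826 : act 7 n3998 = n3100 := d21_2 (iv F10841) D3998 (iv D3100)
def n3999 : Q := act 5 n3094
theorem D3999 : act 5 n3094 = n3999 := rfl
theorem F13827 : act 1 n3999 = n3315 := d10_1 D3999 (iv D3315) (iv F10839)
theorem F13828 : act 2 n3999 = n3096 := d15_1 D3999 (iv D3096) (iv F10840)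
theorem F13829 : act 4 n3999 = n3999 := d22_1 D3999 (iv D3999) (iv D3094) F8528 D3094
theorem F13830 : act 7 n3999 = n3101 := d26_2 (iv F10841) D3999 (iv D3101)
def n4000 : Q := act 6 n3094
theorem D4000 : act 6 n3094 = n4000 := rfl
theorem F13831 : act 1 n4000 = n3316 := d11_1 D4000 (iv D3316) (iv F10839)
theorem F13832 : act 4 n4000 = n3095 := d23_1 D4000 (iv D3095) D3094
theorem F13833 : act 7 n4000 = n4000 := d27_2 (iv F10841) D4000 (iv D4000) F10841 F8543
def n4001 : Q := act 4 n3097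
theorem D4001 : act 4 n3097 = n4001 := rfl
theorem F13835 : act 1 n4001 = n3098 := d9_1 D4001 (iv D3098) D3097
def n4002 : Q := act 3 n3098
theorem D4002 : act 3 n3098 = n4002 := rfl
theorem F13837 : act 0 n4002 = n3100 := d2_1 D4002 (iv D3100) (iv F10853)
theorem F13838 : act 4 n4002 = n4002 := d18_2 D3098 D4002 (iv D4002) (iv D3098) F8536
theorem F13839 : act 6 n4002 = n4002 := d20_2 F10855 D4002 (iv D4002)
def n4003 : Q := act 5 n3098
theorem D4003 : act 5 n3098 = n4003 := rfl
theorem F13840 : act 0 n4003 = n3101 := d4_1 D4003 (iv D3101) (iv F10853)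
theorem F13841 : act 2 n4003 = n3099 := d15_1 D4003 (iv D3099) (iv F10854)
theorem F13842 : act 4 n4003 = n4003 := d22_1 D4003 (iv D4003) (iv D3098) F8537 D3098
theorem F13843 : act 6 n4003 = n4003 := d25_2 F10855 D4003 (iv D4003)
def n4004 : Q := act 5 n3100
theorem D4004 : act 5 n3100 = n4004 := rfl
theorem F13844 : act 1 n4004 = n3320 := d10_1 D4004 (iv D3320) (iv F10859)
theorem F13845 : act 3 n4004 = n3101 := d19_1 D4004 (iv D3101) D3100
theorem F13846 : act 6 n4004 = n4004 := d25_2 F10861 D4004 (iv D4004)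
def n4005 : Q := act 1 n3102
theorem D4005 : act 1 n3102 = n4005 := rfl
theorem F13847 : act 0 n4005 = n3148 := d0_1 D4005 (iv D3148) F8654 (iv F8549) (iv F10866)
theorem F13849 : act 5 n4005 = n3107 := d10_2 (iv F10868) D4005 (iv D3107)
def n4007 : Q := act 6 n3102
theorem D4007 : act 6 n3102 = n4007 := rfl
def n4008 : Q := act 5 n3103
theorem D4008 : act 5 n3103 = n4008 := rfl
theorem F13855 : act 0 n4008 = n3106 := d4_1 D4008 (iv D3106) (iv F10869)
def n4010 : Q := act 5 n3104
theorem D4010 : act 5 n3104 = n4010 := rfl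
theorem F13862 : act 2 n4010 = n3106 := d15_1 D4010 (iv D3106) (iv F10872)
def n4011 : Q := act 6 n3104
theorem D4011 : act 6 n3104 = n4011 := rfl
def n4012 : Q := act 7 n3105
theorem D4012 : act 7 n3105 = n4012 := rfl
def n4013 : Q := act 4 n3107
theorem D4013 : act 4 n3107 = n4013 := rfl
theorem F13869 : act 0 n4013 = n3156 := d3_1 D4013 (iv D3156) (iv F10879)
theorem F13870 : act 1 n4013 = n3108 := d9_1 D4013 (iv D3108) D3107
def n4014 : Q := act 6 n3107
theorem D4014 : act 6 n3107 = n4014 := rfl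
theorem F13872 : act 0 n4014 = n3157 := d5_1 D4014 (iv D3157) (iv F10879)
theorem F13873 : act 1 n4014 = n3109 := d11_1 D4014 (iv D3109) D3107
def n4015 : Q := act 5 n3108
theorem D4015 : act 5 n3108 = n4015 := rfl
theorem F13876 : act 2 n4015 = n3110 := d15_1 D4015 (iv D3110) (iv F10882)
def n4016 : Q := act 6 n3108
theorem D4016 : act 6 n3108 = n4016 := rfl
theorem F13878 : act 0 n4016 = n3112 := d5_1 D4016 (iv D3112) (iv F10881)
theorem F13879 : act 3 n4016 = n4016 := d20_1 D4016 (iv D4016) F10883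
theorem F13880 : act 4 n4016 = n3109 := d23_1 D4016 (iv D3109) D3108
def n4017 : Q := act 7 n3109
theorem D4017 : act 7 n3109 = n4017 := rfl
theorem F13881 : act 0 n4017 = n3113 := d6_1 D4017 (iv D3113) (iv F10884)
theorem F13882 : act 3 n4017 = n3121 := d21_1 D4017 (iv D3121) (iv F10885)
def n4018 : Q := act 6 n3111
theorem D4018 : act 6 n3111 = n4018 := rfl
theorem F13885 : act 5 n4018 = n3112 := d25_1 D4018 (iv D3112) D3111
def n4019 : Q := act 7 n3112
theorem D4019 : act 7 n3112 = n4019 := rfl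
theorem F13886 : act 1 n4019 = n3162 := d12_1 D4019 (iv D3162) (iv F10891)
theorem F13887 : act 3 n4019 = n4019 := d21_1 D4019 (iv D4019) F10892
theorem F13888 : act 4 n4019 = n3113 := d24_1 D4019 (iv D3113) (iv F10893)
def n4020 : Q := act 4 n3114
theorem D4020 : act 4 n3114 = n4020 := rfl
theorem F13889 : act 0 n4020 = n3163 := d3_1 D4020 (iv D3163) (iv F10896)
theorem F13890 : act 1 n4020 = n3115 := d9_1 D4020 (iv D3115) D3114
def n4021 : Q := act 6 n3114
theorem D4021 : act 6 n3114 = n4021 := rfl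
theorem F13893 : act 0 n4021 = n3164 := d5_1 D4021 (iv D3164) (iv F10896)
theorem F13894 : act 1 n4021 = n3116 := d11_1 D4021 (iv D3116) D3114
theorem F13895 : act 5 n4021 = n3120 := d25_1 D4021 (iv D3120) (iv F10898)
def n4022 : Q := act 3 n3115
theorem D4022 : act 3 n3115 = n4022 := rfl
theorem F13896 : act 0 n4022 = n3117 := d2_1 D4022 (iv D3117) (iv F10899)
def n4023 : Q := act 6 n3115
theorem D4023 : act 6 n3115 = n4023 := rfl
theorem F13900 : act 2 n4023 = n4023 := d16_1 D4023 (iv D4023) F10900 F8577 (iv F10900)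
def n4024 : Q := act 7 n3116
theorem D4024 : act 7 n3116 = n4024 := rfl
theorem F13905 : act 5 n4024 = n3121 := d26_1 D4024 (iv D3121) (iv F10904)
def n4025 : Q := act 6 n3117
theorem D4025 : act 6 n3117 = n4025 := rfl
theorem F13906 : act 1 n4025 = n3168 := d11_1 D4025 (iv D3168) (iv F10905)
theorem F13907 : act 3 n4025 = n3118 := d20_1 D4025 (iv D3118) D3117
def n4027 : Q := act 2 n3120
theorem D4027 : act 2 n3120 = n4027 := rfl
theorem F13913 : act 0 n4027 = n3170 := d1_1 D4027 (iv D3170) (iv F10915)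
theorem F13914 : act 1 n4027 = n4027 := d7_1 D4027 (iv D4027) F10916 F8588 (iv F10916)
def n4028 : Q := act 7 n3120
theorem D4028 : act 7 n3120 = n4028 := rfl
theorem F13918 : act 1 n4028 = n3121 := d12_1 D4028 (iv D3121) (iv F10916)
def n4029 : Q := act 1 n3122
theorem D4029 : act 1 n3122 = n4029 := rfl
def n4030 : Q := act 4 n3122
theorem D4030 : act 4 n3122 = n4030 := rfl
theorem F13923 : act 0 n4030 = n3124 := d3_1 D4030 (iv D3124) (iv F10921)
theorem F13924 : act 2 n4030 = n3123 := d14_1 D4030 (iv D3123) D3122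
def n4033 : Q := act 3 n3124
theorem D4033 : act 3 n3124 = n4033 := rfl
theorem F13934 : act 2 n4033 = n3176 := d13_1 D4033 (iv D3176) F8712 (iv F8600) (iv F10928)
def n4034 : Q := act 5 n3124
theorem D4034 : act 5 n3124 = n4034 := rfl
theorem F13937 : act 4 n4034 = n3132 := d22_1 D4034 (iv D3132) (iv D2426) (iv F8598) D3124
def n4037 : Q := act 4 n3127
theorem D4037 : act 4 n3127 = n4037 := rfl
theorem F13944 : act 2 n4037 = n3156 := d14_1 D4037 (iv D3156) (iv F10936)
def n4038 : Q := act 6 n3127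
theorem D4038 : act 6 n3127 = n4038 := rfl
def n4039 : Q := act 3 n3128
theorem D4039 : act 3 n3128 = n4039 := rfl
theorem F13948 : act 2 n4039 = n3135 := d13_1 D4039 (iv D3135) F8620 (iv F8610) (iv F10939)
def n4043 : Q := act 5 n3131
theorem D4043 : act 5 n3131 = n4043 := rfl
theorem F13958 : act 2 n4043 = n3139 := d15_1 D4043 (iv D3139) (iv F10947)
theorem F13959 : act 3 n4043 = n3132 := d19_1 D4043 (iv D3132) D3131
def n4047 : Q := act 5 n3135
theorem D4047 : act 5 n3135 = n4047 := rfl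
def n4051 : Q := act 4 n3139
theorem D4051 : act 4 n3139 = n4051 := rfl
def n4061 : Q := act 4 n3148
theorem D4061 : act 4 n3148 = n4061 := rfl
def n4062 : Q := act 6 n3148
theorem D4062 : act 6 n3148 = n4062 := rfl
theorem F14016 : act 5 n4062 = n3157 := d25_1 D4062 (iv D3157) (iv F10999)
def n4064 : Q := act 5 n3149
theorem D4064 : act 5 n3149 = n4064 := rfl
def n4071 : Q := act 5 n3156
theorem D4071 : act 5 n3156 = n4071 := rfl
def n4072 : Q := act 6 n3156
theorem D4072 : act 6 n3156 = n4072 := rfl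
theorem F14044 : act 4 n4072 = n3157 := d23_1 D4072 (iv D3157) D3156
def n4073 : Q := act 2 n3157
theorem D4073 : act 2 n3157 = n4073 := rfl
def n4077 : Q := act 7 n3161
theorem D4077 : act 7 n3161 = n4077 := rfl
theorem F14058 : act 5 n4077 = n3162 := d26_1 D4077 (iv D3162) (iv F11035)
def n4080 : Q := act 2 n3164
theorem D4080 : act 2 n3164 = n4080 := rfl
theorem F14064 : act 1 n4080 = n3233 := d7_1 D4080 (iv D3233) F8868 (iv F8691) (iv F11042)
theorem F14065 : act 5 n4080 = n3170 := d15_2 (iv F11043) D4080 (iv D3170)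
def n4084 : Q := act 2 n3168
theorem D4084 : act 2 n3168 = n4084 := rfl
theorem F14078 : act 6 n4084 = n3227 := d16_2 D3168 D4084 (iv D3227) (iv D2506) (iv F8693)
def n4086 : Q := act 3 n3170
theorem D4086 : act 3 n3170 = n4086 := rfl
theorem F14081 : act 1 n4086 = n3239 := d8_1 D4086 (iv D3239) (iv F11059)
def n4087 : Q := act 7 n3170
theorem D4087 : act 7 n3170 = n4087 := rfl
def n4088 : Q := act 4 n3172
theorem D4088 : act 4 n3172 = n4088 := rfl
theorem F14087 : act 1 n4088 = n3173 := d9_1 D4088 (iv D3173) D3172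
theorem F14088 : act 2 n4088 = n3204 := d14_1 D4088 (iv D3204) (iv F11065)
def n4090 : Q := act 3 n3173
theorem D4090 : act 3 n3173 = n4090 := rfl
theorem F14093 : act 0 n4090 = n3176 := d2_1 D4090 (iv D3176) (iv F11068)
def n4091 : Q := act 5 n3173
theorem D4091 : act 5 n3173 = n4091 := rfl
theorem F14097 : act 4 n4091 = n3183 := d22_1 D4091 (iv D3183) (iv D2466) (iv F8707) D3173
def n4094 : Q := act 5 n3176
theorem D4094 : act 5 n3176 = n4094 := rfl
theorem F14106 : act 3 n4094 = n3177 := d19_1 D4094 (iv D3177) D3176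
def n4098 : Q := act 3 n3180
theorem D4098 : act 3 n3180 = n4098 := rfl
theorem F14118 : act 1 n4098 = n3182 := d8_1 D4098 (iv D3182) (iv F11091)
def n4099 : Q := act 5 n3180
theorem D4099 : act 5 n3180 = n4099 := rfl
theorem F14122 : act 1 n4099 = n3183 := d10_1 D4099 (iv D3183) (iv F11091)
theorem F14123 : act 2 n4099 = n3214 := d15_1 D4099 (iv D3214) (iv F11092)
def n4101 : Q := act 2 n3181
theorem D4101 : act 2 n3181 = n4101 := rfl
theorem F14129 : act 6 n4101 = n3216 := d16_2 D3181 D4101 (iv D3216) (iv D2495) (iv F8721)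
def n4102 : Q := act 7 n3181
theorem D4102 : act 7 n3181 = n4102 := rfl
def n4103 : Q := act 5 n3182
theorem D4103 : act 5 n3182 = n4103 := rfl
theorem F14133 : act 0 n4103 = n3186 := d4_1 D4103 (iv D3186) (iv F11096)
theorem F14134 : act 2 n4103 = n3190 := d15_1 D4103 (iv D3190) (iv F11097)
theorem F14135 : act 3 n4103 = n3183 := d19_1 D4103 (iv D3183) D3182
def n4104 : Q := act 6 n3182
theorem D4104 : act 6 n3182 = n4104 := rfl
theorem F14137 : act 3 n4104 = n3184 := d20_1 D4104 (iv D3184) D3182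
def n4105 : Q := act 6 n3183
theorem D4105 : act 6 n3183 = n4105 := rfl
def n4107 : Q := act 4 n3186
theorem D4107 : act 4 n3186 = n4107 := rfl
theorem F14146 : act 2 n4107 = n3194 := d14_1 D4107 (iv D3194) (iv F11108)
def n4108 : Q := act 6 n3186
theorem D4108 : act 6 n3186 = n4108 := rfl
theorem F14149 : act 3 n4108 = n3188 := d20_1 D4108 (iv D3188) (iv F11109)
theorem F14150 : act 5 n4108 = n3187 := d25_1 D4108 (iv D3187) D3186
def n4109 : Q := act 2 n3187
theorem D4109 : act 2 n3187 = n4109 := rfl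
theorem F14153 : act 6 n4109 = n3196 := d16_2 D3187 D4109 (iv D3196) (iv D2478) (iv F8733)
def n4112 : Q := act 4 n3190
theorem D4112 : act 4 n3190 = n4112 := rfl
def n4113 : Q := act 6 n3190
theorem D4113 : act 6 n3190 = n4113 := rfl
def n4117 : Q := act 6 n3194
theorem D4117 : act 6 n3194 = n4117 := rfl
theorem F14179 : act 4 n4117 = n3195 := d23_1 D4117 (iv D3195) D3194
def n4118 : Q := act 2 n3195
theorem D4118 : act 2 n3195 = n4118 := rfl
theorem F14182 : act 5 n4118 = n3196 := d15_2 (iv F11138) D4118 (iv D3196)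
def n4119 : Q := act 7 n3195
theorem D4119 : act 7 n3195 = n4119 := rfl
def n4120 : Q := act 1 n3196
theorem D4120 : act 1 n3196 = n4120 := rfl
def n4121 : Q := act 7 n3196
theorem D4121 : act 7 n3196 = n4121 := rfl
theorem F14189 : act 2 n4121 = n3197 := d17_1 D4121 (iv D3197) D3196
def n4123 : Q := act 7 n3199
theorem D4123 : act 7 n3199 = n4123 := rfl
def n4124 : Q := act 1 n3200
theorem D4124 : act 1 n3200 = n4124 := rfl
def n4125 : Q := act 7 n3200
theorem D4125 : act 7 n3200 = n4125 := rfl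
theorem F14205 : act 5 n4125 = n3203 := d26_1 D4125 (iv D3203) (iv F11152)
def n4128 : Q := act 6 n3203
theorem D4128 : act 6 n3203 = n4128 := rfl
def n4131 : Q := act 6 n3204
theorem D4131 : act 6 n3204 = n4131 := rfl
def n4133 : Q := act 7 n3205
theorem D4133 : act 7 n3205 = n4133 := rfl
def n4137 : Q := act 7 n3208
theorem D4137 : act 7 n3208 = n4137 := rfl
def n4142 : Q := act 6 n3214
theorem D4142 : act 6 n3214 = n4142 := rfl
def n4144 : Q := act 7 n3215
theorem D4144 : act 7 n3215 = n4144 := rfl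
def n4146 : Q := act 7 n3216
theorem D4146 : act 7 n3216 = n4146 := rfl
theorem F14275 : act 2 n4146 = n3217 := d17_1 D4146 (iv D3217) D3216
def n4147 : Q := act 7 n3218
theorem D4147 : act 7 n3218 = n4147 := rfl
def n4151 : Q := act 7 n3222
theorem D4151 : act 7 n3222 = n4151 := rfl
def n4153 : Q := act 7 n3223
theorem D4153 : act 7 n3223 = n4153 := rfl
theorem F14302 : act 2 n4153 = n3224 := d17_1 D4153 (iv D3224) D3223
def n4154 : Q := act 2 n3225
theorem D4154 : act 2 n3225 = n4154 := rfl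
theorem F14305 : act 3 n4154 = n3247 := d13_2 (iv F11234) D4154 (iv D3247) F8917 (iv F8842)
def n4155 : Q := act 7 n3225
theorem D4155 : act 7 n3225 = n4155 := rfl
def n4157 : Q := act 7 n3227
theorem D4157 : act 7 n3227 = n4157 := rfl
theorem F14313 : act 2 n4157 = n3228 := d17_1 D4157 (iv D3228) D3227
def n4160 : Q := act 6 n3230
theorem D4160 : act 6 n3230 = n4160 := rfl
def n4161 : Q := act 2 n3231
theorem D4161 : act 2 n3231 = n4161 := rfl
theorem F14327 : act 0 n4161 = n4161 := d1_1 D4161 (iv D4161) F11252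
theorem F14328 : act 1 n4161 = n3241 := d7_1 D4161 (iv D3241) F8900 (iv F8872) (iv F11253)
def n4162 : Q := act 6 n3231
theorem D4162 : act 6 n3231 = n4162 := rfl
theorem F14333 : act 0 n4162 = n4162 := d5_1 D4162 (iv D4162) F11252
theorem F14334 : act 1 n4162 = n3235 := d11_1 D4162 (iv D3235) (iv F11253)
def n4165 : Q := act 3 n3233
theorem D4165 : act 3 n3233 = n4165 := rfl
theorem F14349 : act 5 n4165 = n3239 := d19_2 (iv F11262) D4165 (iv D3239)
def n4166 : Q := act 7 n3233
theorem D4166 : act 7 n3233 = n4166 := rfl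
theorem F14353 : act 5 n4166 = n3240 := d26_1 D4166 (iv D3240) (iv F11262)
def n4167 : Q := act 2 n3235
theorem D4167 : act 2 n3235 = n4167 := rfl
theorem F14357 : act 6 n4167 = n3247 := d16_2 D3235 D4167 (iv D3247) (iv D2523) (iv F8872)
def n4171 : Q := act 4 n3239
theorem D4171 : act 4 n3239 = n4171 := rfl
def n4172 : Q := act 7 n3239
theorem D4172 : act 7 n3239 = n4172 := rfl
theorem F14376 : act 3 n4172 = n3240 := d21_1 D4172 (iv D3240) D3239
def n4173 : Q := act 6 n3240
theorem D4173 : act 6 n3240 = n4173 := rfl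
def n4183 : Q := act 7 n3247
theorem D4183 : act 7 n3247 = n4183 := rfl
def n4263 : Q := act 3 n3311
theorem D4263 : act 3 n3311 = n4263 := rfl
theorem F14684 : act 0 n4263 = n3314 := d2_1 D4263 (iv D3314) (iv F11543)
theorem F14687 : act 7 n4263 = n3318 := d21_2 (iv F11545) D4263 (iv D3318)
def n4265 : Q := act 6 n3311
theorem D4265 : act 6 n3311 = n4265 := rfl
theorem F14692 : act 0 n4265 = n3316 := d5_1 D4265 (iv D3316) (iv F11543)
def n4266 : Q := act 5 n3314
theorem D4266 : act 5 n3314 = n4266 := rfl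
theorem F14697 : act 3 n4266 = n3315 := d19_1 D4266 (iv D3315) D3314
theorem F14698 : act 7 n4266 = n3320 := d26_2 (iv F11558) D4266 (iv D3320)
def n4267 : Q := act 6 n3314
theorem D4267 : act 6 n3314 = n4267 := rfl
theorem F14699 : act 3 n4267 = n3316 := d20_1 D4267 (iv D3316) D3314
def n4268 : Q := act 6 n3315
theorem D4268 : act 6 n3315 = n4268 := rfl
def n4388 : Q := act 0 n3414
theorem D4388 : act 0 n3414 = n4388 := rfl
theorem F15112 : act 1 n4388 = n3497 := d0_2 D3414 D4388 (iv D3497) (iv D2715) (iv F9396)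
theorem F15113 : act 2 n4388 = n3427 := d1_2 (iv F11902) D4388 (iv D3427)
theorem F15114 : act 4 n4388 = n3418 := d3_2 (iv F11903) D4388 (iv D3418)
theorem F15115 : act 5 n4388 = n3554 := d4_2 (iv F11904) D4388 (iv D3554)
theorem F15116 : act 6 n4388 = n4388 := d5_2 F11905 D4388 (iv D4388)
theorem F15117 : act 7 n4388 = n3551 := d6_2 (iv F11906) D4388 (iv D3551)
def n4389 : Q := act 3 n3414
theorem D4389 : act 3 n3414 = n4389 := rfl
theorem F15118 : act 1 n4389 = n3415 := d8_1 D4389 (iv D3415) D3414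
theorem F15119 : act 5 n4389 = n3555 := d19_2 (iv F11904) D4389 (iv D3555)
theorem F15120 : act 6 n4389 = n4389 := d20_2 F11905 D4389 (iv D4389)
theorem F15121 : act 7 n4389 = n3552 := d21_2 (iv F11906) D4389 (iv D3552)
def n4390 : Q := act 4 n3415
theorem D4390 : act 4 n3415 = n4390 := rfl
theorem F15122 : act 0 n4390 = n3499 := d3_1 D4390 (iv D3499) (iv F11907)
theorem F15123 : act 2 n4390 = n3563 := d14_1 D4390 (iv D3563) (iv F11908)
theorem F15124 : act 3 n4390 = n3420 := d18_1 D4390 (iv D3420) (iv D2659) (iv F9397) D3415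
theorem F15125 : act 6 n4390 = n4390 := d23_2 F11910 D4390 (iv D4390)
theorem F15126 : act 7 n4390 = n3553 := d24_2 (iv F11911) D4390 (iv D3553)
def n4391 : Q := act 0 n3416
theorem D4391 : act 0 n3416 = n4391 := rfl
theorem F15127 : act 1 n4391 = n3502 := d0_2 D3416 D4391 (iv D3502) (iv D2718) (iv F9401)
theorem F15128 : act 2 n4391 = n3430 := d1_2 (iv F11912) D4391 (iv D3430)
theorem F15129 : act 4 n4391 = n3551 := d3_2 (iv F11913) D4391 (iv D3551)
theorem F15130 : act 5 n4391 = n4391 := d4_2 F11914 D4391 (iv D4391)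
theorem F15131 : act 6 n4391 = n3676 := d5_2 (iv F11915) D4391 (iv D3676)
theorem F15132 : act 7 n4391 = n3418 := d6_2 (iv F11916) D4391 (iv D3418)
def n4392 : Q := act 3 n3416
theorem D4392 : act 3 n3416 = n4392 := rfl
theorem F15133 : act 1 n4392 = n3417 := d8_1 D4392 (iv D3417) D3416
theorem F15134 : act 5 n4392 = n4392 := d19_2 F11914 D4392 (iv D4392)
theorem F15135 : act 6 n4392 = n3677 := d20_2 (iv F11915) D4392 (iv D3677)
theorem F15136 : act 7 n4392 = n3419 := d21_2 (iv F11916) D4392 (iv D3419)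
def n4393 : Q := act 4 n3417
theorem D4393 : act 4 n3417 = n4393 := rfl
theorem F15137 : act 0 n4393 = n3504 := d3_1 D4393 (iv D3504) (iv F11917)
theorem F15138 : act 2 n4393 = n4393 := d14_1 D4393 (iv D4393) F11918
theorem F15139 : act 3 n4393 = n3553 := d18_1 D4393 (iv D3553) (iv D2756) (iv F9402) D3417
theorem F15140 : act 6 n4393 = n3678 := d23_2 (iv F11920) D4393 (iv D3678)
theorem F15141 : act 7 n4393 = n3420 := d24_2 (iv F11921) D4393 (iv D3420)
def n4394 : Q := act 3 n3418
theorem D4394 : act 3 n3418 = n4394 := rfl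
theorem F15142 : act 0 n4394 = n3419 := d2_1 D4394 (iv D3419) D3418
theorem F15143 : act 1 n4394 = n3505 := d8_1 D4394 (iv D3505) (iv F11922)
theorem F15144 : act 5 n4394 = n4394 := d19_2 F11924 D4394 (iv D4394)
theorem F15145 : act 6 n4394 = n4394 := d20_2 F11925 D4394 (iv D4394)
def n4395 : Q := act 2 n3419
theorem D4395 : act 2 n3419 = n4395 := rfl
theorem F15146 : act 1 n4395 = n4395 := d7_1 D4395 (iv D4395) F11926 F9410 (iv F11926)
theorem F15147 : act 3 n4395 = n3434 := d13_2 D3419 D4395 (iv D3434) (iv D2668) (iv F9406)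
theorem F15148 : act 5 n4395 = n4395 := d15_2 F11927 D4395 (iv D4395)
def n4396 : Q := act 4 n3419
theorem D4396 : act 4 n3419 = n4396 := rfl
theorem F15149 : act 1 n4396 = n3420 := d9_1 D4396 (iv D3420) (iv F11926)
theorem F15150 : act 6 n4396 = n4396 := d23_2 F11928 D4396 (iv D4396)
def n4397 : Q := act 5 n3420
theorem D4397 : act 5 n3420 = n4397 := rfl
theorem F15151 : act 0 n4397 = n3508 := d4_1 D4397 (iv D3508) (iv F11929)
theorem F15152 : act 2 n4397 = n4397 := d15_1 D4397 (iv D4397) F11930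
theorem F15153 : act 4 n4397 = n4397 := d22_1 D4397 (iv D4397) (iv D3420) F9411 D3420
theorem F15154 : act 6 n4397 = n4397 := d25_2 F11931 D4397 (iv D4397)
def n4398 : Q := act 0 n3421
theorem D4398 : act 0 n3421 = n4398 := rfl
theorem F15155 : act 1 n4398 = n3453 := d0_2 D3421 D4398 (iv D3453) (iv D2682) (iv F9413)
theorem F15156 : act 2 n4398 = n3561 := d1_2 (iv F11932) D4398 (iv D3561)
theorem F15157 : act 4 n4398 = n4398 := d3_2 F11933 D4398 (iv D4398)
theorem F15158 : act 5 n4398 = n3459 := d4_2 (iv F11934) D4398 (iv D3459)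
theorem F15159 : act 6 n4398 = n4398 := d5_2 F11935 D4398 (iv D4398)
theorem F15160 : act 7 n4398 = n3456 := d6_2 (iv F11936) D4398 (iv D3456)
def n4399 : Q := act 3 n3421
theorem D4399 : act 3 n3421 = n4399 := rfl
theorem F15161 : act 1 n4399 = n3422 := d8_1 D4399 (iv D3422) D3421
theorem F15162 : act 5 n4399 = n3460 := d19_2 (iv F11934) D4399 (iv D3460)
theorem F15163 : act 6 n4399 = n4399 := d20_2 F11935 D4399 (iv D4399)
theorem F15164 : act 7 n4399 = n3457 := d21_2 (iv F11936) D4399 (iv D3457)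
def n4400 : Q := act 4 n3422
theorem D4400 : act 4 n3422 = n4400 := rfl
theorem F15165 : act 0 n4400 = n3455 := d3_1 D4400 (iv D3455) (iv F11937)
theorem F15166 : act 2 n4400 = n3429 := d14_1 D4400 (iv D3429) (iv F11938)
theorem F15167 : act 3 n4400 = n4400 := d18_1 D4400 (iv D4400) (iv D3422) F9414 D3422
theorem F15168 : act 6 n4400 = n4400 := d23_2 F11940 D4400 (iv D4400)
theorem F15169 : act 7 n4400 = n3458 := d24_2 (iv F11941) D4400 (iv D3458)
def n4401 : Q := act 0 n3423
theorem D4401 : act 0 n3423 = n4401 := rfl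
theorem F15170 : act 1 n4401 = n3456 := d0_2 D3423 D4401 (iv D3456) (iv D2684) (iv F9418)
theorem F15171 : act 2 n4401 = n3554 := d1_2 (iv F11942) D4401 (iv D3554)
theorem F15172 : act 4 n4401 = n4401 := d3_2 F11943 D4401 (iv D4401)
theorem F15173 : act 5 n4401 = n3427 := d4_2 (iv F11944) D4401 (iv D3427)
theorem F15174 : act 6 n4401 = n3437 := d5_2 (iv F11945) D4401 (iv D3437)
theorem F15175 : act 7 n4401 = n3453 := d6_2 (iv F11946) D4401 (iv D3453)
def n4402 : Q := act 3 n3423
theorem D4402 : act 3 n3423 = n4402 := rfl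
theorem F15176 : act 1 n4402 = n3424 := d8_1 D4402 (iv D3424) D3423
theorem F15177 : act 5 n4402 = n3428 := d19_2 (iv F11944) D4402 (iv D3428)
theorem F15178 : act 6 n4402 = n3438 := d20_2 (iv F11945) D4402 (iv D3438)
theorem F15179 : act 7 n4402 = n3454 := d21_2 (iv F11946) D4402 (iv D3454)
def n4403 : Q := act 4 n3424
theorem D4403 : act 4 n3424 = n4403 := rfl
theorem F15180 : act 0 n4403 = n3458 := d3_1 D4403 (iv D3458) (iv F11947)
theorem F15181 : act 2 n4403 = n3461 := d14_1 D4403 (iv D3461) (iv F11948)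
theorem F15182 : act 3 n4403 = n4403 := d18_1 D4403 (iv D4403) (iv D3424) F9419 D3424
theorem F15183 : act 6 n4403 = n3439 := d23_2 (iv F11950) D4403 (iv D3439)
theorem F15184 : act 7 n4403 = n3455 := d24_2 (iv F11951) D4403 (iv D3455)
def n4404 : Q := act 0 n3425
theorem D4404 : act 0 n3425 = n4404 := rfl
theorem F15185 : act 1 n4404 = n3459 := d0_2 D3425 D4404 (iv D3459) (iv D2686) (iv F9423)
theorem F15186 : act 2 n4404 = n3551 := d1_2 (iv F11952) D4404 (iv D3551)
theorem F15187 : act 4 n4404 = n3430 := d3_2 (iv F11953) D4404 (iv D3430)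
theorem F15188 : act 5 n4404 = n3453 := d4_2 (iv F11954) D4404 (iv D3453)
theorem F15189 : act 6 n4404 = n4404 := d5_2 F11955 D4404 (iv D4404)
theorem F15190 : act 7 n4404 = n3427 := d6_2 (iv F11956) D4404 (iv D3427)
def n4405 : Q := act 3 n3425
theorem D4405 : act 3 n3425 = n4405 := rfl
theorem F15191 : act 1 n4405 = n3426 := d8_1 D4405 (iv D3426) D3425
theorem F15192 : act 5 n4405 = n3454 := d19_2 (iv F11954) D4405 (iv D3454)
theorem F15193 : act 6 n4405 = n4405 := d20_2 F11955 D4405 (iv D4405)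
theorem F15194 : act 7 n4405 = n3428 := d21_2 (iv F11956) D4405 (iv D3428)
def n4406 : Q := act 4 n3426
theorem D4406 : act 4 n3426 = n4406 := rfl
theorem F15195 : act 0 n4406 = n3461 := d3_1 D4406 (iv D3461) (iv F11957)
theorem F15196 : act 2 n4406 = n3458 := d14_1 D4406 (iv D3458) (iv F11958)
theorem F15197 : act 3 n4406 = n3432 := d18_1 D4406 (iv D3432) (iv D2666) (iv F9424) D3426
theorem F15198 : act 6 n4406 = n4406 := d23_2 F11960 D4406 (iv D4406)
theorem F15199 : act 7 n4406 = n3429 := d24_2 (iv F11961) D4406 (iv D3429)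
def n4407 : Q := act 3 n3427
theorem D4407 : act 3 n3427 = n4407 := rfl
theorem F15200 : act 0 n4407 = n3428 := d2_1 D4407 (iv D3428) D3427
theorem F15201 : act 1 n4407 = n3462 := d8_1 D4407 (iv D3462) (iv F11962)
theorem F15202 : act 6 n4407 = n3440 := d20_2 (iv F11964) D4407 (iv D3440)
def n4408 : Q := act 2 n3428
theorem D4408 : act 2 n3428 = n4408 := rfl
def n4409 : Q := act 4 n3428
theorem D4409 : act 4 n3428 = n4409 := rfl
theorem F15203 : act 1 n4409 = n3429 := d9_1 D4409 (iv D3429) (iv F11965)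
theorem F15204 : act 3 n4409 = n3435 := d18_1 D4409 (iv D3435) (iv D2668) (iv F9428) D3428
theorem F15205 : act 6 n4409 = n3442 := d23_2 (iv F11966) D4409 (iv D3442)
def n4410 : Q := act 5 n3429
theorem D4410 : act 5 n3429 = n4410 := rfl
theorem F15206 : act 0 n4410 = n3465 := d4_1 D4410 (iv D3465) (iv F11967)
theorem F15207 : act 3 n4410 = n3436 := d19_1 D4410 (iv D3436) (iv F11968)
theorem F15208 : act 6 n4410 = n3443 := d25_2 (iv F11969) D4410 (iv D3443)
def n4411 : Q := act 3 n3430
theorem D4411 : act 3 n3430 = n4411 := rfl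
theorem F15209 : act 0 n4411 = n3431 := d2_1 D4411 (iv D3431) D3430
theorem F15210 : act 1 n4411 = n3466 := d8_1 D4411 (iv D3466) (iv F11970)
theorem F15211 : act 5 n4411 = n4411 := d19_2 F11971 D4411 (iv D4411)
theorem F15212 : act 6 n4411 = n4411 := d20_2 F11972 D4411 (iv D4411)
theorem F15213 : act 7 n4411 = n3433 := d21_2 (iv F11973) D4411 (iv D3433)
def n4412 : Q := act 2 n3431
theorem D4412 : act 2 n3431 = n4412 := rfl
theorem F15214 : act 1 n4412 = n4412 := d7_1 D4412 (iv D4412) F11974 F9436 (iv F11974)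
theorem F15215 : act 5 n4412 = n4412 := d15_2 F11975 D4412 (iv D4412)
theorem F15216 : act 7 n4412 = n3434 := d17_2 (iv F11977) D4412 (iv D3434)
def n4413 : Q := act 4 n3431
theorem D4413 : act 4 n3431 = n4413 := rfl
theorem F15217 : act 1 n4413 = n3432 := d9_1 D4413 (iv D3432) (iv F11974)
theorem F15218 : act 6 n4413 = n4413 := d23_2 F11976 D4413 (iv D4413)
theorem F15219 : act 7 n4413 = n3435 := d24_2 (iv F11977) D4413 (iv D3435)
def n4414 : Q := act 5 n3432
theorem D4414 : act 5 n3432 = n4414 := rfl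
theorem F15220 : act 0 n4414 = n3469 := d4_1 D4414 (iv D3469) (iv F11978)
theorem F15221 : act 2 n4414 = n4414 := d15_1 D4414 (iv D4414) F11979
theorem F15222 : act 4 n4414 = n4414 := d22_1 D4414 (iv D4414) (iv D3432) F9437 D3432
theorem F15223 : act 6 n4414 = n4414 := d25_2 F11980 D4414 (iv D4414)
theorem F15224 : act 7 n4414 = n3436 := d26_2 (iv F11981) D4414 (iv D3436)
def n4415 : Q := act 2 n3433
theorem D4415 : act 2 n3433 = n4415 := rfl
theorem F15225 : act 0 n4415 = n3434 := d1_1 D4415 (iv D3434) (iv F11982)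
theorem F15226 : act 5 n4415 = n4415 := d15_2 F11984 D4415 (iv D4415)
def n4416 : Q := act 4 n3433
theorem D4416 : act 4 n3433 = n4416 := rfl
theorem F15227 : act 0 n4416 = n3435 := d3_1 D4416 (iv D3435) (iv F11982)
theorem F15228 : act 1 n4416 = n3471 := d9_1 D4416 (iv D3471) (iv F11983)
theorem F15229 : act 6 n4416 = n3445 := d23_2 (iv F11985) D4416 (iv D3445)
def n4417 : Q := act 4 n3434
theorem D4417 : act 4 n3434 = n4417 := rfl
theorem F15230 : act 1 n4417 = n4417 := d9_1 D4417 (iv D4417) F11986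
theorem F15231 : act 2 n4417 = n3435 := d14_1 D4417 (iv D3435) D3434
def n4418 : Q := act 6 n3434
theorem D4418 : act 6 n3434 = n4418 := rfl
theorem F15232 : act 1 n4418 = n4418 := d11_1 D4418 (iv D4418) F11986
theorem F15233 : act 2 n4418 = n3447 := d16_1 D4418 (iv D3447) (iv D2676) (iv F9445) D3434
theorem F15234 : act 5 n4418 = n4418 := d25_1 D4418 (iv D4418) F11987
def n4419 : Q := act 5 n3435
theorem D4419 : act 5 n3435 = n4419 := rfl
theorem F15235 : act 1 n4419 = n3436 := d10_1 D4419 (iv D3436) (iv F11988)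
theorem F15236 : act 4 n4419 = n4419 := d22_1 D4419 (iv D4419) (iv D3435) F9444 D3435
theorem F15237 : act 6 n4419 = n3448 := d25_2 (iv F11989) D4419 (iv D3448)
def n4420 : Q := act 3 n3437
theorem D4420 : act 3 n3437 = n4420 := rfl
theorem F15238 : act 0 n4420 = n3438 := d2_1 D4420 (iv D3438) D3437
theorem F15239 : act 1 n4420 = n3474 := d8_1 D4420 (iv D3474) (iv F11994)
theorem F15240 : act 5 n4420 = n3440 := d19_2 (iv F11997) D4420 (iv D3440)
theorem F15241 : act 7 n4420 = n4420 := d21_2 F11998 D4420 (iv D4420)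
def n4421 : Q := act 2 n3438
theorem D4421 : act 2 n3438 = n4421 := rfl
theorem F15242 : act 1 n4421 = n4421 := d7_1 D4421 (iv D4421) F11999 F9454 (iv F11999)
theorem F15243 : act 3 n4421 = n4421 := d13_2 D3438 D4421 (iv D4421) (iv D3438) F9449
theorem F15244 : act 5 n4421 = n3441 := d15_2 (iv F12000) D4421 (iv D3441)
theorem F15245 : act 7 n4421 = n4421 := d17_2 F12001 D4421 (iv D4421)
def n4422 : Q := act 4 n3438
theorem D4422 : act 4 n3438 = n4422 := rfl
theorem F15246 : act 1 n4422 = n3439 := d9_1 D4422 (iv D3439) (iv F11999)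
theorem F15247 : act 3 n4422 = n4422 := d18_1 D4422 (iv D4422) (iv D3438) F9450 D3438
theorem F15248 : act 7 n4422 = n4422 := d24_2 F12001 D4422 (iv D4422)
def n4423 : Q := act 5 n3439
theorem D4423 : act 5 n3439 = n4423 := rfl
theorem F15249 : act 0 n4423 = n3477 := d4_1 D4423 (iv D3477) (iv F12002)
theorem F15250 : act 2 n4423 = n4423 := d15_1 D4423 (iv D4423) F12003
theorem F15251 : act 3 n4423 = n4423 := d19_1 D4423 (iv D4423) F12004
theorem F15252 : act 4 n4423 = n3443 := d22_1 D4423 (iv D3443) (iv D2674) (iv F9455) D3439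
theorem F15253 : act 7 n4423 = n4423 := d26_2 F12005 D4423 (iv D4423)
def n4424 : Q := act 2 n3440
theorem D4424 : act 2 n3440 = n4424 := rfl
theorem F15254 : act 0 n4424 = n3441 := d1_1 D4424 (iv D3441) (iv F12006)
theorem F15255 : act 3 n4424 = n4424 := d13_2 D3440 D4424 (iv D4424) (iv D3440) F9458
theorem F15256 : act 7 n4424 = n4424 := d17_2 F12008 D4424 (iv D4424)
def n4425 : Q := act 4 n3440
theorem D4425 : act 4 n3440 = n4425 := rfl
theorem F15257 : act 0 n4425 = n3442 := d3_1 D4425 (iv D3442) (iv F12006)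
theorem F15258 : act 1 n4425 = n3479 := d9_1 D4425 (iv D3479) (iv F12007)
theorem F15259 : act 3 n4425 = n3445 := d18_1 D4425 (iv D3445) (iv D2675) (iv F9459) D3440
theorem F15260 : act 7 n4425 = n4425 := d24_2 F12008 D4425 (iv D4425)
def n4426 : Q := act 4 n3441
theorem D4426 : act 4 n3441 = n4426 := rfl
theorem F15261 : act 1 n4426 = n4426 := d9_1 D4426 (iv D4426) F12009
theorem F15262 : act 2 n4426 = n3442 := d14_1 D4426 (iv D3442) D3441
theorem F15263 : act 7 n4426 = n4426 := d24_2 F12011 D4426 (iv D4426)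
def n4427 : Q := act 6 n3441
theorem D4427 : act 6 n3441 = n4427 := rfl
theorem F15264 : act 1 n4427 = n4427 := d11_1 D4427 (iv D4427) F12009
theorem F15265 : act 3 n4427 = n4427 := d20_1 D4427 (iv D4427) F12010
def n4428 : Q := act 5 n3442
theorem D4428 : act 5 n3442 = n4428 := rfl
theorem F15266 : act 1 n4428 = n3443 := d10_1 D4428 (iv D3443) (iv F12012)
theorem F15267 : act 3 n4428 = n3448 := d19_1 D4428 (iv D3448) (iv F12013)
theorem F15268 : act 7 n4428 = n4428 := d26_2 F12014 D4428 (iv D4428)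
def n4429 : Q := act 4 n3444
theorem D4429 : act 4 n3444 = n4429 := rfl
theorem F15269 : act 0 n4429 = n3446 := d3_1 D4429 (iv D3446) (iv F12019)
theorem F15270 : act 1 n4429 = n4429 := d9_1 D4429 (iv D4429) F12020
theorem F15271 : act 2 n4429 = n3445 := d14_1 D4429 (iv D3445) D3444
theorem F15272 : act 7 n4429 = n4429 := d24_2 F12023 D4429 (iv D4429)
def n4430 : Q := act 6 n3444
theorem D4430 : act 6 n3444 = n4430 := rfl
theorem F15273 : act 0 n4430 = n3447 := d5_1 D4430 (iv D3447) (iv F12019)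
theorem F15274 : act 1 n4430 = n4430 := d11_1 D4430 (iv D4430) F12020
theorem F15275 : act 3 n4430 = n4430 := d20_1 D4430 (iv D4430) F12021
theorem F15276 : act 5 n4430 = n4430 := d25_1 D4430 (iv D4430) F12022
def n4431 : Q := act 5 n3445
theorem D4431 : act 5 n3445 = n4431 := rfl
theorem F15277 : act 0 n4431 = n3448 := d4_1 D4431 (iv D3448) (iv F12024)
theorem F15278 : act 1 n4431 = n3483 := d10_1 D4431 (iv D3483) (iv F12025)
theorem F15279 : act 4 n4431 = n4431 := d22_1 D4431 (iv D4431) (iv D3445) F9469 D3445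
theorem F15280 : act 7 n4431 = n4431 := d26_2 F12026 D4431 (iv D4431)
def n4432 : Q := act 3 n3446
theorem D4432 : act 3 n3446 = n4432 := rfl
theorem F15281 : act 1 n4432 = n3449 := d8_1 D4432 (iv D3449) (iv F12027)
theorem F15282 : act 4 n4432 = n4432 := d18_2 D3446 D4432 (iv D4432) (iv D3446) F9472
theorem F15283 : act 7 n4432 = n4432 := d21_2 F12029 D4432 (iv D4432)
def n4433 : Q := act 5 n3446
theorem D4433 : act 5 n3446 = n4433 := rfl
theorem F15284 : act 1 n4433 = n3450 := d10_1 D4433 (iv D3450) (iv F12027)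
theorem F15285 : act 2 n4433 = n3448 := d15_1 D4433 (iv D3448) (iv F12028)
theorem F15286 : act 4 n4433 = n4433 := d22_1 D4433 (iv D4433) (iv D3446) F9473 D3446
theorem F15287 : act 7 n4433 = n4433 := d26_2 F12029 D4433 (iv D4433)
def n4434 : Q := act 6 n3446
theorem D4434 : act 6 n3446 = n4434 := rfl
theorem F15288 : act 1 n4434 = n3451 := d11_1 D4434 (iv D3451) (iv F12027)
theorem F15289 : act 4 n4434 = n3447 := d23_1 D4434 (iv D3447) D3446
def n4435 : Q := act 7 n3447
theorem D4435 : act 7 n3447 = n4435 := rfl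
theorem F15290 : act 1 n4435 = n3452 := d12_1 D4435 (iv D3452) (iv F12030)
theorem F15291 : act 3 n4435 = n4435 := d21_1 D4435 (iv D4435) F12031
theorem F15292 : act 5 n4435 = n4435 := d26_1 D4435 (iv D4435) F12032
theorem F15293 : act 6 n4435 = n4435 := d27_1 D4435 (iv D4435) (iv D3447) F9474 D3447
def n4436 : Q := act 5 n3449
theorem D4436 : act 5 n3449 = n4436 := rfl
theorem F15296 : act 3 n4436 = n3450 := d19_1 D4436 (iv D3450) D3449
def n4437 : Q := act 6 n3449
theorem D4437 : act 6 n3449 = n4437 := rfl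
theorem F15299 : act 3 n4437 = n3451 := d20_1 D4437 (iv D3451) D3449
def n4438 : Q := act 6 n3450
theorem D4438 : act 6 n3450 = n4438 := rfl
theorem F15304 : act 5 n4438 = n3451 := d25_1 D4438 (iv D3451) D3450
def n4439 : Q := act 7 n3451
theorem D4439 : act 7 n3451 = n4439 := rfl
theorem F15307 : act 4 n4439 = n3452 := d24_1 D4439 (iv D3452) (iv F12046)
def n4440 : Q := act 3 n3453
theorem D4440 : act 3 n3453 = n4440 := rfl
theorem F15309 : act 0 n4440 = n3454 := d2_1 D4440 (iv D3454) D3453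
theorem F15310 : act 6 n4440 = n4440 := d20_2 F12054 D4440 (iv D4440)
def n4441 : Q := act 2 n3454
theorem D4441 : act 2 n3454 = n4441 := rfl
theorem F15311 : act 1 n4441 = n3463 := d7_1 D4441 (iv D3463) F9514 (iv F9497) (iv F12055)
theorem F15312 : act 3 n4441 = n3558 := d13_2 D3454 D4441 (iv D3558) (iv D2760) (iv F9494)
def n4442 : Q := act 4 n3454
theorem D4442 : act 4 n3454 = n4442 := rfl
theorem F15313 : act 1 n4442 = n3455 := d9_1 D4442 (iv D3455) (iv F12055)
theorem F15314 : act 3 n4442 = n4442 := d18_1 D4442 (iv D4442) (iv D3454) F9495 D3454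
theorem F15315 : act 6 n4442 = n4442 := d23_2 F12056 D4442 (iv D4442)
def n4443 : Q := act 5 n3455
theorem D4443 : act 5 n3455 = n4443 := rfl
theorem F15316 : act 2 n4443 = n3465 := d15_1 D4443 (iv D3465) (iv F12057)
theorem F15317 : act 3 n4443 = n4443 := d19_1 D4443 (iv D4443) F12058
theorem F15318 : act 6 n4443 = n4443 := d25_2 F12059 D4443 (iv D4443)
def n4444 : Q := act 3 n3456
theorem D4444 : act 3 n3456 = n4444 := rfl
theorem F15319 : act 0 n4444 = n3457 := d2_1 D4444 (iv D3457) D3456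
theorem F15320 : act 5 n4444 = n3462 := d19_2 (iv F12062) D4444 (iv D3462)
theorem F15321 : act 6 n4444 = n3474 := d20_2 (iv F12063) D4444 (iv D3474)
def n4445 : Q := act 2 n3457
theorem D4445 : act 2 n3457 = n4445 := rfl
theorem F15322 : act 3 n4445 = n3565 := d13_2 D3457 D4445 (iv D3565) (iv D2765) (iv F9499)
theorem F15323 : act 5 n4445 = n3463 := d15_2 (iv F12065) D4445 (iv D3463)
def n4446 : Q := act 4 n3457
theorem D4446 : act 4 n3457 = n4446 := rfl
theorem F15324 : act 1 n4446 = n3458 := d9_1 D4446 (iv D3458) (iv F12064)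
theorem F15325 : act 3 n4446 = n4446 := d18_1 D4446 (iv D4446) (iv D3457) F9500 D3457
theorem F15326 : act 6 n4446 = n3476 := d23_2 (iv F12066) D4446 (iv D3476)
def n4447 : Q := act 5 n3458
theorem D4447 : act 5 n3458 = n4447 := rfl
theorem F15327 : act 3 n4447 = n4447 := d19_1 D4447 (iv D4447) F12067
theorem F15328 : act 4 n4447 = n3465 := d22_1 D4447 (iv D3465) (iv D2690) (iv F9503) D3458
theorem F15329 : act 6 n4447 = n3477 := d25_2 (iv F12068) D4447 (iv D3477)
def n4448 : Q := act 3 n3459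
theorem D4448 : act 3 n3459 = n4448 := rfl
theorem F15330 : act 0 n4448 = n3460 := d2_1 D4448 (iv D3460) D3459
theorem F15331 : act 6 n4448 = n4448 := d20_2 F12071 D4448 (iv D4448)
theorem F15332 : act 7 n4448 = n3462 := d21_2 (iv F12072) D4448 (iv D3462)
def n4449 : Q := act 2 n3460
theorem D4449 : act 2 n3460 = n4449 := rfl
theorem F15333 : act 3 n4449 = n3569 := d13_2 D3460 D4449 (iv D3569) (iv D2768) (iv F9505)
theorem F15334 : act 7 n4449 = n3463 := d17_2 (iv F12075) D4449 (iv D3463)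
def n4450 : Q := act 4 n3460
theorem D4450 : act 4 n3460 = n4450 := rfl
theorem F15335 : act 1 n4450 = n3461 := d9_1 D4450 (iv D3461) (iv F12073)
theorem F15336 : act 3 n4450 = n3468 := d18_1 D4450 (iv D3468) (iv D2692) (iv F9506) D3460
theorem F15337 : act 6 n4450 = n4450 := d23_2 F12074 D4450 (iv D4450)
theorem F15338 : act 7 n4450 = n3464 := d24_2 (iv F12075) D4450 (iv D3464)
def n4451 : Q := act 5 n3461
theorem D4451 : act 5 n3461 = n4451 := rfl
theorem F15339 : act 3 n4451 = n3469 := d19_1 D4451 (iv D3469) (iv F12076)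
theorem F15340 : act 6 n4451 = n4451 := d25_2 F12077 D4451 (iv D4451)
theorem F15341 : act 7 n4451 = n3465 := d26_2 (iv F12078) D4451 (iv D3465)
def n4452 : Q := act 2 n3462
theorem D4452 : act 2 n3462 = n4452 := rfl
theorem F15342 : act 0 n4452 = n3463 := d1_1 D4452 (iv D3463) (iv F12079)
theorem F15343 : act 3 n4452 = n3572 := d13_2 D3462 D4452 (iv D3572) (iv D2770) (iv F9511)
def n4453 : Q := act 4 n3462
theorem D4453 : act 4 n3462 = n4453 := rfl
theorem F15344 : act 0 n4453 = n3464 := d3_1 D4453 (iv D3464) (iv F12079)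
theorem F15345 : act 3 n4453 = n3471 := d18_1 D4453 (iv D3471) (iv D2694) (iv F9512) D3462
theorem F15346 : act 6 n4453 = n3479 := d23_2 (iv F12080) D4453 (iv D3479)
def n4454 : Q := act 4 n3463
theorem D4454 : act 4 n3463 = n4454 := rfl
theorem F15347 : act 2 n4454 = n3464 := d14_1 D4454 (iv D3464) D3463
def n4455 : Q := act 6 n3463
theorem D4455 : act 6 n3463 = n4455 := rfl
theorem F15348 : act 2 n4455 = n3481 := d16_1 D4455 (iv D3481) (iv D2702) (iv F9515) D3463
theorem F15349 : act 3 n4455 = n3575 := d20_1 D4455 (iv D3575) (iv F12081)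
def n4456 : Q := act 5 n3464
theorem D4456 : act 5 n3464 = n4456 := rfl
theorem F15350 : act 1 n4456 = n3465 := d10_1 D4456 (iv D3465) (iv F12082)
theorem F15351 : act 3 n4456 = n3473 := d19_1 D4456 (iv D3473) (iv F12083)
theorem F15352 : act 6 n4456 = n3482 := d25_2 (iv F12084) D4456 (iv D3482)
def n4457 : Q := act 2 n3466
theorem D4457 : act 2 n3466 = n4457 := rfl
theorem F15353 : act 0 n4457 = n3467 := d1_1 D4457 (iv D3467) (iv F12087)
theorem F15354 : act 3 n4457 = n3577 := d13_2 D3466 D4457 (iv D3577) (iv D2774) (iv F9518)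
theorem F15355 : act 5 n4457 = n4457 := d15_2 F12088 D4457 (iv D4457)
theorem F15356 : act 7 n4457 = n3470 := d17_2 (iv F12090) D4457 (iv D3470)
def n4458 : Q := act 4 n3466
theorem D4458 : act 4 n3466 = n4458 := rfl
theorem F15357 : act 0 n4458 = n3468 := d3_1 D4458 (iv D3468) (iv F12087)
theorem F15358 : act 6 n4458 = n4458 := d23_2 F12089 D4458 (iv D4458)
theorem F15359 : act 7 n4458 = n3471 := d24_2 (iv F12090) D4458 (iv D3471)
def n4459 : Q := act 4 n3467
theorem D4459 : act 4 n3467 = n4459 := rfl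
theorem F15360 : act 1 n4459 = n4459 := d9_1 D4459 (iv D4459) F12091
theorem F15361 : act 2 n4459 = n3468 := d14_1 D4459 (iv D3468) D3467
theorem F15362 : act 7 n4459 = n3472 := d24_2 (iv F12094) D4459 (iv D3472)
def n4460 : Q := act 6 n3467
theorem D4460 : act 6 n3467 = n4460 := rfl
theorem F15363 : act 1 n4460 = n4460 := d11_1 D4460 (iv D4460) F12091
theorem F15364 : act 2 n4460 = n4460 := d16_1 D4460 (iv D4460) (iv D3467) F9524 D3467
theorem F15365 : act 3 n4460 = n3580 := d20_1 D4460 (iv D3580) (iv F12092)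
theorem F15366 : act 5 n4460 = n4460 := d25_1 D4460 (iv D4460) F12093
theorem F15367 : act 7 n4460 = n4460 := d27_2 (iv F12094) D4460 (iv D4460) F12094 F9535
def n4461 : Q := act 5 n3468
theorem D4461 : act 5 n3468 = n4461 := rfl
theorem F15368 : act 1 n4461 = n3469 := d10_1 D4461 (iv D3469) (iv F12095)
theorem F15369 : act 4 n4461 = n4461 := d22_1 D4461 (iv D4461) (iv D3468) F9523 D3468
theorem F15370 : act 6 n4461 = n4461 := d25_2 F12096 D4461 (iv D4461)
theorem F15371 : act 7 n4461 = n3473 := d26_2 (iv F12097) D4461 (iv D3473)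
def n4462 : Q := act 1 n3470
theorem D4462 : act 1 n3470 = n4462 := rfl
theorem F15372 : act 0 n4462 = n4462 := d0_1 D4462 (iv D4462) F12102 F9532 (iv F12102)
theorem F15373 : act 3 n4462 = n3582 := d8_2 (iv F12103) D4462 (iv D3582)
theorem F15374 : act 5 n4462 = n4462 := d10_2 F12104 D4462 (iv D4462)
theorem F15375 : act 6 n4462 = n4462 := d11_2 F12105 D4462 (iv D4462)
def n4463 : Q := act 4 n3470
theorem D4463 : act 4 n3470 = n4463 := rfl
theorem F15376 : act 0 n4463 = n3472 := d3_1 D4463 (iv D3472) (iv F12102)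
theorem F15377 : act 2 n4463 = n3471 := d14_1 D4463 (iv D3471) D3470
theorem F15378 : act 6 n4463 = n4463 := d23_2 F12105 D4463 (iv D4463)
def n4464 : Q := act 5 n3471
theorem D4464 : act 5 n3471 = n4464 := rfl
theorem F15379 : act 0 n4464 = n3473 := d4_1 D4464 (iv D3473) (iv F12106)
theorem F15380 : act 4 n4464 = n4464 := d22_1 D4464 (iv D4464) (iv D3471) F9530 D3471
theorem F15381 : act 6 n4464 = n3483 := d25_2 (iv F12107) D4464 (iv D3483)
def n4465 : Q := act 3 n3472
theorem D4465 : act 3 n3472 = n4465 := rfl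
theorem F15382 : act 1 n4465 = n4465 := d8_1 D4465 (iv D4465) F12108
theorem F15383 : act 4 n4465 = n3585 := d18_2 D3472 D4465 (iv D3585) (iv D2780) (iv F9533)
theorem F15384 : act 6 n4465 = n4465 := d20_2 F12110 D4465 (iv D4465)
def n4466 : Q := act 5 n3472
theorem D4466 : act 5 n3472 = n4466 := rfl
theorem F15385 : act 1 n4466 = n4466 := d10_1 D4466 (iv D4466) F12108
theorem F15386 : act 2 n4466 = n3473 := d15_1 D4466 (iv D3473) (iv F12109)
theorem F15387 : act 4 n4466 = n4466 := d22_1 D4466 (iv D4466) (iv D3472) F9534 D3472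
theorem F15388 : act 6 n4466 = n4466 := d25_2 F12110 D4466 (iv D4466)
def n4467 : Q := act 2 n3474
theorem D4467 : act 2 n3474 = n4467 := rfl
theorem F15389 : act 0 n4467 = n3475 := d1_1 D4467 (iv D3475) (iv F12114)
theorem F15390 : act 3 n4467 = n3484 := d13_2 D3474 D4467 (iv D3484) (iv D2707) (iv F9541)
theorem F15391 : act 5 n4467 = n3478 := d15_2 (iv F12115) D4467 (iv D3478)
theorem F15392 : act 7 n4467 = n4467 := d17_2 F12116 D4467 (iv D4467)
def n4468 : Q := act 4 n3474
theorem D4468 : act 4 n3474 = n4468 := rfl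
theorem F15393 : act 0 n4468 = n3476 := d3_1 D4468 (iv D3476) (iv F12114)
theorem F15394 : act 3 n4468 = n4468 := d18_1 D4468 (iv D4468) (iv D3474) F9542 D3474
theorem F15395 : act 7 n4468 = n4468 := d24_2 F12116 D4468 (iv D4468)
def n4469 : Q := act 4 n3475
theorem D4469 : act 4 n3475 = n4469 := rfl
theorem F15396 : act 1 n4469 = n4469 := d9_1 D4469 (iv D4469) F12117
theorem F15397 : act 2 n4469 = n3476 := d14_1 D4469 (iv D3476) D3475
theorem F15398 : act 7 n4469 = n4469 := d24_2 F12120 D4469 (iv D4469)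
def n4470 : Q := act 6 n3475
theorem D4470 : act 6 n3475 = n4470 := rfl
theorem F15399 : act 1 n4470 = n4470 := d11_1 D4470 (iv D4470) F12117
theorem F15400 : act 3 n4470 = n3487 := d20_1 D4470 (iv D3487) (iv F12118)
theorem F15401 : act 5 n4470 = n3481 := d25_1 D4470 (iv D3481) (iv F12119)
def n4471 : Q := act 5 n3476
theorem D4471 : act 5 n3476 = n4471 := rfl
theorem F15402 : act 1 n4471 = n3477 := d10_1 D4471 (iv D3477) (iv F12121)
theorem F15403 : act 3 n4471 = n4471 := d19_1 D4471 (iv D4471) F12122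
theorem F15404 : act 4 n4471 = n3482 := d22_1 D4471 (iv D3482) (iv D2703) (iv F9546) D3476
theorem F15405 : act 7 n4471 = n4471 := d26_2 F12123 D4471 (iv D4471)
def n4472 : Q := act 1 n3478
theorem D4472 : act 1 n3478 = n4472 := rfl
theorem F15406 : act 0 n4472 = n4472 := d0_1 D4472 (iv D4472) F12128 F9553 (iv F12128)
theorem F15407 : act 3 n4472 = n3488 := d8_2 (iv F12129) D4472 (iv D3488)
theorem F15408 : act 7 n4472 = n4472 := d12_2 F12130 D4472 (iv D4472)
def n4473 : Q := act 4 n3478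
theorem D4473 : act 4 n3478 = n4473 := rfl
theorem F15409 : act 0 n4473 = n3480 := d3_1 D4473 (iv D3480) (iv F12128)
theorem F15410 : act 2 n4473 = n3479 := d14_1 D4473 (iv D3479) D3478
theorem F15411 : act 3 n4473 = n4473 := d18_1 D4473 (iv D4473) F12129 F9583 (iv F12129)
theorem F15412 : act 7 n4473 = n4473 := d24_2 F12130 D4473 (iv D4473)
def n4474 : Q := act 6 n3478
theorem D4474 : act 6 n3478 = n4474 := rfl
theorem F15413 : act 0 n4474 = n3481 := d5_1 D4474 (iv D3481) (iv F12128)
theorem F15414 : act 3 n4474 = n3489 := d20_1 D4474 (iv D3489) (iv F12129)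
def n4475 : Q := act 5 n3479
theorem D4475 : act 5 n3479 = n4475 := rfl
theorem F15415 : act 0 n4475 = n3482 := d4_1 D4475 (iv D3482) (iv F12131)
theorem F15416 : act 3 n4475 = n3483 := d19_1 D4475 (iv D3483) (iv F12132)
theorem F15417 : act 7 n4475 = n4475 := d26_2 F12133 D4475 (iv D4475)
def n4476 : Q := act 5 n3480
theorem D4476 : act 5 n3480 = n4476 := rfl
theorem F15418 : act 1 n4476 = n4476 := d10_1 D4476 (iv D4476) F12134
theorem F15419 : act 2 n4476 = n3482 := d15_1 D4476 (iv D3482) (iv F12135)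
theorem F15420 : act 3 n4476 = n4476 := d19_1 D4476 (iv D4476) F12136
theorem F15421 : act 7 n4476 = n4476 := d26_2 F12137 D4476 (iv D4476)
def n4477 : Q := act 6 n3480
theorem D4477 : act 6 n3480 = n4477 := rfl
theorem F15422 : act 1 n4477 = n4477 := d11_1 D4477 (iv D4477) F12134
theorem F15423 : act 3 n4477 = n4477 := d20_1 D4477 (iv D4477) F12136
theorem F15424 : act 4 n4477 = n3481 := d23_1 D4477 (iv D3481) D3480
def n4478 : Q := act 7 n3481
theorem D4478 : act 7 n3481 = n4478 := rfl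
theorem F15425 : act 1 n4478 = n4478 := d12_1 D4478 (iv D4478) F12138
theorem F15426 : act 3 n4478 = n3490 := d21_1 D4478 (iv D3490) (iv F12139)
theorem F15427 : act 6 n4478 = n4478 := d27_1 D4478 (iv D4478) (iv D3481) F9555 D3481
def n4479 : Q := act 1 n3484
theorem D4479 : act 1 n3484 = n4479 := rfl
theorem F15428 : act 0 n4479 = n4479 := d0_1 D4479 (iv D4479) F12147 F9574 (iv F12147)
theorem F15429 : act 2 n4479 = n4479 := d7_2 D3484 D4479 (iv D4479) (iv D3484) F9570
theorem F15430 : act 5 n4479 = n3488 := d10_2 (iv F12148) D4479 (iv D3488)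
theorem F15431 : act 7 n4479 = n4479 := d12_2 F12149 D4479 (iv D4479)
def n4480 : Q := act 4 n3484
theorem D4480 : act 4 n3484 = n4480 := rfl
theorem F15432 : act 0 n4480 = n3486 := d3_1 D4480 (iv D3486) (iv F12147)
theorem F15433 : act 2 n4480 = n3485 := d14_1 D4480 (iv D3485) D3484
theorem F15434 : act 5 n4480 = n4480 := d22_2 (iv F12148) D4480 (iv D4480) F12148 F9583
theorem F15435 : act 7 n4480 = n4480 := d24_2 F12149 D4480 (iv D4480)
def n4481 : Q := act 6 n3484
theorem D4481 : act 6 n3484 = n4481 := rfl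
theorem F15436 : act 0 n4481 = n3487 := d5_1 D4481 (iv D3487) (iv F12147)
theorem F15437 : act 2 n4481 = n3601 := d16_1 D4481 (iv D3601) (iv D2792) (iv F9572) D3484
theorem F15438 : act 5 n4481 = n3489 := d25_1 D4481 (iv D3489) (iv F12148)
def n4482 : Q := act 3 n3486
theorem D4482 : act 3 n3486 = n4482 := rfl
theorem F15439 : act 1 n4482 = n4482 := d8_1 D4482 (iv D4482) F12156
theorem F15440 : act 2 n4482 = n4482 := d13_1 D4482 (iv D4482) F12157 F9578 (iv F12157)
theorem F15441 : act 5 n4482 = n4482 := d19_2 F12158 D4482 (iv D4482)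
theorem F15442 : act 7 n4482 = n4482 := d21_2 F12159 D4482 (iv D4482)
def n4483 : Q := act 6 n3486
theorem D4483 : act 6 n3486 = n4483 := rfl
theorem F15444 : act 2 n4483 = n3603 := d16_1 D4483 (iv D3603) F9849 (iv F9580) (iv F12157)
theorem F15445 : act 4 n4483 = n3487 := d23_1 D4483 (iv D3487) D3486
def n4484 : Q := act 7 n3487
theorem D4484 : act 7 n3487 = n4484 := rfl
theorem F15447 : act 1 n4484 = n4484 := d12_1 D4484 (iv D4484) F12160
theorem F15449 : act 5 n4484 = n3490 := d26_1 D4484 (iv D3490) (iv F12162)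
theorem F15450 : act 6 n4484 = n4484 := d27_1 D4484 (iv D4484) (iv D3487) F9576 D3487
def n4485 : Q := act 6 n3488
theorem D4485 : act 6 n3488 = n4485 := rfl
theorem F15451 : act 0 n4485 = n4485 := d5_1 D4485 (iv D4485) F12163
theorem F15452 : act 1 n4485 = n3489 := d11_1 D4485 (iv D3489) D3488
theorem F15453 : act 4 n4485 = n4485 := d23_1 D4485 (iv D4485) F12165
def n4486 : Q := act 7 n3489
theorem D4486 : act 7 n3489 = n4486 := rfl
theorem F15454 : act 0 n4486 = n3490 := d6_1 D4486 (iv D3490) (iv F12167)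
theorem F15455 : act 2 n4486 = n3606 := d17_1 D4486 (iv D3606) (iv F12168)
theorem F15456 : act 4 n4486 = n4486 := d24_1 D4486 (iv D4486) F12169
theorem F15457 : act 6 n4486 = n4486 := d27_1 D4486 (iv D4486) (iv D3489) F9584 D3489
def n4487 : Q := act 0 n3491
theorem D4487 : act 0 n3491 = n4487 := rfl
theorem F15458 : act 1 n4487 = n3561 := d0_2 D3491 D4487 (iv D3561) (iv D2762) (iv F9588)
theorem F15459 : act 2 n4487 = n3509 := d1_2 (iv F12174) D4487 (iv D3509)
theorem F15460 : act 4 n4487 = n4487 := d3_2 F12175 D4487 (iv D4487)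
theorem F15461 : act 5 n4487 = n3515 := d4_2 (iv F12176) D4487 (iv D3515)
theorem F15462 : act 6 n4487 = n3917 := d5_2 (iv F12177) D4487 (iv D3917)
theorem F15463 : act 7 n4487 = n3512 := d6_2 (iv F12178) D4487 (iv D3512)
def n4488 : Q := act 3 n3491
theorem D4488 : act 3 n3491 = n4488 := rfl
theorem F15464 : act 1 n4488 = n3492 := d8_1 D4488 (iv D3492) D3491
theorem F15465 : act 5 n4488 = n3516 := d19_2 (iv F12176) D4488 (iv D3516)
theorem F15466 : act 6 n4488 = n3918 := d20_2 (iv F12177) D4488 (iv D3918)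
theorem F15467 : act 7 n4488 = n3513 := d21_2 (iv F12178) D4488 (iv D3513)
def n4489 : Q := act 4 n3492
theorem D4489 : act 4 n3492 = n4489 := rfl
theorem F15468 : act 0 n4489 = n3563 := d3_1 D4489 (iv D3563) (iv F12179)
theorem F15469 : act 2 n4489 = n3499 := d14_1 D4489 (iv D3499) (iv F12180)
theorem F15470 : act 3 n4489 = n4489 := d18_1 D4489 (iv D4489) (iv D3492) F9589 D3492
theorem F15471 : act 6 n4489 = n3919 := d23_2 (iv F12182) D4489 (iv D3919)
theorem F15472 : act 7 n4489 = n3514 := d24_2 (iv F12183) D4489 (iv D3514)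
def n4490 : Q := act 0 n3493
theorem D4490 : act 0 n3493 = n4490 := rfl
theorem F15473 : act 1 n4490 = n3554 := d0_2 D3493 D4490 (iv D3554) (iv D2757) (iv F9593)
theorem F15474 : act 2 n4490 = n3512 := d1_2 (iv F12184) D4490 (iv D3512)
theorem F15475 : act 4 n4490 = n4490 := d3_2 F12185 D4490 (iv D4490)
theorem F15476 : act 5 n4490 = n3497 := d4_2 (iv F12186) D4490 (iv D3497)
theorem F15477 : act 6 n4490 = n4490 := d5_2 F12187 D4490 (iv D4490)
theorem F15478 : act 7 n4490 = n3509 := d6_2 (iv F12188) D4490 (iv D3509)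
def n4491 : Q := act 3 n3493
theorem D4491 : act 3 n3493 = n4491 := rfl
theorem F15479 : act 1 n4491 = n3494 := d8_1 D4491 (iv D3494) D3493
theorem F15480 : act 5 n4491 = n3498 := d19_2 (iv F12186) D4491 (iv D3498)
theorem F15481 : act 6 n4491 = n4491 := d20_2 F12187 D4491 (iv D4491)
theorem F15482 : act 7 n4491 = n3510 := d21_2 (iv F12188) D4491 (iv D3510)
def n4492 : Q := act 4 n3494
theorem D4492 : act 4 n3494 = n4492 := rfl
theorem F15483 : act 0 n4492 = n3556 := d3_1 D4492 (iv D3556) (iv F12189)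
theorem F15484 : act 2 n4492 = n3517 := d14_1 D4492 (iv D3517) (iv F12190)
theorem F15485 : act 3 n4492 = n4492 := d18_1 D4492 (iv D4492) (iv D3494) F9594 D3494
theorem F15486 : act 6 n4492 = n4492 := d23_2 F12192 D4492 (iv D4492)
theorem F15487 : act 7 n4492 = n3511 := d24_2 (iv F12193) D4492 (iv D3511)
def n4493 : Q := act 0 n3495
theorem D4493 : act 0 n3495 = n4493 := rfl
theorem F15488 : act 1 n4493 = n3551 := d0_2 D3495 D4493 (iv D3551) (iv D2755) (iv F9598)
theorem F15489 : act 2 n4493 = n3515 := d1_2 (iv F12194) D4493 (iv D3515)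
theorem F15490 : act 4 n4493 = n3502 := d3_2 (iv F12195) D4493 (iv D3502)
theorem F15491 : act 5 n4493 = n3509 := d4_2 (iv F12196) D4493 (iv D3509)
theorem F15492 : act 6 n4493 = n3626 := d5_2 (iv F12197) D4493 (iv D3626)
theorem F15493 : act 7 n4493 = n3497 := d6_2 (iv F12198) D4493 (iv D3497)
def n4494 : Q := act 3 n3495
theorem D4494 : act 3 n3495 = n4494 := rfl
theorem F15494 : act 1 n4494 = n3496 := d8_1 D4494 (iv D3496) D3495
theorem F15495 : act 5 n4494 = n3510 := d19_2 (iv F12196) D4494 (iv D3510)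
theorem F15496 : act 6 n4494 = n3627 := d20_2 (iv F12197) D4494 (iv D3627)
theorem F15497 : act 7 n4494 = n3498 := d21_2 (iv F12198) D4494 (iv D3498)
def n4495 : Q := act 4 n3496
theorem D4495 : act 4 n3496 = n4495 := rfl
theorem F15498 : act 0 n4495 = n3553 := d3_1 D4495 (iv D3553) (iv F12199)
theorem F15499 : act 2 n4495 = n3514 := d14_1 D4495 (iv D3514) (iv F12200)
theorem F15500 : act 3 n4495 = n3504 := d18_1 D4495 (iv D3504) (iv D2719) (iv F9599) D3496
theorem F15501 : act 6 n4495 = n3628 := d23_2 (iv F12202) D4495 (iv D3628)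
theorem F15502 : act 7 n4495 = n3499 := d24_2 (iv F12203) D4495 (iv D3499)
def n4496 : Q := act 3 n3497
theorem D4496 : act 3 n3497 = n4496 := rfl
theorem F15503 : act 0 n4496 = n3498 := d2_1 D4496 (iv D3498) D3497
theorem F15504 : act 6 n4496 = n4496 := d20_2 F12206 D4496 (iv D4496)
def n4497 : Q := act 2 n3498
theorem D4497 : act 2 n3498 = n4497 := rfl
theorem F15505 : act 3 n4497 = n3519 := d13_2 D3498 D4497 (iv D3519) (iv D2730) (iv F9603)
def n4498 : Q := act 4 n3498
theorem D4498 : act 4 n3498 = n4498 := rfl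
theorem F15506 : act 1 n4498 = n3499 := d9_1 D4498 (iv D3499) (iv F12207)
theorem F15507 : act 3 n4498 = n3507 := d18_1 D4498 (iv D3507) (iv D2721) (iv F9604) D3498
theorem F15508 : act 6 n4498 = n4498 := d23_2 F12208 D4498 (iv D4498)
def n4499 : Q := act 5 n3499
theorem D4499 : act 5 n3499 = n4499 := rfl
theorem F15509 : act 3 n4499 = n3508 := d19_1 D4499 (iv D3508) (iv F12209)
theorem F15510 : act 6 n4499 = n4499 := d25_2 F12210 D4499 (iv D4499)
def n4500 : Q := act 0 n3500
theorem D4500 : act 0 n3500 = n4500 := rfl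
theorem F15511 : act 1 n4500 = n3676 := d0_2 D3500 D4500 (iv D3676) (iv D2849) (iv F9607)
theorem F15512 : act 2 n4500 = n3905 := d1_2 (iv F12211) D4500 (iv D3905)
theorem F15513 : act 4 n4500 = n3626 := d3_2 (iv F12212) D4500 (iv D3626)
theorem F15514 : act 5 n4500 = n4500 := d4_2 F12213 D4500 (iv D4500)
theorem F15515 : act 6 n4500 = n3502 := d5_2 (iv F12214) D4500 (iv D3502)
theorem F15516 : act 7 n4500 = n4500 := d6_2 F12215 D4500 (iv D4500)
def n4501 : Q := act 3 n3500
theorem D4501 : act 3 n3500 = n4501 := rfl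
theorem F15517 : act 1 n4501 = n3501 := d8_1 D4501 (iv D3501) D3500
theorem F15518 : act 5 n4501 = n4501 := d19_2 F12213 D4501 (iv D4501)
theorem F15519 : act 6 n4501 = n3503 := d20_2 (iv F12214) D4501 (iv D3503)
theorem F15520 : act 7 n4501 = n4501 := d21_2 F12215 D4501 (iv D4501)
def n4502 : Q := act 4 n3501
theorem D4502 : act 4 n3501 = n4502 := rfl
theorem F15521 : act 0 n4502 = n3678 := d3_1 D4502 (iv D3678) (iv F12216)
theorem F15522 : act 2 n4502 = n3764 := d14_1 D4502 (iv D3764) (iv F12217)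
theorem F15523 : act 3 n4502 = n3628 := d18_1 D4502 (iv D3628) (iv D2813) (iv F9608) D3501
theorem F15524 : act 6 n4502 = n3504 := d23_2 (iv F12219) D4502 (iv D3504)
theorem F15525 : act 7 n4502 = n4502 := d24_2 F12220 D4502 (iv D4502)
def n4503 : Q := act 3 n3502
theorem D4503 : act 3 n3502 = n4503 := rfl
theorem F15526 : act 0 n4503 = n3503 := d2_1 D4503 (iv D3503) D3502
theorem F15527 : act 5 n4503 = n4503 := d19_2 F12222 D4503 (iv D4503)
theorem F15528 : act 7 n4503 = n3505 := d21_2 (iv F12223) D4503 (iv D3505)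
def n4504 : Q := act 2 n3503
theorem D4504 : act 2 n3503 = n4504 := rfl
theorem F15529 : act 1 n4504 = n4504 := d7_1 D4504 (iv D4504) F12224 F9615 (iv F12224)
theorem F15530 : act 3 n4504 = n3523 := d13_2 D3503 D4504 (iv D3523) (iv D2733) (iv F9612)
theorem F15531 : act 5 n4504 = n4504 := d15_2 F12225 D4504 (iv D4504)
theorem F15532 : act 7 n4504 = n3506 := d17_2 (iv F12226) D4504 (iv D3506)
def n4505 : Q := act 4 n3503
theorem D4505 : act 4 n3503 = n4505 := rfl
theorem F15533 : act 1 n4505 = n3504 := d9_1 D4505 (iv D3504) (iv F12224)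
theorem F15534 : act 7 n4505 = n3507 := d24_2 (iv F12226) D4505 (iv D3507)
def n4506 : Q := act 5 n3504
theorem D4506 : act 5 n3504 = n4506 := rfl

end Cfsg.Agent.Helper17.FiQ1TC
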