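import Cfsg.Agent.Helper17.FiQ1TC.Facts1

set_option autoImplicit false
set_option linter.all false

noncomputable section

namespace Cfsg.Agent.Helper17.FiQ1TC

theorem F15535 : act 2 n4506 = n4506 := d15_1 D4506 (iv D4506) F12227
theorem F15536 : act 4 n4506 = n4506 := d22_1 D4506 (iv D4506) (iv D3504) F9616 D3504
theorem F15537 : act 7 n4506 = n3508 := d26_2 (iv F12228) D4506 (iv D3508)
def n4507 : Q := act 2 n3505
theorem D4507 : act 2 n3505 = n4507 := rfl
theorem F15538 : act 0 n4507 = n3506 := d1_1 D4507 (iv D3506) (iv F12229)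
theorem F15539 : act 3 n4507 = n3526 := d13_2 D3505 D4507 (iv D3526) (iv D2735) (iv F9618)
theorem F15540 : act 5 n4507 = n4507 := d15_2 F12230 D4507 (iv D4507)
def n4508 : Q := act 4 n3505
theorem D4508 : act 4 n3505 = n4508 := rfl
theorem F15541 : act 0 n4508 = n3507 := d3_1 D4508 (iv D3507) (iv F12229)
theorem F15542 : act 6 n4508 = n4508 := d23_2 F12231 D4508 (iv D4508)
def n4509 : Q := act 4 n3506
theorem D4509 : act 4 n3506 = n4509 := rfl
theorem F15543 : act 1 n4509 = n4509 := d9_1 D4509 (iv D4509) F12232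
theorem F15544 : act 2 n4509 = n3507 := d14_1 D4509 (iv D3507) D3506
def n4510 : Q := act 6 n3506
theorem D4510 : act 6 n3506 = n4510 := rfl
theorem F15547 : act 3 n4510 = n3529 := d20_1 D4510 (iv D3529) (iv F12233)
def n4511 : Q := act 5 n3507
theorem D4511 : act 5 n3507 = n4511 := rfl
theorem F15549 : act 1 n4511 = n3508 := d10_1 D4511 (iv D3508) (iv F12235)
theorem F15550 : act 4 n4511 = n4511 := d22_1 D4511 (iv D4511) (iv D3507) F9622 D3507
theorem F15551 : act 6 n4511 = n4511 := d25_2 F12236 D4511 (iv D4511)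
def n4512 : Q := act 3 n3509
theorem D4512 : act 3 n3509 = n4512 := rfl
theorem F15552 : act 0 n4512 = n3510 := d2_1 D4512 (iv D3510) D3509
theorem F15553 : act 1 n4512 = n3557 := d8_1 D4512 (iv D3557) (iv F12240)
theorem F15554 : act 6 n4512 = n3629 := d20_2 (iv F12242) D4512 (iv D3629)
def n4513 : Q := act 2 n3510
theorem D4513 : act 2 n3510 = n4513 := rfl
theorem F15555 : act 1 n4513 = n3519 := d7_1 D4513 (iv D3519) F9646 (iv F9629) (iv F12243)
def n4514 : Q := act 4 n3510
theorem D4514 : act 4 n3510 = n4514 := rfl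
theorem F15556 : act 1 n4514 = n3511 := d9_1 D4514 (iv D3511) (iv F12243)
theorem F15557 : act 3 n4514 = n4514 := d18_1 D4514 (iv D4514) (iv D3510) F9626 D3510
theorem F15558 : act 6 n4514 = n3631 := d23_2 (iv F12244) D4514 (iv D3631)
def n4516 : Q := act 3 n3512
theorem D4516 : act 3 n3512 = n4516 := rfl
theorem F15563 : act 0 n4516 = n3513 := d2_1 D4516 (iv D3513) D3512
theorem F15564 : act 1 n4516 = n3564 := d8_1 D4516 (iv D3564) (iv F12249)
theorem F15565 : act 5 n4516 = n3518 := d19_2 (iv F12251) D4516 (iv D3518)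
theorem F15566 : act 6 n4516 = n3531 := d20_2 (iv F12252) D4516 (iv D3531)
def n4517 : Q := act 2 n3513
theorem D4517 : act 2 n3513 = n4517 := rfl
theorem F15567 : act 5 n4517 = n3519 := d15_2 (iv F12254) D4517 (iv D3519)
def n4518 : Q := act 4 n3513
theorem D4518 : act 4 n3513 = n4518 := rfl
theorem F15568 : act 1 n4518 = n3514 := d9_1 D4518 (iv D3514) (iv F12253)
theorem F15569 : act 3 n4518 = n4518 := d18_1 D4518 (iv D4518) (iv D3513) F9631 D3513
theorem F15570 : act 6 n4518 = n3533 := d23_2 (iv F12255) D4518 (iv D3533)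
def n4519 : Q := act 5 n3514
theorem D4519 : act 5 n3514 = n4519 := rfl
theorem F15571 : act 0 n4519 = n3567 := d4_1 D4519 (iv D3567) (iv F12256)
theorem F15574 : act 6 n4519 = n3534 := d25_2 (iv F12258) D4519 (iv D3534)
def n4520 : Q := act 3 n3515
theorem D4520 : act 3 n3515 = n4520 := rfl
theorem F15575 : act 0 n4520 = n3516 := d2_1 D4520 (iv D3516) D3515
theorem F15576 : act 1 n4520 = n3568 := d8_1 D4520 (iv D3568) (iv F12259)
theorem F15577 : act 6 n4520 = n3924 := d20_2 (iv F12261) D4520 (iv D3924)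
theorem F15578 : act 7 n4520 = n3518 := d21_2 (iv F12262) D4520 (iv D3518)
def n4521 : Q := act 2 n3516
theorem D4521 : act 2 n3516 = n4521 := rfl
theorem F15579 : act 7 n4521 = n3519 := d17_2 (iv F12265) D4521 (iv D3519)
def n4522 : Q := act 4 n3516
theorem D4522 : act 4 n3516 = n4522 := rfl
theorem F15580 : act 1 n4522 = n3517 := d9_1 D4522 (iv D3517) (iv F12263)
theorem F15581 : act 3 n4522 = n3524 := d18_1 D4522 (iv D3524) (iv D2733) (iv F9637) D3516
theorem F15582 : act 6 n4522 = n3926 := d23_2 (iv F12264) D4522 (iv D3926)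
theorem F15583 : act 7 n4522 = n3520 := d24_2 (iv F12265) D4522 (iv D3520)
def n4523 : Q := act 5 n3517
theorem D4523 : act 5 n3517 = n4523 := rfl
theorem F15584 : act 0 n4523 = n3571 := d4_1 D4523 (iv D3571) (iv F12266)
theorem F15586 : act 6 n4523 = n3927 := d25_2 (iv F12268) D4523 (iv D3927)
theorem F15587 : act 7 n4523 = n3521 := d26_2 (iv F12269) D4523 (iv D3521)
def n4524 : Q := act 2 n3518
theorem D4524 : act 2 n3518 = n4524 := rfl
theorem F15588 : act 0 n4524 = n3519 := d1_1 D4524 (iv D3519) (iv F12270)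
def n4525 : Q := act 4 n3518
theorem D4525 : act 4 n3518 = n4525 := rfl
theorem F15589 : act 0 n4525 = n3520 := d3_1 D4525 (iv D3520) (iv F12270)
theorem F15590 : act 1 n4525 = n3573 := d9_1 D4525 (iv D3573) (iv F12271)
theorem F15591 : act 3 n4525 = n3527 := d18_1 D4525 (iv D3527) (iv D2735) (iv F9644) D3518
theorem F15592 : act 6 n4525 = n3536 := d23_2 (iv F12272) D4525 (iv D3536)
def n4526 : Q := act 4 n3519
theorem D4526 : act 4 n3519 = n4526 := rfl
theorem F15593 : act 2 n4526 = n3520 := d14_1 D4526 (iv D3520) D3519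
def n4527 : Q := act 6 n3519
theorem D4527 : act 6 n3519 = n4527 := rfl
theorem F15594 : act 2 n4527 = n3538 := d16_1 D4527 (iv D3538) (iv D2743) (iv F9647) D3519
def n4528 : Q := act 5 n3520
theorem D4528 : act 5 n3520 = n4528 := rfl
theorem F15597 : act 6 n4528 = n3539 := d25_2 (iv F12275) D4528 (iv D3539)
def n4529 : Q := act 2 n3522
theorem D4529 : act 2 n3522 = n4529 := rfl
theorem F15598 : act 0 n4529 = n3523 := d1_1 D4529 (iv D3523) (iv F12279)
theorem F15599 : act 5 n4529 = n4529 := d15_2 F12281 D4529 (iv D4529)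
theorem F15600 : act 7 n4529 = n3526 := d17_2 (iv F12283) D4529 (iv D3526)
def n4530 : Q := act 4 n3522
theorem D4530 : act 4 n3522 = n4530 := rfl
theorem F15601 : act 0 n4530 = n3524 := d3_1 D4530 (iv D3524) (iv F12279)
theorem F15602 : act 1 n4530 = n3578 := d9_1 D4530 (iv D3578) (iv F12280)
theorem F15603 : act 6 n4530 = n3934 := d23_2 (iv F12282) D4530 (iv D3934)
theorem F15604 : act 7 n4530 = n3527 := d24_2 (iv F12283) D4530 (iv D3527)
def n4531 : Q := act 4 n3523
theorem D4531 : act 4 n3523 = n4531 := rfl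
theorem F15606 : act 2 n4531 = n3524 := d14_1 D4531 (iv D3524) D3523
theorem F15607 : act 7 n4531 = n3528 := d24_2 (iv F12286) D4531 (iv D3528)
def n4532 : Q := act 6 n3523
theorem D4532 : act 6 n3523 = n4532 := rfl
def n4534 : Q := act 1 n3526
theorem D4534 : act 1 n3526 = n4534 := rfl
theorem F15615 : act 0 n4534 = n4534 := d0_1 D4534 (iv D4534) F12295 F9667 (iv F12295)
theorem F15616 : act 2 n4534 = n3582 := d7_2 D3526 D4534 (iv D3582) (iv D2778) (iv F9664)
theorem F15617 : act 5 n4534 = n4534 := d10_2 F12296 D4534 (iv D4534)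
def n4535 : Q := act 4 n3526
theorem D4535 : act 4 n3526 = n4535 := rfl
theorem F15619 : act 2 n4535 = n3527 := d14_1 D4535 (iv D3527) D3526
def n4536 : Q := act 6 n3526
theorem D4536 : act 6 n3526 = n4536 := rfl
theorem F15620 : act 0 n4536 = n3529 := d5_1 D4536 (iv D3529) (iv F12295)
def n4538 : Q := act 3 n3528
theorem D4538 : act 3 n3528 = n4538 := rfl
def n4539 : Q := act 5 n3528
theorem D4539 : act 5 n3528 = n4539 := rfl
theorem F15629 : act 2 n4539 = n3530 := d15_1 D4539 (iv D3530) (iv F12301)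
def n4541 : Q := act 7 n3529
theorem D4541 : act 7 n3529 = n4541 := rfl
def n4542 : Q := act 2 n3531
theorem D4542 : act 2 n3531 = n4542 := rfl
theorem F15637 : act 0 n4542 = n3532 := d1_1 D4542 (iv D3532) (iv F12308)
theorem F15638 : act 3 n4542 = n4542 := d13_2 D3531 D4542 (iv D4542) (iv D3531) F9676
theorem F15639 : act 5 n4542 = n3535 := d15_2 (iv F12310) D4542 (iv D3535)
theorem F15640 : act 7 n4542 = n3946 := d17_2 (iv F12311) D4542 (iv D3946)
def n4543 : Q := act 4 n3531
theorem D4543 : act 4 n3531 = n4543 := rfl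
theorem F15641 : act 0 n4543 = n3533 := d3_1 D4543 (iv D3533) (iv F12308)
theorem F15642 : act 1 n4543 = n3588 := d9_1 D4543 (iv D3588) (iv F12309)
theorem F15643 : act 3 n4543 = n4543 := d18_1 D4543 (iv D4543) (iv D3531) F9677 D3531
theorem F15644 : act 7 n4543 = n3947 := d24_2 (iv F12311) D4543 (iv D3947)
def n4544 : Q := act 4 n3532
theorem D4544 : act 4 n3532 = n4544 := rfl
theorem F15645 : act 1 n4544 = n3652 := d9_1 D4544 (iv D3652) (iv F12312)
theorem F15646 : act 2 n4544 = n3533 := d14_1 D4544 (iv D3533) D3532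
theorem F15647 : act 7 n4544 = n3948 := d24_2 (iv F12315) D4544 (iv D3948)
def n4545 : Q := act 6 n3532
theorem D4545 : act 6 n3532 = n4545 := rfl
theorem F15649 : act 3 n4545 = n4545 := d20_1 D4545 (iv D4545) F12313
theorem F15650 : act 5 n4545 = n3538 := d25_1 D4545 (iv D3538) (iv F12314)
def n4546 : Q := act 5 n3533
theorem D4546 : act 5 n3533 = n4546 := rfl
theorem F15651 : act 1 n4546 = n3534 := d10_1 D4546 (iv D3534) (iv F12316)
def n4547 : Q := act 1 n3535
theorem D4547 : act 1 n3535 = n4547 := rfl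
theorem F15655 : act 0 n4547 = n3655 := d0_1 D4547 (iv D3655) F9989 (iv F9690) (iv F12324)
theorem F15658 : act 7 n4547 = n3951 := d12_2 (iv F12326) D4547 (iv D3951)
def n4548 : Q := act 4 n3535
theorem D4548 : act 4 n3535 = n4548 := rfl
theorem F15659 : act 0 n4548 = n3537 := d3_1 D4548 (iv D3537) (iv F12324)
theorem F15660 : act 2 n4548 = n3536 := d14_1 D4548 (iv D3536) D3535
theorem F15661 : act 7 n4548 = n3952 := d24_2 (iv F12326) D4548 (iv D3952)
def n4549 : Q := act 6 n3535
theorem D4549 : act 6 n3535 = n4549 := rfl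
theorem F15662 : act 0 n4549 = n3538 := d5_1 D4549 (iv D3538) (iv F12324)
theorem F15663 : act 3 n4549 = n4549 := d20_1 D4549 (iv D4549) F12325
def n4550 : Q := act 5 n3536
theorem D4550 : act 5 n3536 = n4550 := rfl
theorem F15664 : act 0 n4550 = n3539 := d4_1 D4550 (iv D3539) (iv F12327)
theorem F15667 : act 7 n4550 = n3954 := d26_2 (iv F12330) D4550 (iv D3954)
def n4552 : Q := act 5 n3537
theorem D4552 : act 5 n3537 = n4552 := rfl
theorem F15672 : act 1 n4552 = n3660 := d10_1 D4552 (iv D3660) (iv F12331)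
theorem F15673 : act 2 n4552 = n3539 := d15_1 D4552 (iv D3539) (iv F12332)
theorem F15674 : act 7 n4552 = n3956 := d26_2 (iv F12333) D4552 (iv D3956)
def n4553 : Q := act 6 n3537
theorem D4553 : act 6 n3537 = n4553 := rfl
theorem F15676 : act 4 n4553 = n3538 := d23_1 D4553 (iv D3538) D3537
def n4554 : Q := act 7 n3538
theorem D4554 : act 7 n3538 = n4554 := rfl
theorem F15678 : act 3 n4554 = n4554 := d21_1 D4554 (iv D4554) F12335
theorem F15679 : act 6 n4554 = n3958 := d27_1 D4554 (iv D3958) (iv D3063) (iv F9692) D3538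
def n4556 : Q := act 5 n3540
theorem D4556 : act 5 n3540 = n4556 := rfl
theorem F15684 : act 0 n4556 = n3544 := d4_1 D4556 (iv D3544) (iv F12339)
def n4568 : Q := act 3 n3551
theorem D4568 : act 3 n3551 = n4568 := rfl
theorem F15730 : act 0 n4568 = n3552 := d2_1 D4568 (iv D3552) D3551
theorem F15731 : act 5 n4568 = n3557 := d19_2 (iv F12379) D4568 (iv D3557)
theorem F15732 : act 6 n4568 = n3679 := d20_2 (iv F12380) D4568 (iv D3679)
def n4569 : Q := act 2 n3552
theorem D4569 : act 2 n3552 = n4569 := rfl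
theorem F15733 : act 1 n4569 = n3565 := d7_1 D4569 (iv D3565) F9761 (iv F9735) (iv F12381)
theorem F15734 : act 5 n4569 = n3558 := d15_2 (iv F12382) D4569 (iv D3558)
def n4570 : Q := act 4 n3552
theorem D4570 : act 4 n3552 = n4570 := rfl
theorem F15735 : act 1 n4570 = n3553 := d9_1 D4570 (iv D3553) (iv F12381)
theorem F15736 : act 6 n4570 = n3681 := d23_2 (iv F12383) D4570 (iv D3681)
def n4571 : Q := act 5 n3553
theorem D4571 : act 5 n3553 = n4571 := rfl
theorem F15737 : act 2 n4571 = n3567 := d15_1 D4571 (iv D3567) (iv F12384)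
theorem F15738 : act 4 n4571 = n3560 := d22_1 D4571 (iv D3560) (iv D2761) (iv F9736) D3553
theorem F15739 : act 6 n4571 = n3682 := d25_2 (iv F12385) D4571 (iv D3682)
def n4572 : Q := act 3 n3554
theorem D4572 : act 3 n3554 = n4572 := rfl
theorem F15740 : act 0 n4572 = n3555 := d2_1 D4572 (iv D3555) D3554
theorem F15741 : act 6 n4572 = n4572 := d20_2 F12387 D4572 (iv D4572)
theorem F15742 : act 7 n4572 = n3557 := d21_2 (iv F12388) D4572 (iv D3557)
def n4573 : Q := act 2 n3555
theorem D4573 : act 2 n3555 = n4573 := rfl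
theorem F15743 : act 1 n4573 = n3569 := d7_1 D4573 (iv D3569) F9769 (iv F9741) (iv F12389)
theorem F15744 : act 7 n4573 = n3558 := d17_2 (iv F12391) D4573 (iv D3558)
def n4574 : Q := act 4 n3555
theorem D4574 : act 4 n3555 = n4574 := rfl
theorem F15745 : act 1 n4574 = n3556 := d9_1 D4574 (iv D3556) (iv F12389)
theorem F15746 : act 3 n4574 = n4574 := d18_1 D4574 (iv D4574) (iv D3555) F9738 D3555
theorem F15747 : act 6 n4574 = n4574 := d23_2 F12390 D4574 (iv D4574)
theorem F15748 : act 7 n4574 = n3559 := d24_2 (iv F12391) D4574 (iv D3559)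
def n4575 : Q := act 5 n3556
theorem D4575 : act 5 n3556 = n4575 := rfl
theorem F15749 : act 2 n4575 = n3571 := d15_1 D4575 (iv D3571) (iv F12392)
theorem F15750 : act 3 n4575 = n4575 := d19_1 D4575 (iv D4575) F12393
theorem F15751 : act 6 n4575 = n4575 := d25_2 F12394 D4575 (iv D4575)
theorem F15752 : act 7 n4575 = n3560 := d26_2 (iv F12395) D4575 (iv D3560)
def n4576 : Q := act 2 n3557
theorem D4576 : act 2 n3557 = n4576 := rfl
theorem F15753 : act 0 n4576 = n3558 := d1_1 D4576 (iv D3558) (iv F12396)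
def n4577 : Q := act 4 n3557
theorem D4577 : act 4 n3557 = n4577 := rfl
theorem F15754 : act 0 n4577 = n3559 := d3_1 D4577 (iv D3559) (iv F12396)
theorem F15755 : act 3 n4577 = n4577 := d18_1 D4577 (iv D4577) (iv D3557) F9744 D3557
theorem F15756 : act 6 n4577 = n3684 := d23_2 (iv F12397) D4577 (iv D3684)
def n4578 : Q := act 4 n3558
theorem D4578 : act 4 n3558 = n4578 := rfl
theorem F15757 : act 1 n4578 = n3574 := d9_1 D4578 (iv D3574) (iv F12398)
theorem F15758 : act 2 n4578 = n3559 := d14_1 D4578 (iv D3559) D3558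
def n4579 : Q := act 6 n3558
theorem D4579 : act 6 n3558 = n4579 := rfl
theorem F15759 : act 1 n4579 = n3575 := d11_1 D4579 (iv D3575) (iv F12398)
theorem F15760 : act 2 n4579 = n3686 := d16_1 D4579 (iv D3686) (iv D2855) (iv F9747) D3558
def n4580 : Q := act 5 n3559
theorem D4580 : act 5 n3559 = n4580 := rfl
theorem F15761 : act 1 n4580 = n3560 := d10_1 D4580 (iv D3560) (iv F12399)
theorem F15762 : act 3 n4580 = n4580 := d19_1 D4580 (iv D4580) F12400
theorem F15763 : act 6 n4580 = n3687 := d25_2 (iv F12401) D4580 (iv D3687)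
def n4581 : Q := act 3 n3561
theorem D4581 : act 3 n3561 = n4581 := rfl
theorem F15764 : act 0 n4581 = n3562 := d2_1 D4581 (iv D3562) D3561
theorem F15765 : act 5 n4581 = n3568 := d19_2 (iv F12406) D4581 (iv D3568)
theorem F15766 : act 6 n4581 = n3972 := d20_2 (iv F12407) D4581 (iv D3972)
theorem F15767 : act 7 n4581 = n3564 := d21_2 (iv F12408) D4581 (iv D3564)
def n4582 : Q := act 2 n3562
theorem D4582 : act 2 n3562 = n4582 := rfl
theorem F15768 : act 5 n4582 = n3569 := d15_2 (iv F12410) D4582 (iv D3569)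
theorem F15769 : act 7 n4582 = n3565 := d17_2 (iv F12412) D4582 (iv D3565)
def n4583 : Q := act 4 n3562
theorem D4583 : act 4 n3562 = n4583 := rfl
theorem F15770 : act 1 n4583 = n3563 := d9_1 D4583 (iv D3563) (iv F12409)
theorem F15772 : act 6 n4583 = n3974 := d23_2 (iv F12411) D4583 (iv D3974)
theorem F15773 : act 7 n4583 = n3566 := d24_2 (iv F12412) D4583 (iv D3566)
def n4584 : Q := act 5 n3563
theorem D4584 : act 5 n3563 = n4584 := rfl
theorem F15774 : act 3 n4584 = n4584 := d19_1 D4584 (iv D4584) F12413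
theorem F15775 : act 4 n4584 = n3571 := d22_1 D4584 (iv D3571) (iv D2769) (iv F9755) D3563
theorem F15776 : act 6 n4584 = n3975 := d25_2 (iv F12414) D4584 (iv D3975)
theorem F15777 : act 7 n4584 = n3567 := d26_2 (iv F12415) D4584 (iv D3567)
def n4585 : Q := act 2 n3564
theorem D4585 : act 2 n3564 = n4585 := rfl
theorem F15778 : act 0 n4585 = n3565 := d1_1 D4585 (iv D3565) (iv F12416)
theorem F15779 : act 5 n4585 = n3572 := d15_2 (iv F12417) D4585 (iv D3572)
def n4586 : Q := act 4 n3564
theorem D4586 : act 4 n3564 = n4586 := rfl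
theorem F15782 : act 6 n4586 = n3588 := d23_2 (iv F12418) D4586 (iv D3588)
def n4587 : Q := act 4 n3565
theorem D4587 : act 4 n3565 = n4587 := rfl
theorem F15783 : act 2 n4587 = n3566 := d14_1 D4587 (iv D3566) D3565
def n4588 : Q := act 6 n3565
theorem D4588 : act 6 n3565 = n4588 := rfl
theorem F15784 : act 2 n4588 = n3590 := d16_1 D4588 (iv D3590) (iv D2783) (iv F9763) D3565
def n4589 : Q := act 5 n3566
theorem D4589 : act 5 n3566 = n4589 := rfl
theorem F15786 : act 1 n4589 = n3567 := d10_1 D4589 (iv D3567) (iv F12420)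
theorem F15789 : act 6 n4589 = n3591 := d25_2 (iv F12422) D4589 (iv D3591)
def n4590 : Q := act 2 n3568
theorem D4590 : act 2 n3568 = n4590 := rfl
theorem F15790 : act 0 n4590 = n3569 := d1_1 D4590 (iv D3569) (iv F12426)
theorem F15791 : act 7 n4590 = n3572 := d17_2 (iv F12428) D4590 (iv D3572)
def n4591 : Q := act 4 n3568
theorem D4591 : act 4 n3568 = n4591 := rfl
theorem F15792 : act 0 n4591 = n3570 := d3_1 D4591 (iv D3570) (iv F12426)
theorem F15793 : act 3 n4591 = n3578 := d18_1 D4591 (iv D3578) (iv D2774) (iv F9766) D3568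
theorem F15794 : act 6 n4591 = n3982 := d23_2 (iv F12427) D4591 (iv D3982)
theorem F15795 : act 7 n4591 = n3573 := d24_2 (iv F12428) D4591 (iv D3573)
def n4592 : Q := act 4 n3569
theorem D4592 : act 4 n3569 = n4592 := rfl
theorem F15796 : act 2 n4592 = n3570 := d14_1 D4592 (iv D3570) D3569
theorem F15797 : act 7 n4592 = n3574 := d24_2 (iv F12429) D4592 (iv D3574)
def n4593 : Q := act 6 n3569
theorem D4593 : act 6 n3569 = n4593 := rfl
theorem F15798 : act 2 n4593 = n3984 := d16_1 D4593 (iv D3984) (iv D3084) (iv F9770) D3569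
def n4594 : Q := act 5 n3570
theorem D4594 : act 5 n3570 = n4594 := rfl
theorem F15799 : act 1 n4594 = n3571 := d10_1 D4594 (iv D3571) (iv F12430)
theorem F15800 : act 3 n4594 = n3581 := d19_1 D4594 (iv D3581) (iv F12431)
theorem F15801 : act 6 n4594 = n3985 := d25_2 (iv F12432) D4594 (iv D3985)
theorem F15802 : act 7 n4594 = n3576 := d26_2 (iv F12433) D4594 (iv D3576)
def n4595 : Q := act 1 n3572
theorem D4595 : act 1 n3572 = n4595 := rfl
def n4596 : Q := act 4 n3572
theorem D4596 : act 4 n3572 = n4596 := rfl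
theorem F15803 : act 0 n4596 = n3574 := d3_1 D4596 (iv D3574) (iv F12437)
theorem F15804 : act 2 n4596 = n3573 := d14_1 D4596 (iv D3573) D3572
def n4597 : Q := act 6 n3572
theorem D4597 : act 6 n3572 = n4597 := rfl
theorem F15805 : act 0 n4597 = n3575 := d5_1 D4597 (iv D3575) (iv F12437)
theorem F15806 : act 2 n4597 = n3594 := d16_1 D4597 (iv D3594) (iv D2786) (iv F9776) D3572
def n4598 : Q := act 5 n3573
theorem D4598 : act 5 n3573 = n4598 := rfl
theorem F15807 : act 0 n4598 = n3576 := d4_1 D4598 (iv D3576) (iv F12438)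
theorem F15808 : act 3 n4598 = n3584 := d19_1 D4598 (iv D3584) (iv F12439)
theorem F15809 : act 6 n4598 = n3595 := d25_2 (iv F12440) D4598 (iv D3595)
def n4599 : Q := act 3 n3574
theorem D4599 : act 3 n3574 = n4599 := rfl
theorem F15810 : act 2 n4599 = n3585 := d13_1 D4599 (iv D3585) F9802 (iv F9778) (iv F12441)
def n4600 : Q := act 5 n3574
theorem D4600 : act 5 n3574 = n4600 := rfl
theorem F15811 : act 2 n4600 = n3576 := d15_1 D4600 (iv D3576) (iv F12441)
def n4601 : Q := act 6 n3574
theorem D4601 : act 6 n3574 = n4601 := rfl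
theorem F15812 : act 2 n4601 = n3597 := d16_1 D4601 (iv D3597) F9828 (iv F9779) (iv F12441)
theorem F15813 : act 4 n4601 = n3575 := d23_1 D4601 (iv D3575) D3574
def n4602 : Q := act 7 n3575
theorem D4602 : act 7 n3575 = n4602 := rfl
theorem F15814 : act 2 n4602 = n3598 := d17_1 D4602 (iv D3598) (iv F12442)
def n4603 : Q := act 1 n3577
theorem D4603 : act 1 n3577 = n4603 := rfl
theorem F15815 : act 0 n4603 = n4603 := d0_1 D4603 (iv D4603) F12446 F9786 (iv F12446)
theorem F15816 : act 5 n4603 = n4603 := d10_2 F12447 D4603 (iv D4603)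
theorem F15817 : act 7 n4603 = n3582 := d12_2 (iv F12448) D4603 (iv D3582)
def n4604 : Q := act 4 n3577
theorem D4604 : act 4 n3577 = n4604 := rfl
theorem F15818 : act 0 n4604 = n3579 := d3_1 D4604 (iv D3579) (iv F12446)
theorem F15819 : act 2 n4604 = n3578 := d14_1 D4604 (iv D3578) D3577
theorem F15820 : act 7 n4604 = n3583 := d24_2 (iv F12448) D4604 (iv D3583)
def n4605 : Q := act 6 n3577
theorem D4605 : act 6 n3577 = n4605 := rfl
theorem F15821 : act 0 n4605 = n3580 := d5_1 D4605 (iv D3580) (iv F12446)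
theorem F15822 : act 2 n4605 = n3996 := d16_1 D4605 (iv D3996) (iv D3092) (iv F9784) D3577
theorem F15823 : act 5 n4605 = n4605 := d25_1 D4605 (iv D4605) F12447
theorem F15824 : act 7 n4605 = n4605 := d27_2 (iv F12448) D4605 (iv D4605) F12448 F9798
def n4606 : Q := act 5 n3578
theorem D4606 : act 5 n3578 = n4606 := rfl
theorem F15825 : act 0 n4606 = n3581 := d4_1 D4606 (iv D3581) (iv F12449)
theorem F15826 : act 4 n4606 = n4606 := d22_1 D4606 (iv D4606) (iv D3578) F9783 D3578
theorem F15827 : act 6 n4606 = n3997 := d25_2 (iv F12450) D4606 (iv D3997)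
theorem F15828 : act 7 n4606 = n3584 := d26_2 (iv F12451) D4606 (iv D3584)
def n4607 : Q := act 3 n3579
theorem D4607 : act 3 n3579 = n4607 := rfl
theorem F15829 : act 1 n4607 = n4607 := d8_1 D4607 (iv D4607) F12452
theorem F15830 : act 7 n4607 = n3585 := d21_2 (iv F12454) D4607 (iv D3585)
def n4608 : Q := act 5 n3579
theorem D4608 : act 5 n3579 = n4608 := rfl
theorem F15831 : act 1 n4608 = n4608 := d10_1 D4608 (iv D4608) F12452
theorem F15832 : act 2 n4608 = n3581 := d15_1 D4608 (iv D3581) (iv F12453)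
theorem F15833 : act 4 n4608 = n4608 := d22_1 D4608 (iv D4608) (iv D3579) F9787 D3579
theorem F15834 : act 7 n4608 = n3586 := d26_2 (iv F12454) D4608 (iv D3586)
def n4609 : Q := act 6 n3579
theorem D4609 : act 6 n3579 = n4609 := rfl
theorem F15835 : act 1 n4609 = n4609 := d11_1 D4609 (iv D4609) F12452
theorem F15836 : act 2 n4609 = n4000 := d16_1 D4609 (iv D4000) F10840 (iv F9790) (iv F12453)
theorem F15837 : act 4 n4609 = n3580 := d23_1 D4609 (iv D3580) D3579
theorem F15838 : act 7 n4609 = n4609 := d27_2 (iv F12454) D4609 (iv D4609) F12454 F9803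
def n4610 : Q := act 4 n3582
theorem D4610 : act 4 n3582 = n4610 := rfl
theorem F15839 : act 0 n4610 = n4610 := d3_1 D4610 (iv D4610) F12463
theorem F15840 : act 1 n4610 = n3583 := d9_1 D4610 (iv D3583) D3582
theorem F15841 : act 6 n4610 = n4610 := d23_2 F12465 D4610 (iv D4610)
def n4611 : Q := act 3 n3583
theorem D4611 : act 3 n3583 = n4611 := rfl
theorem F15842 : act 0 n4611 = n3585 := d2_1 D4611 (iv D3585) (iv F12466)
theorem F15843 : act 6 n4611 = n4611 := d20_2 F12468 D4611 (iv D4611)
def n4612 : Q := act 5 n3583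
theorem D4612 : act 5 n3583 = n4612 := rfl
theorem F15844 : act 0 n4612 = n3586 := d4_1 D4612 (iv D3586) (iv F12466)
theorem F15845 : act 2 n4612 = n3584 := d15_1 D4612 (iv D3584) (iv F12467)
theorem F15846 : act 4 n4612 = n4612 := d22_1 D4612 (iv D4612) (iv D3583) F9797 D3583
theorem F15847 : act 6 n4612 = n4612 := d25_2 F12468 D4612 (iv D4612)
def n4613 : Q := act 5 n3585
theorem D4613 : act 5 n3585 = n4613 := rfl
theorem F15848 : act 1 n4613 = n4613 := d10_1 D4613 (iv D4613) F12472
theorem F15849 : act 3 n4613 = n3586 := d19_1 D4613 (iv D3586) D3585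
theorem F15850 : act 6 n4613 = n4613 := d25_2 F12473 D4613 (iv D4613)
def n4614 : Q := act 1 n3587
theorem D4614 : act 1 n3587 = n4614 := rfl
theorem F15851 : act 0 n4614 = n3705 := d0_1 D4614 (iv D3705) F10119 (iv F9810) (iv F12478)
theorem F15853 : act 5 n4614 = n3592 := d10_2 (iv F12480) D4614 (iv D3592)
theorem F15854 : act 7 n4614 = n4005 := d12_2 (iv F12481) D4614 (iv D4005)
def n4615 : Q := act 4 n3587
theorem D4615 : act 4 n3587 = n4615 := rfl
theorem F15855 : act 0 n4615 = n3589 := d3_1 D4615 (iv D3589) (iv F12478)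
theorem F15856 : act 2 n4615 = n3588 := d14_1 D4615 (iv D3588) D3587
def n4616 : Q := act 6 n3587
theorem D4616 : act 6 n3587 = n4616 := rfl
def n4617 : Q := act 5 n3588
theorem D4617 : act 5 n3588 = n4617 := rfl
theorem F15861 : act 0 n4617 = n3591 := d4_1 D4617 (iv D3591) (iv F12482)
theorem F15863 : act 4 n4617 = n3595 := d22_1 D4617 (iv D3595) (iv D2787) (iv F9808) D3588
theorem F15864 : act 7 n4617 = n4008 := d26_2 (iv F12484) D4617 (iv D4008)
def n4619 : Q := act 5 n3589
theorem D4619 : act 5 n3589 = n4619 := rfl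
def n4620 : Q := act 6 n3589
theorem D4620 : act 6 n3589 = n4620 := rfl
def n4621 : Q := act 7 n3590
theorem D4621 : act 7 n3590 = n4621 := rfl
theorem F15878 : act 6 n4621 = n4012 := d27_1 D4621 (iv D4012) (iv D3105) (iv F9813) D3590
def n4622 : Q := act 4 n3592
theorem D4622 : act 4 n3592 = n4622 := rfl
theorem F15879 : act 0 n4622 = n3713 := d3_1 D4622 (iv D3713) (iv F12495)
theorem F15880 : act 1 n4622 = n3593 := d9_1 D4622 (iv D3593) D3592
theorem F15882 : act 7 n4622 = n4013 := d24_2 (iv F12497) D4622 (iv D4013)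
def n4623 : Q := act 6 n3592
theorem D4623 : act 6 n3592 = n4623 := rfl
theorem F15884 : act 1 n4623 = n3594 := d11_1 D4623 (iv D3594) D3592
def n4624 : Q := act 5 n3593
theorem D4624 : act 5 n3593 = n4624 := rfl
theorem F15886 : act 0 n4624 = n3596 := d4_1 D4624 (iv D3596) (iv F12498)
theorem F15887 : act 2 n4624 = n3595 := d15_1 D4624 (iv D3595) (iv F12499)
theorem F15889 : act 7 n4624 = n4015 := d26_2 (iv F12501) D4624 (iv D4015)
def n4625 : Q := act 6 n3593
theorem D4625 : act 6 n3593 = n4625 := rfl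
theorem F15890 : act 0 n4625 = n3597 := d5_1 D4625 (iv D3597) (iv F12498)
theorem F15891 : act 3 n4625 = n4625 := d20_1 D4625 (iv D4625) F12500
theorem F15892 : act 4 n4625 = n3594 := d23_1 D4625 (iv D3594) D3593
def n4626 : Q := act 7 n3594
theorem D4626 : act 7 n3594 = n4626 := rfl
theorem F15893 : act 0 n4626 = n3598 := d6_1 D4626 (iv D3598) (iv F12502)
theorem F15894 : act 3 n4626 = n3606 := d21_1 D4626 (iv D3606) (iv F12503)
theorem F15895 : act 6 n4626 = n4017 := d27_1 D4626 (iv D4017) (iv D3109) (iv F9823) D3594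
def n4627 : Q := act 6 n3596
theorem D4627 : act 6 n3596 = n4627 := rfl
theorem F15898 : act 5 n4627 = n3597 := d25_1 D4627 (iv D3597) D3596
def n4628 : Q := act 7 n3597
theorem D4628 : act 7 n3597 = n4628 := rfl
theorem F15899 : act 1 n4628 = n3719 := d12_1 D4628 (iv D3719) (iv F12511)
theorem F15900 : act 3 n4628 = n4628 := d21_1 D4628 (iv D4628) F12512
theorem F15901 : act 4 n4628 = n3598 := d24_1 D4628 (iv D3598) (iv F12513)
theorem F15902 : act 6 n4628 = n4019 := d27_1 D4628 (iv D4019) (iv D3112) (iv F9830) D3597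
def n4630 : Q := act 6 n3599
theorem D4630 : act 6 n3599 = n4630 := rfl
theorem F15908 : act 0 n4630 = n3721 := d5_1 D4630 (iv D3721) (iv F12517)
theorem F15909 : act 1 n4630 = n3601 := d11_1 D4630 (iv D3601) D3599
def n4631 : Q := act 3 n3600
theorem D4631 : act 3 n3600 = n4631 := rfl
theorem F15911 : act 0 n4631 = n3602 := d2_1 D4631 (iv D3602) (iv F12521)
def n4632 : Q := act 6 n3600
theorem D4632 : act 6 n3600 = n4632 := rfl
def n4633 : Q := act 7 n3601
theorem D4633 : act 7 n3601 = n4633 := rfl
theorem F15919 : act 5 n4633 = n3606 := d26_1 D4633 (iv D3606) (iv F12526)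
def n4634 : Q := act 6 n3602
theorem D4634 : act 6 n3602 = n4634 := rfl
theorem F15921 : act 1 n4634 = n3725 := d11_1 D4634 (iv D3725) (iv F12527)
theorem F15922 : act 3 n4634 = n3603 := d20_1 D4634 (iv D3603) D3602
def n4635 : Q := act 7 n3603
theorem D4635 : act 7 n3603 = n4635 := rfl
def n4636 : Q := act 2 n3605
theorem D4636 : act 2 n3605 = n4636 := rfl
def n4637 : Q := act 7 n3605
theorem D4637 : act 7 n3605 = n4637 := rfl
theorem F15932 : act 1 n4637 = n3606 := d12_1 D4637 (iv D3606) (iv F12538)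
def n4638 : Q := act 0 n3607
theorem D4638 : act 0 n3607 = n4638 := rfl
theorem F15935 : act 1 n4638 = n4638 := d0_2 D3607 D4638 (iv D4638) (iv D3607) F9863
theorem F15936 : act 2 n4638 = n3917 := d1_2 (iv F12543) D4638 (iv D3917)
theorem F15937 : act 4 n4638 = n4638 := d3_2 F12544 D4638 (iv D4638)
theorem F15938 : act 5 n4638 = n3898 := d4_2 (iv F12545) D4638 (iv D3898)
theorem F15939 : act 6 n4638 = n3611 := d5_2 (iv F12546) D4638 (iv D3611)
theorem F15940 : act 7 n4638 = n3895 := d6_2 (iv F12547) D4638 (iv D3895)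
def n4639 : Q := act 3 n3607
theorem D4639 : act 3 n3607 = n4639 := rfl
theorem F15941 : act 1 n4639 = n3608 := d8_1 D4639 (iv D3608) D3607
theorem F15942 : act 5 n4639 = n3899 := d19_2 (iv F12545) D4639 (iv D3899)
theorem F15943 : act 6 n4639 = n3612 := d20_2 (iv F12546) D4639 (iv D3612)
theorem F15944 : act 7 n4639 = n3896 := d21_2 (iv F12547) D4639 (iv D3896)
def n4640 : Q := act 4 n3608
theorem D4640 : act 4 n3608 = n4640 := rfl
theorem F15945 : act 0 n4640 = n4640 := d3_1 D4640 (iv D4640) F12548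
theorem F15946 : act 2 n4640 = n4640 := d14_1 D4640 (iv D4640) F12549
theorem F15947 : act 3 n4640 = n4640 := d18_1 D4640 (iv D4640) (iv D3608) F9864 D3608
theorem F15948 : act 6 n4640 = n3613 := d23_2 (iv F12551) D4640 (iv D3613)
theorem F15949 : act 7 n4640 = n3897 := d24_2 (iv F12552) D4640 (iv D3897)
def n4641 : Q := act 0 n3609
theorem D4641 : act 0 n3609 = n4641 := rfl
theorem F15950 : act 1 n4641 = n4641 := d0_2 D3609 D4641 (iv D4641) (iv D3609) F9868
theorem F15951 : act 2 n4641 = n3626 := d1_2 (iv F12553) D4641 (iv D3626)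
theorem F15952 : act 4 n4641 = n3905 := d3_2 (iv F12554) D4641 (iv D3905)
theorem F15953 : act 5 n4641 = n3611 := d4_2 (iv F12555) D4641 (iv D3611)
theorem F15954 : act 6 n4641 = n3898 := d5_2 (iv F12556) D4641 (iv D3898)
theorem F15955 : act 7 n4641 = n4641 := d6_2 F12557 D4641 (iv D4641)
def n4642 : Q := act 3 n3609
theorem D4642 : act 3 n3609 = n4642 := rfl
theorem F15956 : act 1 n4642 = n3610 := d8_1 D4642 (iv D3610) D3609
theorem F15957 : act 5 n4642 = n3612 := d19_2 (iv F12555) D4642 (iv D3612)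
theorem F15958 : act 6 n4642 = n3899 := d20_2 (iv F12556) D4642 (iv D3899)
theorem F15959 : act 7 n4642 = n4642 := d21_2 F12557 D4642 (iv D4642)
def n4643 : Q := act 4 n3610
theorem D4643 : act 4 n3610 = n4643 := rfl
theorem F15961 : act 2 n4643 = n3616 := d14_1 D4643 (iv D3616) (iv F12559)
theorem F15963 : act 6 n4643 = n3900 := d23_2 (iv F12561) D4643 (iv D3900)
def n4644 : Q := act 3 n3611
theorem D4644 : act 3 n3611 = n4644 := rfl
theorem F15965 : act 0 n4644 = n3612 := d2_1 D4644 (iv D3612) D3611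
theorem F15966 : act 1 n4644 = n4644 := d8_1 D4644 (iv D4644) F12563
theorem F15967 : act 7 n4644 = n4644 := d21_2 F12566 D4644 (iv D4644)
def n4645 : Q := act 2 n3612
theorem D4645 : act 2 n3612 = n4645 := rfl
theorem F15968 : act 1 n4645 = n3618 := d7_1 D4645 (iv D3618) F9893 (iv F9877) (iv F12567)
theorem F15969 : act 3 n4645 = n3630 := d13_2 D3612 D4645 (iv D3630) (iv D2815) (iv F9873)
theorem F15970 : act 7 n4645 = n4645 := d17_2 F12568 D4645 (iv D4645)
def n4646 : Q := act 4 n3612
theorem D4646 : act 4 n3612 = n4646 := rfl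
theorem F15971 : act 1 n4646 = n3613 := d9_1 D4646 (iv D3613) (iv F12567)
theorem F15972 : act 3 n4646 = n4646 := d18_1 D4646 (iv D4646) (iv D3612) F9874 D3612
theorem F15973 : act 7 n4646 = n4646 := d24_2 F12568 D4646 (iv D4646)
def n4647 : Q := act 5 n3613
theorem D4647 : act 5 n3613 = n4647 := rfl
theorem F15975 : act 2 n4647 = n3620 := d15_1 D4647 (iv D3620) (iv F12570)
def n4648 : Q := act 3 n3614
theorem D4648 : act 3 n3614 = n4648 := rfl
theorem F15980 : act 5 n4648 = n3617 := d19_2 (iv F12576) D4648 (iv D3617)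
def n4649 : Q := act 2 n3615
theorem D4649 : act 2 n3615 = n4649 := rfl
theorem F15983 : act 3 n4649 = n3634 := d13_2 D3615 D4649 (iv D3634) (iv D2818) (iv F9879)
theorem F15984 : act 5 n4649 = n3618 := d15_2 (iv F12580) D4649 (iv D3618)
theorem F15985 : act 7 n4649 = n4649 := d17_2 F12582 D4649 (iv D4649)
def n4650 : Q := act 4 n3615
theorem D4650 : act 4 n3615 = n4650 := rfl
theorem F15987 : act 3 n4650 = n3747 := d18_1 D4650 (iv D3747) (iv D2903) (iv F9880) D3615
def n4652 : Q := act 2 n3617
theorem D4652 : act 2 n3617 = n4652 := rfl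
def n4653 : Q := act 4 n3617
theorem D4653 : act 4 n3617 = n4653 := rfl
def n4654 : Q := act 4 n3618
theorem D4654 : act 4 n3618 = n4654 := rfl
theorem F16003 : act 2 n4654 = n3619 := d14_1 D4654 (iv D3619) D3618
def n4655 : Q := act 6 n3618
theorem D4655 : act 6 n3618 = n4655 := rfl
def n4657 : Q := act 1 n3621
theorem D4657 : act 1 n3621 = n4657 := rfl
theorem F16014 : act 5 n4657 = n3754 := d10_2 (iv F12603) D4657 (iv D3754)
def n4659 : Q := act 6 n3621
theorem D4659 : act 6 n3621 = n4659 := rfl
theorem F16019 : act 0 n4659 = n3624 := d5_1 D4659 (iv D3624) (iv F12601)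
theorem F16022 : act 5 n4659 = n3756 := d25_1 D4659 (iv D3756) (iv F12603)
def n4661 : Q := act 3 n3623
theorem D4661 : act 3 n3623 = n4661 := rfl
def n4662 : Q := act 5 n3623
theorem D4662 : act 5 n3623 = n4662 := rfl
theorem F16032 : act 2 n4662 = n3625 := d15_1 D4662 (iv D3625) (iv F12610)
theorem F16033 : act 4 n4662 = n3759 := d22_1 D4662 (iv D3759) (iv D2911) (iv F9907) D3623
def n4663 : Q := act 6 n3623
theorem D4663 : act 6 n3623 = n4663 := rfl
theorem F16037 : act 4 n4663 = n3624 := d23_1 D4663 (iv D3624) D3623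
def n4664 : Q := act 7 n3624
theorem D4664 : act 7 n3624 = n4664 := rfl
theorem F16041 : act 5 n4664 = n3761 := d26_1 D4664 (iv D3761) (iv F12615)
def n4665 : Q := act 3 n3626
theorem D4665 : act 3 n3626 = n4665 := rfl
theorem F16043 : act 0 n4665 = n3627 := d2_1 D4665 (iv D3627) D3626
theorem F16044 : act 1 n4665 = n3679 := d8_1 D4665 (iv D3679) (iv F12620)
theorem F16045 : act 5 n4665 = n3629 := d19_2 (iv F12621) D4665 (iv D3629)
theorem F16046 : act 7 n4665 = n4665 := d21_2 F12622 D4665 (iv D4665)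
def n4666 : Q := act 2 n3627
theorem D4666 : act 2 n3627 = n4666 := rfl
theorem F16047 : act 1 n4666 = n3634 := d7_1 D4666 (iv D3634) F9937 (iv F9920) (iv F12623)
theorem F16048 : act 5 n4666 = n3630 := d15_2 (iv F12624) D4666 (iv D3630)
theorem F16049 : act 7 n4666 = n4666 := d17_2 F12625 D4666 (iv D4666)
def n4667 : Q := act 4 n3627
theorem D4667 : act 4 n3627 = n4667 := rfl
theorem F16050 : act 1 n4667 = n3628 := d9_1 D4667 (iv D3628) (iv F12623)
theorem F16051 : act 7 n4667 = n4667 := d24_2 F12625 D4667 (iv D4667)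
def n4668 : Q := act 5 n3628
theorem D4668 : act 5 n3628 = n4668 := rfl
theorem F16052 : act 0 n4668 = n3682 := d4_1 D4668 (iv D3682) (iv F12626)
theorem F16053 : act 2 n4668 = n3636 := d15_1 D4668 (iv D3636) (iv F12627)
def n4669 : Q := act 2 n3629
theorem D4669 : act 2 n3629 = n4669 := rfl
theorem F16056 : act 0 n4669 = n3630 := d1_1 D4669 (iv D3630) (iv F12629)
theorem F16057 : act 7 n4669 = n4669 := d17_2 F12631 D4669 (iv D4669)
def n4670 : Q := act 4 n3629
theorem D4670 : act 4 n3629 = n4670 := rfl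
theorem F16058 : act 0 n4670 = n3631 := d3_1 D4670 (iv D3631) (iv F12629)
theorem F16059 : act 1 n4670 = n3684 := d9_1 D4670 (iv D3684) (iv F12630)
theorem F16060 : act 3 n4670 = n4670 := d18_1 D4670 (iv D4670) (iv D3629) F9924 D3629
theorem F16061 : act 7 n4670 = n4670 := d24_2 F12631 D4670 (iv D4670)
def n4671 : Q := act 4 n3630
theorem D4671 : act 4 n3630 = n4671 := rfl
theorem F16062 : act 1 n4671 = n3639 := d9_1 D4671 (iv D3639) (iv F12632)
theorem F16063 : act 2 n4671 = n3631 := d14_1 D4671 (iv D3631) D3630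
def n4672 : Q := act 6 n3630
theorem D4672 : act 6 n3630 = n4672 := rfl
def n4673 : Q := act 5 n3631
theorem D4673 : act 5 n3631 = n4673 := rfl
theorem F16066 : act 1 n4673 = n3632 := d10_1 D4673 (iv D3632) (iv F12634)
def n4676 : Q := act 4 n3634
theorem D4676 : act 4 n3634 = n4676 := rfl
theorem F16077 : act 2 n4676 = n3635 := d14_1 D4676 (iv D3635) D3634
def n4677 : Q := act 6 n3634
theorem D4677 : act 6 n3634 = n4677 := rfl
def n4678 : Q := act 5 n3635
theorem D4678 : act 5 n3635 = n4678 := rfl
theorem F16082 : act 3 n4678 = n3778 := d19_1 D4678 (iv D3778) (iv F12649)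
def n4679 : Q := act 1 n3637
theorem D4679 : act 1 n3637 = n4679 := rfl
theorem F16086 : act 2 n4679 = n3693 := d7_2 D3637 D4679 (iv D3693) (iv D2862) (iv F9946)
def n4680 : Q := act 4 n3637
theorem D4680 : act 4 n3637 = n4680 := rfl
theorem F16089 : act 2 n4680 = n3638 := d14_1 D4680 (iv D3638) D3637
def n4684 : Q := act 5 n3639
theorem D4684 : act 5 n3639 = n4684 := rfl
theorem F16100 : act 2 n4684 = n3641 := d15_1 D4684 (iv D3641) (iv F12664)
def n4697 : Q := act 1 n3650
theorem D4697 : act 1 n3650 = n4697 := rfl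
theorem F16140 : act 2 n4697 = n3705 := d7_2 D3650 D4697 (iv D3705) (iv D2872) (iv F9976)
theorem F16142 : act 5 n4697 = n3655 := d10_2 (iv F12701) D4697 (iv D3655)
def n4698 : Q := act 4 n3650
theorem D4698 : act 4 n3650 = n4698 := rfl
theorem F16145 : act 2 n4698 = n3651 := d14_1 D4698 (iv D3651) D3650
def n4700 : Q := act 5 n3651
theorem D4700 : act 5 n3651 = n4700 := rfl
theorem F16152 : act 3 n4700 = n3800 := d19_1 D4700 (iv D3800) (iv F12705)
theorem F16153 : act 4 n4700 = n3658 := d22_1 D4700 (iv D3658) (iv D2834) (iv F9977) D3651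
def n4702 : Q := act 5 n3652
theorem D4702 : act 5 n3652 = n4702 := rfl
theorem F16158 : act 2 n4702 = n3654 := d15_1 D4702 (iv D3654) (iv F12707)
def n4705 : Q := act 4 n3655
theorem D4705 : act 4 n3655 = n4705 := rfl
theorem F16165 : act 1 n4705 = n3656 := d9_1 D4705 (iv D3656) D3655
theorem F16167 : act 7 n4705 = n4037 := d24_2 (iv F12717) D4705 (iv D4037)
def n4706 : Q := act 6 n3655
theorem D4706 : act 6 n3655 = n4706 := rfl
def n4707 : Q := act 3 n3656
theorem D4707 : act 3 n3656 = n4707 := rfl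
theorem F16171 : act 2 n4707 = n3663 := d13_1 D4707 (iv D3663) F10004 (iv F9994) (iv F12719)
def n4708 : Q := act 5 n3656
theorem D4708 : act 5 n3656 = n4708 := rfl
theorem F16175 : act 2 n4708 = n3658 := d15_1 D4708 (iv D3658) (iv F12719)
def n4709 : Q := act 6 n3656
theorem D4709 : act 6 n3656 = n4709 := rfl
def n4715 : Q := act 5 n3663
theorem D4715 : act 5 n3663 = n4715 := rfl
theorem F16192 : act 3 n4715 = n3664 := d19_1 D4715 (iv D3664) D3663
theorem F16193 : act 7 n4715 = n4047 := d26_2 (iv F12738) D4715 (iv D4047)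
def n4719 : Q := act 4 n3667
theorem D4719 : act 4 n3667 = n4719 := rfl
theorem F16207 : act 3 n4719 = n3819 := d18_1 D4719 (iv D3819) F10400 (iv F10019) (iv F12753)
theorem F16209 : act 7 n4719 = n4051 := d24_2 (iv F12754) D4719 (iv D4051)
def n4729 : Q := act 3 n3676
theorem D4729 : act 3 n3676 = n4729 := rfl
theorem F16239 : act 0 n4729 = n3677 := d2_1 D4729 (iv D3677) D3676
theorem F16240 : act 5 n4729 = n4729 := d19_2 F12785 D4729 (iv D4729)
theorem F16241 : act 7 n4729 = n4729 := d21_2 F12786 D4729 (iv D4729)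
def n4730 : Q := act 2 n3677
theorem D4730 : act 2 n3677 = n4730 := rfl
theorem F16242 : act 1 n4730 = n3830 := d7_1 D4730 (iv D3830) F10434 (iv F10045) (iv F12787)
def n4731 : Q := act 4 n3677
theorem D4731 : act 4 n3677 = n4731 := rfl
theorem F16246 : act 1 n4731 = n3678 := d9_1 D4731 (iv D3678) (iv F12787)
def n4732 : Q := act 5 n3678
theorem D4732 : act 5 n3678 = n4732 := rfl
def n4733 : Q := act 2 n3679
theorem D4733 : act 2 n3679 = n4733 := rfl
theorem F16253 : act 0 n4733 = n3680 := d1_1 D4733 (iv D3680) (iv F12793)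
theorem F16255 : act 5 n4733 = n3683 := d15_2 (iv F12794) D4733 (iv D3683)
def n4734 : Q := act 4 n3679
theorem D4734 : act 4 n3679 = n4734 := rfl
theorem F16257 : act 0 n4734 = n3681 := d3_1 D4734 (iv D3681) (iv F12793)
def n4735 : Q := act 4 n3680
theorem D4735 : act 4 n3680 = n4735 := rfl
theorem F16259 : act 1 n4735 = n3690 := d9_1 D4735 (iv D3690) (iv F12796)
theorem F16260 : act 2 n4735 = n3681 := d14_1 D4735 (iv D3681) D3680
def n4736 : Q := act 6 n3680
theorem D4736 : act 6 n3680 = n4736 := rfl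
theorem F16262 : act 1 n4736 = n3691 := d11_1 D4736 (iv D3691) (iv F12796)
theorem F16264 : act 5 n4736 = n3686 := d25_1 D4736 (iv D3686) (iv F12798)
def n4737 : Q := act 5 n3681
theorem D4737 : act 5 n3681 = n4737 := rfl
theorem F16265 : act 1 n4737 = n3682 := d10_1 D4737 (iv D3682) (iv F12800)
theorem F16266 : act 4 n4737 = n3687 := d22_1 D4737 (iv D3687) (iv D2856) (iv F10052) D3681
def n4738 : Q := act 1 n3683
theorem D4738 : act 1 n3683 = n4738 := rfl
theorem F16268 : act 0 n4738 = n3693 := d0_1 D4738 (iv D3693) F10082 (iv F10058) (iv F12805)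
theorem F16269 : act 3 n4738 = n4738 := d8_2 F12806 D4738 (iv D4738)
theorem F16270 : act 7 n4738 = n4738 := d12_2 F12807 D4738 (iv D4738)
def n4739 : Q := act 4 n3683
theorem D4739 : act 4 n3683 = n4739 := rfl
theorem F16271 : act 0 n4739 = n3685 := d3_1 D4739 (iv D3685) (iv F12805)
theorem F16272 : act 2 n4739 = n3684 := d14_1 D4739 (iv D3684) D3683
theorem F16273 : act 7 n4739 = n4739 := d24_2 F12807 D4739 (iv D4739)
def n4740 : Q := act 6 n3683
theorem D4740 : act 6 n3683 = n4740 := rfl
theorem F16274 : act 0 n4740 = n3686 := d5_1 D4740 (iv D3686) (iv F12805)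
theorem F16275 : act 3 n4740 = n4740 := d20_1 D4740 (iv D4740) F12806
def n4741 : Q := act 5 n3684
theorem D4741 : act 5 n3684 = n4741 := rfl
theorem F16276 : act 0 n4741 = n3687 := d4_1 D4741 (iv D3687) (iv F12808)
def n4742 : Q := act 3 n3685
theorem D4742 : act 3 n3685 = n4742 := rfl
theorem F16279 : act 1 n4742 = n3697 := d8_1 D4742 (iv D3697) (iv F12811)
theorem F16280 : act 2 n4742 = n4742 := d13_1 D4742 (iv D4742) F12812 F10062 (iv F12812)
theorem F16281 : act 4 n4742 = n4742 := d18_2 D3685 D4742 (iv D4742) (iv D3685) F10059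
theorem F16282 : act 7 n4742 = n4742 := d21_2 F12813 D4742 (iv D4742)
def n4743 : Q := act 5 n3685
theorem D4743 : act 5 n3685 = n4743 := rfl
theorem F16283 : act 1 n4743 = n3698 := d10_1 D4743 (iv D3698) (iv F12811)
def n4744 : Q := act 6 n3685
theorem D4744 : act 6 n3685 = n4744 := rfl
theorem F16286 : act 1 n4744 = n3699 := d11_1 D4744 (iv D3699) (iv F12811)
theorem F16287 : act 4 n4744 = n3686 := d23_1 D4744 (iv D3686) D3685
def n4745 : Q := act 7 n3686
theorem D4745 : act 7 n3686 = n4745 := rfl
theorem F16288 : act 1 n4745 = n3700 := d12_1 D4745 (iv D3700) (iv F12814)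
theorem F16289 : act 3 n4745 = n4745 := d21_1 D4745 (iv D4745) F12815
theorem F16290 : act 6 n4745 = n4745 := d27_1 D4745 (iv D4745) (iv D3686) F10060 D3686
def n4746 : Q := act 1 n3688
theorem D4746 : act 1 n3688 = n4746 := rfl
def n4747 : Q := act 4 n3688
theorem D4747 : act 4 n3688 = n4747 := rfl
theorem F16295 : act 2 n4747 = n3689 := d14_1 D4747 (iv D3689) D3688
def n4748 : Q := act 6 n3688
theorem D4748 : act 6 n3688 = n4748 := rfl
theorem F16298 : act 2 n4748 = n3707 := d16_1 D4748 (iv D3707) (iv D2872) (iv F10069) D3688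
def n4749 : Q := act 5 n3689
theorem D4749 : act 5 n3689 = n4749 := rfl
theorem F16302 : act 3 n4749 = n3849 := d19_1 D4749 (iv D3849) (iv F12824)
def n4751 : Q := act 5 n3690
theorem D4751 : act 5 n3690 = n4751 := rfl
theorem F16309 : act 2 n4751 = n3692 := d15_1 D4751 (iv D3692) (iv F12827)
def n4753 : Q := act 7 n3691
theorem D4753 : act 7 n3691 = n4753 := rfl
theorem F16316 : act 5 n4753 = n3700 := d26_1 D4753 (iv D3700) (iv F12831)
def n4754 : Q := act 4 n3693
theorem D4754 : act 4 n3693 = n4754 := rfl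
theorem F16318 : act 1 n4754 = n3694 := d9_1 D4754 (iv D3694) D3693
def n4755 : Q := act 6 n3693
theorem D4755 : act 6 n3693 = n4755 := rfl
theorem F16320 : act 1 n4755 = n3695 := d11_1 D4755 (iv D3695) D3693
def n4756 : Q := act 3 n3694
theorem D4756 : act 3 n3694 = n4756 := rfl
theorem F16323 : act 2 n4756 = n3702 := d13_1 D4756 (iv D3702) F10103 (iv F10086) (iv F12840)
def n4757 : Q := act 5 n3694
theorem D4757 : act 5 n3694 = n4757 := rfl
def n4758 : Q := act 6 n3694
theorem D4758 : act 6 n3694 = n4758 := rfl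
theorem F16330 : act 2 n4758 = n3716 := d16_1 D4758 (iv D3716) F10137 (iv F10087) (iv F12840)
def n4759 : Q := act 7 n3695
theorem D4759 : act 7 n3695 = n4759 := rfl
theorem F16332 : act 0 n4759 = n3700 := d6_1 D4759 (iv D3700) (iv F12842)
def n4761 : Q := act 6 n3697
theorem D4761 : act 6 n3697 = n4761 := rfl
def n4763 : Q := act 7 n3699
theorem D4763 : act 7 n3699 = n4763 := rfl
theorem F16344 : act 2 n4763 = n3719 := d17_1 D4763 (iv D3719) (iv F12854)
theorem F16345 : act 4 n4763 = n3700 := d24_1 D4763 (iv D3700) (iv F12855)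
def n4764 : Q := act 3 n3701
theorem D4764 : act 3 n3701 = n4764 := rfl
theorem F16348 : act 1 n4764 = n3702 := d8_1 D4764 (iv D3702) (iv F12860)
def n4765 : Q := act 5 n3701
theorem D4765 : act 5 n3701 = n4765 := rfl
theorem F16353 : act 1 n4765 = n3703 := d10_1 D4765 (iv D3703) (iv F12860)
theorem F16354 : act 4 n4765 = n3865 := d22_1 D4765 (iv D3865) (iv D2991) (iv F10099) D3701
def n4766 : Q := act 5 n3702
theorem D4766 : act 5 n3702 = n4766 := rfl
theorem F16357 : act 0 n4766 = n3704 := d4_1 D4766 (iv D3704) (iv F12863)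
def n4768 : Q := act 4 n3705
theorem D4768 : act 4 n3705 = n4768 := rfl
theorem F16366 : act 1 n4768 = n3706 := d9_1 D4768 (iv D3706) D3705
theorem F16367 : act 7 n4768 = n4061 := d24_2 (iv F12878) D4768 (iv D4061)
def n4769 : Q := act 6 n3705
theorem D4769 : act 6 n3705 = n4769 := rfl
theorem F16368 : act 1 n4769 = n3707 := d11_1 D4769 (iv D3707) D3705
theorem F16369 : act 3 n4769 = n3721 := d20_1 D4769 (iv D3721) (iv F12876)
def n4770 : Q := act 3 n3706
theorem D4770 : act 3 n3706 = n4770 := rfl
theorem F16372 : act 2 n4770 = n3870 := d13_1 D4770 (iv D3870) F10532 (iv F10124) (iv F12880)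
theorem F16373 : act 4 n4770 = n3722 := d18_2 D3706 D4770 (iv D3722) (iv D2885) (iv F10120)
def n4771 : Q := act 5 n3706
theorem D4771 : act 5 n3706 = n4771 := rfl
theorem F16376 : act 2 n4771 = n3708 := d15_1 D4771 (iv D3708) (iv F12880)
theorem F16377 : act 4 n4771 = n3715 := d22_1 D4771 (iv D3715) (iv D2878) (iv F10121) D3706
theorem F16378 : act 7 n4771 = n4064 := d26_2 (iv F12881) D4771 (iv D4064)
def n4776 : Q := act 6 n3710
theorem D4776 : act 6 n3710 = n4776 := rfl
theorem F16392 : act 5 n4776 = n3711 := d25_1 D4776 (iv D3711) D3710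
def n4778 : Q := act 5 n3713
theorem D4778 : act 5 n3713 = n4778 := rfl
theorem F16395 : act 1 n4778 = n3715 := d10_1 D4778 (iv D3715) (iv F12899)
theorem F16397 : act 7 n4778 = n4071 := d26_2 (iv F12901) D4778 (iv D4071)
def n4779 : Q := act 6 n3713
theorem D4779 : act 6 n3713 = n4779 := rfl
theorem F16398 : act 1 n4779 = n3716 := d11_1 D4779 (iv D3716) (iv F12899)
def n4780 : Q := act 2 n3714
theorem D4780 : act 2 n3714 = n4780 := rfl
def n4784 : Q := act 7 n3718
theorem D4784 : act 7 n3718 = n4784 := rfl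
theorem F16412 : act 5 n4784 = n3719 := d26_1 D4784 (iv D3719) (iv F12915)
theorem F16413 : act 6 n4784 = n4077 := d27_1 D4784 (iv D4077) (iv D3161) (iv F10147) D3718
def n4787 : Q := act 2 n3721
theorem D4787 : act 2 n3721 = n4787 := rfl
def n4791 : Q := act 2 n3725
theorem D4791 : act 2 n3725 = n4791 := rfl
theorem F16436 : act 6 n4791 = n3891 := d16_2 D3725 D4791 (iv D3891) (iv D3015) (iv F10162)
def n4792 : Q := act 7 n3725
theorem D4792 : act 7 n3725 = n4792 := rfl
theorem F16437 : act 3 n4792 = n3726 := d21_1 D4792 (iv D3726) (iv F12937)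
def n4812 : Q := act 2 n3741
theorem D4812 : act 2 n3741 = n4812 := rfl
theorem F16516 : act 0 n4812 = n3742 := d1_1 D4812 (iv D3742) (iv F12999)
theorem F16517 : act 3 n4812 = n3769 := d13_2 D3741 D4812 (iv D3769) (iv D2919) (iv F10206)
def n4814 : Q := act 4 n3742
theorem D4814 : act 4 n3742 = n4814 := rfl
theorem F16523 : act 1 n4814 = n3751 := d9_1 D4814 (iv D3751) (iv F13002)
def n4817 : Q := act 2 n3745
theorem D4817 : act 2 n3745 = n4817 := rfl
theorem F16531 : act 0 n4817 = n3746 := d1_1 D4817 (iv D3746) (iv F13012)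
theorem F16532 : act 3 n4817 = n3774 := d13_2 D3745 D4817 (iv D3774) (iv D2923) (iv F10216)
theorem F16533 : act 5 n4817 = n3749 := d15_2 (iv F13014) D4817 (iv D3749)
def n4819 : Q := act 4 n3746
theorem D4819 : act 4 n3746 = n4819 := rfl
theorem F16539 : act 2 n4819 = n3747 := d14_1 D4819 (iv D3747) D3746
def n4820 : Q := act 6 n3746
theorem D4820 : act 6 n3746 = n4820 := rfl
theorem F16543 : act 5 n4820 = n3752 := d25_1 D4820 (iv D3752) (iv F13018)
def n4822 : Q := act 1 n3749
theorem D4822 : act 1 n3749 = n4822 := rfl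
theorem F16549 : act 3 n4822 = n3779 := d8_2 (iv F13028) D4822 (iv D3779)
def n4823 : Q := act 4 n3749
theorem D4823 : act 4 n3749 = n4823 := rfl
theorem F16552 : act 2 n4823 = n3750 := d14_1 D4823 (iv D3750) D3749
def n4824 : Q := act 6 n3749
theorem D4824 : act 6 n3749 = n4824 := rfl
def n4825 : Q := act 5 n3750
theorem D4825 : act 5 n3750 = n4825 := rfl
theorem F16559 : act 3 n4825 = n3757 := d19_1 D4825 (iv D3757) (iv F13032)
def n4826 : Q := act 3 n3751
theorem D4826 : act 3 n3751 = n4826 := rfl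
theorem F16562 : act 2 n4826 = n3758 := d13_1 D4826 (iv D3758) F10249 (iv F10234) (iv F13035)
def n4827 : Q := act 5 n3751
theorem D4827 : act 5 n3751 = n4827 := rfl
def n4828 : Q := act 6 n3751
theorem D4828 : act 6 n3751 = n4828 := rfl
theorem F16568 : act 4 n4828 = n3752 := d23_1 D4828 (iv D3752) D3751
def n4829 : Q := act 7 n3752
theorem D4829 : act 7 n3752 = n4829 := rfl
def n4830 : Q := act 4 n3754
theorem D4830 : act 4 n3754 = n4830 := rfl
theorem F16573 : act 1 n4830 = n3755 := d9_1 D4830 (iv D3755) D3754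
def n4831 : Q := act 6 n3754
theorem D4831 : act 6 n3754 = n4831 := rfl
def n4832 : Q := act 3 n3755
theorem D4832 : act 3 n3755 = n4832 := rfl
theorem F16579 : act 0 n4832 = n3758 := d2_1 D4832 (iv D3758) (iv F13047)
def n4833 : Q := act 5 n3755
theorem D4833 : act 5 n3755 = n4833 := rfl
theorem F16583 : act 2 n4833 = n3757 := d15_1 D4833 (iv D3757) (iv F13048)
def n4834 : Q := act 6 n3755
theorem D4834 : act 6 n3755 = n4834 := rfl
theorem F16587 : act 4 n4834 = n3756 := d23_1 D4834 (iv D3756) D3755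
def n4835 : Q := act 7 n3756
theorem D4835 : act 7 n3756 = n4835 := rfl
theorem F16588 : act 0 n4835 = n3761 := d6_1 D4835 (iv D3761) (iv F13050)
def n4836 : Q := act 5 n3758
theorem D4836 : act 5 n3758 = n4836 := rfl
theorem F16593 : act 3 n4836 = n3759 := d19_1 D4836 (iv D3759) D3758
def n4837 : Q := act 6 n3758
theorem D4837 : act 6 n3758 = n4837 := rfl
theorem F16596 : act 3 n4837 = n3760 := d20_1 D4837 (iv D3760) D3758
def n4838 : Q := act 6 n3759
theorem D4838 : act 6 n3759 = n4838 := rfl
def n4839 : Q := act 7 n3760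
theorem D4839 : act 7 n3760 = n4839 := rfl
def n4841 : Q := act 2 n3763
theorem D4841 : act 2 n3763 = n4841 := rfl
def n4842 : Q := act 4 n3763
theorem D4842 : act 4 n3763 = n4842 := rfl
theorem F16613 : act 3 n4842 = n3767 := d18_1 D4842 (iv D3767) (iv D2917) (iv F10257) D3763
def n4843 : Q := act 5 n3764
theorem D4843 : act 5 n3764 = n4843 := rfl
theorem F16617 : act 3 n4843 = n3768 := d19_1 D4843 (iv D3768) (iv F13080)
def n4845 : Q := act 4 n3765
theorem D4845 : act 4 n3765 = n4845 := rfl
theorem F16624 : act 0 n4845 = n3767 := d3_1 D4845 (iv D3767) (iv F13083)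
theorem F16625 : act 1 n4845 = n3834 := d9_1 D4845 (iv D3834) (iv F13084)
def n4848 : Q := act 5 n3767
theorem D4848 : act 5 n3767 = n4848 := rfl
def n4849 : Q := act 1 n3769
theorem D4849 : act 1 n3769 = n4849 := rfl
theorem F16638 : act 0 n4849 = n3779 := d0_1 D4849 (iv D3779) F10306 (iv F10281) (iv F13099)
theorem F16639 : act 2 n4849 = n3838 := d7_2 D3769 D4849 (iv D3838) (iv D2973) (iv F10278)
def n4850 : Q := act 4 n3769
theorem D4850 : act 4 n3769 = n4850 := rfl
theorem F16641 : act 0 n4850 = n3771 := d3_1 D4850 (iv D3771) (iv F13099)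
def n4853 : Q := act 3 n3771
theorem D4853 : act 3 n3771 = n4853 := rfl
theorem F16651 : act 1 n4853 = n3783 := d8_1 D4853 (iv D3783) (iv F13106)
def n4854 : Q := act 5 n3771
theorem D4854 : act 5 n3771 = n4854 := rfl
def n4855 : Q := act 6 n3771
theorem D4855 : act 6 n3771 = n4855 := rfl
def n4857 : Q := act 1 n3774
theorem D4857 : act 1 n3774 = n4857 := rfl
theorem F16663 : act 2 n4857 = n3846 := d7_2 D3774 D4857 (iv D3846) (iv D2978) (iv F10293)
def n4858 : Q := act 4 n3774
theorem D4858 : act 4 n3774 = n4858 := rfl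
theorem F16666 : act 0 n4858 = n3776 := d3_1 D4858 (iv D3776) (iv F13115)
def n4861 : Q := act 3 n3776
theorem D4861 : act 3 n3776 = n4861 := rfl
def n4862 : Q := act 5 n3776
theorem D4862 : act 5 n3776 = n4862 := rfl
theorem F16678 : act 2 n4862 = n3778 := d15_1 D4862 (iv D3778) (iv F13122)
theorem F16679 : act 4 n4862 = n3784 := d22_1 D4862 (iv D3784) (iv D2929) (iv F10297) D3776
def n4863 : Q := act 6 n3776
theorem D4863 : act 6 n3776 = n4863 := rfl
def n4865 : Q := act 4 n3779
theorem D4865 : act 4 n3779 = n4865 := rfl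
theorem F16686 : act 1 n4865 = n3780 := d9_1 D4865 (iv D3780) D3779
theorem F16687 : act 2 n4865 = n3854 := d14_1 D4865 (iv D3854) (iv F13130)
def n4866 : Q := act 6 n3779
theorem D4866 : act 6 n3779 = n4866 := rfl
theorem F16689 : act 1 n4866 = n3781 := d11_1 D4866 (iv D3781) D3779
def n4867 : Q := act 3 n3780
theorem D4867 : act 3 n3780 = n4867 := rfl
theorem F16691 : act 2 n4867 = n3789 := d13_1 D4867 (iv D3789) F10324 (iv F10310) (iv F13133)
def n4871 : Q := act 5 n3783
theorem D4871 : act 5 n3783 = n4871 := rfl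
theorem F16702 : act 2 n4871 = n3793 := d15_1 D4871 (iv D3793) (iv F13142)
theorem F16703 : act 3 n4871 = n3784 := d19_1 D4871 (iv D3784) D3783
def n4872 : Q := act 6 n3783
theorem D4872 : act 6 n3783 = n4872 := rfl
def n4873 : Q := act 6 n3784
theorem D4873 : act 6 n3784 = n4873 := rfl
theorem F16706 : act 2 n4873 = n3813 := d16_1 D4873 (iv D3813) F10377 (iv F10318) (iv F13144)
def n4875 : Q := act 3 n3787
theorem D4875 : act 3 n3787 = n4875 := rfl
theorem F16712 : act 1 n4875 = n3789 := d8_1 D4875 (iv D3789) (iv F13151)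
def n4879 : Q := act 5 n3789
theorem D4879 : act 5 n3789 = n4879 := rfl
theorem F16726 : act 0 n4879 = n3793 := d4_1 D4879 (iv D3793) (iv F13157)
def n4880 : Q := act 6 n3789
theorem D4880 : act 6 n3789 = n4880 := rfl
theorem F16729 : act 0 n4880 = n3794 := d5_1 D4880 (iv D3794) (iv F13157)
theorem F16730 : act 3 n4880 = n3791 := d20_1 D4880 (iv D3791) D3789
def n4883 : Q := act 4 n3793
theorem D4883 : act 4 n3793 = n4883 := rfl
def n4884 : Q := act 6 n3793
theorem D4884 : act 6 n3793 = n4884 := rfl
theorem F16742 : act 5 n4884 = n3794 := d25_1 D4884 (iv D3794) D3793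
def n4885 : Q := act 2 n3794
theorem D4885 : act 2 n3794 = n4885 := rfl
theorem F16743 : act 3 n4885 = n3821 := d13_2 (iv F13172) D4885 (iv D3821) F10403 (iv F10338)
def n4886 : Q := act 7 n3794
theorem D4886 : act 7 n3794 = n4886 := rfl
theorem F16745 : act 3 n4886 = n3796 := d21_1 D4886 (iv D3796) (iv F13172)
def n4887 : Q := act 7 n3795
theorem D4887 : act 7 n3795 = n4887 := rfl
theorem F16748 : act 2 n4887 = n3823 := d17_1 D4887 (iv D3823) (iv F13174)
theorem F16749 : act 5 n4887 = n3796 := d26_1 D4887 (iv D3796) (iv F13175)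
def n4888 : Q := act 4 n3797
theorem D4888 : act 4 n3797 = n4888 := rfl
theorem F16753 : act 2 n4888 = n3868 := d14_1 D4888 (iv D3868) (iv F13181)
def n4889 : Q := act 6 n3797
theorem D4889 : act 6 n3797 = n4889 := rfl
def n4890 : Q := act 3 n3798
theorem D4890 : act 3 n3798 = n4890 := rfl
def n4891 : Q := act 5 n3798
theorem D4891 : act 5 n3798 = n4891 := rfl
theorem F16764 : act 4 n4891 = n3808 := d22_1 D4891 (iv D3808) (iv D2946) (iv F10345) D3798
def n4894 : Q := act 5 n3801
theorem D4894 : act 5 n3801 = n4894 := rfl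
theorem F16773 : act 3 n4894 = n3802 := d19_1 D4894 (iv D3802) D3801
def n4896 : Q := act 6 n3802
theorem D4896 : act 6 n3802 = n4896 := rfl
def n4898 : Q := act 3 n3805
theorem D4898 : act 3 n3805 = n4898 := rfl
theorem F16785 : act 1 n4898 = n3807 := d8_1 D4898 (iv D3807) (iv F13209)
def n4899 : Q := act 5 n3805
theorem D4899 : act 5 n3805 = n4899 := rfl
theorem F16790 : act 1 n4899 = n3808 := d10_1 D4899 (iv D3808) (iv F13209)
theorem F16791 : act 2 n4899 = n3878 := d15_1 D4899 (iv D3878) (iv F13210)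
def n4900 : Q := act 6 n3805
theorem D4900 : act 6 n3805 = n4900 := rfl
def n4901 : Q := act 2 n3806
theorem D4901 : act 2 n3806 = n4901 := rfl
theorem F16797 : act 6 n4901 = n3880 := d16_2 D3806 D4901 (iv D3880) (iv D3004) (iv F10360)
def n4902 : Q := act 7 n3806
theorem D4902 : act 7 n3806 = n4902 := rfl
theorem F16801 : act 6 n4902 = n4102 := d27_1 D4902 (iv D4102) (iv D3181) (iv F10362) D3806
def n4903 : Q := act 5 n3807
theorem D4903 : act 5 n3807 = n4903 := rfl
theorem F16802 : act 0 n4903 = n3811 := d4_1 D4903 (iv D3811) (iv F13215)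
theorem F16803 : act 2 n4903 = n3815 := d15_1 D4903 (iv D3815) (iv F13216)
theorem F16804 : act 3 n4903 = n3808 := d19_1 D4903 (iv D3808) D3807
def n4904 : Q := act 6 n3807
theorem D4904 : act 6 n3807 = n4904 := rfl
def n4907 : Q := act 4 n3811
theorem D4907 : act 4 n3811 = n4907 := rfl
theorem F16815 : act 2 n4907 = n3819 := d14_1 D4907 (iv D3819) (iv F13228)
def n4908 : Q := act 6 n3811
theorem D4908 : act 6 n3811 = n4908 := rfl
theorem F16819 : act 3 n4908 = n3813 := d20_1 D4908 (iv D3813) (iv F13229)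
def n4912 : Q := act 4 n3815
theorem D4912 : act 4 n3815 = n4912 := rfl
theorem F16833 : act 7 n4912 = n4112 := d24_2 (iv F13242) D4912 (iv D4112)
def n4913 : Q := act 6 n3815
theorem D4913 : act 6 n3815 = n4913 := rfl
theorem F16837 : act 5 n4913 = n3816 := d25_1 D4913 (iv D3816) D3815
def n4914 : Q := act 2 n3816
theorem D4914 : act 2 n3816 = n4914 := rfl
def n4915 : Q := act 7 n3816
theorem D4915 : act 7 n3816 = n4915 := rfl
def n4917 : Q := act 6 n3819
theorem D4917 : act 6 n3819 = n4917 := rfl
theorem F16849 : act 1 n4917 = n3824 := d11_1 D4917 (iv D3824) (iv F13254)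
theorem F16850 : act 4 n4917 = n3820 := d23_1 D4917 (iv D3820) D3819
def n4918 : Q := act 2 n3820
theorem D4918 : act 2 n3820 = n4918 := rfl
theorem F16852 : act 5 n4918 = n3821 := d15_2 (iv F13259) D4918 (iv D3821)
def n4919 : Q := act 7 n3820
theorem D4919 : act 7 n3820 = n4919 := rfl
theorem F16855 : act 5 n4919 = n3822 := d26_1 D4919 (iv D3822) (iv F13259)
theorem F16856 : act 6 n4919 = n4119 := d27_1 D4919 (iv D4119) (iv D3195) (iv F10401) D3820
def n4920 : Q := act 1 n3821
theorem D4920 : act 1 n3821 = n4920 := rfl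
theorem F16857 : act 2 n4920 = n3827 := d7_2 D3821 D4920 (iv D3827) (iv D2963) (iv F10402)
def n4921 : Q := act 7 n3821
theorem D4921 : act 7 n3821 = n4921 := rfl
theorem F16859 : act 2 n4921 = n3822 := d17_1 D4921 (iv D3822) D3821
def n4922 : Q := act 2 n3824
theorem D4922 : act 2 n3824 = n4922 := rfl
theorem F16862 : act 4 n4922 = n3825 := d14_2 (iv F13269) D4922 (iv D3825)
def n4923 : Q := act 7 n3824
theorem D4923 : act 7 n3824 = n4923 := rfl
theorem F16868 : act 6 n4923 = n4123 := d27_1 D4923 (iv D4123) (iv D3199) (iv F10413) D3824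
def n4924 : Q := act 1 n3825
theorem D4924 : act 1 n3825 = n4924 := rfl
theorem F16870 : act 5 n4924 = n3827 := d10_2 (iv F13273) D4924 (iv D3827)
def n4925 : Q := act 7 n3825
theorem D4925 : act 7 n3825 = n4925 := rfl
theorem F16875 : act 5 n4925 = n3828 := d26_1 D4925 (iv D3828) (iv F13273)
def n4926 : Q := act 0 n3827
theorem D4926 : act 0 n3827 = n4926 := rfl
def n4927 : Q := act 7 n3827
theorem D4927 : act 7 n3827 = n4927 := rfl
theorem F16880 : act 1 n4927 = n3828 := d12_1 D4927 (iv D3828) D3827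
def n4928 : Q := act 6 n3828
theorem D4928 : act 6 n3828 = n4928 := rfl
theorem F16884 : act 2 n4928 = n4128 := d16_1 D4928 (iv D4128) F11161 (iv F10424) (iv F13283)
def n4929 : Q := act 2 n3829
theorem D4929 : act 2 n3829 = n4929 := rfl
theorem F16888 : act 0 n4929 = n3830 := d1_1 D4929 (iv D3830) (iv F13286)
def n4930 : Q := act 4 n3829
theorem D4930 : act 4 n3829 = n4930 := rfl
theorem F16893 : act 3 n4930 = n3834 := d18_1 D4930 (iv D3834) (iv D2969) (iv F10430) D3829
def n4931 : Q := act 4 n3830
theorem D4931 : act 4 n3830 = n4931 := rfl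
theorem F16896 : act 2 n4931 = n3831 := d14_1 D4931 (iv D3831) D3830
def n4935 : Q := act 4 n3833
theorem D4935 : act 4 n3833 = n4935 := rfl
theorem F16911 : act 2 n4935 = n3834 := d14_1 D4935 (iv D3834) D3833
def n4936 : Q := act 6 n3833
theorem D4936 : act 6 n3833 = n4936 := rfl
theorem F16916 : act 5 n4936 = n3840 := d25_1 D4936 (iv D3840) (iv F13303)
def n4937 : Q := act 5 n3834
theorem D4937 : act 5 n3834 = n4937 := rfl
def n4938 : Q := act 3 n3835
theorem D4938 : act 3 n3835 = n4938 := rfl
def n4939 : Q := act 5 n3835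
theorem D4939 : act 5 n3835 = n4939 := rfl
theorem F16925 : act 2 n4939 = n3837 := d15_1 D4939 (iv D3837) (iv F13309)
theorem F16926 : act 4 n4939 = n3843 := d22_1 D4939 (iv D3843) (iv D2975) (iv F10447) D3835
def n4940 : Q := act 6 n3835
theorem D4940 : act 6 n3835 = n4940 := rfl
theorem F16930 : act 4 n4940 = n3836 := d23_1 D4940 (iv D3836) D3835
def n4941 : Q := act 7 n3836
theorem D4941 : act 7 n3836 = n4941 := rfl
theorem F16931 : act 1 n4941 = n3853 := d12_1 D4941 (iv D3853) (iv F13311)
theorem F16932 : act 2 n4941 = n4941 := d17_1 D4941 (iv D4941) F13312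
theorem F16934 : act 5 n4941 = n3845 := d26_1 D4941 (iv D3845) (iv F13314)
theorem F16935 : act 6 n4941 = n4941 := d27_1 D4941 (iv D4941) (iv D3836) F10448 D3836
def n4942 : Q := act 4 n3838
theorem D4942 : act 4 n3838 = n4942 := rfl
theorem F16936 : act 0 n4942 = n3854 := d3_1 D4942 (iv D3854) (iv F13319)
theorem F16937 : act 1 n4942 = n3839 := d9_1 D4942 (iv D3839) D3838
def n4943 : Q := act 6 n3838
theorem D4943 : act 6 n3838 = n4943 := rfl
def n4944 : Q := act 3 n3839
theorem D4944 : act 3 n3839 = n4944 := rfl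
theorem F16942 : act 0 n4944 = n3842 := d2_1 D4944 (iv D3842) (iv F13322)
def n4945 : Q := act 5 n3839
theorem D4945 : act 5 n3839 = n4945 := rfl
def n4946 : Q := act 6 n3839
theorem D4946 : act 6 n3839 = n4946 := rfl
theorem F16951 : act 4 n4946 = n3840 := d23_1 D4946 (iv D3840) D3839
def n4947 : Q := act 7 n3840
theorem D4947 : act 7 n3840 = n4947 := rfl
def n4948 : Q := act 5 n3842
theorem D4948 : act 5 n3842 = n4948 := rfl
theorem F16956 : act 1 n4948 = n3860 := d10_1 D4948 (iv D3860) (iv F13332)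
theorem F16958 : act 3 n4948 = n3843 := d19_1 D4948 (iv D3843) D3842
def n4949 : Q := act 6 n3842
theorem D4949 : act 6 n3842 = n4949 := rfl
theorem F16960 : act 1 n4949 = n3861 := d11_1 D4949 (iv D3861) (iv F13332)
theorem F16961 : act 3 n4949 = n3844 := d20_1 D4949 (iv D3844) D3842
theorem F16962 : act 4 n4949 = n4949 := d23_1 D4949 (iv D4949) F13334
def n4950 : Q := act 6 n3843
theorem D4950 : act 6 n3843 = n4950 := rfl
theorem F16965 : act 5 n4950 = n3844 := d25_1 D4950 (iv D3844) D3843
def n4951 : Q := act 7 n3844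
theorem D4951 : act 7 n3844 = n4951 := rfl
theorem F16966 : act 1 n4951 = n3863 := d12_1 D4951 (iv D3863) (iv F13339)
theorem F16967 : act 2 n4951 = n4951 := d17_1 D4951 (iv D4951) F13340
theorem F16968 : act 4 n4951 = n3845 := d24_1 D4951 (iv D3845) (iv F13341)
theorem F16969 : act 6 n4951 = n4951 := d27_1 D4951 (iv D4951) (iv D3844) F10465 D3844
def n4952 : Q := act 4 n3846
theorem D4952 : act 4 n3846 = n4952 := rfl
theorem F16970 : act 1 n4952 = n3847 := d9_1 D4952 (iv D3847) D3846
def n4953 : Q := act 6 n3846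
theorem D4953 : act 6 n3846 = n4953 := rfl
theorem F16974 : act 5 n4953 = n3855 := d25_1 D4953 (iv D3855) (iv F13347)
def n4954 : Q := act 3 n3847
theorem D4954 : act 3 n3847 = n4954 := rfl
def n4955 : Q := act 5 n3847
theorem D4955 : act 5 n3847 = n4955 := rfl
theorem F16980 : act 4 n4955 = n3857 := d22_1 D4955 (iv D3857) (iv D2984) (iv F10475) D3847
def n4956 : Q := act 6 n3847
theorem D4956 : act 6 n3847 = n4956 := rfl
theorem F16984 : act 4 n4956 = n3848 := d23_1 D4956 (iv D3848) D3847
def n4957 : Q := act 7 n3848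
theorem D4957 : act 7 n3848 = n4957 := rfl
theorem F16985 : act 0 n4957 = n3853 := d6_1 D4957 (iv D3853) (iv F13352)
theorem F16986 : act 2 n4957 = n3873 := d17_1 D4957 (iv D3873) (iv F13353)
theorem F16988 : act 5 n4957 = n3859 := d26_1 D4957 (iv D3859) (iv F13355)
def n4962 : Q := act 3 n3854
theorem D4962 : act 3 n3854 = n4962 := rfl
theorem F17000 : act 1 n4962 = n3856 := d8_1 D4962 (iv D3856) (iv F13371)
def n4963 : Q := act 5 n3854
theorem D4963 : act 5 n3854 = n4963 := rfl
def n4964 : Q := act 6 n3854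
theorem D4964 : act 6 n3854 = n4964 := rfl
theorem F17005 : act 1 n4964 = n3858 := d11_1 D4964 (iv D3858) (iv F13371)
theorem F17006 : act 4 n4964 = n3855 := d23_1 D4964 (iv D3855) D3854
def n4965 : Q := act 2 n3855
theorem D4965 : act 2 n3855 = n4965 := rfl
def n4966 : Q := act 7 n3855
theorem D4966 : act 7 n3855 = n4966 := rfl
def n4967 : Q := act 5 n3856
theorem D4967 : act 5 n3856 = n4967 := rfl
theorem F17011 : act 0 n4967 = n3860 := d4_1 D4967 (iv D3860) (iv F13375)
theorem F17012 : act 2 n4967 = n3866 := d15_1 D4967 (iv D3866) (iv F13376)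
theorem F17013 : act 3 n4967 = n3857 := d19_1 D4967 (iv D3857) D3856
def n4968 : Q := act 6 n3856
theorem D4968 : act 6 n3856 = n4968 := rfl
theorem F17015 : act 0 n4968 = n3861 := d5_1 D4968 (iv D3861) (iv F13375)
theorem F17016 : act 2 n4968 = n4968 := d16_1 D4968 (iv D4968) F13376 F10517 (iv F13376)
theorem F17017 : act 3 n4968 = n3858 := d20_1 D4968 (iv D3858) D3856
def n4969 : Q := act 6 n3857
theorem D4969 : act 6 n3857 = n4969 := rfl
theorem F17021 : act 5 n4969 = n3858 := d25_1 D4969 (iv D3858) D3857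
def n4970 : Q := act 7 n3858
theorem D4970 : act 7 n3858 = n4970 := rfl
theorem F17022 : act 0 n4970 = n3863 := d6_1 D4970 (iv D3863) (iv F13382)
theorem F17023 : act 2 n4970 = n3883 := d17_1 D4970 (iv D3883) (iv F13383)
theorem F17024 : act 4 n4970 = n3859 := d24_1 D4970 (iv D3859) (iv F13384)
def n4972 : Q := act 6 n3860
theorem D4972 : act 6 n3860 = n4972 := rfl
def n4973 : Q := act 7 n3861
theorem D4973 : act 7 n3861 = n4973 := rfl
theorem F17033 : act 3 n4973 = n3863 := d21_1 D4973 (iv D3863) (iv F13393)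
theorem F17034 : act 4 n4973 = n4973 := d24_1 D4973 (iv D4973) F13394
def n4975 : Q := act 2 n3864
theorem D4975 : act 2 n3864 = n4975 := rfl
def n4976 : Q := act 5 n3864
theorem D4976 : act 5 n3864 = n4976 := rfl
theorem F17043 : act 1 n4976 = n3866 := d10_1 D4976 (iv D3866) (iv F13401)
theorem F17044 : act 3 n4976 = n3865 := d19_1 D4976 (iv D3865) D3864
def n4977 : Q := act 4 n3866
theorem D4977 : act 4 n3866 = n4977 := rfl
def n4980 : Q := act 6 n3868
theorem D4980 : act 6 n3868 = n4980 := rfl
theorem F17061 : act 4 n4980 = n3869 := d23_1 D4980 (iv D3869) D3868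
def n4981 : Q := act 2 n3869
theorem D4981 : act 2 n3869 = n4981 := rfl
theorem F17063 : act 5 n4981 = n3880 := d15_2 (iv F13423) D4981 (iv D3880)
def n4982 : Q := act 7 n3869
theorem D4982 : act 7 n3869 = n4982 := rfl
theorem F17065 : act 1 n4982 = n3873 := d12_1 D4982 (iv D3873) (iv F13421)
theorem F17067 : act 5 n4982 = n3881 := d26_1 D4982 (iv D3881) (iv F13423)
theorem F17068 : act 6 n4982 = n4133 := d27_1 D4982 (iv D4133) (iv D3205) (iv F10530) D3869
def n4984 : Q := act 6 n3870
theorem D4984 : act 6 n3870 = n4984 := rfl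
theorem F17074 : act 3 n4984 = n3872 := d20_1 D4984 (iv D3872) D3870
def n4985 : Q := act 6 n3871
theorem D4985 : act 6 n3871 = n4985 := rfl
theorem F17077 : act 4 n4985 = n3882 := d23_1 D4985 (iv D3882) (iv F13429)
def n4986 : Q := act 7 n3872
theorem D4986 : act 7 n3872 = n4986 := rfl
theorem F17080 : act 4 n4986 = n3873 := d24_1 D4986 (iv D3873) (iv F13432)
theorem F17081 : act 6 n4986 = n4137 := d27_1 D4986 (iv D4137) (iv D3208) (iv F10533) D3872
def n4990 : Q := act 7 n3876
theorem D4990 : act 7 n3876 = n4990 := rfl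
theorem F17092 : act 4 n4990 = n3884 := d24_1 D4990 (iv D3884) (iv F13445)
def n4991 : Q := act 6 n3878
theorem D4991 : act 6 n3878 = n4991 := rfl
theorem F17098 : act 5 n4991 = n3879 := d25_1 D4991 (iv D3879) D3878
def n4992 : Q := act 2 n3879
theorem D4992 : act 2 n3879 = n4992 := rfl
theorem F17100 : act 4 n4992 = n3880 := d14_2 (iv F13457) D4992 (iv D3880)
def n4993 : Q := act 7 n3879
theorem D4993 : act 7 n3879 = n4993 := rfl
theorem F17102 : act 1 n4993 = n3883 := d12_1 D4993 (iv D3883) (iv F13455)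
theorem F17104 : act 4 n4993 = n3881 := d24_1 D4993 (iv D3881) (iv F13457)
theorem F17105 : act 6 n4993 = n4144 := d27_1 D4993 (iv D4144) (iv D3215) (iv F10556) D3879
def n4994 : Q := act 3 n3880
theorem D4994 : act 3 n3880 = n4994 := rfl
theorem F17107 : act 2 n4994 = n3893 := d13_1 D4994 (iv D3893) (iv D3017) (iv F10559) D3880
def n4995 : Q := act 7 n3880
theorem D4995 : act 7 n3880 = n4995 := rfl
theorem F17109 : act 2 n4995 = n3881 := d17_1 D4995 (iv D3881) D3880
def n4996 : Q := act 7 n3882
theorem D4996 : act 7 n3882 = n4996 := rfl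
theorem F17112 : act 5 n4996 = n3883 := d26_1 D4996 (iv D3883) (iv F13465)
theorem F17113 : act 6 n4996 = n4147 := d27_1 D4996 (iv D4147) (iv D3218) (iv F10563) D3882
def n4999 : Q := act 2 n3886
theorem D4999 : act 2 n3886 = n4999 := rfl
theorem F17124 : act 4 n4999 = n3887 := d14_2 (iv F13480) D4999 (iv D3887)
def n5000 : Q := act 7 n3886
theorem D5000 : act 7 n3886 = n5000 := rfl
theorem F17129 : act 4 n5000 = n3888 := d24_1 D5000 (iv D3888) (iv F13480)
theorem F17131 : act 6 n5000 = n4151 := d27_1 D5000 (iv D4151) (iv D3222) (iv F10581) D3886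
def n5001 : Q := act 3 n3887
theorem D5001 : act 3 n3887 = n5001 := rfl
theorem F17134 : act 5 n5001 = n3893 := d19_2 (iv F13484) D5001 (iv D3893)
def n5002 : Q := act 7 n3887
theorem D5002 : act 7 n3887 = n5002 := rfl
theorem F17138 : act 2 n5002 = n3888 := d17_1 D5002 (iv D3888) D3887
theorem F17139 : act 5 n5002 = n3894 := d26_1 D5002 (iv D3894) (iv F13484)
def n5004 : Q := act 7 n3889
theorem D5004 : act 7 n3889 = n5004 := rfl
theorem F17144 : act 3 n5004 = n3890 := d21_1 D5004 (iv D3890) (iv F13491)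
theorem F17146 : act 6 n5004 = n4155 := d27_1 D5004 (iv D4155) (iv D3225) (iv F10587) D3889
def n5006 : Q := act 7 n3891
theorem D5006 : act 7 n3891 = n5006 := rfl
theorem F17150 : act 2 n5006 = n3892 := d17_1 D5006 (iv D3892) D3891
def n5008 : Q := act 7 n3893
theorem D5008 : act 7 n3893 = n5008 := rfl
def n5009 : Q := act 6 n3894
theorem D5009 : act 6 n3894 = n5009 := rfl
theorem F17160 : act 0 n5009 = n5009 := d5_1 D5009 (iv D5009) F13507
theorem F17162 : act 2 n5009 = n4160 := d16_1 D5009 (iv D4160) F11250 (iv F10611) (iv F13509)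
def n5010 : Q := act 3 n3895
theorem D5010 : act 3 n3895 = n5010 := rfl
theorem F17165 : act 0 n5010 = n3896 := d2_1 D5010 (iv D3896) D3895
theorem F17166 : act 1 n5010 = n5010 := d8_1 D5010 (iv D5010) F13511
theorem F17167 : act 5 n5010 = n3901 := d19_2 (iv F13514) D5010 (iv D3901)
theorem F17168 : act 6 n5010 = n5010 := d20_2 F13515 D5010 (iv D5010)
def n5011 : Q := act 2 n3896
theorem D5011 : act 2 n3896 = n5011 := rfl
theorem F17169 : act 1 n5011 = n5011 := d7_1 D5011 (iv D5011) F13516 F10617 (iv F13516)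
theorem F17170 : act 3 n5011 = n3921 := d13_2 D3896 D5011 (iv D3921) (iv D3038) (iv F10612)
theorem F17171 : act 5 n5011 = n3902 := d15_2 (iv F13517) D5011 (iv D3902)
def n5012 : Q := act 4 n3896
theorem D5012 : act 4 n3896 = n5012 := rfl
theorem F17172 : act 1 n5012 = n3897 := d9_1 D5012 (iv D3897) (iv F13516)
theorem F17173 : act 3 n5012 = n5012 := d18_1 D5012 (iv D5012) (iv D3896) F10613 D3896
theorem F17174 : act 6 n5012 = n5012 := d23_2 F13518 D5012 (iv D5012)
def n5013 : Q := act 5 n3897
theorem D5013 : act 5 n3897 = n5013 := rfl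
def n5014 : Q := act 3 n3898
theorem D5014 : act 3 n3898 = n5014 := rfl
theorem F17180 : act 0 n5014 = n3899 := d2_1 D5014 (iv D3899) D3898
theorem F17181 : act 1 n5014 = n5014 := d8_1 D5014 (iv D5014) F13523
theorem F17182 : act 7 n5014 = n3901 := d21_2 (iv F13526) D5014 (iv D3901)
def n5015 : Q := act 2 n3899
theorem D5015 : act 2 n3899 = n5015 := rfl
theorem F17183 : act 1 n5015 = n5015 := d7_1 D5015 (iv D5015) F13527 F10624 (iv F13527)
theorem F17184 : act 3 n5015 = n3925 := d13_2 D3899 D5015 (iv D3925) (iv D3041) (iv F10620)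
theorem F17185 : act 7 n5015 = n3902 := d17_2 (iv F13528) D5015 (iv D3902)
def n5016 : Q := act 4 n3899
theorem D5016 : act 4 n3899 = n5016 := rfl
theorem F17188 : act 7 n5016 = n3903 := d24_2 (iv F13528) D5016 (iv D3903)
def n5018 : Q := act 2 n3901
theorem D5018 : act 2 n3901 = n5018 := rfl
theorem F17193 : act 0 n5018 = n3902 := d1_1 D5018 (iv D3902) (iv F13533)
theorem F17194 : act 3 n5018 = n3928 := d13_2 D3901 D5018 (iv D3928) (iv D3043) (iv F10627)
def n5019 : Q := act 4 n3901
theorem D5019 : act 4 n3901 = n5019 := rfl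
def n5020 : Q := act 4 n3902
theorem D5020 : act 4 n3902 = n5020 := rfl
def n5021 : Q := act 6 n3902
theorem D5021 : act 6 n3902 = n5021 := rfl
theorem F17201 : act 1 n5021 = n5021 := d11_1 D5021 (iv D5021) F13536
theorem F17202 : act 2 n5021 = n5021 := d16_1 D5021 (iv D5021) (iv D3902) F10631 D3902
theorem F17203 : act 3 n5021 = n3931 := d20_1 D5021 (iv D3931) (iv F13537)
def n5023 : Q := act 3 n3905
theorem D5023 : act 3 n3905 = n5023 := rfl
theorem F17210 : act 6 n5023 = n3908 := d20_2 (iv F13547) D5023 (iv D3908)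
def n5024 : Q := act 2 n3906
theorem D5024 : act 2 n3906 = n5024 := rfl
def n5027 : Q := act 2 n3908
theorem D5027 : act 2 n3908 = n5027 := rfl
theorem F17222 : act 3 n5027 = n3933 := d13_2 D3908 D5027 (iv D3933) (iv D3047) (iv F10644)
def n5040 : Q := act 3 n3917
theorem D5040 : act 3 n3917 = n5040 := rfl
theorem F17263 : act 0 n5040 = n3918 := d2_1 D5040 (iv D3918) D3917
theorem F17264 : act 1 n5040 = n3972 := d8_1 D5040 (iv D3972) (iv F13585)
theorem F17265 : act 5 n5040 = n3924 := d19_2 (iv F13587) D5040 (iv D3924)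
theorem F17266 : act 7 n5040 = n3920 := d21_2 (iv F13588) D5040 (iv D3920)
def n5041 : Q := act 2 n3918
theorem D5041 : act 2 n3918 = n5041 := rfl
theorem F17267 : act 1 n5041 = n5041 := d7_1 D5041 (iv D5041) F13589 F10670 (iv F13589)
theorem F17268 : act 5 n5041 = n3925 := d15_2 (iv F13590) D5041 (iv D3925)
theorem F17269 : act 7 n5041 = n3921 := d17_2 (iv F13591) D5041 (iv D3921)
def n5042 : Q := act 4 n3918
theorem D5042 : act 4 n3918 = n5042 := rfl
theorem F17270 : act 1 n5042 = n3919 := d9_1 D5042 (iv D3919) (iv F13589)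
theorem F17271 : act 3 n5042 = n5042 := d18_1 D5042 (iv D5042) (iv D3918) F10666 D3918
theorem F17272 : act 7 n5042 = n3922 := d24_2 (iv F13591) D5042 (iv D3922)
def n5043 : Q := act 5 n3919
theorem D5043 : act 5 n3919 = n5043 := rfl
theorem F17273 : act 0 n5043 = n3975 := d4_1 D5043 (iv D3975) (iv F13592)
theorem F17277 : act 7 n5043 = n3923 := d26_2 (iv F13595) D5043 (iv D3923)
def n5044 : Q := act 2 n3920
theorem D5044 : act 2 n3920 = n5044 := rfl
theorem F17278 : act 0 n5044 = n3921 := d1_1 D5044 (iv D3921) (iv F13596)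
theorem F17279 : act 5 n5044 = n3928 := d15_2 (iv F13598) D5044 (iv D3928)
def n5045 : Q := act 4 n3920
theorem D5045 : act 4 n3920 = n5045 := rfl
theorem F17280 : act 0 n5045 = n3922 := d3_1 D5045 (iv D3922) (iv F13596)
theorem F17281 : act 1 n5045 = n3977 := d9_1 D5045 (iv D3977) (iv F13597)
theorem F17282 : act 3 n5045 = n5045 := d18_1 D5045 (iv D5045) (iv D3920) F10674 D3920
theorem F17283 : act 6 n5045 = n3947 := d23_2 (iv F13599) D5045 (iv D3947)
def n5046 : Q := act 4 n3921
theorem D5046 : act 4 n3921 = n5046 := rfl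
theorem F17284 : act 1 n5046 = n5046 := d9_1 D5046 (iv D5046) F13600
theorem F17285 : act 2 n5046 = n3922 := d14_1 D5046 (iv D3922) D3921
def n5047 : Q := act 6 n3921
theorem D5047 : act 6 n3921 = n5047 := rfl
theorem F17286 : act 1 n5047 = n5047 := d11_1 D5047 (iv D5047) F13600
theorem F17287 : act 2 n5047 = n3949 := d16_1 D5047 (iv D3949) (iv D3057) (iv F10679) D3921
theorem F17288 : act 5 n5047 = n3931 := d25_1 D5047 (iv D3931) (iv F13601)
def n5048 : Q := act 5 n3922
theorem D5048 : act 5 n3922 = n5048 := rfl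
theorem F17292 : act 6 n5048 = n3950 := d25_2 (iv F13604) D5048 (iv D3950)
def n5049 : Q := act 2 n3924
theorem D5049 : act 2 n3924 = n5049 := rfl
theorem F17293 : act 0 n5049 = n3925 := d1_1 D5049 (iv D3925) (iv F13610)
theorem F17294 : act 7 n5049 = n3928 := d17_2 (iv F13612) D5049 (iv D3928)
def n5050 : Q := act 4 n3924
theorem D5050 : act 4 n3924 = n5050 := rfl
theorem F17295 : act 0 n5050 = n3926 := d3_1 D5050 (iv D3926) (iv F13610)
theorem F17296 : act 1 n5050 = n3982 := d9_1 D5050 (iv D3982) (iv F13611)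
theorem F17297 : act 3 n5050 = n3934 := d18_1 D5050 (iv D3934) (iv D3047) (iv F10685) D3924
theorem F17298 : act 7 n5050 = n3929 := d24_2 (iv F13612) D5050 (iv D3929)
def n5051 : Q := act 4 n3925
theorem D5051 : act 4 n3925 = n5051 := rfl
theorem F17299 : act 1 n5051 = n5051 := d9_1 D5051 (iv D5051) F13613
theorem F17300 : act 2 n5051 = n3926 := d14_1 D5051 (iv D3926) D3925
theorem F17301 : act 7 n5051 = n3930 := d24_2 (iv F13614) D5051 (iv D3930)
def n5052 : Q := act 6 n3925
theorem D5052 : act 6 n3925 = n5052 := rfl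
theorem F17302 : act 1 n5052 = n5052 := d11_1 D5052 (iv D5052) F13613
def n5053 : Q := act 5 n3926
theorem D5053 : act 5 n3926 = n5053 := rfl
def n5054 : Q := act 1 n3928
theorem D5054 : act 1 n3928 = n5054 := rfl
theorem F17306 : act 0 n5054 = n5054 := d0_1 D5054 (iv D5054) F13622 F10696 (iv F13622)
theorem F17307 : act 2 n5054 = n3986 := d7_2 D3928 D5054 (iv D3986) (iv D3087) (iv F10694)
def n5055 : Q := act 4 n3928
theorem D5055 : act 4 n3928 = n5055 := rfl
theorem F17308 : act 0 n5055 = n3930 := d3_1 D5055 (iv D3930) (iv F13622)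
theorem F17309 : act 2 n5055 = n3929 := d14_1 D5055 (iv D3929) D3928
def n5056 : Q := act 6 n3928
theorem D5056 : act 6 n3928 = n5056 := rfl
theorem F17310 : act 0 n5056 = n3931 := d5_1 D5056 (iv D3931) (iv F13622)
theorem F17311 : act 2 n5056 = n3953 := d16_1 D5056 (iv D3953) (iv D3060) (iv F10695) D3928
def n5057 : Q := act 5 n3929
theorem D5057 : act 5 n3929 = n5057 := rfl
theorem F17313 : act 1 n5057 = n3989 := d10_1 D5057 (iv D3989) (iv F13624)
theorem F17315 : act 6 n5057 = n3954 := d25_2 (iv F13626) D5057 (iv D3954)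
def n5058 : Q := act 3 n3930
theorem D5058 : act 3 n3930 = n5058 := rfl
def n5059 : Q := act 5 n3930
theorem D5059 : act 5 n3930 = n5059 := rfl
theorem F17319 : act 2 n5059 = n3932 := d15_1 D5059 (iv D3932) (iv F13628)
def n5060 : Q := act 6 n3930
theorem D5060 : act 6 n3930 = n5060 := rfl
theorem F17321 : act 2 n5060 = n3957 := d16_1 D5060 (iv D3957) F10748 (iv F10699) (iv F13628)
def n5061 : Q := act 7 n3931
theorem D5061 : act 7 n3931 = n5061 := rfl
theorem F17323 : act 1 n5061 = n5061 := d12_1 D5061 (iv D5061) F13629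
theorem F17324 : act 2 n5061 = n3958 := d17_1 D5061 (iv D3958) (iv F13630)
def n5062 : Q := act 1 n3933
theorem D5062 : act 1 n3933 = n5062 := rfl
theorem F17326 : act 2 n5062 = n3994 := d7_2 D3933 D5062 (iv D3994) (iv D3092) (iv F10705)
def n5063 : Q := act 4 n3933
theorem D5063 : act 4 n3933 = n5063 := rfl
theorem F17330 : act 2 n5063 = n3934 := d14_1 D5063 (iv D3934) D3933
def n5064 : Q := act 6 n3933
theorem D5064 : act 6 n3933 = n5064 := rfl
def n5080 : Q := act 1 n3946
theorem D5080 : act 1 n3946 = n5080 := rfl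
theorem F17377 : act 0 n5080 = n4029 := d0_1 D5080 (iv D4029) F10921 (iv F10733) (iv F13670)
def n5081 : Q := act 4 n3946
theorem D5081 : act 4 n3946 = n5081 := rfl
theorem F17381 : act 0 n5081 = n3948 := d3_1 D5081 (iv D3948) (iv F13670)
theorem F17382 : act 2 n5081 = n3947 := d14_1 D5081 (iv D3947) D3946
def n5082 : Q := act 6 n3946
theorem D5082 : act 6 n3946 = n5082 := rfl
theorem F17383 : act 0 n5082 = n3949 := d5_1 D5082 (iv D3949) (iv F13670)
theorem F17384 : act 3 n5082 = n5082 := d20_1 D5082 (iv D5082) F13671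
theorem F17385 : act 5 n5082 = n3953 := d25_1 D5082 (iv D3953) (iv F13672)
def n5084 : Q := act 3 n3948
theorem D5084 : act 3 n3948 = n5084 := rfl
theorem F17390 : act 1 n5084 = n4033 := d8_1 D5084 (iv D4033) (iv F13676)
def n5085 : Q := act 5 n3948
theorem D5085 : act 5 n3948 = n5085 := rfl
theorem F17394 : act 2 n5085 = n3950 := d15_1 D5085 (iv D3950) (iv F13677)
def n5086 : Q := act 6 n3948
theorem D5086 : act 6 n3948 = n5086 := rfl
def n5087 : Q := act 7 n3949
theorem D5087 : act 7 n3949 = n5087 := rfl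
theorem F17399 : act 3 n5087 = n5087 := d21_1 D5087 (iv D5087) F13679
theorem F17400 : act 5 n5087 = n3958 := d26_1 D5087 (iv D3958) (iv F13680)
def n5089 : Q := act 6 n3951
theorem D5089 : act 6 n3951 = n5089 := rfl
theorem F17405 : act 1 n5089 = n3953 := d11_1 D5089 (iv D3953) D3951
def n5091 : Q := act 5 n3952
theorem D5091 : act 5 n3952 = n5091 := rfl
def n5092 : Q := act 6 n3952
theorem D5092 : act 6 n3952 = n5092 := rfl
def n5093 : Q := act 7 n3953
theorem D5093 : act 7 n3953 = n5093 := rfl
theorem F17414 : act 0 n5093 = n3958 := d6_1 D5093 (iv D3958) (iv F13689)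
theorem F17415 : act 3 n5093 = n5093 := d21_1 D5093 (iv D5093) F13690
def n5112 : Q := act 2 n3972
theorem D5112 : act 2 n3972 = n5112 := rfl
theorem F17471 : act 0 n5112 = n3973 := d1_1 D5112 (iv D3973) (iv F13745)
theorem F17472 : act 3 n5112 = n5112 := d13_2 D3972 D5112 (iv D5112) (iv D3972) F10786
theorem F17473 : act 5 n5112 = n3981 := d15_2 (iv F13746) D5112 (iv D3981)
theorem F17474 : act 7 n5112 = n3976 := d17_2 (iv F13747) D5112 (iv D3976)
def n5113 : Q := act 4 n3972
theorem D5113 : act 4 n3972 = n5113 := rfl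
def n5114 : Q := act 4 n3973
theorem D5114 : act 4 n3973 = n5114 := rfl
theorem F17479 : act 2 n5114 = n3974 := d14_1 D5114 (iv D3974) D3973
theorem F17480 : act 7 n5114 = n3978 := d24_2 (iv F13751) D5114 (iv D3978)
def n5115 : Q := act 6 n3973
theorem D5115 : act 6 n3973 = n5115 := rfl
theorem F17481 : act 1 n5115 = n5115 := d11_1 D5115 (iv D5115) F13748
theorem F17482 : act 3 n5115 = n5115 := d20_1 D5115 (iv D5115) F13749
theorem F17483 : act 5 n5115 = n3984 := d25_1 D5115 (iv D3984) (iv F13750)
def n5116 : Q := act 5 n3974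
theorem D5116 : act 5 n3974 = n5116 := rfl
theorem F17484 : act 1 n5116 = n3975 := d10_1 D5116 (iv D3975) (iv F13752)
theorem F17486 : act 4 n5116 = n3985 := d22_1 D5116 (iv D3985) (iv D3085) (iv F10791) D3974
theorem F17487 : act 7 n5116 = n3980 := d26_2 (iv F13754) D5116 (iv D3980)
def n5117 : Q := act 1 n3976
theorem D5117 : act 1 n3976 = n5117 := rfl
theorem F17488 : act 0 n5117 = n5117 := d0_1 D5117 (iv D5117) F13759 F10799 (iv F13759)
theorem F17489 : act 3 n5117 = n5117 := d8_2 F13760 D5117 (iv D5117)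
theorem F17490 : act 5 n5117 = n3986 := d10_2 (iv F13761) D5117 (iv D3986)
def n5118 : Q := act 4 n3976
theorem D5118 : act 4 n3976 = n5118 := rfl
theorem F17492 : act 2 n5118 = n3977 := d14_1 D5118 (iv D3977) D3976
def n5119 : Q := act 6 n3976
theorem D5119 : act 6 n3976 = n5119 := rfl
theorem F17494 : act 2 n5119 = n4007 := d16_1 D5119 (iv D4007) (iv D3102) (iv F10798) D3976
theorem F17495 : act 3 n5119 = n5119 := d20_1 D5119 (iv D5119) F13760
def n5120 : Q := act 5 n3977
theorem D5120 : act 5 n3977 = n5120 := rfl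
theorem F17499 : act 4 n5120 = n3989 := d22_1 D5120 (iv D3989) (iv D3088) (iv F10797) D3977
theorem F17500 : act 6 n5120 = n4008 := d25_2 (iv F13764) D5120 (iv D4008)
def n5121 : Q := act 3 n3978
theorem D5121 : act 3 n3978 = n5121 := rfl
theorem F17503 : act 4 n5121 = n5121 := d18_2 D3978 D5121 (iv D5121) (iv D3978) F10800
def n5122 : Q := act 5 n3978
theorem D5122 : act 5 n3978 = n5122 := rfl
theorem F17505 : act 2 n5122 = n3980 := d15_1 D5122 (iv D3980) (iv F13766)
theorem F17506 : act 4 n5122 = n3991 := d22_1 D5122 (iv D3991) (iv D3089) (iv F10801) D3978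
def n5123 : Q := act 6 n3978
theorem D5123 : act 6 n3978 = n5123 := rfl
theorem F17508 : act 2 n5123 = n4011 := d16_1 D5123 (iv D4011) F10872 (iv F10804) (iv F13766)
def n5124 : Q := act 7 n3979
theorem D5124 : act 7 n3979 = n5124 := rfl
theorem F17511 : act 2 n5124 = n4012 := d17_1 D5124 (iv D4012) (iv F13768)
theorem F17512 : act 3 n5124 = n5124 := d21_1 D5124 (iv D5124) F13769
def n5125 : Q := act 1 n3981
theorem D5125 : act 1 n3981 = n5125 := rfl
theorem F17514 : act 0 n5125 = n5125 := d0_1 D5125 (iv D5125) F13775 F10811 (iv F13775)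
theorem F17515 : act 3 n5125 = n5125 := d8_2 F13776 D5125 (iv D5125)
theorem F17516 : act 7 n5125 = n3986 := d12_2 (iv F13777) D5125 (iv D3986)
def n5126 : Q := act 4 n3981
theorem D5126 : act 4 n3981 = n5126 := rfl
theorem F17517 : act 0 n5126 = n3983 := d3_1 D5126 (iv D3983) (iv F13775)
theorem F17518 : act 2 n5126 = n3982 := d14_1 D5126 (iv D3982) D3981
theorem F17519 : act 7 n5126 = n3987 := d24_2 (iv F13777) D5126 (iv D3987)
def n5127 : Q := act 6 n3981
theorem D5127 : act 6 n3981 = n5127 := rfl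
theorem F17520 : act 0 n5127 = n3984 := d5_1 D5127 (iv D3984) (iv F13775)
theorem F17521 : act 3 n5127 = n5127 := d20_1 D5127 (iv D5127) F13776
def n5128 : Q := act 5 n3982
theorem D5128 : act 5 n3982 = n5128 := rfl
theorem F17522 : act 0 n5128 = n3985 := d4_1 D5128 (iv D3985) (iv F13778)
theorem F17523 : act 3 n5128 = n3997 := d19_1 D5128 (iv D3997) (iv F13779)
theorem F17524 : act 7 n5128 = n3989 := d26_2 (iv F13780) D5128 (iv D3989)
def n5129 : Q := act 3 n3983
theorem D5129 : act 3 n3983 = n5129 := rfl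
theorem F17525 : act 1 n5129 = n5129 := d8_1 D5129 (iv D5129) F13781
theorem F17526 : act 2 n5129 = n3998 := d13_1 D5129 (iv D3998) F10840 (iv F10815) (iv F13782)
theorem F17527 : act 4 n5129 = n5129 := d18_2 D3983 D5129 (iv D5129) (iv D3983) F10812
theorem F17528 : act 7 n5129 = n3990 := d21_2 (iv F13783) D5129 (iv D3990)
def n5130 : Q := act 5 n3983
theorem D5130 : act 5 n3983 = n5130 := rfl
theorem F17529 : act 1 n5130 = n5130 := d10_1 D5130 (iv D5130) F13781
theorem F17530 : act 2 n5130 = n3985 := d15_1 D5130 (iv D3985) (iv F13782)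
theorem F17531 : act 7 n5130 = n3991 := d26_2 (iv F13783) D5130 (iv D3991)
def n5131 : Q := act 6 n3983
theorem D5131 : act 6 n3983 = n5131 := rfl
theorem F17532 : act 1 n5131 = n5131 := d11_1 D5131 (iv D5131) F13781
theorem F17533 : act 4 n5131 = n3984 := d23_1 D5131 (iv D3984) D3983
def n5132 : Q := act 7 n3984
theorem D5132 : act 7 n3984 = n5132 := rfl
theorem F17534 : act 1 n5132 = n5132 := d12_1 D5132 (iv D5132) F13784
theorem F17535 : act 3 n5132 = n5132 := d21_1 D5132 (iv D5132) F13785
theorem F17536 : act 6 n5132 = n3993 := d27_1 D5132 (iv D3993) (iv D3090) (iv F10813) D3984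
def n5133 : Q := act 4 n3986
theorem D5133 : act 4 n3986 = n5133 := rfl
theorem F17537 : act 0 n5133 = n5133 := d3_1 D5133 (iv D5133) F13789
theorem F17538 : act 1 n5133 = n3987 := d9_1 D5133 (iv D3987) D3986
def n5134 : Q := act 6 n3986
theorem D5134 : act 6 n3986 = n5134 := rfl
theorem F17539 : act 0 n5134 = n5134 := d5_1 D5134 (iv D5134) F13789
theorem F17540 : act 1 n5134 = n3988 := d11_1 D5134 (iv D3988) D3986
theorem F17541 : act 3 n5134 = n5134 := d20_1 D5134 (iv D5134) F13790
def n5135 : Q := act 3 n3987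
theorem D5135 : act 3 n3987 = n5135 := rfl
theorem F17542 : act 0 n5135 = n3990 := d2_1 D5135 (iv D3990) (iv F13791)
theorem F17543 : act 2 n5135 = n4002 := d13_1 D5135 (iv D4002) F10854 (iv F10823) (iv F13792)
theorem F17544 : act 4 n5135 = n5135 := d18_2 D3987 D5135 (iv D5135) (iv D3987) F10821
def n5136 : Q := act 5 n3987
theorem D5136 : act 5 n3987 = n5136 := rfl
theorem F17545 : act 0 n5136 = n3991 := d4_1 D5136 (iv D3991) (iv F13791)
theorem F17546 : act 2 n5136 = n3989 := d15_1 D5136 (iv D3989) (iv F13792)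
def n5137 : Q := act 6 n3987
theorem D5137 : act 6 n3987 = n5137 := rfl
theorem F17547 : act 0 n5137 = n3992 := d5_1 D5137 (iv D3992) (iv F13791)
theorem F17548 : act 2 n5137 = n4016 := d16_1 D5137 (iv D4016) F10882 (iv F10824) (iv F13792)
theorem F17549 : act 4 n5137 = n3988 := d23_1 D5137 (iv D3988) D3987
def n5138 : Q := act 7 n3988
theorem D5138 : act 7 n3988 = n5138 := rfl
theorem F17550 : act 0 n5138 = n3993 := d6_1 D5138 (iv D3993) (iv F13793)
theorem F17551 : act 2 n5138 = n4017 := d17_1 D5138 (iv D4017) (iv F13794)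
theorem F17552 : act 3 n5138 = n5138 := d21_1 D5138 (iv D5138) F13795
def n5139 : Q := act 5 n3990
theorem D5139 : act 5 n3990 = n5139 := rfl
theorem F17553 : act 1 n5139 = n5139 := d10_1 D5139 (iv D5139) F13799
theorem F17554 : act 2 n5139 = n4004 := d15_1 D5139 (iv D4004) (iv F13800)
theorem F17555 : act 3 n5139 = n3991 := d19_1 D5139 (iv D3991) D3990
def n5140 : Q := act 6 n3990
theorem D5140 : act 6 n3990 = n5140 := rfl
theorem F17556 : act 1 n5140 = n5140 := d11_1 D5140 (iv D5140) F13799
theorem F17557 : act 2 n5140 = n5140 := d16_1 D5140 (iv D5140) F13800 F10861 (iv F13800)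
theorem F17558 : act 3 n5140 = n3992 := d20_1 D5140 (iv D3992) D3990
theorem F17559 : act 4 n5140 = n5140 := d23_1 D5140 (iv D5140) F13801
def n5141 : Q := act 6 n3991
theorem D5141 : act 6 n3991 = n5141 := rfl
theorem F17561 : act 2 n5141 = n4018 := d16_1 D5141 (iv D4018) F10889 (iv F10832) (iv F13803)
theorem F17562 : act 5 n5141 = n3992 := d25_1 D5141 (iv D3992) D3991
def n5142 : Q := act 7 n3992
theorem D5142 : act 7 n3992 = n5142 := rfl
theorem F17563 : act 1 n5142 = n5142 := d12_1 D5142 (iv D5142) F13804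
theorem F17564 : act 2 n5142 = n4019 := d17_1 D5142 (iv D4019) (iv F13805)
theorem F17565 : act 4 n5142 = n3993 := d24_1 D5142 (iv D3993) (iv F13806)
def n5143 : Q := act 4 n3994
theorem D5143 : act 4 n3994 = n5143 := rfl
theorem F17567 : act 1 n5143 = n3995 := d9_1 D5143 (iv D3995) D3994
theorem F17568 : act 7 n5143 = n4001 := d24_2 (iv F13813) D5143 (iv D4001)
def n5144 : Q := act 6 n3994
theorem D5144 : act 6 n3994 = n5144 := rfl
theorem F17570 : act 1 n5144 = n3996 := d11_1 D5144 (iv D3996) D3994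
def n5145 : Q := act 3 n3995
theorem D5145 : act 3 n3995 = n5145 := rfl
theorem F17574 : act 0 n5145 = n3998 := d2_1 D5145 (iv D3998) (iv F13814)
theorem F17575 : act 4 n5145 = n5145 := d18_2 D3995 D5145 (iv D5145) (iv D3995) F10834
theorem F17576 : act 7 n5145 = n4002 := d21_2 (iv F13816) D5145 (iv D4002)
def n5146 : Q := act 5 n3995
theorem D5146 : act 5 n3995 = n5146 := rfl
theorem F17577 : act 0 n5146 = n3999 := d4_1 D5146 (iv D3999) (iv F13814)
theorem F17578 : act 2 n5146 = n3997 := d15_1 D5146 (iv D3997) (iv F13815)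
theorem F17579 : act 4 n5146 = n5146 := d22_1 D5146 (iv D5146) (iv D3995) F10835 D3995
theorem F17580 : act 7 n5146 = n4003 := d26_2 (iv F13816) D5146 (iv D4003)
def n5147 : Q := act 6 n3995
theorem D5147 : act 6 n3995 = n5147 := rfl
theorem F17581 : act 0 n5147 = n4000 := d5_1 D5147 (iv D4000) (iv F13814)
theorem F17582 : act 4 n5147 = n3996 := d23_1 D5147 (iv D3996) D3995
theorem F17583 : act 7 n5147 = n5147 := d27_2 (iv F13816) D5147 (iv D5147) F13816 F10855
def n5148 : Q := act 5 n3998
theorem D5148 : act 5 n3998 = n5148 := rfl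
theorem F17585 : act 3 n5148 = n3999 := d19_1 D5148 (iv D3999) D3998
theorem F17586 : act 7 n5148 = n4004 := d26_2 (iv F13826) D5148 (iv D4004)
def n5149 : Q := act 6 n3998
theorem D5149 : act 6 n3998 = n5149 := rfl
def n5150 : Q := act 6 n3999
theorem D5150 : act 6 n3999 = n5150 := rfl
def n5151 : Q := act 3 n4001
theorem D5151 : act 3 n4001 = n5151 := rfl
theorem F17596 : act 1 n5151 = n4002 := d8_1 D5151 (iv D4002) (iv F13835)
def n5152 : Q := act 5 n4001
theorem D5152 : act 5 n4001 = n5152 := rfl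
theorem F17600 : act 1 n5152 = n4003 := d10_1 D5152 (iv D4003) (iv F13835)
def n5153 : Q := act 5 n4002
theorem D5153 : act 5 n4002 = n5153 := rfl
theorem F17603 : act 0 n5153 = n4004 := d4_1 D5153 (iv D4004) (iv F13837)
theorem F17604 : act 3 n5153 = n4003 := d19_1 D5153 (iv D4003) D4002
theorem F17605 : act 6 n5153 = n5153 := d25_2 F13839 D5153 (iv D5153)
def n5154 : Q := act 4 n4004
theorem D5154 : act 4 n4004 = n5154 := rfl
def n5155 : Q := act 4 n4005
theorem D5155 : act 4 n4005 = n5155 := rfl
def n5156 : Q := act 6 n4005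
theorem D5156 : act 6 n4005 = n5156 := rfl
theorem F17612 : act 0 n5156 = n4062 := d5_1 D5156 (iv D4062) (iv F13847)
theorem F17613 : act 1 n5156 = n4007 := d11_1 D5156 (iv D4007) D4005
theorem F17615 : act 5 n5156 = n4014 := d25_1 D5156 (iv D4014) (iv F13849)
def n5160 : Q := act 7 n4007
theorem D5160 : act 7 n4007 = n5160 := rfl
def n5165 : Q := act 5 n4013
theorem D5165 : act 5 n4013 = n5165 := rfl
theorem F17639 : act 0 n5165 = n4071 := d4_1 D5165 (iv D4071) (iv F13869)
def n5166 : Q := act 6 n4013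
theorem D5166 : act 6 n4013 = n5166 := rfl
theorem F17643 : act 1 n5166 = n4016 := d11_1 D5166 (iv D4016) (iv F13870)
def n5167 : Q := act 2 n4014
theorem D5167 : act 2 n4014 = n5167 := rfl
theorem F17646 : act 0 n5167 = n4073 := d1_1 D5167 (iv D4073) (iv F13872)
def n5169 : Q := act 6 n4015
theorem D5169 : act 6 n4015 = n5169 := rfl
theorem F17652 : act 5 n5169 = n4016 := d25_1 D5169 (iv D4016) D4015
def n5170 : Q := act 7 n4016
theorem D5170 : act 7 n4016 = n5170 := rfl
theorem F17653 : act 0 n5170 = n4019 := d6_1 D5170 (iv D4019) (iv F13878)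
theorem F17654 : act 3 n5170 = n5170 := d21_1 D5170 (iv D5170) F13879
theorem F17655 : act 4 n5170 = n4017 := d24_1 D5170 (iv D4017) (iv F13880)
def n5171 : Q := act 7 n4018
theorem D5171 : act 7 n4018 = n5171 := rfl
theorem F17658 : act 5 n5171 = n4019 := d26_1 D5171 (iv D4019) (iv F13885)
def n5173 : Q := act 6 n4020
theorem D5173 : act 6 n4020 = n5173 := rfl
theorem F17663 : act 1 n5173 = n4023 := d11_1 D5173 (iv D4023) (iv F13890)
def n5174 : Q := act 2 n4021
theorem D5174 : act 2 n4021 = n5174 := rfl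
theorem F17666 : act 0 n5174 = n4080 := d1_1 D5174 (iv D4080) (iv F13893)
theorem F17667 : act 1 n5174 = n5174 := d7_1 D5174 (iv D5174) F13894 F10903 (iv F13894)
theorem F17668 : act 5 n5174 = n4027 := d15_2 (iv F13895) D5174 (iv D4027)
def n5176 : Q := act 6 n4022
theorem D5176 : act 6 n4022 = n5176 := rfl
theorem F17673 : act 0 n5176 = n4025 := d5_1 D5176 (iv D4025) (iv F13896)
theorem F17674 : act 3 n5176 = n4023 := d20_1 D5176 (iv D4023) D4022
def n5180 : Q := act 3 n4027
theorem D5180 : act 3 n4027 = n5180 := rfl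
theorem F17686 : act 0 n5180 = n4086 := d2_1 D5180 (iv D4086) (iv F13913)
def n5181 : Q := act 7 n4027
theorem D5181 : act 7 n4027 = n5181 := rfl
def n5182 : Q := act 4 n4029
theorem D5182 : act 4 n4029 = n5182 := rfl
theorem F17693 : act 1 n5182 = n4030 := d9_1 D5182 (iv D4030) D4029
def n5184 : Q := act 3 n4030
theorem D5184 : act 3 n4030 = n5184 := rfl
theorem F17699 : act 2 n5184 = n4090 := d13_1 D5184 (iv D4090) F11069 (iv F10926) (iv F13924)
def n5188 : Q := act 5 n4033
theorem D5188 : act 5 n4033 = n5188 := rfl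
theorem F17711 : act 2 n5188 = n4094 := d15_1 D5188 (iv D4094) (iv F13934)
theorem F17712 : act 3 n5188 = n4034 := d19_1 D5188 (iv D4034) D4033
def n5193 : Q := act 5 n4037
theorem D5193 : act 5 n4037 = n5193 := rfl
theorem F17724 : act 2 n5193 = n4071 := d15_1 D5193 (iv D4071) (iv F13944)
def n5195 : Q := act 2 n4038
theorem D5195 : act 2 n4038 = n5195 := rfl
def n5196 : Q := act 7 n4038
theorem D5196 : act 7 n4038 = n5196 := rfl
def n5197 : Q := act 5 n4039
theorem D5197 : act 5 n4039 = n5197 := rfl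
theorem F17732 : act 2 n5197 = n4047 := d15_1 D5197 (iv D4047) (iv F13948)
def n5201 : Q := act 4 n4043
theorem D5201 : act 4 n4043 = n5201 := rfl
theorem F17743 : act 2 n5201 = n4051 := d14_1 D5201 (iv D4051) (iv F13958)
def n5206 : Q := act 4 n4047
theorem D5206 : act 4 n4047 = n5206 := rfl
def n5211 : Q := act 6 n4051
theorem D5211 : act 6 n4051 = n5211 := rfl
def n5224 : Q := act 5 n4061
theorem D5224 : act 5 n4061 = n5224 := rfl
def n5226 : Q := act 2 n4062
theorem D5226 : act 2 n4062 = n5226 := rfl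
theorem F17818 : act 5 n5226 = n4073 := d15_2 (iv F14016) D5226 (iv D4073)
def n5227 : Q := act 7 n4062
theorem D5227 : act 7 n4062 = n5227 := rfl
def n5236 : Q := act 6 n4071
theorem D5236 : act 6 n4071 = n5236 := rfl
def n5237 : Q := act 2 n4072
theorem D5237 : act 2 n4072 = n5237 := rfl
theorem F17851 : act 4 n5237 = n4073 := d14_2 (iv F14044) D5237 (iv D4073)
def n5239 : Q := act 3 n4073
theorem D5239 : act 3 n4073 = n5239 := rfl
def n5240 : Q := act 7 n4073
theorem D5240 : act 7 n4073 = n5240 := rfl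
def n5246 : Q := act 3 n4080
theorem D5246 : act 3 n4080 = n5246 := rfl
theorem F17876 : act 1 n5246 = n4165 := d8_1 D5246 (iv D4165) (iv F14064)
theorem F17877 : act 5 n5246 = n4086 := d19_2 (iv F14065) D5246 (iv D4086)
def n5252 : Q := act 4 n4086
theorem D5252 : act 4 n4086 = n5252 := rfl
theorem F17895 : act 1 n5252 = n4171 := d9_1 D5252 (iv D4171) (iv F14081)
def n5253 : Q := act 7 n4086
theorem D5253 : act 7 n4086 = n5253 := rfl
theorem F17898 : act 1 n5253 = n4172 := d12_1 D5253 (iv D4172) (iv F14081)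
theorem F17899 : act 3 n5253 = n4087 := d21_1 D5253 (iv D4087) D4086
def n5254 : Q := act 6 n4087
theorem D5254 : act 6 n4087 = n5254 := rfl
def n5260 : Q := act 5 n4090
theorem D5260 : act 5 n4090 = n5260 := rfl
theorem F17921 : act 0 n5260 = n4094 := d4_1 D5260 (iv D4094) (iv F14093)
theorem F17922 : act 3 n5260 = n4091 := d19_1 D5260 (iv D4091) D4090
def n5262 : Q := act 6 n4091
theorem D5262 : act 6 n4091 = n5262 := rfl
theorem F17928 : act 4 n5262 = n4105 := d23_1 D5262 (iv D4105) (iv F14097)
def n5264 : Q := act 4 n4094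
theorem D5264 : act 4 n4094 = n5264 := rfl
theorem F17934 : act 3 n5264 = n4107 := d18_1 D5264 (iv D4107) F11109 (iv F11082) (iv F14106)
def n5265 : Q := act 6 n4094
theorem D5265 : act 6 n4094 = n5265 := rfl
def n5269 : Q := act 5 n4098
theorem D5269 : act 5 n4098 = n5269 := rfl
theorem F17949 : act 1 n5269 = n4103 := d10_1 D5269 (iv D4103) (iv F14118)
theorem F17951 : act 3 n5269 = n4099 := d19_1 D5269 (iv D4099) D4098
def n5271 : Q := act 6 n4099
theorem D5271 : act 6 n4099 = n5271 := rfl
def n5275 : Q := act 7 n4101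
theorem D5275 : act 7 n4101 = n5275 := rfl
theorem F17972 : act 2 n5275 = n4102 := d17_1 D5275 (iv D4102) D4101
def n5276 : Q := act 4 n4103
theorem D5276 : act 4 n4103 = n5276 := rfl
theorem F17974 : act 2 n5276 = n4112 := d14_1 D5276 (iv D4112) (iv F14134)
def n5277 : Q := act 6 n4103
theorem D5277 : act 6 n4103 = n5277 := rfl
theorem F17977 : act 3 n5277 = n4105 := d20_1 D5277 (iv D4105) (iv F14135)
def n5281 : Q := act 6 n4107
theorem D5281 : act 6 n4107 = n5281 := rfl
theorem F17990 : act 4 n5281 = n4108 := d23_1 D5281 (iv D4108) D4107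
def n5282 : Q := act 2 n4108
theorem D5282 : act 2 n4108 = n5282 := rfl
theorem F17993 : act 5 n5282 = n4109 := d15_2 (iv F14150) D5282 (iv D4109)
theorem F17994 : act 6 n5282 = n4118 := d16_2 D4108 D5282 (iv D4118) (iv D3195) (iv F11108)
def n5283 : Q := act 7 n4108
theorem D5283 : act 7 n4108 = n5283 := rfl
def n5284 : Q := act 1 n4109
theorem D5284 : act 1 n4109 = n5284 := rfl
theorem F18001 : act 6 n5284 = n4120 := d11_2 (iv F14153) D5284 (iv D4120)
def n5286 : Q := act 6 n4112
theorem D5286 : act 6 n4112 = n5286 := rfl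
def n5287 : Q := act 2 n4113
theorem D5287 : act 2 n4113 = n5287 := rfl
def n5288 : Q := act 7 n4113
theorem D5288 : act 7 n4113 = n5288 := rfl
def n5291 : Q := act 2 n4117
theorem D5291 : act 2 n4117 = n5291 := rfl
theorem F18023 : act 4 n5291 = n4118 := d14_2 (iv F14179) D5291 (iv D4118)
def n5292 : Q := act 7 n4117
theorem D5292 : act 7 n4117 = n5292 := rfl
def n5293 : Q := act 1 n4118
theorem D5293 : act 1 n4118 = n5293 := rfl
theorem F18028 : act 2 n5293 = n4124 := d7_2 D4118 D5293 (iv D4124) (iv D3200) (iv F11136)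
theorem F18030 : act 5 n5293 = n4120 := d10_2 (iv F14182) D5293 (iv D4120)
def n5294 : Q := act 7 n4118
theorem D5294 : act 7 n4118 = n5294 := rfl
theorem F18031 : act 2 n5294 = n4119 := d17_1 D5294 (iv D4119) D4118
def n5295 : Q := act 0 n4120
theorem D5295 : act 0 n4120 = n5295 := rfl
def n5296 : Q := act 7 n4120
theorem D5296 : act 7 n4120 = n5296 := rfl
theorem F18037 : act 1 n5296 = n4121 := d12_1 D5296 (iv D4121) D4120
def n5297 : Q := act 6 n4121
theorem D5297 : act 6 n4121 = n5297 := rfl
def n5302 : Q := act 7 n4124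
theorem D5302 : act 7 n4124 = n5302 := rfl
theorem F18058 : act 1 n5302 = n4125 := d12_1 D5302 (iv D4125) D4124
def n5303 : Q := act 6 n4125
theorem D5303 : act 6 n4125 = n5303 := rfl
theorem F18063 : act 5 n5303 = n4128 := d25_1 D5303 (iv D4128) (iv F14205)
def n5311 : Q := act 7 n4131
theorem D5311 : act 7 n4131 = n5311 := rfl
def n5322 : Q := act 2 n4142
theorem D5322 : act 2 n4142 = n5322 := rfl
def n5323 : Q := act 7 n4142
theorem D5323 : act 7 n4142 = n5323 := rfl
def n5328 : Q := act 6 n4146
theorem D5328 : act 6 n4146 = n5328 := rfl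
def n5336 : Q := act 6 n4153
theorem D5336 : act 6 n4153 = n5336 := rfl
def n5338 : Q := act 7 n4154
theorem D5338 : act 7 n4154 = n5338 := rfl
theorem F18183 : act 2 n5338 = n4155 := d17_1 D5338 (iv D4155) D4154
theorem F18184 : act 3 n5338 = n4183 := d21_1 D5338 (iv D4183) (iv F14305)
def n5351 : Q := act 7 n4165
theorem D5351 : act 7 n4165 = n5351 := rfl
def n5360 : Q := act 6 n4172
theorem D5360 : act 6 n4172 = n5360 := rfl
theorem F18267 : act 3 n5360 = n4173 := d20_1 D5360 (iv D4173) (iv F14376)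
def n5477 : Q := act 6 n4266
theorem D5477 : act 6 n4266 = n5477 := rfl
theorem F18655 : act 3 n5477 = n4268 := d20_1 D5477 (iv D4268) (iv F14697)
def n5623 : Q := act 3 n4388
theorem D5623 : act 3 n4388 = n5623 := rfl
theorem F19149 : act 0 n5623 = n4389 := d2_1 D5623 (iv D4389) D4388
theorem F19150 : act 1 n5623 = n4496 := d8_1 D5623 (iv D4496) (iv F15112)
theorem F19151 : act 5 n5623 = n4572 := d19_2 (iv F15115) D5623 (iv D4572)
theorem F19152 : act 6 n5623 = n5623 := d20_2 F15116 D5623 (iv D5623)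
theorem F19153 : act 7 n5623 = n4568 := d21_2 (iv F15117) D5623 (iv D4568)
def n5624 : Q := act 2 n4389
theorem D5624 : act 2 n4389 = n5624 := rfl
theorem F19154 : act 1 n5624 = n4582 := d7_1 D5624 (iv D4582) F12409 (iv F11908) (iv F15118)
theorem F19155 : act 3 n5624 = n4408 := d13_2 D4389 D5624 (iv D4408) (iv D3428) (iv F11902)
theorem F19156 : act 5 n5624 = n4573 := d15_2 (iv F15119) D5624 (iv D4573)
theorem F19157 : act 7 n5624 = n4569 := d17_2 (iv F15121) D5624 (iv D4569)
def n5625 : Q := act 4 n4389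
theorem D5625 : act 4 n4389 = n5625 := rfl
theorem F19158 : act 1 n5625 = n4390 := d9_1 D5625 (iv D4390) (iv F15118)
theorem F19159 : act 3 n5625 = n4396 := d18_1 D5625 (iv D4396) (iv D3419) (iv F11903) D4389
theorem F19160 : act 6 n5625 = n5625 := d23_2 F15120 D5625 (iv D5625)
theorem F19161 : act 7 n5625 = n4570 := d24_2 (iv F15121) D5625 (iv D4570)
def n5626 : Q := act 5 n4390
theorem D5626 : act 5 n4390 = n5626 := rfl
theorem F19162 : act 0 n5626 = n4499 := d4_1 D5626 (iv D4499) (iv F15122)
theorem F19163 : act 2 n5626 = n4584 := d15_1 D5626 (iv D4584) (iv F15123)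
theorem F19164 : act 3 n5626 = n4397 := d19_1 D5626 (iv D4397) (iv F15124)
theorem F19165 : act 4 n5626 = n4575 := d22_1 D5626 (iv D4575) (iv D3556) (iv F11909) D4390
theorem F19166 : act 6 n5626 = n5626 := d25_2 F15125 D5626 (iv D5626)
theorem F19167 : act 7 n5626 = n4571 := d26_2 (iv F15126) D5626 (iv D4571)
def n5627 : Q := act 3 n4391
theorem D5627 : act 3 n4391 = n5627 := rfl
theorem F19168 : act 0 n5627 = n4392 := d2_1 D5627 (iv D4392) D4391
theorem F19169 : act 1 n5627 = n4503 := d8_1 D5627 (iv D4503) (iv F15127)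
theorem F19170 : act 5 n5627 = n5627 := d19_2 F15130 D5627 (iv D5627)
theorem F19171 : act 6 n5627 = n4729 := d20_2 (iv F15131) D5627 (iv D4729)
theorem F19172 : act 7 n5627 = n4394 := d21_2 (iv F15132) D5627 (iv D4394)
def n5628 : Q := act 2 n4392
theorem D5628 : act 2 n4392 = n5628 := rfl
theorem F19173 : act 1 n5628 = n5628 := d7_1 D5628 (iv D5628) F15133 F11918 (iv F15133)
theorem F19174 : act 3 n5628 = n4412 := d13_2 D4392 D5628 (iv D4412) (iv D3431) (iv F11912)
theorem F19175 : act 5 n5628 = n5628 := d15_2 F15134 D5628 (iv D5628)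
theorem F19176 : act 7 n5628 = n4395 := d17_2 (iv F15136) D5628 (iv D4395)
def n5629 : Q := act 4 n4392
theorem D5629 : act 4 n4392 = n5629 := rfl
theorem F19177 : act 1 n5629 = n4393 := d9_1 D5629 (iv D4393) (iv F15133)
theorem F19178 : act 3 n5629 = n4570 := d18_1 D5629 (iv D4570) (iv D3552) (iv F11913) D4392
theorem F19179 : act 6 n5629 = n4731 := d23_2 (iv F15135) D5629 (iv D4731)
theorem F19180 : act 7 n5629 = n4396 := d24_2 (iv F15136) D5629 (iv D4396)
def n5630 : Q := act 5 n4393
theorem D5630 : act 5 n4393 = n5630 := rfl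
theorem F19181 : act 0 n5630 = n4506 := d4_1 D5630 (iv D4506) (iv F15137)
theorem F19182 : act 2 n5630 = n5630 := d15_1 D5630 (iv D5630) F15138
theorem F19183 : act 3 n5630 = n4571 := d19_1 D5630 (iv D4571) (iv F15139)
theorem F19184 : act 4 n5630 = n5630 := d22_1 D5630 (iv D5630) (iv D4393) F11919 D4393
theorem F19185 : act 6 n5630 = n4732 := d25_2 (iv F15140) D5630 (iv D4732)
theorem F19186 : act 7 n5630 = n4397 := d26_2 (iv F15141) D5630 (iv D4397)
def n5631 : Q := act 2 n4394
theorem D5631 : act 2 n4394 = n5631 := rfl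
theorem F19187 : act 0 n5631 = n4395 := d1_1 D5631 (iv D4395) (iv F15142)
theorem F19188 : act 3 n5631 = n4415 := d13_2 D4394 D5631 (iv D4415) (iv D3433) (iv F11923)
theorem F19189 : act 5 n5631 = n5631 := d15_2 F15144 D5631 (iv D5631)
def n5632 : Q := act 4 n4394
theorem D5632 : act 4 n4394 = n5632 := rfl
theorem F19190 : act 0 n5632 = n4396 := d3_1 D5632 (iv D4396) (iv F15142)
theorem F19191 : act 1 n5632 = n4508 := d9_1 D5632 (iv D4508) (iv F15143)
theorem F19192 : act 6 n5632 = n5632 := d23_2 F15145 D5632 (iv D5632)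
def n5633 : Q := act 4 n4395
theorem D5633 : act 4 n4395 = n5633 := rfl
theorem F19193 : act 1 n5633 = n5633 := d9_1 D5633 (iv D5633) F15146
theorem F19194 : act 2 n5633 = n4396 := d14_1 D5633 (iv D4396) D4395
def n5634 : Q := act 6 n4395
theorem D5634 : act 6 n4395 = n5634 := rfl
theorem F19195 : act 1 n5634 = n5634 := d11_1 D5634 (iv D5634) F15146
theorem F19196 : act 2 n5634 = n5634 := d16_1 D5634 (iv D5634) (iv D4395) F11928 D4395
theorem F19197 : act 3 n5634 = n4418 := d20_1 D5634 (iv D4418) (iv F15147)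
theorem F19198 : act 5 n5634 = n5634 := d25_1 D5634 (iv D5634) F15148
def n5635 : Q := act 5 n4396
theorem D5635 : act 5 n4396 = n5635 := rfl
theorem F19199 : act 1 n5635 = n4397 := d10_1 D5635 (iv D4397) (iv F15149)
theorem F19200 : act 4 n5635 = n5635 := d22_1 D5635 (iv D5635) (iv D4396) F11927 D4396
theorem F19201 : act 6 n5635 = n5635 := d25_2 F15150 D5635 (iv D5635)
def n5636 : Q := act 3 n4398
theorem D5636 : act 3 n4398 = n5636 := rfl
theorem F19202 : act 0 n5636 = n4399 := d2_1 D5636 (iv D4399) D4398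
theorem F19203 : act 1 n5636 = n4440 := d8_1 D5636 (iv D4440) (iv F15155)
theorem F19204 : act 5 n5636 = n4448 := d19_2 (iv F15158) D5636 (iv D4448)
theorem F19205 : act 6 n5636 = n5636 := d20_2 F15159 D5636 (iv D5636)
theorem F19206 : act 7 n5636 = n4444 := d21_2 (iv F15160) D5636 (iv D4444)
def n5637 : Q := act 2 n4399
theorem D5637 : act 2 n4399 = n5637 := rfl
theorem F19207 : act 1 n5637 = n4408 := d7_1 D5637 (iv D4408) F11965 (iv F11938) (iv F15161)
theorem F19208 : act 3 n5637 = n4582 := d13_2 D4399 D5637 (iv D4582) (iv D3562) (iv F11932)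
theorem F19209 : act 5 n5637 = n4449 := d15_2 (iv F15162) D5637 (iv D4449)
theorem F19210 : act 7 n5637 = n4445 := d17_2 (iv F15164) D5637 (iv D4445)
def n5638 : Q := act 4 n4399
theorem D5638 : act 4 n4399 = n5638 := rfl
theorem F19211 : act 1 n5638 = n4400 := d9_1 D5638 (iv D4400) (iv F15161)
theorem F19212 : act 3 n5638 = n5638 := d18_1 D5638 (iv D5638) (iv D4399) F11933 D4399
theorem F19213 : act 6 n5638 = n5638 := d23_2 F15163 D5638 (iv D5638)
theorem F19214 : act 7 n5638 = n4446 := d24_2 (iv F15164) D5638 (iv D4446)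
def n5639 : Q := act 5 n4400
theorem D5639 : act 5 n4400 = n5639 := rfl
theorem F19215 : act 0 n5639 = n4443 := d4_1 D5639 (iv D4443) (iv F15165)
theorem F19216 : act 2 n5639 = n4410 := d15_1 D5639 (iv D4410) (iv F15166)
theorem F19217 : act 3 n5639 = n5639 := d19_1 D5639 (iv D5639) F15167
theorem F19218 : act 4 n5639 = n4451 := d22_1 D5639 (iv D4451) (iv D3461) (iv F11939) D4400
theorem F19219 : act 6 n5639 = n5639 := d25_2 F15168 D5639 (iv D5639)
theorem F19220 : act 7 n5639 = n4447 := d26_2 (iv F15169) D5639 (iv D4447)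
def n5640 : Q := act 3 n4401
theorem D5640 : act 3 n4401 = n5640 := rfl
theorem F19221 : act 0 n5640 = n4402 := d2_1 D5640 (iv D4402) D4401
theorem F19222 : act 1 n5640 = n4444 := d8_1 D5640 (iv D4444) (iv F15170)
theorem F19223 : act 5 n5640 = n4407 := d19_2 (iv F15173) D5640 (iv D4407)
theorem F19224 : act 6 n5640 = n4420 := d20_2 (iv F15174) D5640 (iv D4420)
theorem F19225 : act 7 n5640 = n4440 := d21_2 (iv F15175) D5640 (iv D4440)
def n5641 : Q := act 2 n4402
theorem D5641 : act 2 n4402 = n5641 := rfl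
theorem F19226 : act 1 n5641 = n4449 := d7_1 D5641 (iv D4449) F12073 (iv F11948) (iv F15176)
theorem F19227 : act 3 n5641 = n4573 := d13_2 D4402 D5641 (iv D4573) (iv D3555) (iv F11942)
theorem F19228 : act 5 n5641 = n4408 := d15_2 (iv F15177) D5641 (iv D4408)
theorem F19229 : act 7 n5641 = n4441 := d17_2 (iv F15179) D5641 (iv D4441)
def n5642 : Q := act 4 n4402
theorem D5642 : act 4 n4402 = n5642 := rfl
theorem F19230 : act 1 n5642 = n4403 := d9_1 D5642 (iv D4403) (iv F15176)
theorem F19231 : act 3 n5642 = n5642 := d18_1 D5642 (iv D5642) (iv D4402) F11943 D4402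
theorem F19232 : act 6 n5642 = n4422 := d23_2 (iv F15178) D5642 (iv D4422)
theorem F19233 : act 7 n5642 = n4442 := d24_2 (iv F15179) D5642 (iv D4442)
def n5643 : Q := act 5 n4403
theorem D5643 : act 5 n4403 = n5643 := rfl
theorem F19234 : act 0 n5643 = n4447 := d4_1 D5643 (iv D4447) (iv F15180)
theorem F19235 : act 2 n5643 = n4451 := d15_1 D5643 (iv D4451) (iv F15181)
theorem F19236 : act 3 n5643 = n5643 := d19_1 D5643 (iv D5643) F15182
theorem F19237 : act 4 n5643 = n4410 := d22_1 D5643 (iv D4410) (iv D3429) (iv F11949) D4403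
theorem F19238 : act 6 n5643 = n4423 := d25_2 (iv F15183) D5643 (iv D4423)
theorem F19239 : act 7 n5643 = n4443 := d26_2 (iv F15184) D5643 (iv D4443)
def n5644 : Q := act 3 n4404
theorem D5644 : act 3 n4404 = n5644 := rfl
theorem F19240 : act 0 n5644 = n4405 := d2_1 D5644 (iv D4405) D4404
theorem F19241 : act 1 n5644 = n4448 := d8_1 D5644 (iv D4448) (iv F15185)
theorem F19242 : act 5 n5644 = n4440 := d19_2 (iv F15188) D5644 (iv D4440)
theorem F19243 : act 6 n5644 = n5644 := d20_2 F15189 D5644 (iv D5644)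
theorem F19244 : act 7 n5644 = n4407 := d21_2 (iv F15190) D5644 (iv D4407)
def n5645 : Q := act 2 n4405
theorem D5645 : act 2 n4405 = n5645 := rfl
theorem F19245 : act 1 n5645 = n4445 := d7_1 D5645 (iv D4445) F12064 (iv F11958) (iv F15191)
theorem F19246 : act 3 n5645 = n4569 := d13_2 D4405 D5645 (iv D4569) (iv D3552) (iv F11952)
theorem F19247 : act 5 n5645 = n4441 := d15_2 (iv F15192) D5645 (iv D4441)
theorem F19248 : act 7 n5645 = n4408 := d17_2 (iv F15194) D5645 (iv D4408)
def n5646 : Q := act 4 n4405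
theorem D5646 : act 4 n4405 = n5646 := rfl
theorem F19249 : act 1 n5646 = n4406 := d9_1 D5646 (iv D4406) (iv F15191)
theorem F19250 : act 3 n5646 = n4413 := d18_1 D5646 (iv D4413) (iv D3431) (iv F11953) D4405
theorem F19251 : act 6 n5646 = n5646 := d23_2 F15193 D5646 (iv D5646)
theorem F19252 : act 7 n5646 = n4409 := d24_2 (iv F15194) D5646 (iv D4409)
def n5647 : Q := act 5 n4406
theorem D5647 : act 5 n4406 = n5647 := rfl
theorem F19253 : act 0 n5647 = n4451 := d4_1 D5647 (iv D4451) (iv F15195)
theorem F19254 : act 2 n5647 = n4447 := d15_1 D5647 (iv D4447) (iv F15196)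
theorem F19255 : act 3 n5647 = n4414 := d19_1 D5647 (iv D4414) (iv F15197)
theorem F19256 : act 4 n5647 = n4443 := d22_1 D5647 (iv D4443) (iv D3455) (iv F11959) D4406
theorem F19257 : act 6 n5647 = n5647 := d25_2 F15198 D5647 (iv D5647)
theorem F19258 : act 7 n5647 = n4410 := d26_2 (iv F15199) D5647 (iv D4410)
def n5648 : Q := act 2 n4407
theorem D5648 : act 2 n4407 = n5648 := rfl
theorem F19259 : act 0 n5648 = n4408 := d1_1 D5648 (iv D4408) (iv F15200)
def n5649 : Q := act 4 n4407
theorem D5649 : act 4 n4407 = n5649 := rfl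
theorem F19260 : act 0 n5649 = n4409 := d3_1 D5649 (iv D4409) (iv F15200)
theorem F19261 : act 1 n5649 = n4453 := d9_1 D5649 (iv D4453) (iv F15201)
theorem F19262 : act 3 n5649 = n4416 := d18_1 D5649 (iv D4416) (iv D3433) (iv F11963) D4407
theorem F19263 : act 6 n5649 = n4425 := d23_2 (iv F15202) D5649 (iv D4425)
def n5650 : Q := act 4 n4408
theorem D5650 : act 4 n4408 = n5650 := rfl
theorem F19264 : act 2 n5650 = n4409 := d14_1 D5650 (iv D4409) D4408
def n5651 : Q := act 6 n4408
theorem D5651 : act 6 n4408 = n5651 := rfl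
theorem F19265 : act 2 n5651 = n4427 := d16_1 D5651 (iv D4427) (iv D3441) (iv F11966) D4408
def n5652 : Q := act 5 n4409
theorem D5652 : act 5 n4409 = n5652 := rfl
theorem F19266 : act 1 n5652 = n4410 := d10_1 D5652 (iv D4410) (iv F15203)
theorem F19267 : act 3 n5652 = n4419 := d19_1 D5652 (iv D4419) (iv F15204)
theorem F19268 : act 6 n5652 = n4428 := d25_2 (iv F15205) D5652 (iv D4428)
def n5653 : Q := act 2 n4411
theorem D5653 : act 2 n4411 = n5653 := rfl
theorem F19269 : act 0 n5653 = n4412 := d1_1 D5653 (iv D4412) (iv F15209)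
theorem F19270 : act 5 n5653 = n5653 := d15_2 F15211 D5653 (iv D5653)
theorem F19271 : act 7 n5653 = n4415 := d17_2 (iv F15213) D5653 (iv D4415)
def n5654 : Q := act 4 n4411
theorem D5654 : act 4 n4411 = n5654 := rfl
theorem F19272 : act 0 n5654 = n4413 := d3_1 D5654 (iv D4413) (iv F15209)
theorem F19273 : act 1 n5654 = n4458 := d9_1 D5654 (iv D4458) (iv F15210)
theorem F19274 : act 6 n5654 = n5654 := d23_2 F15212 D5654 (iv D5654)
theorem F19275 : act 7 n5654 = n4416 := d24_2 (iv F15213) D5654 (iv D4416)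
def n5655 : Q := act 4 n4412
theorem D5655 : act 4 n4412 = n5655 := rfl
theorem F19276 : act 1 n5655 = n5655 := d9_1 D5655 (iv D5655) F15214
theorem F19277 : act 2 n5655 = n4413 := d14_1 D5655 (iv D4413) D4412
theorem F19278 : act 7 n5655 = n4417 := d24_2 (iv F15216) D5655 (iv D4417)
def n5656 : Q := act 6 n4412
theorem D5656 : act 6 n4412 = n5656 := rfl
theorem F19279 : act 1 n5656 = n5656 := d11_1 D5656 (iv D5656) F15214
theorem F19280 : act 2 n5656 = n5656 := d16_1 D5656 (iv D5656) (iv D4412) F11976 D4412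
theorem F19281 : act 5 n5656 = n5656 := d25_1 D5656 (iv D5656) F15215
def n5657 : Q := act 5 n4413
theorem D5657 : act 5 n4413 = n5657 := rfl
theorem F19282 : act 1 n5657 = n4414 := d10_1 D5657 (iv D4414) (iv F15217)
theorem F19283 : act 4 n5657 = n5657 := d22_1 D5657 (iv D5657) (iv D4413) F11975 D4413
theorem F19284 : act 6 n5657 = n5657 := d25_2 F15218 D5657 (iv D5657)
theorem F19285 : act 7 n5657 = n4419 := d26_2 (iv F15219) D5657 (iv D4419)
def n5658 : Q := act 1 n4415
theorem D5658 : act 1 n4415 = n5658 := rfl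
theorem F19286 : act 0 n5658 = n5658 := d0_1 D5658 (iv D5658) F15225 F11986 (iv F15225)
theorem F19287 : act 2 n5658 = n4462 := d7_2 D4415 D5658 (iv D4462) (iv D3470) (iv F11983)
theorem F19288 : act 5 n5658 = n5658 := d10_2 F15226 D5658 (iv D5658)
def n5659 : Q := act 4 n4415
theorem D5659 : act 4 n4415 = n5659 := rfl
theorem F19289 : act 0 n5659 = n4417 := d3_1 D5659 (iv D4417) (iv F15225)
theorem F19290 : act 2 n5659 = n4416 := d14_1 D5659 (iv D4416) D4415
def n5660 : Q := act 6 n4415
theorem D5660 : act 6 n4415 = n5660 := rfl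
theorem F19291 : act 0 n5660 = n4418 := d5_1 D5660 (iv D4418) (iv F15225)
theorem F19292 : act 2 n5660 = n4430 := d16_1 D5660 (iv D4430) (iv D3444) (iv F11985) D4415
theorem F19293 : act 5 n5660 = n5660 := d25_1 D5660 (iv D5660) F15226
def n5661 : Q := act 5 n4416
theorem D5661 : act 5 n4416 = n5661 := rfl
theorem F19294 : act 0 n5661 = n4419 := d4_1 D5661 (iv D4419) (iv F15227)
theorem F19295 : act 1 n5661 = n4464 := d10_1 D5661 (iv D4464) (iv F15228)
theorem F19296 : act 4 n5661 = n5661 := d22_1 D5661 (iv D5661) (iv D4416) F11984 D4416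
theorem F19297 : act 6 n5661 = n4431 := d25_2 (iv F15229) D5661 (iv D4431)
def n5662 : Q := act 3 n4417
theorem D5662 : act 3 n4417 = n5662 := rfl
theorem F19298 : act 1 n5662 = n5662 := d8_1 D5662 (iv D5662) F15230
def n5663 : Q := act 5 n4417
theorem D5663 : act 5 n4417 = n5663 := rfl
theorem F19299 : act 1 n5663 = n5663 := d10_1 D5663 (iv D5663) F15230
theorem F19300 : act 2 n5663 = n4419 := d15_1 D5663 (iv D4419) (iv F15231)
theorem F19301 : act 4 n5663 = n5663 := d22_1 D5663 (iv D5663) (iv D4417) F11987 D4417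
def n5664 : Q := act 6 n4417
theorem D5664 : act 6 n4417 = n5664 := rfl
theorem F19302 : act 1 n5664 = n5664 := d11_1 D5664 (iv D5664) F15230
theorem F19303 : act 2 n5664 = n4434 := d16_1 D5664 (iv D4434) F12028 (iv F11989) (iv F15231)
theorem F19304 : act 4 n5664 = n4418 := d23_1 D5664 (iv D4418) D4417
def n5665 : Q := act 7 n4418
theorem D5665 : act 7 n4418 = n5665 := rfl
theorem F19305 : act 1 n5665 = n5665 := d12_1 D5665 (iv D5665) F15232
theorem F19306 : act 2 n5665 = n4435 := d17_1 D5665 (iv D4435) (iv F15233)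
theorem F19307 : act 5 n5665 = n5665 := d26_1 D5665 (iv D5665) F15234
def n5666 : Q := act 2 n4420
theorem D5666 : act 2 n4420 = n5666 := rfl
theorem F19308 : act 0 n5666 = n4421 := d1_1 D5666 (iv D4421) (iv F15238)
theorem F19309 : act 3 n5666 = n5666 := d13_2 D4420 D5666 (iv D5666) (iv D4420) F11995
theorem F19310 : act 5 n5666 = n4424 := d15_2 (iv F15240) D5666 (iv D4424)
theorem F19311 : act 7 n5666 = n5666 := d17_2 F15241 D5666 (iv D5666)
def n5667 : Q := act 4 n4420
theorem D5667 : act 4 n4420 = n5667 := rfl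
theorem F19312 : act 0 n5667 = n4422 := d3_1 D5667 (iv D4422) (iv F15238)
theorem F19313 : act 1 n5667 = n4468 := d9_1 D5667 (iv D4468) (iv F15239)
theorem F19314 : act 3 n5667 = n5667 := d18_1 D5667 (iv D5667) (iv D4420) F11996 D4420
theorem F19315 : act 7 n5667 = n5667 := d24_2 F15241 D5667 (iv D5667)
def n5668 : Q := act 4 n4421
theorem D5668 : act 4 n4421 = n5668 := rfl
theorem F19316 : act 1 n5668 = n5668 := d9_1 D5668 (iv D5668) F15242
theorem F19317 : act 2 n5668 = n4422 := d14_1 D5668 (iv D4422) D4421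
theorem F19318 : act 7 n5668 = n5668 := d24_2 F15245 D5668 (iv D5668)
def n5669 : Q := act 6 n4421
theorem D5669 : act 6 n4421 = n5669 := rfl
theorem F19319 : act 1 n5669 = n5669 := d11_1 D5669 (iv D5669) F15242
theorem F19320 : act 3 n5669 = n5669 := d20_1 D5669 (iv D5669) F15243
theorem F19321 : act 5 n5669 = n4427 := d25_1 D5669 (iv D4427) (iv F15244)
def n5670 : Q := act 5 n4422
theorem D5670 : act 5 n4422 = n5670 := rfl
theorem F19322 : act 1 n5670 = n4423 := d10_1 D5670 (iv D4423) (iv F15246)
theorem F19323 : act 3 n5670 = n5670 := d19_1 D5670 (iv D5670) F15247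
theorem F19324 : act 4 n5670 = n4428 := d22_1 D5670 (iv D4428) (iv D3442) (iv F12000) D4422
theorem F19325 : act 7 n5670 = n5670 := d26_2 F15248 D5670 (iv D5670)
def n5671 : Q := act 1 n4424
theorem D5671 : act 1 n4424 = n5671 := rfl
theorem F19326 : act 0 n5671 = n5671 := d0_1 D5671 (iv D5671) F15254 F12009 (iv F15254)
theorem F19327 : act 2 n5671 = n4472 := d7_2 D4424 D5671 (iv D4472) (iv D3478) (iv F12007)
theorem F19328 : act 3 n5671 = n5671 := d8_2 F15255 D5671 (iv D5671)
theorem F19329 : act 7 n5671 = n5671 := d12_2 F15256 D5671 (iv D5671)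
def n5672 : Q := act 4 n4424
theorem D5672 : act 4 n4424 = n5672 := rfl
theorem F19330 : act 0 n5672 = n4426 := d3_1 D5672 (iv D4426) (iv F15254)
theorem F19331 : act 2 n5672 = n4425 := d14_1 D5672 (iv D4425) D4424
theorem F19332 : act 7 n5672 = n5672 := d24_2 F15256 D5672 (iv D5672)
def n5673 : Q := act 6 n4424
theorem D5673 : act 6 n4424 = n5673 := rfl
theorem F19333 : act 0 n5673 = n4427 := d5_1 D5673 (iv D4427) (iv F15254)
theorem F19334 : act 3 n5673 = n5673 := d20_1 D5673 (iv D5673) F15255
def n5674 : Q := act 5 n4425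
theorem D5674 : act 5 n4425 = n5674 := rfl
theorem F19335 : act 0 n5674 = n4428 := d4_1 D5674 (iv D4428) (iv F15257)
theorem F19336 : act 1 n5674 = n4475 := d10_1 D5674 (iv D4475) (iv F15258)
theorem F19337 : act 3 n5674 = n4431 := d19_1 D5674 (iv D4431) (iv F15259)
theorem F19338 : act 7 n5674 = n5674 := d26_2 F15260 D5674 (iv D5674)
def n5675 : Q := act 3 n4426
theorem D5675 : act 3 n4426 = n5675 := rfl
theorem F19339 : act 1 n5675 = n5675 := d8_1 D5675 (iv D5675) F15261
theorem F19340 : act 2 n5675 = n4432 := d13_1 D5675 (iv D4432) F12028 (iv F12013) (iv F15262)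
theorem F19341 : act 4 n5675 = n5675 := d18_2 D4426 D5675 (iv D5675) (iv D4426) F12010
theorem F19342 : act 7 n5675 = n5675 := d21_2 F15263 D5675 (iv D5675)
def n5676 : Q := act 5 n4426
theorem D5676 : act 5 n4426 = n5676 := rfl
theorem F19343 : act 1 n5676 = n5676 := d10_1 D5676 (iv D5676) F15261
theorem F19344 : act 2 n5676 = n4428 := d15_1 D5676 (iv D4428) (iv F15262)
theorem F19345 : act 7 n5676 = n5676 := d26_2 F15263 D5676 (iv D5676)
def n5677 : Q := act 6 n4426
theorem D5677 : act 6 n4426 = n5677 := rfl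
theorem F19346 : act 1 n5677 = n5677 := d11_1 D5677 (iv D5677) F15261
theorem F19347 : act 4 n5677 = n4427 := d23_1 D5677 (iv D4427) D4426
def n5678 : Q := act 7 n4427
theorem D5678 : act 7 n4427 = n5678 := rfl
theorem F19348 : act 1 n5678 = n5678 := d12_1 D5678 (iv D5678) F15264
theorem F19349 : act 3 n5678 = n5678 := d21_1 D5678 (iv D5678) F15265
theorem F19350 : act 6 n5678 = n5678 := d27_1 D5678 (iv D5678) (iv D4427) F12011 D4427
def n5679 : Q := act 3 n4429
theorem D5679 : act 3 n4429 = n5679 := rfl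
theorem F19351 : act 0 n5679 = n4432 := d2_1 D5679 (iv D4432) (iv F15269)
theorem F19352 : act 1 n5679 = n5679 := d8_1 D5679 (iv D5679) F15270
theorem F19353 : act 4 n5679 = n5679 := d18_2 D4429 D5679 (iv D5679) (iv D4429) F12021
theorem F19354 : act 7 n5679 = n5679 := d21_2 F15272 D5679 (iv D5679)
def n5680 : Q := act 5 n4429
theorem D5680 : act 5 n4429 = n5680 := rfl
theorem F19355 : act 0 n5680 = n4433 := d4_1 D5680 (iv D4433) (iv F15269)
theorem F19356 : act 1 n5680 = n5680 := d10_1 D5680 (iv D5680) F15270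
theorem F19357 : act 2 n5680 = n4431 := d15_1 D5680 (iv D4431) (iv F15271)
theorem F19358 : act 4 n5680 = n5680 := d22_1 D5680 (iv D5680) (iv D4429) F12022 D4429
theorem F19359 : act 7 n5680 = n5680 := d26_2 F15272 D5680 (iv D5680)
def n5681 : Q := act 6 n4429
theorem D5681 : act 6 n4429 = n5681 := rfl
theorem F19360 : act 0 n5681 = n4434 := d5_1 D5681 (iv D4434) (iv F15269)
theorem F19361 : act 1 n5681 = n5681 := d11_1 D5681 (iv D5681) F15270
theorem F19362 : act 4 n5681 = n4430 := d23_1 D5681 (iv D4430) D4429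
def n5682 : Q := act 7 n4430
theorem D5682 : act 7 n4430 = n5682 := rfl
theorem F19363 : act 0 n5682 = n4435 := d6_1 D5682 (iv D4435) (iv F15273)
theorem F19364 : act 1 n5682 = n5682 := d12_1 D5682 (iv D5682) F15274
theorem F19365 : act 3 n5682 = n5682 := d21_1 D5682 (iv D5682) F15275
theorem F19366 : act 5 n5682 = n5682 := d26_1 D5682 (iv D5682) F15276
theorem F19367 : act 6 n5682 = n5682 := d27_1 D5682 (iv D5682) (iv D4430) F12023 D4430
def n5683 : Q := act 5 n4432
theorem D5683 : act 5 n4432 = n5683 := rfl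
theorem F19369 : act 3 n5683 = n4433 := d19_1 D5683 (iv D4433) D4432
def n5684 : Q := act 6 n4432
theorem D5684 : act 6 n4432 = n5684 := rfl
theorem F19372 : act 3 n5684 = n4434 := d20_1 D5684 (iv D4434) D4432
def n5685 : Q := act 6 n4433
theorem D5685 : act 6 n4433 = n5685 := rfl
theorem F19376 : act 5 n5685 = n4434 := d25_1 D5685 (iv D4434) D4433
def n5686 : Q := act 7 n4434
theorem D5686 : act 7 n4434 = n5686 := rfl
theorem F19378 : act 4 n5686 = n4435 := d24_1 D5686 (iv D4435) (iv F15289)
def n5692 : Q := act 2 n4440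
theorem D5692 : act 2 n4440 = n5692 := rfl
theorem F19401 : act 0 n5692 = n4441 := d1_1 D5692 (iv D4441) (iv F15309)
theorem F19402 : act 3 n5692 = n4576 := d13_2 D4440 D5692 (iv D4576) (iv D3557) (iv F12052)
def n5693 : Q := act 4 n4440
theorem D5693 : act 4 n4440 = n5693 := rfl
theorem F19403 : act 0 n5693 = n4442 := d3_1 D5693 (iv D4442) (iv F15309)
theorem F19404 : act 3 n5693 = n5693 := d18_1 D5693 (iv D5693) (iv D4440) F12053 D4440
theorem F19405 : act 6 n5693 = n5693 := d23_2 F15310 D5693 (iv D5693)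
def n5694 : Q := act 4 n4441
theorem D5694 : act 4 n4441 = n5694 := rfl
theorem F19406 : act 1 n5694 = n4454 := d9_1 D5694 (iv D4454) (iv F15311)
theorem F19407 : act 2 n5694 = n4442 := d14_1 D5694 (iv D4442) D4441
def n5695 : Q := act 6 n4441
theorem D5695 : act 6 n4441 = n5695 := rfl
theorem F19408 : act 1 n5695 = n4455 := d11_1 D5695 (iv D4455) (iv F15311)
theorem F19409 : act 2 n5695 = n5695 := d16_1 D5695 (iv D5695) (iv D4441) F12056 D4441
theorem F19410 : act 3 n5695 = n4579 := d20_1 D5695 (iv D4579) (iv F15312)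
def n5696 : Q := act 5 n4442
theorem D5696 : act 5 n4442 = n5696 := rfl
theorem F19411 : act 1 n5696 = n4443 := d10_1 D5696 (iv D4443) (iv F15313)
theorem F19412 : act 3 n5696 = n5696 := d19_1 D5696 (iv D5696) F15314
theorem F19413 : act 6 n5696 = n5696 := d25_2 F15315 D5696 (iv D5696)
def n5697 : Q := act 2 n4444
theorem D5697 : act 2 n4444 = n5697 := rfl
theorem F19414 : act 0 n5697 = n4445 := d1_1 D5697 (iv D4445) (iv F15319)
theorem F19415 : act 3 n5697 = n4585 := d13_2 D4444 D5697 (iv D4585) (iv D3564) (iv F12060)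
theorem F19416 : act 5 n5697 = n4452 := d15_2 (iv F15320) D5697 (iv D4452)
def n5698 : Q := act 4 n4444
theorem D5698 : act 4 n4444 = n5698 := rfl
theorem F19417 : act 0 n5698 = n4446 := d3_1 D5698 (iv D4446) (iv F15319)
theorem F19418 : act 3 n5698 = n5698 := d18_1 D5698 (iv D5698) (iv D4444) F12061 D4444
theorem F19419 : act 6 n5698 = n4468 := d23_2 (iv F15321) D5698 (iv D4468)
def n5699 : Q := act 4 n4445
theorem D5699 : act 4 n4445 = n5699 := rfl
theorem F19420 : act 2 n5699 = n4446 := d14_1 D5699 (iv D4446) D4445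
def n5700 : Q := act 6 n4445
theorem D5700 : act 6 n4445 = n5700 := rfl
theorem F19421 : act 2 n5700 = n4470 := d16_1 D5700 (iv D4470) (iv D3475) (iv F12066) D4445
theorem F19422 : act 3 n5700 = n4588 := d20_1 D5700 (iv D4588) (iv F15322)
theorem F19423 : act 5 n5700 = n4455 := d25_1 D5700 (iv D4455) (iv F15323)
def n5701 : Q := act 5 n4446
theorem D5701 : act 5 n4446 = n5701 := rfl
theorem F19424 : act 1 n5701 = n4447 := d10_1 D5701 (iv D4447) (iv F15324)
theorem F19425 : act 3 n5701 = n5701 := d19_1 D5701 (iv D5701) F15325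
theorem F19426 : act 4 n5701 = n4456 := d22_1 D5701 (iv D4456) (iv D3464) (iv F12065) D4446
theorem F19427 : act 6 n5701 = n4471 := d25_2 (iv F15326) D5701 (iv D4471)
def n5702 : Q := act 2 n4448
theorem D5702 : act 2 n4448 = n5702 := rfl
theorem F19428 : act 0 n5702 = n4449 := d1_1 D5702 (iv D4449) (iv F15330)
theorem F19429 : act 3 n5702 = n4590 := d13_2 D4448 D5702 (iv D4590) (iv D3568) (iv F12069)
theorem F19430 : act 7 n5702 = n4452 := d17_2 (iv F15332) D5702 (iv D4452)
def n5703 : Q := act 4 n4448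
theorem D5703 : act 4 n4448 = n5703 := rfl
theorem F19431 : act 0 n5703 = n4450 := d3_1 D5703 (iv D4450) (iv F15330)
theorem F19432 : act 3 n5703 = n4458 := d18_1 D5703 (iv D4458) (iv D3466) (iv F12070) D4448
theorem F19433 : act 6 n5703 = n5703 := d23_2 F15331 D5703 (iv D5703)
theorem F19434 : act 7 n5703 = n4453 := d24_2 (iv F15332) D5703 (iv D4453)
def n5704 : Q := act 4 n4449
theorem D5704 : act 4 n4449 = n5704 := rfl
theorem F19435 : act 2 n5704 = n4450 := d14_1 D5704 (iv D4450) D4449
theorem F19436 : act 7 n5704 = n4454 := d24_2 (iv F15334) D5704 (iv D4454)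
def n5705 : Q := act 6 n4449
theorem D5705 : act 6 n4449 = n5705 := rfl
theorem F19437 : act 2 n5705 = n5705 := d16_1 D5705 (iv D5705) (iv D4449) F12074 D4449
theorem F19438 : act 3 n5705 = n4593 := d20_1 D5705 (iv D4593) (iv F15333)
def n5706 : Q := act 5 n4450
theorem D5706 : act 5 n4450 = n5706 := rfl
theorem F19439 : act 1 n5706 = n4451 := d10_1 D5706 (iv D4451) (iv F15335)
theorem F19440 : act 3 n5706 = n4461 := d19_1 D5706 (iv D4461) (iv F15336)
theorem F19441 : act 6 n5706 = n5706 := d25_2 F15337 D5706 (iv D5706)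
theorem F19442 : act 7 n5706 = n4456 := d26_2 (iv F15338) D5706 (iv D4456)
def n5707 : Q := act 1 n4452
theorem D5707 : act 1 n4452 = n5707 := rfl
theorem F19443 : act 3 n5707 = n4595 := d8_2 (iv F15343) D5707 (iv D4595)
def n5708 : Q := act 4 n4452
theorem D5708 : act 4 n4452 = n5708 := rfl
theorem F19444 : act 0 n5708 = n4454 := d3_1 D5708 (iv D4454) (iv F15342)
theorem F19445 : act 2 n5708 = n4453 := d14_1 D5708 (iv D4453) D4452
def n5709 : Q := act 6 n4452
theorem D5709 : act 6 n4452 = n5709 := rfl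
theorem F19446 : act 0 n5709 = n4455 := d5_1 D5709 (iv D4455) (iv F15342)
theorem F19447 : act 2 n5709 = n4474 := d16_1 D5709 (iv D4474) (iv D3478) (iv F12080) D4452
theorem F19448 : act 3 n5709 = n4597 := d20_1 D5709 (iv D4597) (iv F15343)
def n5710 : Q := act 5 n4453
theorem D5710 : act 5 n4453 = n5710 := rfl
theorem F19449 : act 0 n5710 = n4456 := d4_1 D5710 (iv D4456) (iv F15344)
theorem F19450 : act 3 n5710 = n4464 := d19_1 D5710 (iv D4464) (iv F15345)
theorem F19451 : act 6 n5710 = n4475 := d25_2 (iv F15346) D5710 (iv D4475)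
def n5711 : Q := act 3 n4454
theorem D5711 : act 3 n4454 = n5711 := rfl
theorem F19452 : act 2 n5711 = n4465 := d13_1 D5711 (iv D4465) F12109 (iv F12083) (iv F15347)
theorem F19453 : act 4 n5711 = n4599 := d18_2 D4454 D5711 (iv D4599) (iv D3574) (iv F12081)
def n5712 : Q := act 5 n4454
theorem D5712 : act 5 n4454 = n5712 := rfl
theorem F19454 : act 2 n5712 = n4456 := d15_1 D5712 (iv D4456) (iv F15347)
def n5713 : Q := act 6 n4454
theorem D5713 : act 6 n4454 = n5713 := rfl
theorem F19455 : act 2 n5713 = n4477 := d16_1 D5713 (iv D4477) F12135 (iv F12084) (iv F15347)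
theorem F19456 : act 4 n5713 = n4455 := d23_1 D5713 (iv D4455) D4454
def n5714 : Q := act 7 n4455
theorem D5714 : act 7 n4455 = n5714 := rfl
theorem F19457 : act 2 n5714 = n4478 := d17_1 D5714 (iv D4478) (iv F15348)
theorem F19458 : act 3 n5714 = n4602 := d21_1 D5714 (iv D4602) (iv F15349)
def n5715 : Q := act 1 n4457
theorem D5715 : act 1 n4457 = n5715 := rfl
theorem F19459 : act 0 n5715 = n5715 := d0_1 D5715 (iv D5715) F15353 F12091 (iv F15353)
theorem F19460 : act 3 n5715 = n4603 := d8_2 (iv F15354) D5715 (iv D4603)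
theorem F19461 : act 5 n5715 = n5715 := d10_2 F15355 D5715 (iv D5715)
theorem F19462 : act 7 n5715 = n4462 := d12_2 (iv F15356) D5715 (iv D4462)
def n5716 : Q := act 4 n4457
theorem D5716 : act 4 n4457 = n5716 := rfl
theorem F19463 : act 0 n5716 = n4459 := d3_1 D5716 (iv D4459) (iv F15353)
theorem F19464 : act 2 n5716 = n4458 := d14_1 D5716 (iv D4458) D4457
theorem F19465 : act 7 n5716 = n4463 := d24_2 (iv F15356) D5716 (iv D4463)
def n5717 : Q := act 6 n4457
theorem D5717 : act 6 n4457 = n5717 := rfl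
theorem F19466 : act 0 n5717 = n4460 := d5_1 D5717 (iv D4460) (iv F15353)
theorem F19467 : act 2 n5717 = n5717 := d16_1 D5717 (iv D5717) (iv D4457) F12089 D4457
theorem F19468 : act 3 n5717 = n4605 := d20_1 D5717 (iv D4605) (iv F15354)
theorem F19469 : act 5 n5717 = n5717 := d25_1 D5717 (iv D5717) F15355
theorem F19470 : act 7 n5717 = n5717 := d27_2 (iv F15356) D5717 (iv D5717) F15356 F12105
def n5718 : Q := act 5 n4458
theorem D5718 : act 5 n4458 = n5718 := rfl
theorem F19471 : act 0 n5718 = n4461 := d4_1 D5718 (iv D4461) (iv F15357)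
theorem F19472 : act 4 n5718 = n5718 := d22_1 D5718 (iv D5718) (iv D4458) F12088 D4458
theorem F19473 : act 6 n5718 = n5718 := d25_2 F15358 D5718 (iv D5718)
theorem F19474 : act 7 n5718 = n4464 := d26_2 (iv F15359) D5718 (iv D4464)
def n5719 : Q := act 3 n4459
theorem D5719 : act 3 n4459 = n5719 := rfl
theorem F19475 : act 1 n5719 = n5719 := d8_1 D5719 (iv D5719) F15360
theorem F19476 : act 4 n5719 = n4607 := d18_2 D4459 D5719 (iv D4607) (iv D3579) (iv F12092)
theorem F19477 : act 7 n5719 = n4465 := d21_2 (iv F15362) D5719 (iv D4465)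
def n5720 : Q := act 5 n4459
theorem D5720 : act 5 n4459 = n5720 := rfl
theorem F19478 : act 1 n5720 = n5720 := d10_1 D5720 (iv D5720) F15360
theorem F19479 : act 2 n5720 = n4461 := d15_1 D5720 (iv D4461) (iv F15361)
theorem F19480 : act 4 n5720 = n5720 := d22_1 D5720 (iv D5720) (iv D4459) F12093 D4459
theorem F19481 : act 7 n5720 = n4466 := d26_2 (iv F15362) D5720 (iv D4466)
def n5721 : Q := act 6 n4459
theorem D5721 : act 6 n4459 = n5721 := rfl
theorem F19482 : act 1 n5721 = n5721 := d11_1 D5721 (iv D5721) F15360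
theorem F19483 : act 2 n5721 = n5721 := d16_1 D5721 (iv D5721) F15361 F12096 (iv F15361)
theorem F19484 : act 4 n5721 = n4460 := d23_1 D5721 (iv D4460) D4459
theorem F19485 : act 7 n5721 = n5721 := d27_2 (iv F15362) D5721 (iv D5721) F15362 F12110
def n5722 : Q := act 4 n4462
theorem D5722 : act 4 n4462 = n5722 := rfl
theorem F19486 : act 0 n5722 = n5722 := d3_1 D5722 (iv D5722) F15372
theorem F19487 : act 1 n5722 = n4463 := d9_1 D5722 (iv D4463) D4462
theorem F19488 : act 6 n5722 = n5722 := d23_2 F15375 D5722 (iv D5722)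
def n5723 : Q := act 3 n4463
theorem D5723 : act 3 n4463 = n5723 := rfl
theorem F19489 : act 0 n5723 = n4465 := d2_1 D5723 (iv D4465) (iv F15376)
theorem F19490 : act 4 n5723 = n4611 := d18_2 D4463 D5723 (iv D4611) (iv D3583) (iv F12103)
theorem F19491 : act 6 n5723 = n5723 := d20_2 F15378 D5723 (iv D5723)
def n5724 : Q := act 5 n4463
theorem D5724 : act 5 n4463 = n5724 := rfl
theorem F19492 : act 0 n5724 = n4466 := d4_1 D5724 (iv D4466) (iv F15376)
theorem F19493 : act 2 n5724 = n4464 := d15_1 D5724 (iv D4464) (iv F15377)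
theorem F19494 : act 4 n5724 = n5724 := d22_1 D5724 (iv D5724) (iv D4463) F12104 D4463
theorem F19495 : act 6 n5724 = n5724 := d25_2 F15378 D5724 (iv D5724)
def n5725 : Q := act 5 n4465
theorem D5725 : act 5 n4465 = n5725 := rfl
theorem F19496 : act 1 n5725 = n5725 := d10_1 D5725 (iv D5725) F15382
theorem F19497 : act 3 n5725 = n4466 := d19_1 D5725 (iv D4466) D4465
theorem F19498 : act 6 n5725 = n5725 := d25_2 F15384 D5725 (iv D5725)
def n5726 : Q := act 1 n4467
theorem D5726 : act 1 n4467 = n5726 := rfl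
theorem F19499 : act 0 n5726 = n5726 := d0_1 D5726 (iv D5726) F15389 F12117 (iv F15389)
theorem F19500 : act 3 n5726 = n4479 := d8_2 (iv F15390) D5726 (iv D4479)
theorem F19501 : act 5 n5726 = n4472 := d10_2 (iv F15391) D5726 (iv D4472)
theorem F19502 : act 7 n5726 = n5726 := d12_2 F15392 D5726 (iv D5726)
def n5727 : Q := act 4 n4467
theorem D5727 : act 4 n4467 = n5727 := rfl
theorem F19503 : act 0 n5727 = n4469 := d3_1 D5727 (iv D4469) (iv F15389)
theorem F19504 : act 2 n5727 = n4468 := d14_1 D5727 (iv D4468) D4467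
theorem F19505 : act 7 n5727 = n5727 := d24_2 F15392 D5727 (iv D5727)
def n5728 : Q := act 6 n4467
theorem D5728 : act 6 n4467 = n5728 := rfl
theorem F19506 : act 0 n5728 = n4470 := d5_1 D5728 (iv D4470) (iv F15389)
theorem F19507 : act 3 n5728 = n4481 := d20_1 D5728 (iv D4481) (iv F15390)
theorem F19508 : act 5 n5728 = n4474 := d25_1 D5728 (iv D4474) (iv F15391)
def n5729 : Q := act 5 n4468
theorem D5729 : act 5 n4468 = n5729 := rfl
theorem F19509 : act 0 n5729 = n4471 := d4_1 D5729 (iv D4471) (iv F15393)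
theorem F19510 : act 3 n5729 = n5729 := d19_1 D5729 (iv D5729) F15394
theorem F19511 : act 4 n5729 = n4475 := d22_1 D5729 (iv D4475) (iv D3479) (iv F12115) D4468
theorem F19512 : act 7 n5729 = n5729 := d26_2 F15395 D5729 (iv D5729)
def n5730 : Q := act 3 n4469
theorem D5730 : act 3 n4469 = n5730 := rfl
theorem F19513 : act 1 n5730 = n5730 := d8_1 D5730 (iv D5730) F15396
theorem F19514 : act 2 n5730 = n5730 := d13_1 D5730 (iv D5730) F15397 F12122 (iv F15397)
theorem F19515 : act 4 n5730 = n4482 := d18_2 D4469 D5730 (iv D4482) (iv D3486) (iv F12118)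
theorem F19516 : act 7 n5730 = n5730 := d21_2 F15398 D5730 (iv D5730)
def n5731 : Q := act 5 n4469
theorem D5731 : act 5 n4469 = n5731 := rfl
theorem F19517 : act 1 n5731 = n5731 := d10_1 D5731 (iv D5731) F15396
theorem F19518 : act 2 n5731 = n4471 := d15_1 D5731 (iv D4471) (iv F15397)
theorem F19519 : act 4 n5731 = n4476 := d22_1 D5731 (iv D4476) (iv D3480) (iv F12119) D4469
theorem F19520 : act 7 n5731 = n5731 := d26_2 F15398 D5731 (iv D5731)
def n5732 : Q := act 6 n4469
theorem D5732 : act 6 n4469 = n5732 := rfl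
theorem F19521 : act 1 n5732 = n5732 := d11_1 D5732 (iv D5732) F15396
theorem F19522 : act 4 n5732 = n4470 := d23_1 D5732 (iv D4470) D4469
def n5733 : Q := act 7 n4470
theorem D5733 : act 7 n4470 = n5733 := rfl
theorem F19523 : act 1 n5733 = n5733 := d12_1 D5733 (iv D5733) F15399
theorem F19524 : act 3 n5733 = n4484 := d21_1 D5733 (iv D4484) (iv F15400)
theorem F19525 : act 5 n5733 = n4478 := d26_1 D5733 (iv D4478) (iv F15401)
theorem F19526 : act 6 n5733 = n5733 := d27_1 D5733 (iv D5733) (iv D4470) F12120 D4470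
def n5734 : Q := act 4 n4472
theorem D5734 : act 4 n4472 = n5734 := rfl
theorem F19527 : act 0 n5734 = n5734 := d3_1 D5734 (iv D5734) F15406
theorem F19528 : act 1 n5734 = n4473 := d9_1 D5734 (iv D4473) D4472
theorem F19529 : act 3 n5734 = n5734 := d18_1 D5734 (iv D5734) F15407 F12165 (iv F15407)
theorem F19530 : act 7 n5734 = n5734 := d24_2 F15408 D5734 (iv D5734)
def n5735 : Q := act 6 n4472
theorem D5735 : act 6 n4472 = n5735 := rfl
theorem F19531 : act 0 n5735 = n5735 := d5_1 D5735 (iv D5735) F15406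
theorem F19532 : act 1 n5735 = n4474 := d11_1 D5735 (iv D4474) D4472
theorem F19533 : act 3 n5735 = n4485 := d20_1 D5735 (iv D4485) (iv F15407)
def n5736 : Q := act 5 n4473
theorem D5736 : act 5 n4473 = n5736 := rfl
theorem F19534 : act 0 n5736 = n4476 := d4_1 D5736 (iv D4476) (iv F15409)
theorem F19535 : act 2 n5736 = n4475 := d15_1 D5736 (iv D4475) (iv F15410)
theorem F19536 : act 3 n5736 = n5736 := d19_1 D5736 (iv D5736) F15411
theorem F19537 : act 7 n5736 = n5736 := d26_2 F15412 D5736 (iv D5736)
def n5737 : Q := act 6 n4473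
theorem D5737 : act 6 n4473 = n5737 := rfl
theorem F19538 : act 0 n5737 = n4477 := d5_1 D5737 (iv D4477) (iv F15409)
theorem F19539 : act 3 n5737 = n5737 := d20_1 D5737 (iv D5737) F15411
theorem F19540 : act 4 n5737 = n4474 := d23_1 D5737 (iv D4474) D4473
def n5738 : Q := act 7 n4474
theorem D5738 : act 7 n4474 = n5738 := rfl
theorem F19541 : act 0 n5738 = n4478 := d6_1 D5738 (iv D4478) (iv F15413)
theorem F19542 : act 3 n5738 = n4486 := d21_1 D5738 (iv D4486) (iv F15414)
theorem F19543 : act 6 n5738 = n5738 := d27_1 D5738 (iv D5738) (iv D4474) F12130 D4474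
def n5739 : Q := act 6 n4476
theorem D5739 : act 6 n4476 = n5739 := rfl
theorem F19544 : act 1 n5739 = n5739 := d11_1 D5739 (iv D5739) F15418
theorem F19545 : act 3 n5739 = n5739 := d20_1 D5739 (iv D5739) F15420
theorem F19546 : act 5 n5739 = n4477 := d25_1 D5739 (iv D4477) D4476
def n5740 : Q := act 7 n4477
theorem D5740 : act 7 n4477 = n5740 := rfl
theorem F19547 : act 1 n5740 = n5740 := d12_1 D5740 (iv D5740) F15422
theorem F19548 : act 3 n5740 = n5740 := d21_1 D5740 (iv D5740) F15423
theorem F19549 : act 4 n5740 = n4478 := d24_1 D5740 (iv D4478) (iv F15424)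
theorem F19550 : act 6 n5740 = n5740 := d27_1 D5740 (iv D5740) (iv D4477) F12137 D4477
def n5741 : Q := act 4 n4479
theorem D5741 : act 4 n4479 = n5741 := rfl
theorem F19551 : act 0 n5741 = n5741 := d3_1 D5741 (iv D5741) F15428
theorem F19552 : act 1 n5741 = n4480 := d9_1 D5741 (iv D4480) D4479
theorem F19553 : act 2 n5741 = n5741 := d14_1 D5741 (iv D5741) F15429
theorem F19554 : act 5 n5741 = n5741 := d22_2 (iv F15430) D5741 (iv D5741) F15430 F12165
theorem F19555 : act 7 n5741 = n5741 := d24_2 F15431 D5741 (iv D5741)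
def n5742 : Q := act 6 n4479
theorem D5742 : act 6 n4479 = n5742 := rfl
theorem F19556 : act 0 n5742 = n5742 := d5_1 D5742 (iv D5742) F15428
theorem F19557 : act 1 n5742 = n4481 := d11_1 D5742 (iv D4481) D4479
theorem F19558 : act 5 n5742 = n4485 := d25_1 D5742 (iv D4485) (iv F15430)
def n5743 : Q := act 3 n4480
theorem D5743 : act 3 n4480 = n5743 := rfl
theorem F19559 : act 0 n5743 = n4482 := d2_1 D5743 (iv D4482) (iv F15432)
theorem F19560 : act 2 n5743 = n5743 := d13_1 D5743 (iv D5743) F15433 F12152 (iv F15433)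
theorem F19561 : act 5 n5743 = n5743 := d19_2 F15434 D5743 (iv D5743)
theorem F19562 : act 7 n5743 = n5743 := d21_2 F15435 D5743 (iv D5743)
def n5744 : Q := act 6 n4480
theorem D5744 : act 6 n4480 = n5744 := rfl
theorem F19564 : act 2 n5744 = n4632 := d16_1 D5744 (iv D4632) F12522 (iv F12154) (iv F15433)
theorem F19565 : act 4 n5744 = n4481 := d23_1 D5744 (iv D4481) D4480
def n5745 : Q := act 7 n4481
theorem D5745 : act 7 n4481 = n5745 := rfl
theorem F19567 : act 0 n5745 = n4484 := d6_1 D5745 (iv D4484) (iv F15436)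
theorem F19569 : act 5 n5745 = n4486 := d26_1 D5745 (iv D4486) (iv F15438)
theorem F19570 : act 6 n5745 = n5745 := d27_1 D5745 (iv D5745) (iv D4481) F12149 D4481
def n5746 : Q := act 6 n4482
theorem D5746 : act 6 n4482 = n5746 := rfl
theorem F19572 : act 3 n5746 = n4483 := d20_1 D5746 (iv D4483) D4482
def n5747 : Q := act 7 n4483
theorem D5747 : act 7 n4483 = n5747 := rfl
theorem F19575 : act 2 n5747 = n4635 := d17_1 D5747 (iv D4635) (iv F15444)
theorem F19576 : act 4 n5747 = n4484 := d24_1 D5747 (iv D4484) (iv F15445)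
def n5748 : Q := act 2 n4485
theorem D5748 : act 2 n4485 = n5748 := rfl
theorem F19579 : act 0 n5748 = n5748 := d1_1 D5748 (iv D5748) F15451
theorem F19580 : act 1 n5748 = n4636 := d7_1 D5748 (iv D4636) F12538 (iv F12168) (iv F15452)
theorem F19581 : act 4 n5748 = n5748 := d14_2 F15453 D5748 (iv D5748)
theorem F19582 : act 6 n5748 = n5748 := d16_2 D4485 D5748 (iv D5748) (iv D4485) F12164
def n5749 : Q := act 7 n4485
theorem D5749 : act 7 n4485 = n5749 := rfl
theorem F19583 : act 0 n5749 = n5749 := d6_1 D5749 (iv D5749) F15451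
theorem F19584 : act 1 n5749 = n4486 := d12_1 D5749 (iv D4486) (iv F15452)
theorem F19585 : act 4 n5749 = n5749 := d24_1 D5749 (iv D5749) F15453
theorem F19586 : act 6 n5749 = n5749 := d27_1 D5749 (iv D5749) (iv D4485) F12166 D4485
def n5750 : Q := act 3 n4487
theorem D5750 : act 3 n4487 = n5750 := rfl
theorem F19587 : act 0 n5750 = n4488 := d2_1 D5750 (iv D4488) D4487
theorem F19588 : act 1 n5750 = n4581 := d8_1 D5750 (iv D4581) (iv F15458)
theorem F19589 : act 5 n5750 = n4520 := d19_2 (iv F15461) D5750 (iv D4520)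
theorem F19590 : act 6 n5750 = n5040 := d20_2 (iv F15462) D5750 (iv D5040)
theorem F19591 : act 7 n5750 = n4516 := d21_2 (iv F15463) D5750 (iv D4516)
def n5751 : Q := act 2 n4488
theorem D5751 : act 2 n4488 = n5751 := rfl
theorem F19592 : act 1 n5751 = n4497 := d7_1 D5751 (iv D4497) F12207 (iv F12180) (iv F15464)
theorem F19593 : act 3 n5751 = n4513 := d13_2 D4488 D5751 (iv D4513) (iv D3510) (iv F12174)
theorem F19594 : act 5 n5751 = n4521 := d15_2 (iv F15465) D5751 (iv D4521)
theorem F19595 : act 7 n5751 = n4517 := d17_2 (iv F15467) D5751 (iv D4517)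
def n5752 : Q := act 4 n4488
theorem D5752 : act 4 n4488 = n5752 := rfl
theorem F19596 : act 1 n5752 = n4489 := d9_1 D5752 (iv D4489) (iv F15464)
theorem F19597 : act 3 n5752 = n5752 := d18_1 D5752 (iv D5752) (iv D4488) F12175 D4488
theorem F19598 : act 6 n5752 = n5042 := d23_2 (iv F15466) D5752 (iv D5042)
theorem F19599 : act 7 n5752 = n4518 := d24_2 (iv F15467) D5752 (iv D4518)
def n5753 : Q := act 5 n4489
theorem D5753 : act 5 n4489 = n5753 := rfl
theorem F19600 : act 0 n5753 = n4584 := d4_1 D5753 (iv D4584) (iv F15468)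
theorem F19605 : act 7 n5753 = n4519 := d26_2 (iv F15472) D5753 (iv D4519)
def n5754 : Q := act 3 n4490
theorem D5754 : act 3 n4490 = n5754 := rfl
theorem F19606 : act 0 n5754 = n4491 := d2_1 D5754 (iv D4491) D4490
theorem F19607 : act 1 n5754 = n4572 := d8_1 D5754 (iv D4572) (iv F15473)
theorem F19608 : act 5 n5754 = n4496 := d19_2 (iv F15476) D5754 (iv D4496)
theorem F19609 : act 6 n5754 = n5754 := d20_2 F15477 D5754 (iv D5754)
theorem F19610 : act 7 n5754 = n4512 := d21_2 (iv F15478) D5754 (iv D4512)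
def n5755 : Q := act 2 n4491
theorem D5755 : act 2 n4491 = n5755 := rfl
theorem F19611 : act 1 n5755 = n4521 := d7_1 D5755 (iv D4521) F12263 (iv F12190) (iv F15479)
theorem F19612 : act 3 n5755 = n4517 := d13_2 D4491 D5755 (iv D4517) (iv D3513) (iv F12184)
theorem F19613 : act 5 n5755 = n4497 := d15_2 (iv F15480) D5755 (iv D4497)
theorem F19614 : act 7 n5755 = n4513 := d17_2 (iv F15482) D5755 (iv D4513)
def n5756 : Q := act 4 n4491
theorem D5756 : act 4 n4491 = n5756 := rfl
theorem F19615 : act 1 n5756 = n4492 := d9_1 D5756 (iv D4492) (iv F15479)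
theorem F19616 : act 3 n5756 = n5756 := d18_1 D5756 (iv D5756) (iv D4491) F12185 D4491
theorem F19617 : act 6 n5756 = n5756 := d23_2 F15481 D5756 (iv D5756)
theorem F19618 : act 7 n5756 = n4514 := d24_2 (iv F15482) D5756 (iv D4514)
def n5758 : Q := act 3 n4493
theorem D5758 : act 3 n4493 = n5758 := rfl
theorem F19625 : act 0 n5758 = n4494 := d2_1 D5758 (iv D4494) D4493
theorem F19626 : act 1 n5758 = n4568 := d8_1 D5758 (iv D4568) (iv F15488)
theorem F19627 : act 5 n5758 = n4512 := d19_2 (iv F15491) D5758 (iv D4512)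
theorem F19628 : act 6 n5758 = n4665 := d20_2 (iv F15492) D5758 (iv D4665)
theorem F19629 : act 7 n5758 = n4496 := d21_2 (iv F15493) D5758 (iv D4496)
def n5759 : Q := act 2 n4494
theorem D5759 : act 2 n4494 = n5759 := rfl
theorem F19630 : act 1 n5759 = n4517 := d7_1 D5759 (iv D4517) F12253 (iv F12200) (iv F15494)
theorem F19631 : act 3 n5759 = n4521 := d13_2 D4494 D5759 (iv D4521) (iv D3516) (iv F12194)
theorem F19632 : act 5 n5759 = n4513 := d15_2 (iv F15495) D5759 (iv D4513)
theorem F19633 : act 7 n5759 = n4497 := d17_2 (iv F15497) D5759 (iv D4497)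
def n5760 : Q := act 4 n4494
theorem D5760 : act 4 n4494 = n5760 := rfl
theorem F19634 : act 1 n5760 = n4495 := d9_1 D5760 (iv D4495) (iv F15494)
theorem F19635 : act 3 n5760 = n4505 := d18_1 D5760 (iv D4505) (iv D3503) (iv F12195) D4494
theorem F19636 : act 6 n5760 = n4667 := d23_2 (iv F15496) D5760 (iv D4667)
theorem F19637 : act 7 n5760 = n4498 := d24_2 (iv F15497) D5760 (iv D4498)
def n5761 : Q := act 5 n4495
theorem D5761 : act 5 n4495 = n5761 := rfl
theorem F19638 : act 0 n5761 = n4571 := d4_1 D5761 (iv D4571) (iv F15498)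
theorem F19639 : act 2 n5761 = n4519 := d15_1 D5761 (iv D4519) (iv F15499)
theorem F19640 : act 3 n5761 = n4506 := d19_1 D5761 (iv D4506) (iv F15500)
theorem F19643 : act 7 n5761 = n4499 := d26_2 (iv F15502) D5761 (iv D4499)
def n5762 : Q := act 2 n4496
theorem D5762 : act 2 n4496 = n5762 := rfl
theorem F19644 : act 0 n5762 = n4497 := d1_1 D5762 (iv D4497) (iv F15503)
theorem F19645 : act 3 n5762 = n4524 := d13_2 D4496 D5762 (iv D4524) (iv D3518) (iv F12204)
def n5763 : Q := act 4 n4496
theorem D5763 : act 4 n4496 = n5763 := rfl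
theorem F19646 : act 0 n5763 = n4498 := d3_1 D5763 (iv D4498) (iv F15503)
theorem F19647 : act 3 n5763 = n4508 := d18_1 D5763 (iv D4508) (iv D3505) (iv F12205) D4496
theorem F19648 : act 6 n5763 = n5763 := d23_2 F15504 D5763 (iv D5763)
def n5764 : Q := act 4 n4497
theorem D5764 : act 4 n4497 = n5764 := rfl
theorem F19649 : act 2 n5764 = n4498 := d14_1 D5764 (iv D4498) D4497
def n5765 : Q := act 6 n4497
theorem D5765 : act 6 n4497 = n5765 := rfl
theorem F19650 : act 2 n5765 = n5765 := d16_1 D5765 (iv D5765) (iv D4497) F12208 D4497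
theorem F19651 : act 3 n5765 = n4527 := d20_1 D5765 (iv D4527) (iv F15505)
def n5766 : Q := act 5 n4498
theorem D5766 : act 5 n4498 = n5766 := rfl
theorem F19652 : act 1 n5766 = n4499 := d10_1 D5766 (iv D4499) (iv F15506)
theorem F19653 : act 3 n5766 = n4511 := d19_1 D5766 (iv D4511) (iv F15507)
theorem F19654 : act 6 n5766 = n5766 := d25_2 F15508 D5766 (iv D5766)
def n5767 : Q := act 3 n4500
theorem D5767 : act 3 n4500 = n5767 := rfl
theorem F19655 : act 0 n5767 = n4501 := d2_1 D5767 (iv D4501) D4500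
theorem F19656 : act 1 n5767 = n4729 := d8_1 D5767 (iv D4729) (iv F15511)
theorem F19657 : act 5 n5767 = n5767 := d19_2 F15514 D5767 (iv D5767)
theorem F19658 : act 6 n5767 = n4503 := d20_2 (iv F15515) D5767 (iv D4503)
theorem F19659 : act 7 n5767 = n5767 := d21_2 F15516 D5767 (iv D5767)
def n5768 : Q := act 2 n4501
theorem D5768 : act 2 n4501 = n5768 := rfl
theorem F19660 : act 1 n5768 = n4841 := d7_1 D5768 (iv D4841) F13075 (iv F12217) (iv F15517)
theorem F19661 : act 3 n5768 = n5024 := d13_2 D4501 D5768 (iv D5024) (iv D3906) (iv F12211)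
def n5769 : Q := act 4 n4501
theorem D5769 : act 4 n4501 = n5769 := rfl
theorem F19664 : act 1 n5769 = n4502 := d9_1 D5769 (iv D4502) (iv F15517)
theorem F19665 : act 3 n5769 = n4667 := d18_1 D5769 (iv D4667) (iv D3627) (iv F12212) D4501
theorem F19666 : act 6 n5769 = n4505 := d23_2 (iv F15519) D5769 (iv D4505)
theorem F19667 : act 7 n5769 = n5769 := d24_2 F15520 D5769 (iv D5769)
def n5770 : Q := act 5 n4502
theorem D5770 : act 5 n4502 = n5770 := rfl
theorem F19668 : act 0 n5770 = n4732 := d4_1 D5770 (iv D4732) (iv F15521)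
theorem F19669 : act 2 n5770 = n4843 := d15_1 D5770 (iv D4843) (iv F15522)
theorem F19672 : act 6 n5770 = n4506 := d25_2 (iv F15524) D5770 (iv D4506)
def n5771 : Q := act 2 n4503
theorem D5771 : act 2 n4503 = n5771 := rfl
theorem F19674 : act 0 n5771 = n4504 := d1_1 D5771 (iv D4504) (iv F15526)
theorem F19675 : act 3 n5771 = n4529 := d13_2 D4503 D5771 (iv D4529) (iv D3522) (iv F12221)
theorem F19676 : act 5 n5771 = n5771 := d15_2 F15527 D5771 (iv D5771)
theorem F19677 : act 7 n5771 = n4507 := d17_2 (iv F15528) D5771 (iv D4507)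
def n5772 : Q := act 4 n4503
theorem D5772 : act 4 n4503 = n5772 := rfl
theorem F19678 : act 0 n5772 = n4505 := d3_1 D5772 (iv D4505) (iv F15526)
theorem F19679 : act 7 n5772 = n4508 := d24_2 (iv F15528) D5772 (iv D4508)
def n5773 : Q := act 4 n4504
theorem D5773 : act 4 n4504 = n5773 := rfl
theorem F19680 : act 1 n5773 = n5773 := d9_1 D5773 (iv D5773) F15529
theorem F19681 : act 2 n5773 = n4505 := d14_1 D5773 (iv D4505) D4504
theorem F19682 : act 7 n5773 = n4509 := d24_2 (iv F15532) D5773 (iv D4509)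
def n5774 : Q := act 6 n4504
theorem D5774 : act 6 n4504 = n5774 := rfl
theorem F19684 : act 3 n5774 = n4532 := d20_1 D5774 (iv D4532) (iv F15530)
def n5775 : Q := act 5 n4505
theorem D5775 : act 5 n4505 = n5775 := rfl
theorem F19686 : act 1 n5775 = n4506 := d10_1 D5775 (iv D4506) (iv F15533)
theorem F19687 : act 4 n5775 = n5775 := d22_1 D5775 (iv D5775) (iv D4505) F12225 D4505
theorem F19688 : act 7 n5775 = n4511 := d26_2 (iv F15534) D5775 (iv D4511)
def n5776 : Q := act 1 n4507
theorem D5776 : act 1 n4507 = n5776 := rfl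
theorem F19689 : act 0 n5776 = n5776 := d0_1 D5776 (iv D5776) F15538 F12232 (iv F15538)
theorem F19690 : act 3 n5776 = n4534 := d8_2 (iv F15539) D5776 (iv D4534)
theorem F19691 : act 5 n5776 = n5776 := d10_2 F15540 D5776 (iv D5776)
def n5777 : Q := act 4 n4507
theorem D5777 : act 4 n4507 = n5777 := rfl
theorem F19692 : act 0 n5777 = n4509 := d3_1 D5777 (iv D4509) (iv F15538)
theorem F19693 : act 2 n5777 = n4508 := d14_1 D5777 (iv D4508) D4507
def n5778 : Q := act 6 n4507
theorem D5778 : act 6 n4507 = n5778 := rfl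
theorem F19696 : act 3 n5778 = n4536 := d20_1 D5778 (iv D4536) (iv F15539)
def n5779 : Q := act 5 n4508
theorem D5779 : act 5 n4508 = n5779 := rfl
theorem F19698 : act 0 n5779 = n4511 := d4_1 D5779 (iv D4511) (iv F15541)
theorem F19699 : act 4 n5779 = n5779 := d22_1 D5779 (iv D5779) (iv D4508) F12230 D4508
theorem F19700 : act 6 n5779 = n5779 := d25_2 F15542 D5779 (iv D5779)
def n5781 : Q := act 5 n4509
theorem D5781 : act 5 n4509 = n5781 := rfl
theorem F19703 : act 1 n5781 = n5781 := d10_1 D5781 (iv D5781) F15543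
theorem F19704 : act 2 n5781 = n4511 := d15_1 D5781 (iv D4511) (iv F15544)
theorem F19705 : act 4 n5781 = n5781 := d22_1 D5781 (iv D5781) (iv D4509) F12234 D4509
def n5782 : Q := act 6 n4509
theorem D5782 : act 6 n4509 = n5782 := rfl
theorem F19708 : act 4 n5782 = n4510 := d23_1 D5782 (iv D4510) D4509
def n5784 : Q := act 2 n4512
theorem D5784 : act 2 n4512 = n5784 := rfl
theorem F19713 : act 0 n5784 = n4513 := d1_1 D5784 (iv D4513) (iv F15552)
def n5785 : Q := act 4 n4512
theorem D5785 : act 4 n4512 = n5785 := rfl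
theorem F19714 : act 0 n5785 = n4514 := d3_1 D5785 (iv D4514) (iv F15552)
theorem F19715 : act 1 n5785 = n4577 := d9_1 D5785 (iv D4577) (iv F15553)
theorem F19716 : act 3 n5785 = n5785 := d18_1 D5785 (iv D5785) (iv D4512) F12241 D4512
theorem F19717 : act 6 n5785 = n4670 := d23_2 (iv F15554) D5785 (iv D4670)
def n5786 : Q := act 4 n4513
theorem D5786 : act 4 n4513 = n5786 := rfl
theorem F19718 : act 1 n5786 = n4526 := d9_1 D5786 (iv D4526) (iv F15555)
theorem F19719 : act 2 n5786 = n4514 := d14_1 D5786 (iv D4514) D4513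
def n5787 : Q := act 6 n4513
theorem D5787 : act 6 n4513 = n5787 := rfl
theorem F19720 : act 1 n5787 = n4527 := d11_1 D5787 (iv D4527) (iv F15555)
theorem F19721 : act 2 n5787 = n4672 := d16_1 D5787 (iv D4672) (iv D3630) (iv F12244) D4513
def n5788 : Q := act 5 n4514
theorem D5788 : act 5 n4514 = n5788 := rfl
theorem F19724 : act 6 n5788 = n4673 := d25_2 (iv F15558) D5788 (iv D4673)
def n5789 : Q := act 2 n4516
theorem D5789 : act 2 n4516 = n5789 := rfl
theorem F19725 : act 0 n5789 = n4517 := d1_1 D5789 (iv D4517) (iv F15563)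
theorem F19726 : act 5 n5789 = n4524 := d15_2 (iv F15565) D5789 (iv D4524)
def n5790 : Q := act 4 n4516
theorem D5790 : act 4 n4516 = n5790 := rfl
theorem F19727 : act 0 n5790 = n4518 := d3_1 D5790 (iv D4518) (iv F15563)
theorem F19728 : act 1 n5790 = n4586 := d9_1 D5790 (iv D4586) (iv F15564)
theorem F19729 : act 3 n5790 = n5790 := d18_1 D5790 (iv D5790) (iv D4516) F12250 D4516
theorem F19730 : act 6 n5790 = n4543 := d23_2 (iv F15566) D5790 (iv D4543)
def n5791 : Q := act 4 n4517
theorem D5791 : act 4 n4517 = n5791 := rfl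
theorem F19731 : act 2 n5791 = n4518 := d14_1 D5791 (iv D4518) D4517
def n5792 : Q := act 6 n4517
theorem D5792 : act 6 n4517 = n5792 := rfl
theorem F19732 : act 2 n5792 = n4545 := d16_1 D5792 (iv D4545) (iv D3532) (iv F12255) D4517
theorem F19733 : act 5 n5792 = n4527 := d25_1 D5792 (iv D4527) (iv F15567)
def n5793 : Q := act 5 n4518
theorem D5793 : act 5 n4518 = n5793 := rfl
theorem F19737 : act 6 n5793 = n4546 := d25_2 (iv F15570) D5793 (iv D4546)
def n5794 : Q := act 2 n4520
theorem D5794 : act 2 n4520 = n5794 := rfl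
theorem F19738 : act 0 n5794 = n4521 := d1_1 D5794 (iv D4521) (iv F15575)
theorem F19739 : act 7 n5794 = n4524 := d17_2 (iv F15578) D5794 (iv D4524)
def n5795 : Q := act 4 n4520
theorem D5795 : act 4 n4520 = n5795 := rfl
theorem F19740 : act 0 n5795 = n4522 := d3_1 D5795 (iv D4522) (iv F15575)
theorem F19741 : act 1 n5795 = n4591 := d9_1 D5795 (iv D4591) (iv F15576)
theorem F19742 : act 3 n5795 = n4530 := d18_1 D5795 (iv D4530) (iv D3522) (iv F12260) D4520
theorem F19743 : act 6 n5795 = n5050 := d23_2 (iv F15577) D5795 (iv D5050)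
theorem F19744 : act 7 n5795 = n4525 := d24_2 (iv F15578) D5795 (iv D4525)
def n5796 : Q := act 4 n4521
theorem D5796 : act 4 n4521 = n5796 := rfl
theorem F19745 : act 2 n5796 = n4522 := d14_1 D5796 (iv D4522) D4521
theorem F19746 : act 7 n5796 = n4526 := d24_2 (iv F15579) D5796 (iv D4526)
def n5797 : Q := act 6 n4521
theorem D5797 : act 6 n4521 = n5797 := rfl
theorem F19747 : act 2 n5797 = n5052 := d16_1 D5797 (iv D5052) (iv D3925) (iv F12264) D4521
def n5798 : Q := act 5 n4522
theorem D5798 : act 5 n4522 = n5798 := rfl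
theorem F19750 : act 6 n5798 = n5053 := d25_2 (iv F15582) D5798 (iv D5053)
theorem F19751 : act 7 n5798 = n4528 := d26_2 (iv F15583) D5798 (iv D4528)
def n5799 : Q := act 1 n4524
theorem D5799 : act 1 n4524 = n5799 := rfl
theorem F19752 : act 2 n5799 = n4595 := d7_2 D4524 D5799 (iv D4595) (iv D3572) (iv F12271)
def n5800 : Q := act 4 n4524
theorem D5800 : act 4 n4524 = n5800 := rfl
theorem F19753 : act 0 n5800 = n4526 := d3_1 D5800 (iv D4526) (iv F15588)
theorem F19754 : act 2 n5800 = n4525 := d14_1 D5800 (iv D4525) D4524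
def n5801 : Q := act 6 n4524
theorem D5801 : act 6 n4524 = n5801 := rfl
theorem F19755 : act 0 n5801 = n4527 := d5_1 D5801 (iv D4527) (iv F15588)
theorem F19756 : act 2 n5801 = n4549 := d16_1 D5801 (iv D4549) (iv D3535) (iv F12272) D4524
def n5802 : Q := act 5 n4525
theorem D5802 : act 5 n4525 = n5802 := rfl
theorem F19758 : act 1 n5802 = n4598 := d10_1 D5802 (iv D4598) (iv F15590)
theorem F19760 : act 6 n5802 = n4550 := d25_2 (iv F15592) D5802 (iv D4550)
def n5803 : Q := act 3 n4526
theorem D5803 : act 3 n4526 = n5803 := rfl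
def n5804 : Q := act 5 n4526
theorem D5804 : act 5 n4526 = n5804 := rfl
theorem F19762 : act 2 n5804 = n4528 := d15_1 D5804 (iv D4528) (iv F15593)
def n5805 : Q := act 6 n4526
theorem D5805 : act 6 n4526 = n5805 := rfl
theorem F19764 : act 4 n5805 = n4527 := d23_1 D5805 (iv D4527) D4526
def n5806 : Q := act 7 n4527
theorem D5806 : act 7 n4527 = n5806 := rfl
theorem F19765 : act 2 n5806 = n4554 := d17_1 D5806 (iv D4554) (iv F15594)
def n5807 : Q := act 1 n4529
theorem D5807 : act 1 n4529 = n5807 := rfl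
theorem F19766 : act 0 n5807 = n5807 := d0_1 D5807 (iv D5807) F15598 F12284 (iv F15598)
theorem F19767 : act 2 n5807 = n4603 := d7_2 D4529 D5807 (iv D4603) (iv D3577) (iv F12280)
theorem F19768 : act 5 n5807 = n5807 := d10_2 F15599 D5807 (iv D5807)
theorem F19769 : act 7 n5807 = n4534 := d12_2 (iv F15600) D5807 (iv D4534)
def n5808 : Q := act 4 n4529
theorem D5808 : act 4 n4529 = n5808 := rfl
theorem F19771 : act 2 n5808 = n4530 := d14_1 D5808 (iv D4530) D4529
theorem F19772 : act 7 n5808 = n4535 := d24_2 (iv F15600) D5808 (iv D4535)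
def n5809 : Q := act 6 n4529
theorem D5809 : act 6 n4529 = n5809 := rfl
theorem F19774 : act 2 n5809 = n5064 := d16_1 D5809 (iv D5064) (iv D3933) (iv F12282) D4529
def n5811 : Q := act 3 n4531
theorem D5811 : act 3 n4531 = n5811 := rfl
theorem F19782 : act 7 n5811 = n4538 := d21_2 (iv F15607) D5811 (iv D4538)
def n5814 : Q := act 7 n4532
theorem D5814 : act 7 n4532 = n5814 := rfl
theorem F19793 : act 6 n5814 = n4541 := d27_1 D5814 (iv D4541) (iv D3529) (iv F12286) D4532
def n5815 : Q := act 4 n4534
theorem D5815 : act 4 n4534 = n5815 := rfl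
theorem F19795 : act 1 n5815 = n4535 := d9_1 D5815 (iv D4535) D4534
theorem F19796 : act 2 n5815 = n4610 := d14_1 D5815 (iv D4610) (iv F15616)
def n5816 : Q := act 6 n4534
theorem D5816 : act 6 n4534 = n5816 := rfl
theorem F19798 : act 1 n5816 = n4536 := d11_1 D5816 (iv D4536) D4534
def n5820 : Q := act 7 n4536
theorem D5820 : act 7 n4536 = n5820 := rfl
theorem F19808 : act 0 n5820 = n4541 := d6_1 D5820 (iv D4541) (iv F15620)
def n5821 : Q := act 5 n4538
theorem D5821 : act 5 n4538 = n5821 := rfl
theorem F19812 : act 3 n5821 = n4539 := d19_1 D5821 (iv D4539) D4538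
def n5825 : Q := act 1 n4542
theorem D5825 : act 1 n4542 = n5825 := rfl
theorem F19822 : act 0 n5825 = n4697 := d0_1 D5825 (iv D4697) F12699 (iv F12312) (iv F15637)
theorem F19825 : act 5 n5825 = n4547 := d10_2 (iv F15639) D5825 (iv D4547)
theorem F19826 : act 7 n5825 = n5080 := d12_2 (iv F15640) D5825 (iv D5080)
def n5826 : Q := act 4 n4542
theorem D5826 : act 4 n4542 = n5826 := rfl
theorem F19827 : act 0 n5826 = n4544 := d3_1 D5826 (iv D4544) (iv F15637)
theorem F19828 : act 2 n5826 = n4543 := d14_1 D5826 (iv D4543) D4542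
def n5827 : Q := act 6 n4542
theorem D5827 : act 6 n4542 = n5827 := rfl
theorem F19830 : act 0 n5827 = n4545 := d5_1 D5827 (iv D4545) (iv F15637)
theorem F19831 : act 3 n5827 = n5827 := d20_1 D5827 (iv D5827) F15638
theorem F19832 : act 5 n5827 = n4549 := d25_1 D5827 (iv D4549) (iv F15639)
def n5828 : Q := act 5 n4543
theorem D5828 : act 5 n4543 = n5828 := rfl
theorem F19833 : act 0 n5828 = n4546 := d4_1 D5828 (iv D4546) (iv F15641)
def n5830 : Q := act 5 n4544
theorem D5830 : act 5 n4544 = n5830 := rfl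
theorem F19842 : act 1 n5830 = n4702 := d10_1 D5830 (iv D4702) (iv F15645)
theorem F19844 : act 4 n5830 = n4552 := d22_1 D5830 (iv D4552) (iv D3537) (iv F12314) D4544
theorem F19845 : act 7 n5830 = n5085 := d26_2 (iv F15647) D5830 (iv D5085)
def n5831 : Q := act 6 n4544
theorem D5831 : act 6 n4544 = n5831 := rfl
theorem F19847 : act 4 n5831 = n4545 := d23_1 D5831 (iv D4545) D4544
def n5832 : Q := act 7 n4545
theorem D5832 : act 7 n4545 = n5832 := rfl
theorem F19849 : act 3 n5832 = n5832 := d21_1 D5832 (iv D5832) F15649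
theorem F19850 : act 5 n5832 = n4554 := d26_1 D5832 (iv D4554) (iv F15650)
theorem F19851 : act 6 n5832 = n5087 := d27_1 D5832 (iv D5087) (iv D3949) (iv F12315) D4545
def n5833 : Q := act 4 n4547
theorem D5833 : act 4 n4547 = n5833 := rfl
theorem F19852 : act 0 n5833 = n4705 := d3_1 D5833 (iv D4705) (iv F15655)
def n5834 : Q := act 6 n4547
theorem D5834 : act 6 n4547 = n5834 := rfl
theorem F19857 : act 1 n5834 = n4549 := d11_1 D5834 (iv D4549) D4547
def n5836 : Q := act 5 n4548
theorem D5836 : act 5 n4548 = n5836 := rfl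
theorem F19863 : act 0 n5836 = n4552 := d4_1 D5836 (iv D4552) (iv F15659)
theorem F19864 : act 2 n5836 = n4550 := d15_1 D5836 (iv D4550) (iv F15660)
theorem F19865 : act 7 n5836 = n5091 := d26_2 (iv F15661) D5836 (iv D5091)
def n5837 : Q := act 6 n4548
theorem D5837 : act 6 n4548 = n5837 := rfl
theorem F19867 : act 4 n5837 = n4549 := d23_1 D5837 (iv D4549) D4548
def n5838 : Q := act 7 n4549
theorem D5838 : act 7 n4549 = n5838 := rfl
theorem F19868 : act 0 n5838 = n4554 := d6_1 D5838 (iv D4554) (iv F15662)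
theorem F19869 : act 3 n5838 = n5838 := d21_1 D5838 (iv D5838) F15663
theorem F19870 : act 6 n5838 = n5093 := d27_1 D5838 (iv D5093) (iv D3953) (iv F12326) D4549
def n5841 : Q := act 6 n4552
theorem D5841 : act 6 n4552 = n5841 := rfl
theorem F19879 : act 5 n5841 = n4553 := d25_1 D5841 (iv D4553) D4552
def n5857 : Q := act 2 n4568
theorem D5857 : act 2 n4568 = n5857 := rfl
theorem F19934 : act 0 n5857 = n4569 := d1_1 D5857 (iv D4569) (iv F15730)
theorem F19935 : act 5 n5857 = n4576 := d15_2 (iv F15731) D5857 (iv D4576)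
def n5858 : Q := act 4 n4568
theorem D5858 : act 4 n4568 = n5858 := rfl
theorem F19936 : act 0 n5858 = n4570 := d3_1 D5858 (iv D4570) (iv F15730)
theorem F19937 : act 6 n5858 = n4734 := d23_2 (iv F15732) D5858 (iv D4734)
def n5859 : Q := act 4 n4569
theorem D5859 : act 4 n4569 = n5859 := rfl
theorem F19938 : act 1 n5859 = n4587 := d9_1 D5859 (iv D4587) (iv F15733)
theorem F19939 : act 2 n5859 = n4570 := d14_1 D5859 (iv D4570) D4569
def n5860 : Q := act 6 n4569
theorem D5860 : act 6 n4569 = n5860 := rfl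
theorem F19940 : act 1 n5860 = n4588 := d11_1 D5860 (iv D4588) (iv F15733)
theorem F19942 : act 5 n5860 = n4579 := d25_1 D5860 (iv D4579) (iv F15734)
def n5861 : Q := act 5 n4570
theorem D5861 : act 5 n4570 = n5861 := rfl
theorem F19943 : act 1 n5861 = n4571 := d10_1 D5861 (iv D4571) (iv F15735)
theorem F19944 : act 4 n5861 = n4580 := d22_1 D5861 (iv D4580) (iv D3559) (iv F12382) D4570
theorem F19945 : act 6 n5861 = n4737 := d25_2 (iv F15736) D5861 (iv D4737)
def n5862 : Q := act 2 n4572
theorem D5862 : act 2 n4572 = n5862 := rfl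
theorem F19946 : act 0 n5862 = n4573 := d1_1 D5862 (iv D4573) (iv F15740)
theorem F19947 : act 7 n5862 = n4576 := d17_2 (iv F15742) D5862 (iv D4576)
def n5863 : Q := act 4 n4572
theorem D5863 : act 4 n4572 = n5863 := rfl
theorem F19948 : act 0 n5863 = n4574 := d3_1 D5863 (iv D4574) (iv F15740)
theorem F19949 : act 3 n5863 = n5863 := d18_1 D5863 (iv D5863) (iv D4572) F12386 D4572
theorem F19950 : act 6 n5863 = n5863 := d23_2 F15741 D5863 (iv D5863)
theorem F19951 : act 7 n5863 = n4577 := d24_2 (iv F15742) D5863 (iv D4577)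
def n5864 : Q := act 4 n4573
theorem D5864 : act 4 n4573 = n5864 := rfl
theorem F19952 : act 1 n5864 = n4592 := d9_1 D5864 (iv D4592) (iv F15743)
theorem F19953 : act 2 n5864 = n4574 := d14_1 D5864 (iv D4574) D4573
theorem F19954 : act 7 n5864 = n4578 := d24_2 (iv F15744) D5864 (iv D4578)
def n5865 : Q := act 6 n4573
theorem D5865 : act 6 n4573 = n5865 := rfl
theorem F19955 : act 1 n5865 = n4593 := d11_1 D5865 (iv D4593) (iv F15743)
theorem F19956 : act 2 n5865 = n5865 := d16_1 D5865 (iv D5865) (iv D4573) F12390 D4573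
def n5866 : Q := act 5 n4574
theorem D5866 : act 5 n4574 = n5866 := rfl
theorem F19957 : act 1 n5866 = n4575 := d10_1 D5866 (iv D4575) (iv F15745)
theorem F19958 : act 3 n5866 = n5866 := d19_1 D5866 (iv D5866) F15746
theorem F19959 : act 6 n5866 = n5866 := d25_2 F15747 D5866 (iv D5866)
theorem F19960 : act 7 n5866 = n4580 := d26_2 (iv F15748) D5866 (iv D4580)
def n5867 : Q := act 1 n4576
theorem D5867 : act 1 n4576 = n5867 := rfl
theorem F19961 : act 0 n5867 = n4595 := d0_1 D5867 (iv D4595) F12437 (iv F12398) (iv F15753)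
def n5868 : Q := act 4 n4576
theorem D5868 : act 4 n4576 = n5868 := rfl
theorem F19962 : act 0 n5868 = n4578 := d3_1 D5868 (iv D4578) (iv F15753)
theorem F19963 : act 2 n5868 = n4577 := d14_1 D5868 (iv D4577) D4576
def n5869 : Q := act 6 n4576
theorem D5869 : act 6 n4576 = n5869 := rfl
theorem F19964 : act 0 n5869 = n4579 := d5_1 D5869 (iv D4579) (iv F15753)
theorem F19965 : act 2 n5869 = n4740 := d16_1 D5869 (iv D4740) (iv D3683) (iv F12397) D4576
def n5870 : Q := act 5 n4577
theorem D5870 : act 5 n4577 = n5870 := rfl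
theorem F19966 : act 0 n5870 = n4580 := d4_1 D5870 (iv D4580) (iv F15754)
theorem F19967 : act 3 n5870 = n5870 := d19_1 D5870 (iv D5870) F15755
theorem F19968 : act 6 n5870 = n4741 := d25_2 (iv F15756) D5870 (iv D4741)
def n5871 : Q := act 3 n4578
theorem D5871 : act 3 n4578 = n5871 := rfl
theorem F19969 : act 1 n5871 = n4599 := d8_1 D5871 (iv D4599) (iv F15757)
theorem F19970 : act 2 n5871 = n5871 := d13_1 D5871 (iv D5871) F15758 F12400 (iv F15758)
def n5872 : Q := act 5 n4578
theorem D5872 : act 5 n4578 = n5872 := rfl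
theorem F19971 : act 1 n5872 = n4600 := d10_1 D5872 (iv D4600) (iv F15757)
theorem F19972 : act 2 n5872 = n4580 := d15_1 D5872 (iv D4580) (iv F15758)
def n5873 : Q := act 6 n4578
theorem D5873 : act 6 n4578 = n5873 := rfl
theorem F19973 : act 1 n5873 = n4601 := d11_1 D5873 (iv D4601) (iv F15757)
theorem F19974 : act 2 n5873 = n4744 := d16_1 D5873 (iv D4744) F12812 (iv F12401) (iv F15758)
theorem F19975 : act 4 n5873 = n4579 := d23_1 D5873 (iv D4579) D4578
def n5874 : Q := act 7 n4579
theorem D5874 : act 7 n4579 = n5874 := rfl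
theorem F19976 : act 1 n5874 = n4602 := d12_1 D5874 (iv D4602) (iv F15759)
theorem F19977 : act 2 n5874 = n4745 := d17_1 D5874 (iv D4745) (iv F15760)
def n5875 : Q := act 2 n4581
theorem D5875 : act 2 n4581 = n5875 := rfl
theorem F19978 : act 0 n5875 = n4582 := d1_1 D5875 (iv D4582) (iv F15764)
theorem F19979 : act 5 n5875 = n4590 := d15_2 (iv F15765) D5875 (iv D4590)
theorem F19980 : act 7 n5875 = n4585 := d17_2 (iv F15767) D5875 (iv D4585)
def n5876 : Q := act 4 n4581
theorem D5876 : act 4 n4581 = n5876 := rfl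
theorem F19983 : act 6 n5876 = n5113 := d23_2 (iv F15766) D5876 (iv D5113)
theorem F19984 : act 7 n5876 = n4586 := d24_2 (iv F15767) D5876 (iv D4586)
def n5877 : Q := act 4 n4582
theorem D5877 : act 4 n4582 = n5877 := rfl
theorem F19985 : act 2 n5877 = n4583 := d14_1 D5877 (iv D4583) D4582
theorem F19986 : act 7 n5877 = n4587 := d24_2 (iv F15769) D5877 (iv D4587)
def n5878 : Q := act 6 n4582
theorem D5878 : act 6 n4582 = n5878 := rfl
theorem F19987 : act 2 n5878 = n5115 := d16_1 D5878 (iv D5115) (iv D3973) (iv F12411) D4582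
theorem F19988 : act 5 n5878 = n4593 := d25_1 D5878 (iv D4593) (iv F15768)
def n5879 : Q := act 5 n4583
theorem D5879 : act 5 n4583 = n5879 := rfl
theorem F19989 : act 1 n5879 = n4584 := d10_1 D5879 (iv D4584) (iv F15770)
theorem F19993 : act 7 n5879 = n4589 := d26_2 (iv F15773) D5879 (iv D4589)
def n5880 : Q := act 1 n4585
theorem D5880 : act 1 n4585 = n5880 := rfl
theorem F19994 : act 5 n5880 = n4595 := d10_2 (iv F15779) D5880 (iv D4595)
def n5881 : Q := act 4 n4585
theorem D5881 : act 4 n4585 = n5881 := rfl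
theorem F19996 : act 2 n5881 = n4586 := d14_1 D5881 (iv D4586) D4585
def n5882 : Q := act 6 n4585
theorem D5882 : act 6 n4585 = n5882 := rfl
theorem F19998 : act 2 n5882 = n4616 := d16_1 D5882 (iv D4616) (iv D3587) (iv F12418) D4585
def n5883 : Q := act 5 n4586
theorem D5883 : act 5 n4586 = n5883 := rfl
theorem F20002 : act 4 n5883 = n4598 := d22_1 D5883 (iv D4598) (iv D3573) (iv F12417) D4586
theorem F20003 : act 6 n5883 = n4617 := d25_2 (iv F15782) D5883 (iv D4617)
def n5884 : Q := act 3 n4587
theorem D5884 : act 3 n4587 = n5884 := rfl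
def n5885 : Q := act 5 n4587
theorem D5885 : act 5 n4587 = n5885 := rfl
theorem F20005 : act 2 n5885 = n4589 := d15_1 D5885 (iv D4589) (iv F15783)
def n5886 : Q := act 6 n4587
theorem D5886 : act 6 n4587 = n5886 := rfl
theorem F20007 : act 2 n5886 = n4620 := d16_1 D5886 (iv D4620) F12486 (iv F12422) (iv F15783)
def n5888 : Q := act 1 n4590
theorem D5888 : act 1 n4590 = n5888 := rfl
theorem F20011 : act 7 n5888 = n4595 := d12_2 (iv F15791) D5888 (iv D4595)
def n5889 : Q := act 4 n4590
theorem D5889 : act 4 n4590 = n5889 := rfl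
theorem F20012 : act 0 n5889 = n4592 := d3_1 D5889 (iv D4592) (iv F15790)
theorem F20013 : act 2 n5889 = n4591 := d14_1 D5889 (iv D4591) D4590
theorem F20014 : act 7 n5889 = n4596 := d24_2 (iv F15791) D5889 (iv D4596)
def n5890 : Q := act 6 n4590
theorem D5890 : act 6 n4590 = n5890 := rfl
theorem F20015 : act 0 n5890 = n4593 := d5_1 D5890 (iv D4593) (iv F15790)
theorem F20016 : act 2 n5890 = n5127 := d16_1 D5890 (iv D5127) (iv D3981) (iv F12427) D4590
def n5891 : Q := act 5 n4591
theorem D5891 : act 5 n4591 = n5891 := rfl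
theorem F20017 : act 0 n5891 = n4594 := d4_1 D5891 (iv D4594) (iv F15792)
theorem F20018 : act 3 n5891 = n4606 := d19_1 D5891 (iv D4606) (iv F15793)
theorem F20019 : act 6 n5891 = n5128 := d25_2 (iv F15794) D5891 (iv D5128)
theorem F20020 : act 7 n5891 = n4598 := d26_2 (iv F15795) D5891 (iv D4598)
def n5892 : Q := act 3 n4592
theorem D5892 : act 3 n4592 = n5892 := rfl
theorem F20021 : act 2 n5892 = n4607 := d13_1 D5892 (iv D4607) F12453 (iv F12431) (iv F15796)
theorem F20022 : act 7 n5892 = n4599 := d21_2 (iv F15797) D5892 (iv D4599)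
def n5893 : Q := act 5 n4592
theorem D5893 : act 5 n4592 = n5893 := rfl
theorem F20023 : act 2 n5893 = n4594 := d15_1 D5893 (iv D4594) (iv F15796)
theorem F20024 : act 7 n5893 = n4600 := d26_2 (iv F15797) D5893 (iv D4600)
def n5894 : Q := act 6 n4592
theorem D5894 : act 6 n4592 = n5894 := rfl
theorem F20025 : act 2 n5894 = n5131 := d16_1 D5894 (iv D5131) F13782 (iv F12432) (iv F15796)
theorem F20026 : act 4 n5894 = n4593 := d23_1 D5894 (iv D4593) D4592
def n5895 : Q := act 7 n4593
theorem D5895 : act 7 n4593 = n5895 := rfl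
theorem F20027 : act 2 n5895 = n5132 := d17_1 D5895 (iv D5132) (iv F15798)
theorem F20028 : act 6 n5895 = n4602 := d27_1 D5895 (iv D4602) (iv D3575) (iv F12429) D4593
def n5896 : Q := act 4 n4595
theorem D5896 : act 4 n4595 = n5896 := rfl
theorem F20029 : act 1 n5896 = n4596 := d9_1 D5896 (iv D4596) D4595
def n5897 : Q := act 6 n4595
theorem D5897 : act 6 n4595 = n5897 := rfl
theorem F20030 : act 1 n5897 = n4597 := d11_1 D5897 (iv D4597) D4595
def n5898 : Q := act 3 n4596
theorem D5898 : act 3 n4596 = n5898 := rfl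
theorem F20031 : act 0 n5898 = n4599 := d2_1 D5898 (iv D4599) (iv F15803)
theorem F20032 : act 2 n5898 = n4611 := d13_1 D5898 (iv D4611) F12467 (iv F12439) (iv F15804)
def n5899 : Q := act 5 n4596
theorem D5899 : act 5 n4596 = n5899 := rfl
theorem F20033 : act 0 n5899 = n4600 := d4_1 D5899 (iv D4600) (iv F15803)
theorem F20034 : act 2 n5899 = n4598 := d15_1 D5899 (iv D4598) (iv F15804)
def n5900 : Q := act 6 n4596
theorem D5900 : act 6 n4596 = n5900 := rfl
theorem F20035 : act 0 n5900 = n4601 := d5_1 D5900 (iv D4601) (iv F15803)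
theorem F20036 : act 2 n5900 = n4625 := d16_1 D5900 (iv D4625) F12499 (iv F12440) (iv F15804)
theorem F20037 : act 4 n5900 = n4597 := d23_1 D5900 (iv D4597) D4596
def n5901 : Q := act 7 n4597
theorem D5901 : act 7 n4597 = n5901 := rfl
theorem F20038 : act 0 n5901 = n4602 := d6_1 D5901 (iv D4602) (iv F15805)
theorem F20039 : act 2 n5901 = n4626 := d17_1 D5901 (iv D4626) (iv F15806)
def n5902 : Q := act 5 n4599
theorem D5902 : act 5 n4599 = n5902 := rfl
theorem F20040 : act 2 n5902 = n4613 := d15_1 D5902 (iv D4613) (iv F15810)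
theorem F20041 : act 3 n5902 = n4600 := d19_1 D5902 (iv D4600) D4599
def n5903 : Q := act 6 n4599
theorem D5903 : act 6 n4599 = n5903 := rfl
theorem F20042 : act 2 n5903 = n5903 := d16_1 D5903 (iv D5903) F15810 F12473 (iv F15810)
theorem F20043 : act 3 n5903 = n4601 := d20_1 D5903 (iv D4601) D4599
def n5904 : Q := act 6 n4600
theorem D5904 : act 6 n4600 = n5904 := rfl
theorem F20044 : act 2 n5904 = n4627 := d16_1 D5904 (iv D4627) F12508 (iv F12445) (iv F15811)
theorem F20045 : act 5 n5904 = n4601 := d25_1 D5904 (iv D4601) D4600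
def n5905 : Q := act 7 n4601
theorem D5905 : act 7 n4601 = n5905 := rfl
theorem F20046 : act 2 n5905 = n4628 := d17_1 D5905 (iv D4628) (iv F15812)
theorem F20047 : act 4 n5905 = n4602 := d24_1 D5905 (iv D4602) (iv F15813)
def n5906 : Q := act 4 n4603
theorem D5906 : act 4 n4603 = n5906 := rfl
theorem F20048 : act 0 n5906 = n5906 := d3_1 D5906 (iv D5906) F15815
theorem F20049 : act 1 n5906 = n4604 := d9_1 D5906 (iv D4604) D4603
theorem F20050 : act 7 n5906 = n4610 := d24_2 (iv F15817) D5906 (iv D4610)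
def n5907 : Q := act 6 n4603
theorem D5907 : act 6 n4603 = n5907 := rfl
theorem F20051 : act 0 n5907 = n5907 := d5_1 D5907 (iv D5907) F15815
theorem F20052 : act 1 n5907 = n4605 := d11_1 D5907 (iv D4605) D4603
theorem F20053 : act 5 n5907 = n5907 := d25_1 D5907 (iv D5907) F15816
theorem F20054 : act 7 n5907 = n5907 := d27_2 (iv F15817) D5907 (iv D5907) F15817 F12465
def n5908 : Q := act 3 n4604
theorem D5908 : act 3 n4604 = n5908 := rfl
theorem F20055 : act 0 n5908 = n4607 := d2_1 D5908 (iv D4607) (iv F15818)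
theorem F20056 : act 7 n5908 = n4611 := d21_2 (iv F15820) D5908 (iv D4611)
def n5909 : Q := act 5 n4604
theorem D5909 : act 5 n4604 = n5909 := rfl
theorem F20057 : act 0 n5909 = n4608 := d4_1 D5909 (iv D4608) (iv F15818)
theorem F20058 : act 2 n5909 = n4606 := d15_1 D5909 (iv D4606) (iv F15819)
theorem F20059 : act 4 n5909 = n5909 := d22_1 D5909 (iv D5909) (iv D4604) F12447 D4604
theorem F20060 : act 7 n5909 = n4612 := d26_2 (iv F15820) D5909 (iv D4612)
def n5910 : Q := act 6 n4604
theorem D5910 : act 6 n4604 = n5910 := rfl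
theorem F20061 : act 0 n5910 = n4609 := d5_1 D5910 (iv D4609) (iv F15818)
theorem F20062 : act 2 n5910 = n5147 := d16_1 D5910 (iv D5147) F13815 (iv F12450) (iv F15819)
theorem F20063 : act 4 n5910 = n4605 := d23_1 D5910 (iv D4605) D4604
theorem F20064 : act 7 n5910 = n5910 := d27_2 (iv F15820) D5910 (iv D5910) F15820 F12468
def n5911 : Q := act 5 n4607
theorem D5911 : act 5 n4607 = n5911 := rfl
theorem F20066 : act 3 n5911 = n4608 := d19_1 D5911 (iv D4608) D4607
theorem F20067 : act 7 n5911 = n4613 := d26_2 (iv F15830) D5911 (iv D4613)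
def n5912 : Q := act 6 n4607
theorem D5912 : act 6 n4607 = n5912 := rfl
theorem F20069 : act 3 n5912 = n4609 := d20_1 D5912 (iv D4609) D4607
def n5913 : Q := act 6 n4608
theorem D5913 : act 6 n4608 = n5913 := rfl
theorem F20072 : act 2 n5913 = n5150 := d16_1 D5913 (iv D5150) F13828 (iv F12461) (iv F15832)
def n5914 : Q := act 3 n4610
theorem D5914 : act 3 n4610 = n5914 := rfl
theorem F20076 : act 0 n5914 = n5914 := d2_1 D5914 (iv D5914) F15839
theorem F20077 : act 1 n5914 = n4611 := d8_1 D5914 (iv D4611) (iv F15840)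
theorem F20078 : act 6 n5914 = n5914 := d20_2 F15841 D5914 (iv D5914)
def n5915 : Q := act 5 n4610
theorem D5915 : act 5 n4610 = n5915 := rfl
theorem F20080 : act 1 n5915 = n4612 := d10_1 D5915 (iv D4612) (iv F15840)
def n5916 : Q := act 5 n4611
theorem D5916 : act 5 n4611 = n5916 := rfl
theorem F20083 : act 0 n5916 = n4613 := d4_1 D5916 (iv D4613) (iv F15842)
theorem F20084 : act 3 n5916 = n4612 := d19_1 D5916 (iv D4612) D4611
theorem F20085 : act 6 n5916 = n5916 := d25_2 F15843 D5916 (iv D5916)
def n5918 : Q := act 4 n4614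
theorem D5918 : act 4 n4614 = n5918 := rfl
theorem F20089 : act 0 n5918 = n4768 := d3_1 D5918 (iv D4768) (iv F15851)
theorem F20090 : act 1 n5918 = n4615 := d9_1 D5918 (iv D4615) D4614
theorem F20091 : act 7 n5918 = n5155 := d24_2 (iv F15854) D5918 (iv D5155)
def n5919 : Q := act 6 n4614
theorem D5919 : act 6 n4614 = n5919 := rfl
theorem F20092 : act 0 n5919 = n4769 := d5_1 D5919 (iv D4769) (iv F15851)
theorem F20093 : act 1 n5919 = n4616 := d11_1 D5919 (iv D4616) D4614
def n5921 : Q := act 5 n4615
theorem D5921 : act 5 n4615 = n5921 := rfl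
theorem F20100 : act 0 n5921 = n4619 := d4_1 D5921 (iv D4619) (iv F15855)
theorem F20101 : act 2 n5921 = n4617 := d15_1 D5921 (iv D4617) (iv F15856)
def n5922 : Q := act 6 n4615
theorem D5922 : act 6 n4615 = n5922 := rfl
def n5923 : Q := act 7 n4616
theorem D5923 : act 7 n4616 = n5923 := rfl
theorem F20109 : act 6 n5923 = n5160 := d27_1 D5923 (iv D5160) (iv D4007) (iv F12481) D4616
def n5928 : Q := act 5 n4622
theorem D5928 : act 5 n4622 = n5928 := rfl
theorem F20124 : act 0 n5928 = n4778 := d4_1 D5928 (iv D4778) (iv F15879)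
theorem F20127 : act 7 n5928 = n5165 := d26_2 (iv F15882) D5928 (iv D5165)
def n5929 : Q := act 6 n4622
theorem D5929 : act 6 n4622 = n5929 := rfl
theorem F20129 : act 1 n5929 = n4625 := d11_1 D5929 (iv D4625) (iv F15880)
def n5930 : Q := act 2 n4623
theorem D5930 : act 2 n4623 = n5930 := rfl
def n5932 : Q := act 6 n4624
theorem D5932 : act 6 n4624 = n5932 := rfl
theorem F20139 : act 5 n5932 = n4625 := d25_1 D5932 (iv D4625) D4624
def n5933 : Q := act 7 n4625
theorem D5933 : act 7 n4625 = n5933 := rfl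
theorem F20140 : act 0 n5933 = n4628 := d6_1 D5933 (iv D4628) (iv F15890)
theorem F20141 : act 3 n5933 = n5933 := d21_1 D5933 (iv D5933) F15891
theorem F20142 : act 4 n5933 = n4626 := d24_1 D5933 (iv D4626) (iv F15892)
theorem F20143 : act 6 n5933 = n5170 := d27_1 D5933 (iv D5170) (iv D4016) (iv F12501) D4625
def n5934 : Q := act 7 n4627
theorem D5934 : act 7 n4627 = n5934 := rfl
theorem F20146 : act 5 n5934 = n4628 := d26_1 D5934 (iv D4628) (iv F15898)
theorem F20147 : act 6 n5934 = n5171 := d27_1 D5934 (iv D5171) (iv D4018) (iv F12510) D4627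
def n5937 : Q := act 2 n4630
theorem D5937 : act 2 n4630 = n5937 := rfl
theorem F20156 : act 0 n5937 = n4787 := d1_1 D5937 (iv D4787) (iv F15908)
def n5939 : Q := act 6 n4631
theorem D5939 : act 6 n4631 = n5939 := rfl
theorem F20163 : act 0 n5939 = n4634 := d5_1 D5939 (iv D4634) (iv F15911)
theorem F20164 : act 3 n5939 = n4632 := d20_1 D5939 (iv D4632) D4631
def n5940 : Q := act 7 n4632
theorem D5940 : act 7 n4632 = n5940 := rfl
def n5941 : Q := act 2 n4634
theorem D5941 : act 2 n4634 = n5941 := rfl
def n5942 : Q := act 7 n4634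
theorem D5942 : act 7 n4634 = n5942 := rfl
theorem F20172 : act 1 n5942 = n4792 := d12_1 D5942 (iv D4792) (iv F15921)
theorem F20173 : act 3 n5942 = n4635 := d21_1 D5942 (iv D4635) (iv F15922)
def n5945 : Q := act 3 n4638
theorem D5945 : act 3 n4638 = n5945 := rfl
theorem F20181 : act 0 n5945 = n4639 := d2_1 D5945 (iv D4639) D4638
theorem F20182 : act 1 n5945 = n5945 := d8_1 D5945 (iv D5945) F15935
theorem F20183 : act 5 n5945 = n5014 := d19_2 (iv F15938) D5945 (iv D5014)
theorem F20184 : act 6 n5945 = n4644 := d20_2 (iv F15939) D5945 (iv D4644)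
theorem F20185 : act 7 n5945 = n5010 := d21_2 (iv F15940) D5945 (iv D5010)
def n5946 : Q := act 2 n4639
theorem D5946 : act 2 n4639 = n5946 := rfl
theorem F20186 : act 1 n5946 = n5946 := d7_1 D5946 (iv D5946) F15941 F12549 (iv F15941)
theorem F20187 : act 3 n5946 = n5041 := d13_2 D4639 D5946 (iv D5041) (iv D3918) (iv F12543)
theorem F20188 : act 5 n5946 = n5015 := d15_2 (iv F15942) D5946 (iv D5015)
theorem F20189 : act 7 n5946 = n5011 := d17_2 (iv F15944) D5946 (iv D5011)
def n5947 : Q := act 4 n4639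
theorem D5947 : act 4 n4639 = n5947 := rfl
theorem F20190 : act 1 n5947 = n4640 := d9_1 D5947 (iv D4640) (iv F15941)
theorem F20191 : act 3 n5947 = n5947 := d18_1 D5947 (iv D5947) (iv D4639) F12544 D4639
theorem F20192 : act 6 n5947 = n4646 := d23_2 (iv F15943) D5947 (iv D4646)
theorem F20193 : act 7 n5947 = n5012 := d24_2 (iv F15944) D5947 (iv D5012)
def n5948 : Q := act 5 n4640
theorem D5948 : act 5 n4640 = n5948 := rfl
theorem F20198 : act 6 n5948 = n4647 := d25_2 (iv F15948) D5948 (iv D4647)
theorem F20199 : act 7 n5948 = n5013 := d26_2 (iv F15949) D5948 (iv D5013)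
def n5949 : Q := act 3 n4641
theorem D5949 : act 3 n4641 = n5949 := rfl
theorem F20200 : act 0 n5949 = n4642 := d2_1 D5949 (iv D4642) D4641
theorem F20201 : act 1 n5949 = n5949 := d8_1 D5949 (iv D5949) F15950
theorem F20202 : act 5 n5949 = n4644 := d19_2 (iv F15953) D5949 (iv D4644)
theorem F20203 : act 6 n5949 = n5014 := d20_2 (iv F15954) D5949 (iv D5014)
theorem F20204 : act 7 n5949 = n5949 := d21_2 F15955 D5949 (iv D5949)
def n5950 : Q := act 2 n4642
theorem D5950 : act 2 n4642 = n5950 := rfl
theorem F20205 : act 1 n5950 = n4649 := d7_1 D5950 (iv D4649) F12579 (iv F12559) (iv F15956)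
theorem F20206 : act 3 n5950 = n4666 := d13_2 D4642 D5950 (iv D4666) (iv D3627) (iv F12553)
theorem F20207 : act 5 n5950 = n4645 := d15_2 (iv F15957) D5950 (iv D4645)
theorem F20208 : act 7 n5950 = n5950 := d17_2 F15959 D5950 (iv D5950)
def n5951 : Q := act 4 n4642
theorem D5951 : act 4 n4642 = n5951 := rfl
theorem F20211 : act 6 n5951 = n5016 := d23_2 (iv F15958) D5951 (iv D5016)
def n5953 : Q := act 2 n4644
theorem D5953 : act 2 n4644 = n5953 := rfl
theorem F20219 : act 0 n5953 = n4645 := d1_1 D5953 (iv D4645) (iv F15965)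
theorem F20220 : act 3 n5953 = n4669 := d13_2 D4644 D5953 (iv D4669) (iv D3629) (iv F12564)
theorem F20221 : act 7 n5953 = n5953 := d17_2 F15967 D5953 (iv D5953)
def n5954 : Q := act 4 n4644
theorem D5954 : act 4 n4644 = n5954 := rfl
theorem F20222 : act 0 n5954 = n4646 := d3_1 D5954 (iv D4646) (iv F15965)
theorem F20223 : act 1 n5954 = n5954 := d9_1 D5954 (iv D5954) F15966
theorem F20224 : act 3 n5954 = n5954 := d18_1 D5954 (iv D5954) (iv D4644) F12565 D4644
theorem F20225 : act 7 n5954 = n5954 := d24_2 F15967 D5954 (iv D5954)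
def n5955 : Q := act 4 n4645
theorem D5955 : act 4 n4645 = n5955 := rfl
theorem F20226 : act 1 n5955 = n4654 := d9_1 D5955 (iv D4654) (iv F15968)
theorem F20227 : act 2 n5955 = n4646 := d14_1 D5955 (iv D4646) D4645
def n5956 : Q := act 6 n4645
theorem D5956 : act 6 n4645 = n5956 := rfl
def n5957 : Q := act 5 n4646
theorem D5957 : act 5 n4646 = n5957 := rfl
def n5960 : Q := act 4 n4649
theorem D5960 : act 4 n4649 = n5960 := rfl
theorem F20243 : act 2 n5960 = n4650 := d14_1 D5960 (iv D4650) D4649
def n5961 : Q := act 6 n4649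
theorem D5961 : act 6 n4649 = n5961 := rfl
def n5967 : Q := act 3 n4654
theorem D5967 : act 3 n4654 = n5967 := rfl
theorem F20267 : act 2 n5967 = n4661 := d13_1 D5967 (iv D4661) F12610 (iv F12594) (iv F16003)
def n5972 : Q := act 6 n4657
theorem D5972 : act 6 n4657 = n5972 := rfl
theorem F20282 : act 1 n5972 = n4659 := d11_1 D5972 (iv D4659) D4657
theorem F20284 : act 5 n5972 = n4831 := d25_1 D5972 (iv D4831) (iv F16014)
def n5976 : Q := act 7 n4659
theorem D5976 : act 7 n4659 = n5976 := rfl
theorem F20298 : act 5 n5976 = n4835 := d26_1 D5976 (iv D4835) (iv F16022)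
def n5977 : Q := act 5 n4661
theorem D5977 : act 5 n4661 = n5977 := rfl
theorem F20301 : act 3 n5977 = n4662 := d19_1 D5977 (iv D4662) D4661
def n5978 : Q := act 6 n4661
theorem D5978 : act 6 n4661 = n5978 := rfl
theorem F20304 : act 3 n5978 = n4663 := d20_1 D5978 (iv D4663) D4661
def n5979 : Q := act 6 n4662
theorem D5979 : act 6 n4662 = n5979 := rfl
theorem F20308 : act 4 n5979 = n4838 := d23_1 D5979 (iv D4838) (iv F16033)
def n5980 : Q := act 7 n4663
theorem D5980 : act 7 n4663 = n5980 := rfl
theorem F20312 : act 4 n5980 = n4664 := d24_1 D5980 (iv D4664) (iv F16037)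
def n5981 : Q := act 2 n4665
theorem D5981 : act 2 n4665 = n5981 := rfl
theorem F20314 : act 0 n5981 = n4666 := d1_1 D5981 (iv D4666) (iv F16043)
theorem F20315 : act 5 n5981 = n4669 := d15_2 (iv F16045) D5981 (iv D4669)
theorem F20316 : act 7 n5981 = n5981 := d17_2 F16046 D5981 (iv D5981)
def n5982 : Q := act 4 n4665
theorem D5982 : act 4 n4665 = n5982 := rfl
theorem F20317 : act 0 n5982 = n4667 := d3_1 D5982 (iv D4667) (iv F16043)
theorem F20318 : act 1 n5982 = n4734 := d9_1 D5982 (iv D4734) (iv F16044)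
theorem F20319 : act 7 n5982 = n5982 := d24_2 F16046 D5982 (iv D5982)
def n5983 : Q := act 4 n4666
theorem D5983 : act 4 n4666 = n5983 := rfl
theorem F20320 : act 1 n5983 = n4676 := d9_1 D5983 (iv D4676) (iv F16047)
theorem F20321 : act 2 n5983 = n4667 := d14_1 D5983 (iv D4667) D4666
def n5984 : Q := act 6 n4666
theorem D5984 : act 6 n4666 = n5984 := rfl
def n5985 : Q := act 5 n4667
theorem D5985 : act 5 n4667 = n5985 := rfl
theorem F20325 : act 1 n5985 = n4668 := d10_1 D5985 (iv D4668) (iv F16050)
def n5987 : Q := act 4 n4669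
theorem D5987 : act 4 n4669 = n5987 := rfl
theorem F20331 : act 0 n5987 = n4671 := d3_1 D5987 (iv D4671) (iv F16056)
def n5988 : Q := act 6 n4669
theorem D5988 : act 6 n4669 = n5988 := rfl
def n5991 : Q := act 5 n4671
theorem D5991 : act 5 n4671 = n5991 := rfl
theorem F20342 : act 1 n5991 = n4684 := d10_1 D5991 (iv D4684) (iv F16062)
def n5992 : Q := act 6 n4671
theorem D5992 : act 6 n4671 = n5992 := rfl
def n5998 : Q := act 3 n4676
theorem D5998 : act 3 n4676 = n5998 := rfl
theorem F20364 : act 2 n5998 = n4861 := d13_1 D5998 (iv D4861) F13122 (iv F12649) (iv F16077)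
def n5999 : Q := act 5 n4676
theorem D5999 : act 5 n4676 = n5999 := rfl
theorem F20366 : act 2 n5999 = n4678 := d15_1 D5999 (iv D4678) (iv F16077)
def n6002 : Q := act 4 n4679
theorem D6002 : act 4 n4679 = n6002 := rfl
theorem F20374 : act 1 n6002 = n4680 := d9_1 D6002 (iv D4680) D4679
theorem F20375 : act 2 n6002 = n4754 := d14_1 D6002 (iv D4754) (iv F16086)
def n6006 : Q := act 6 n4680
theorem D6006 : act 6 n4680 = n6006 := rfl
theorem F20385 : act 2 n6006 = n4709 := d16_1 D6006 (iv D4709) F12719 (iv F12662) (iv F16089)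
def n6025 : Q := act 4 n4697
theorem D6025 : act 4 n4697 = n6025 := rfl
theorem F20444 : act 1 n6025 = n4698 := d9_1 D6025 (iv D4698) D4697
theorem F20445 : act 2 n6025 = n4768 := d14_1 D6025 (iv D4768) (iv F16140)
def n6027 : Q := act 3 n4698
theorem D6027 : act 3 n4698 = n6027 := rfl
theorem F20451 : act 2 n6027 = n4890 := d13_1 D6027 (iv D4890) F13186 (iv F12705) (iv F16145)
def n6028 : Q := act 5 n4698
theorem D6028 : act 5 n4698 = n6028 := rfl
theorem F20455 : act 2 n6028 = n4700 := d15_1 D6028 (iv D4700) (iv F16145)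
theorem F20456 : act 4 n6028 = n4708 := d22_1 D6028 (iv D4708) (iv D3656) (iv F12701) D4698
def n6036 : Q := act 5 n4705
theorem D6036 : act 5 n4705 = n6036 := rfl
theorem F20477 : act 1 n6036 = n4708 := d10_1 D6036 (iv D4708) (iv F16165)
theorem F20479 : act 7 n6036 = n5193 := d26_2 (iv F16167) D6036 (iv D5193)
def n6037 : Q := act 6 n4705
theorem D6037 : act 6 n4705 = n6037 := rfl
def n6038 : Q := act 2 n4706
theorem D6038 : act 2 n4706 = n6038 := rfl
def n6039 : Q := act 7 n4706
theorem D6039 : act 7 n4706 = n6039 := rfl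
theorem F20485 : act 6 n6039 = n5196 := d27_1 D6039 (iv D5196) (iv D4038) (iv F12717) D4706
def n6040 : Q := act 5 n4707
theorem D6040 : act 5 n4707 = n6040 := rfl
theorem F20487 : act 2 n6040 = n4715 := d15_1 D6040 (iv D4715) (iv F16171)
def n6042 : Q := act 6 n4708
theorem D6042 : act 6 n4708 = n6042 := rfl
theorem F20494 : act 5 n6042 = n4709 := d25_1 D6042 (iv D4709) D4708
def n6049 : Q := act 4 n4715
theorem D6049 : act 4 n4715 = n6049 := rfl
theorem F20512 : act 3 n6049 = n4912 := d18_1 D6049 (iv D4912) F13241 (iv F12742) (iv F16192)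
theorem F20514 : act 7 n6049 = n5206 := d24_2 (iv F16193) D6049 (iv D5206)
def n6054 : Q := act 6 n4719
theorem D6054 : act 6 n4719 = n6054 := rfl
theorem F20532 : act 3 n6054 = n4917 := d20_1 D6054 (iv D4917) (iv F16207)
def n6066 : Q := act 2 n4729
theorem D6066 : act 2 n4729 = n6066 := rfl
theorem F20568 : act 0 n6066 = n4730 := d1_1 D6066 (iv D4730) (iv F16239)
def n6067 : Q := act 4 n4729
theorem D6067 : act 4 n4729 = n6067 := rfl
theorem F20572 : act 0 n6067 = n4731 := d3_1 D6067 (iv D4731) (iv F16239)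
def n6068 : Q := act 4 n4730
theorem D6068 : act 4 n4730 = n6068 := rfl
theorem F20575 : act 1 n6068 = n4931 := d9_1 D6068 (iv D4931) (iv F16242)
theorem F20576 : act 2 n6068 = n4731 := d14_1 D6068 (iv D4731) D4730
def n6070 : Q := act 5 n4731
theorem D6070 : act 5 n4731 = n6070 := rfl
def n6071 : Q := act 1 n4733
theorem D6071 : act 1 n4733 = n6071 := rfl
theorem F20585 : act 0 n6071 = n4746 := d0_1 D6071 (iv D4746) F12819 (iv F12796) (iv F16253)
theorem F20587 : act 5 n6071 = n4738 := d10_2 (iv F16255) D6071 (iv D4738)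
def n6073 : Q := act 6 n4733
theorem D6073 : act 6 n4733 = n6073 := rfl
theorem F20592 : act 0 n6073 = n4736 := d5_1 D6073 (iv D4736) (iv F16253)
theorem F20594 : act 5 n6073 = n4740 := d25_1 D6073 (iv D4740) (iv F16255)
def n6074 : Q := act 5 n4734
theorem D6074 : act 5 n4734 = n6074 := rfl
theorem F20595 : act 0 n6074 = n4737 := d4_1 D6074 (iv D4737) (iv F16257)
theorem F20596 : act 4 n6074 = n4741 := d22_1 D6074 (iv D4741) (iv D3684) (iv F12794) D4734
def n6076 : Q := act 5 n4735
theorem D6076 : act 5 n4735 = n6076 := rfl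
theorem F20601 : act 1 n6076 = n4751 := d10_1 D6076 (iv D4751) (iv F16259)
theorem F20602 : act 2 n6076 = n4737 := d15_1 D6076 (iv D4737) (iv F16260)
def n6078 : Q := act 7 n4736
theorem D6078 : act 7 n4736 = n6078 := rfl
theorem F20609 : act 5 n6078 = n4745 := d26_1 D6078 (iv D4745) (iv F16264)
def n6079 : Q := act 4 n4738
theorem D6079 : act 4 n4738 = n6079 := rfl
theorem F20611 : act 0 n6079 = n4754 := d3_1 D6079 (iv D4754) (iv F16268)
theorem F20612 : act 1 n6079 = n4739 := d9_1 D6079 (iv D4739) D4738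
def n6080 : Q := act 6 n4738
theorem D6080 : act 6 n4738 = n6080 := rfl
theorem F20614 : act 0 n6080 = n4755 := d5_1 D6080 (iv D4755) (iv F16268)
theorem F20615 : act 1 n6080 = n4740 := d11_1 D6080 (iv D4740) D4738
def n6081 : Q := act 3 n4739
theorem D6081 : act 3 n4739 = n6081 := rfl
theorem F20617 : act 0 n6081 = n4742 := d2_1 D6081 (iv D4742) (iv F16271)
theorem F20618 : act 2 n6081 = n6081 := d13_1 D6081 (iv D6081) F16272 F12809 (iv F16272)
theorem F20619 : act 4 n6081 = n6081 := d18_2 D4739 D6081 (iv D6081) (iv D4739) F12806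
theorem F20620 : act 7 n6081 = n6081 := d21_2 F16273 D6081 (iv D6081)
def n6082 : Q := act 5 n4739
theorem D6082 : act 5 n4739 = n6082 := rfl
theorem F20621 : act 0 n6082 = n4743 := d4_1 D6082 (iv D4743) (iv F16271)
theorem F20622 : act 2 n6082 = n4741 := d15_1 D6082 (iv D4741) (iv F16272)
def n6083 : Q := act 6 n4739
theorem D6083 : act 6 n4739 = n6083 := rfl
theorem F20624 : act 0 n6083 = n4744 := d5_1 D6083 (iv D4744) (iv F16271)
theorem F20625 : act 4 n6083 = n4740 := d23_1 D6083 (iv D4740) D4739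
def n6084 : Q := act 7 n4740
theorem D6084 : act 7 n4740 = n6084 := rfl
theorem F20626 : act 0 n6084 = n4745 := d6_1 D6084 (iv D4745) (iv F16274)
theorem F20627 : act 3 n6084 = n6084 := d21_1 D6084 (iv D6084) F16275
theorem F20628 : act 6 n6084 = n6084 := d27_1 D6084 (iv D6084) (iv D4740) F12807 D4740
def n6086 : Q := act 6 n4742
theorem D6086 : act 6 n4742 = n6086 := rfl
theorem F20634 : act 3 n6086 = n4744 := d20_1 D6086 (iv D4744) D4742
def n6088 : Q := act 7 n4744
theorem D6088 : act 7 n4744 = n6088 := rfl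
theorem F20639 : act 4 n6088 = n4745 := d24_1 D6088 (iv D4745) (iv F16287)
def n6089 : Q := act 4 n4746
theorem D6089 : act 4 n4746 = n6089 := rfl
theorem F20641 : act 1 n6089 = n4747 := d9_1 D6089 (iv D4747) D4746
def n6090 : Q := act 6 n4746
theorem D6090 : act 6 n4746 = n6090 := rfl
theorem F20643 : act 1 n6090 = n4748 := d11_1 D6090 (iv D4748) D4746
def n6091 : Q := act 3 n4747
theorem D6091 : act 3 n4747 = n6091 := rfl
theorem F20647 : act 2 n6091 = n4954 := d13_1 D6091 (iv D4954) F13350 (iv F12824) (iv F16295)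
def n6092 : Q := act 5 n4747
theorem D6092 : act 5 n4747 = n6092 := rfl
theorem F20651 : act 2 n6092 = n4749 := d15_1 D6092 (iv D4749) (iv F16295)
theorem F20652 : act 4 n6092 = n4757 := d22_1 D6092 (iv D4757) (iv D3694) (iv F12821) D4747
def n6101 : Q := act 6 n4754
theorem D6101 : act 6 n4754 = n6101 := rfl
theorem F20678 : act 1 n6101 = n4758 := d11_1 D6101 (iv D4758) (iv F16318)
theorem F20679 : act 4 n6101 = n4755 := d23_1 D6101 (iv D4755) D4754
def n6102 : Q := act 2 n4755
theorem D6102 : act 2 n4755 = n6102 := rfl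
theorem F20680 : act 1 n6102 = n4780 := d7_1 D6102 (iv D4780) F12902 (iv F12843) (iv F16320)
def n6104 : Q := act 5 n4756
theorem D6104 : act 5 n4756 = n6104 := rfl
theorem F20685 : act 2 n6104 = n4766 := d15_1 D6104 (iv D4766) (iv F16323)
theorem F20686 : act 3 n6104 = n4757 := d19_1 D6104 (iv D4757) D4756
def n6113 : Q := act 5 n4764
theorem D6113 : act 5 n4764 = n6113 := rfl
theorem F20716 : act 1 n6113 = n4766 := d10_1 D6113 (iv D4766) (iv F16348)
theorem F20717 : act 3 n6113 = n4765 := d19_1 D6113 (iv D4765) D4764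
def n6116 : Q := act 5 n4768
theorem D6116 : act 5 n4768 = n6116 := rfl
theorem F20728 : act 1 n6116 = n4771 := d10_1 D6116 (iv D4771) (iv F16366)
theorem F20730 : act 7 n6116 = n5224 := d26_2 (iv F16367) D6116 (iv D5224)
def n6117 : Q := act 6 n4768
theorem D6117 : act 6 n4768 = n6117 := rfl
def n6118 : Q := act 2 n4769
theorem D6118 : act 2 n4769 = n6118 := rfl
def n6119 : Q := act 7 n4769
theorem D6119 : act 7 n4769 = n6119 := rfl
theorem F20737 : act 6 n6119 = n5227 := d27_1 D6119 (iv D5227) (iv D4062) (iv F12878) D4769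
def n6129 : Q := act 2 n4779
theorem D6129 : act 2 n4779 = n6129 := rfl
def n6138 : Q := act 3 n4787
theorem D6138 : act 3 n4787 = n6138 := rfl
def n6143 : Q := act 7 n4791
theorem D6143 : act 7 n4791 = n6143 := rfl
theorem F20809 : act 2 n6143 = n4792 := d17_1 D6143 (iv D4792) D4791
def n6169 : Q := act 1 n4812
theorem D6169 : act 1 n4812 = n6169 := rfl
theorem F20908 : act 0 n6169 = n4822 := d0_1 D6169 (iv D4822) F13027 (iv F13002) (iv F16516)
theorem F20910 : act 3 n6169 = n4849 := d8_2 (iv F16517) D6169 (iv D4849)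
def n6173 : Q := act 3 n4814
theorem D6173 : act 3 n4814 = n6173 := rfl
theorem F20921 : act 1 n6173 = n4826 := d8_1 D6173 (iv D4826) (iv F16523)
theorem F20923 : act 4 n6173 = n4853 := d18_2 D4814 D6173 (iv D4853) (iv D3771) (iv F13003)
def n6178 : Q := act 4 n4817
theorem D6178 : act 4 n4817 = n6178 := rfl
def n6179 : Q := act 6 n4817
theorem D6179 : act 6 n4817 = n6179 := rfl
theorem F20940 : act 0 n6179 = n4820 := d5_1 D6179 (iv D4820) (iv F16531)
theorem F20943 : act 5 n6179 = n4824 := d25_1 D6179 (iv D4824) (iv F16533)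
def n6181 : Q := act 3 n4819
theorem D6181 : act 3 n4819 = n6181 := rfl
def n6182 : Q := act 5 n4819
theorem D6182 : act 5 n4819 = n6182 := rfl
theorem F20952 : act 4 n6182 = n4827 := d22_1 D6182 (iv D4827) (iv D3751) (iv F13018) D4819
def n6183 : Q := act 6 n4819
theorem D6183 : act 6 n4819 = n6183 := rfl
def n6184 : Q := act 7 n4820
theorem D6184 : act 7 n4820 = n6184 := rfl
theorem F20958 : act 5 n6184 = n4829 := d26_1 D6184 (iv D4829) (iv F16543)
def n6185 : Q := act 4 n4822
theorem D6185 : act 4 n4822 = n6185 := rfl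
theorem F20960 : act 1 n6185 = n4823 := d9_1 D6185 (iv D4823) D4822
def n6187 : Q := act 3 n4823
theorem D6187 : act 3 n4823 = n6187 := rfl
theorem F20966 : act 2 n6187 = n4832 := d13_1 D6187 (iv D4832) F13048 (iv F13032) (iv F16552)
def n6188 : Q := act 5 n4823
theorem D6188 : act 5 n4823 = n6188 := rfl
def n6189 : Q := act 6 n4823
theorem D6189 : act 6 n4823 = n6189 := rfl
theorem F20974 : act 4 n6189 = n4824 := d23_1 D6189 (iv D4824) D4823
def n6191 : Q := act 5 n4826
theorem D6191 : act 5 n4826 = n6191 := rfl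
theorem F20979 : act 2 n6191 = n4836 := d15_1 D6191 (iv D4836) (iv F16562)
theorem F20980 : act 3 n6191 = n4827 := d19_1 D6191 (iv D4827) D4826
def n6192 : Q := act 6 n4826
theorem D6192 : act 6 n4826 = n6192 := rfl
theorem F20982 : act 3 n6192 = n4828 := d20_1 D6192 (iv D4828) D4826
def n6193 : Q := act 6 n4827
theorem D6193 : act 6 n4827 = n6193 := rfl
def n6194 : Q := act 7 n4828
theorem D6194 : act 7 n4828 = n6194 := rfl
theorem F20987 : act 4 n6194 = n4829 := d24_1 D6194 (iv D4829) (iv F16568)
def n6195 : Q := act 3 n4830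
theorem D6195 : act 3 n4830 = n6195 := rfl
theorem F20990 : act 1 n6195 = n4832 := d8_1 D6195 (iv D4832) (iv F16573)
theorem F20991 : act 4 n6195 = n4875 := d18_2 D4830 D6195 (iv D4875) (iv D3787) (iv F13045)
def n6197 : Q := act 6 n4830
theorem D6197 : act 6 n4830 = n6197 := rfl
theorem F20999 : act 4 n6197 = n4831 := d23_1 D6197 (iv D4831) D4830
def n6199 : Q := act 7 n4831
theorem D6199 : act 7 n4831 = n6199 := rfl
def n6200 : Q := act 5 n4832
theorem D6200 : act 5 n4832 = n6200 := rfl
def n6201 : Q := act 6 n4832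
theorem D6201 : act 6 n4832 = n6201 := rfl
theorem F21011 : act 0 n6201 = n4837 := d5_1 D6201 (iv D4837) (iv F16579)
theorem F21012 : act 3 n6201 = n4834 := d20_1 D6201 (iv D4834) D4832
def n6202 : Q := act 6 n4833
theorem D6202 : act 6 n4833 = n6202 := rfl
theorem F21016 : act 5 n6202 = n4834 := d25_1 D6202 (iv D4834) D4833
def n6203 : Q := act 7 n4834
theorem D6203 : act 7 n4834 = n6203 := rfl
theorem F21019 : act 4 n6203 = n4835 := d24_1 D6203 (iv D4835) (iv F16587)
def n6204 : Q := act 4 n4836
theorem D6204 : act 4 n4836 = n6204 := rfl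
def n6205 : Q := act 6 n4836
theorem D6205 : act 6 n4836 = n6205 := rfl
theorem F21025 : act 3 n6205 = n4838 := d20_1 D6205 (iv D4838) (iv F16593)
theorem F21026 : act 5 n6205 = n4837 := d25_1 D6205 (iv D4837) D4836
def n6206 : Q := act 2 n4837
theorem D6206 : act 2 n4837 = n6206 := rfl
def n6207 : Q := act 7 n4837
theorem D6207 : act 7 n4837 = n6207 := rfl
theorem F21030 : act 3 n6207 = n4839 := d21_1 D6207 (iv D4839) (iv F16596)
def n6208 : Q := act 7 n4838
theorem D6208 : act 7 n4838 = n6208 := rfl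
def n6211 : Q := act 4 n4841
theorem D6211 : act 4 n4841 = n6211 := rfl
theorem F21045 : act 2 n6211 = n4842 := d14_1 D6211 (iv D4842) D4841
def n6213 : Q := act 5 n4842
theorem D6213 : act 5 n4842 = n6213 := rfl
theorem F21050 : act 3 n6213 = n4848 := d19_1 D6213 (iv D4848) (iv F16613)
def n6217 : Q := act 5 n4845
theorem D6217 : act 5 n4845 = n6217 := rfl
theorem F21064 : act 0 n6217 = n4848 := d4_1 D6217 (iv D4848) (iv F16624)
theorem F21065 : act 1 n6217 = n4937 := d10_1 D6217 (iv D4937) (iv F16625)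
def n6222 : Q := act 4 n4849
theorem D6222 : act 4 n4849 = n6222 := rfl
theorem F21082 : act 0 n6222 = n4865 := d3_1 D6222 (iv D4865) (iv F16638)
theorem F21083 : act 1 n6222 = n4850 := d9_1 D6222 (iv D4850) D4849
theorem F21084 : act 2 n6222 = n4942 := d14_1 D6222 (iv D4942) (iv F16639)
def n6223 : Q := act 6 n4849
theorem D6223 : act 6 n4849 = n6223 := rfl
def n6224 : Q := act 3 n4850
theorem D6224 : act 3 n4850 = n6224 := rfl
theorem F21088 : act 0 n6224 = n4853 := d2_1 D6224 (iv D4853) (iv F16641)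
def n6225 : Q := act 5 n4850
theorem D6225 : act 5 n4850 = n6225 := rfl
theorem F21091 : act 0 n6225 = n4854 := d4_1 D6225 (iv D4854) (iv F16641)
def n6226 : Q := act 6 n4850
theorem D6226 : act 6 n4850 = n6226 := rfl
theorem F21094 : act 0 n6226 = n4855 := d5_1 D6226 (iv D4855) (iv F16641)
def n6228 : Q := act 5 n4853
theorem D6228 : act 5 n4853 = n6228 := rfl
theorem F21100 : act 1 n6228 = n4871 := d10_1 D6228 (iv D4871) (iv F16651)
theorem F21102 : act 3 n6228 = n4854 := d19_1 D6228 (iv D4854) D4853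
def n6229 : Q := act 6 n4853
theorem D6229 : act 6 n4853 = n6229 := rfl
theorem F21104 : act 1 n6229 = n4872 := d11_1 D6229 (iv D4872) (iv F16651)
theorem F21105 : act 3 n6229 = n4855 := d20_1 D6229 (iv D4855) D4853
def n6230 : Q := act 6 n4854
theorem D6230 : act 6 n4854 = n6230 := rfl
def n6232 : Q := act 4 n4857
theorem D6232 : act 4 n4857 = n6232 := rfl
theorem F21113 : act 1 n6232 = n4858 := d9_1 D6232 (iv D4858) D4857
theorem F21114 : act 2 n6232 = n4952 := d14_1 D6232 (iv D4952) (iv F16663)
def n6234 : Q := act 3 n4858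
theorem D6234 : act 3 n4858 = n6234 := rfl
theorem F21118 : act 0 n6234 = n4861 := d2_1 D6234 (iv D4861) (iv F16666)
def n6236 : Q := act 6 n4858
theorem D6236 : act 6 n4858 = n6236 := rfl
theorem F21124 : act 0 n6236 = n4863 := d5_1 D6236 (iv D4863) (iv F16666)
def n6238 : Q := act 5 n4861
theorem D6238 : act 5 n4861 = n6238 := rfl
theorem F21131 : act 3 n6238 = n4862 := d19_1 D6238 (iv D4862) D4861
def n6239 : Q := act 6 n4861
theorem D6239 : act 6 n4861 = n6239 := rfl
theorem F21133 : act 3 n6239 = n4863 := d20_1 D6239 (iv D4863) D4861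
def n6240 : Q := act 6 n4862
theorem D6240 : act 6 n4862 = n6240 := rfl
theorem F21134 : act 2 n6240 = n4896 := d16_1 D6240 (iv D4896) F13199 (iv F13128) (iv F16678)
def n6241 : Q := act 7 n4863
theorem D6241 : act 7 n4863 = n6241 := rfl
def n6242 : Q := act 3 n4865
theorem D6242 : act 3 n4865 = n6242 := rfl
theorem F21140 : act 1 n6242 = n4867 := d8_1 D6242 (iv D4867) (iv F16686)
def n6243 : Q := act 5 n4865
theorem D6243 : act 5 n4865 = n6243 := rfl
theorem F21143 : act 2 n6243 = n4963 := d15_1 D6243 (iv D4963) (iv F16687)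
def n6244 : Q := act 6 n4865
theorem D6244 : act 6 n4865 = n6244 := rfl
def n6245 : Q := act 2 n4866
theorem D6245 : act 2 n4866 = n6245 := rfl
theorem F21148 : act 6 n6245 = n4965 := d16_2 D4866 D6245 (iv D4965) (iv D3855) (iv F13130)
def n6247 : Q := act 5 n4867
theorem D6247 : act 5 n4867 = n6247 := rfl
theorem F21152 : act 2 n6247 = n4879 := d15_1 D6247 (iv D4879) (iv F16691)
def n6248 : Q := act 6 n4867
theorem D6248 : act 6 n4867 = n6248 := rfl
def n6251 : Q := act 4 n4871
theorem D6251 : act 4 n4871 = n6251 := rfl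
theorem F21164 : act 2 n6251 = n4883 := d14_1 D6251 (iv D4883) (iv F16702)
def n6252 : Q := act 6 n4871
theorem D6252 : act 6 n4871 = n6252 := rfl
theorem F21166 : act 3 n6252 = n4873 := d20_1 D6252 (iv D4873) (iv F16703)
def n6253 : Q := act 2 n4872
theorem D6253 : act 2 n4872 = n6253 := rfl
theorem F21169 : act 6 n6253 = n4885 := d16_2 D4872 D6253 (iv D4885) (iv D3794) (iv F13142)
def n6256 : Q := act 2 n4875
theorem D6256 : act 2 n4875 = n6256 := rfl
theorem F21176 : act 3 n6256 = n4975 := d13_2 D4875 D6256 (iv D4975) (iv D3864) (iv F13152)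
def n6257 : Q := act 5 n4875
theorem D6257 : act 5 n4875 = n6257 := rfl
theorem F21179 : act 1 n6257 = n4879 := d10_1 D6257 (iv D4879) (iv F16712)
def n6258 : Q := act 6 n4875
theorem D6258 : act 6 n4875 = n6258 := rfl
theorem F21183 : act 1 n6258 = n4880 := d11_1 D6258 (iv D4880) (iv F16712)
def n6262 : Q := act 6 n4879
theorem D6262 : act 6 n4879 = n6262 := rfl
theorem F21196 : act 0 n6262 = n4884 := d5_1 D6262 (iv D4884) (iv F16726)
theorem F21198 : act 5 n6262 = n4880 := d25_1 D6262 (iv D4880) D4879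
def n6263 : Q := act 2 n4880
theorem D6263 : act 2 n4880 = n6263 := rfl
theorem F21199 : act 0 n6263 = n4885 := d1_1 D6263 (iv D4885) (iv F16729)
theorem F21200 : act 3 n6263 = n4914 := d13_2 (iv F16730) D6263 (iv D4914) F13245 (iv F13163)
def n6264 : Q := act 7 n4880
theorem D6264 : act 7 n4880 = n6264 := rfl
theorem F21201 : act 0 n6264 = n4886 := d6_1 D6264 (iv D4886) (iv F16729)
def n6266 : Q := act 6 n4883
theorem D6266 : act 6 n4883 = n6266 := rfl
theorem F21209 : act 4 n6266 = n4884 := d23_1 D6266 (iv D4884) D4883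
def n6267 : Q := act 2 n4884
theorem D6267 : act 2 n4884 = n6267 := rfl
theorem F21211 : act 5 n6267 = n4885 := d15_2 (iv F16742) D6267 (iv D4885)
def n6268 : Q := act 7 n4884
theorem D6268 : act 7 n4884 = n6268 := rfl
theorem F21214 : act 5 n6268 = n4886 := d26_1 D6268 (iv D4886) (iv F16742)
def n6269 : Q := act 1 n4885
theorem D6269 : act 1 n4885 = n6269 := rfl
theorem F21217 : act 3 n6269 = n4920 := d8_2 (iv F16743) D6269 (iv D4920)
def n6270 : Q := act 7 n4885
theorem D6270 : act 7 n4885 = n6270 := rfl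
theorem F21219 : act 3 n6270 = n4921 := d21_1 D6270 (iv D4921) (iv F16743)
def n6273 : Q := act 6 n4888
theorem D6273 : act 6 n4888 = n6273 := rfl
theorem F21231 : act 4 n6273 = n4889 := d23_1 D6273 (iv D4889) D4888
def n6274 : Q := act 2 n4889
theorem D6274 : act 2 n4889 = n6274 := rfl
theorem F21234 : act 6 n6274 = n4981 := d16_2 D4889 D6274 (iv D4981) (iv D3869) (iv F13181)
def n6275 : Q := act 7 n4889
theorem D6275 : act 7 n4889 = n6275 := rfl
def n6276 : Q := act 5 n4890
theorem D6276 : act 5 n4890 = n6276 := rfl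
theorem F21241 : act 3 n6276 = n4891 := d19_1 D6276 (iv D4891) D4890
def n6280 : Q := act 4 n4894
theorem D6280 : act 4 n4894 = n6280 := rfl
theorem F21253 : act 3 n6280 = n4907 := d18_1 D6280 (iv D4907) F13229 (iv F13200) (iv F16773)
def n6281 : Q := act 6 n4894
theorem D6281 : act 6 n4894 = n6281 := rfl
theorem F21257 : act 3 n6281 = n4896 := d20_1 D6281 (iv D4896) (iv F16773)
def n6285 : Q := act 5 n4898
theorem D6285 : act 5 n4898 = n6285 := rfl
theorem F21269 : act 1 n6285 = n4903 := d10_1 D6285 (iv D4903) (iv F16785)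
theorem F21271 : act 3 n6285 = n4899 := d19_1 D6285 (iv D4899) D4898
def n6286 : Q := act 6 n4898
theorem D6286 : act 6 n4898 = n6286 := rfl
theorem F21274 : act 1 n6286 = n4904 := d11_1 D6286 (iv D4904) (iv F16785)
theorem F21275 : act 3 n6286 = n4900 := d20_1 D6286 (iv D4900) D4898
def n6287 : Q := act 6 n4899
theorem D6287 : act 6 n4899 = n6287 := rfl
def n6288 : Q := act 2 n4900
theorem D6288 : act 2 n4900 = n6288 := rfl
theorem F21282 : act 6 n6288 = n4992 := d16_2 D4900 D6288 (iv D4992) (iv D3879) (iv F13210)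
def n6291 : Q := act 7 n4901
theorem D6291 : act 7 n4901 = n6291 := rfl
theorem F21291 : act 2 n6291 = n4902 := d17_1 D6291 (iv D4902) D4901
def n6292 : Q := act 4 n4903
theorem D6292 : act 4 n4903 = n6292 := rfl
def n6293 : Q := act 6 n4903
theorem D6293 : act 6 n4903 = n6293 := rfl
def n6294 : Q := act 2 n4904
theorem D6294 : act 2 n4904 = n6294 := rfl
theorem F21301 : act 6 n6294 = n4914 := d16_2 D4904 D6294 (iv D4914) (iv D3816) (iv F13216)
def n6297 : Q := act 6 n4907
theorem D6297 : act 6 n4907 = n6297 := rfl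
theorem F21310 : act 4 n6297 = n4908 := d23_1 D6297 (iv D4908) D4907
def n6298 : Q := act 2 n4908
theorem D6298 : act 2 n4908 = n6298 := rfl
theorem F21313 : act 6 n6298 = n4918 := d16_2 D4908 D6298 (iv D4918) (iv D3820) (iv F13228)
def n6299 : Q := act 7 n4908
theorem D6299 : act 7 n4908 = n6299 := rfl
theorem F21317 : act 6 n6299 = n5283 := d27_1 D6299 (iv D5283) (iv D4108) (iv F13230) D4908
def n6302 : Q := act 6 n4912
theorem D6302 : act 6 n4912 = n6302 := rfl
theorem F21325 : act 4 n6302 = n4913 := d23_1 D6302 (iv D4913) D4912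
def n6303 : Q := act 2 n4913
theorem D6303 : act 2 n4913 = n6303 := rfl
theorem F21328 : act 5 n6303 = n4914 := d15_2 (iv F16837) D6303 (iv D4914)
def n6304 : Q := act 7 n4913
theorem D6304 : act 7 n4913 = n6304 := rfl
theorem F21332 : act 5 n6304 = n4915 := d26_1 D6304 (iv D4915) (iv F16837)
theorem F21333 : act 6 n6304 = n5288 := d27_1 D6304 (iv D5288) (iv D4113) (iv F13242) D4913
def n6305 : Q := act 1 n4914
theorem D6305 : act 1 n4914 = n6305 := rfl
def n6306 : Q := act 7 n4914
theorem D6306 : act 7 n4914 = n6306 := rfl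
theorem F21337 : act 2 n6306 = n4915 := d17_1 D6306 (iv D4915) D4914
def n6307 : Q := act 2 n4917
theorem D6307 : act 2 n4917 = n6307 := rfl
theorem F21339 : act 4 n6307 = n4918 := d14_2 (iv F16850) D6307 (iv D4918)
def n6308 : Q := act 7 n4917
theorem D6308 : act 7 n4917 = n6308 := rfl
theorem F21342 : act 4 n6308 = n4919 := d24_1 D6308 (iv D4919) (iv F16850)
theorem F21344 : act 6 n6308 = n5292 := d27_1 D6308 (iv D5292) (iv D4117) (iv F13256) D4917
def n6309 : Q := act 1 n4918
theorem D6309 : act 1 n4918 = n6309 := rfl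
theorem F21345 : act 2 n6309 = n4924 := d7_2 D4918 D6309 (iv D4924) (iv D3825) (iv F13257)
theorem F21346 : act 5 n6309 = n4920 := d10_2 (iv F16852) D6309 (iv D4920)
def n6310 : Q := act 7 n4918
theorem D6310 : act 7 n4918 = n6310 := rfl
theorem F21347 : act 2 n6310 = n4919 := d17_1 D6310 (iv D4919) D4918
theorem F21348 : act 5 n6310 = n4921 := d26_1 D6310 (iv D4921) (iv F16852)
def n6311 : Q := act 0 n4920
theorem D6311 : act 0 n4920 = n6311 := rfl
theorem F21349 : act 2 n6311 = n4926 := d1_2 (iv F16857) D6311 (iv D4926)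
def n6312 : Q := act 7 n4920
theorem D6312 : act 7 n4920 = n6312 := rfl
theorem F21351 : act 1 n6312 = n4921 := d12_1 D6312 (iv D4921) D4920
theorem F21352 : act 2 n6312 = n4927 := d17_1 D6312 (iv D4927) (iv F16857)
def n6313 : Q := act 6 n4921
theorem D6313 : act 6 n4921 = n6313 := rfl
theorem F21354 : act 2 n6313 = n5297 := d16_1 D6313 (iv D5297) F14189 (iv F13264) (iv F16859)
def n6314 : Q := act 1 n4922
theorem D6314 : act 1 n4922 = n6314 := rfl
theorem F21356 : act 4 n6314 = n4924 := d9_2 (iv F16862) D6314 (iv D4924)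
def n6316 : Q := act 7 n4922
theorem D6316 : act 7 n4922 = n6316 := rfl
theorem F21364 : act 2 n6316 = n4923 := d17_1 D6316 (iv D4923) D4922
theorem F21365 : act 4 n6316 = n4925 := d24_1 D6316 (iv D4925) (iv F16862)
def n6317 : Q := act 0 n4924
theorem D6317 : act 0 n4924 = n6317 := rfl
theorem F21369 : act 5 n6317 = n4926 := d4_2 (iv F16870) D6317 (iv D4926)
def n6318 : Q := act 7 n4924
theorem D6318 : act 7 n4924 = n6318 := rfl
theorem F21373 : act 5 n6318 = n4927 := d26_1 D6318 (iv D4927) (iv F16870)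
def n6320 : Q := act 7 n4926
theorem D6320 : act 7 n4926 = n6320 := rfl
theorem F21379 : act 0 n6320 = n4927 := d6_1 D6320 (iv D4927) D4926
def n6321 : Q := act 6 n4927
theorem D6321 : act 6 n4927 = n6321 := rfl
def n6322 : Q := act 1 n4929
theorem D6322 : act 1 n4929 = n6322 := rfl
def n6323 : Q := act 4 n4929
theorem D6323 : act 4 n4929 = n6323 := rfl
theorem F21391 : act 2 n6323 = n4930 := d14_1 D6323 (iv D4930) D4929
def n6326 : Q := act 3 n4931
theorem D6326 : act 3 n4931 = n6326 := rfl
theorem F21402 : act 2 n6326 = n4938 := d13_1 D6326 (iv D4938) F13309 (iv F13294) (iv F16896)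
def n6332 : Q := act 3 n4935
theorem D6332 : act 3 n4935 = n6332 := rfl
def n6333 : Q := act 5 n4935
theorem D6333 : act 5 n4935 = n6333 := rfl
theorem F21425 : act 2 n6333 = n4937 := d15_1 D6333 (iv D4937) (iv F16911)
theorem F21426 : act 4 n6333 = n4945 := d22_1 D6333 (iv D4945) (iv D3839) (iv F13303) D4935
def n6334 : Q := act 6 n4935
theorem D6334 : act 6 n4935 = n6334 := rfl
theorem F21430 : act 4 n6334 = n4936 := d23_1 D6334 (iv D4936) D4935
def n6335 : Q := act 7 n4936
theorem D6335 : act 7 n4936 = n6335 := rfl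
theorem F21434 : act 5 n6335 = n4947 := d26_1 D6335 (iv D4947) (iv F16916)
def n6336 : Q := act 5 n4938
theorem D6336 : act 5 n4938 = n6336 := rfl
theorem F21437 : act 3 n6336 = n4939 := d19_1 D6336 (iv D4939) D4938
def n6337 : Q := act 6 n4938
theorem D6337 : act 6 n4938 = n6337 := rfl
theorem F21440 : act 3 n6337 = n4940 := d20_1 D6337 (iv D4940) D4938
def n6338 : Q := act 6 n4939
theorem D6338 : act 6 n4939 = n6338 := rfl
theorem F21444 : act 4 n6338 = n4950 := d23_1 D6338 (iv D4950) (iv F16926)
def n6339 : Q := act 7 n4940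
theorem D6339 : act 7 n4940 = n6339 := rfl
theorem F21448 : act 4 n6339 = n4941 := d24_1 D6339 (iv D4941) (iv F16930)
def n6340 : Q := act 3 n4942
theorem D6340 : act 3 n4942 = n6340 := rfl
theorem F21450 : act 0 n6340 = n4962 := d2_1 D6340 (iv D4962) (iv F16936)
theorem F21451 : act 1 n6340 = n4944 := d8_1 D6340 (iv D4944) (iv F16937)
theorem F21452 : act 4 n6340 = n6340 := d18_2 D4942 D6340 (iv D6340) (iv D4942) F13320
def n6341 : Q := act 5 n4942
theorem D6341 : act 5 n4942 = n6341 := rfl
def n6342 : Q := act 6 n4942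
theorem D6342 : act 6 n4942 = n6342 := rfl
theorem F21457 : act 0 n6342 = n4964 := d5_1 D6342 (iv D4964) (iv F16936)
theorem F21459 : act 4 n6342 = n4943 := d23_1 D6342 (iv D4943) D4942
def n6343 : Q := act 2 n4943
theorem D6343 : act 2 n4943 = n6343 := rfl
def n6346 : Q := act 6 n4944
theorem D6346 : act 6 n4944 = n6346 := rfl
theorem F21470 : act 0 n6346 = n4949 := d5_1 D6346 (iv D4949) (iv F16942)
theorem F21471 : act 3 n6346 = n4946 := d20_1 D6346 (iv D4946) D4944
def n6347 : Q := act 6 n4945
theorem D6347 : act 6 n4945 = n6347 := rfl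
theorem F21475 : act 5 n6347 = n4946 := d25_1 D6347 (iv D4946) D4945
def n6348 : Q := act 7 n4946
theorem D6348 : act 7 n4946 = n6348 := rfl
theorem F21478 : act 4 n6348 = n4947 := d24_1 D6348 (iv D4947) (iv F16951)
def n6350 : Q := act 6 n4948
theorem D6350 : act 6 n4948 = n6350 := rfl
theorem F21484 : act 1 n6350 = n4972 := d11_1 D6350 (iv D4972) (iv F16956)
theorem F21485 : act 3 n6350 = n4950 := d20_1 D6350 (iv D4950) (iv F16958)
def n6351 : Q := act 2 n4949
theorem D6351 : act 2 n4949 = n6351 := rfl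
theorem F21488 : act 3 n6351 = n6351 := d13_2 (iv F16961) D6351 (iv D6351) F16961 F13340
theorem F21489 : act 4 n6351 = n6351 := d14_2 F16962 D6351 (iv D6351)
def n6352 : Q := act 7 n4949
theorem D6352 : act 7 n4949 = n6352 := rfl
theorem F21491 : act 1 n6352 = n4973 := d12_1 D6352 (iv D4973) (iv F16960)
theorem F21492 : act 3 n6352 = n4951 := d21_1 D6352 (iv D4951) (iv F16961)
theorem F21493 : act 4 n6352 = n6352 := d24_1 D6352 (iv D6352) F16962
theorem F21494 : act 6 n6352 = n6352 := d27_1 D6352 (iv D6352) (iv D4949) F13335 D4949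
def n6353 : Q := act 7 n4950
theorem D6353 : act 7 n4950 = n6353 := rfl
theorem F21497 : act 5 n6353 = n4951 := d26_1 D6353 (iv D4951) (iv F16965)
def n6354 : Q := act 3 n4952
theorem D6354 : act 3 n4952 = n6354 := rfl
theorem F21499 : act 1 n6354 = n4954 := d8_1 D6354 (iv D4954) (iv F16970)
def n6356 : Q := act 6 n4952
theorem D6356 : act 6 n4952 = n6356 := rfl
theorem F21506 : act 4 n6356 = n4953 := d23_1 D6356 (iv D4953) D4952
def n6357 : Q := act 2 n4953
theorem D6357 : act 2 n4953 = n6357 := rfl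
theorem F21508 : act 5 n6357 = n4965 := d15_2 (iv F16974) D6357 (iv D4965)
def n6358 : Q := act 7 n4953
theorem D6358 : act 7 n4953 = n6358 := rfl
theorem F21511 : act 5 n6358 = n4966 := d26_1 D6358 (iv D4966) (iv F16974)
def n6359 : Q := act 5 n4954
theorem D6359 : act 5 n4954 = n6359 := rfl
theorem F21514 : act 3 n6359 = n4955 := d19_1 D6359 (iv D4955) D4954
def n6360 : Q := act 6 n4954
theorem D6360 : act 6 n4954 = n6360 := rfl
theorem F21517 : act 3 n6360 = n4956 := d20_1 D6360 (iv D4956) D4954
def n6362 : Q := act 7 n4956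
theorem D6362 : act 7 n4956 = n6362 := rfl
theorem F21525 : act 4 n6362 = n4957 := d24_1 D6362 (iv D4957) (iv F16984)
def n6368 : Q := act 2 n4962
theorem D6368 : act 2 n4962 = n6368 := rfl
theorem F21541 : act 1 n6368 = n4975 := d7_1 D6368 (iv D4975) F13401 (iv F13376) (iv F17000)
def n6369 : Q := act 5 n4962
theorem D6369 : act 5 n4962 = n6369 := rfl
def n6370 : Q := act 6 n4962
theorem D6370 : act 6 n4962 = n6370 := rfl
theorem F21547 : act 1 n6370 = n4968 := d11_1 D6370 (iv D4968) (iv F17000)
theorem F21548 : act 3 n6370 = n4964 := d20_1 D6370 (iv D4964) D4962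
def n6371 : Q := act 6 n4963
theorem D6371 : act 6 n4963 = n6371 := rfl
theorem F21551 : act 5 n6371 = n4964 := d25_1 D6371 (iv D4964) D4963
def n6372 : Q := act 2 n4964
theorem D6372 : act 2 n4964 = n6372 := rfl
theorem F21552 : act 1 n6372 = n4992 := d7_1 D6372 (iv D4992) F13455 (iv F13383) (iv F17005)
theorem F21553 : act 4 n6372 = n4965 := d14_2 (iv F17006) D6372 (iv D4965)
def n6373 : Q := act 7 n4964
theorem D6373 : act 7 n4964 = n6373 := rfl
theorem F21554 : act 1 n6373 = n4970 := d12_1 D6373 (iv D4970) (iv F17005)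
theorem F21555 : act 4 n6373 = n4966 := d24_1 D6373 (iv D4966) (iv F17006)
def n6375 : Q := act 7 n4965
theorem D6375 : act 7 n4965 = n6375 := rfl
def n6376 : Q := act 4 n4967
theorem D6376 : act 4 n4967 = n6376 := rfl
theorem F21562 : act 2 n6376 = n4977 := d14_1 D6376 (iv D4977) (iv F17012)
def n6377 : Q := act 6 n4967
theorem D6377 : act 6 n4967 = n6377 := rfl
theorem F21565 : act 0 n6377 = n4972 := d5_1 D6377 (iv D4972) (iv F17011)
theorem F21567 : act 3 n6377 = n4969 := d20_1 D6377 (iv D4969) (iv F17013)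
theorem F21568 : act 5 n6377 = n4968 := d25_1 D6377 (iv D4968) D4967
def n6378 : Q := act 7 n4968
theorem D6378 : act 7 n4968 = n6378 := rfl
theorem F21569 : act 0 n6378 = n4973 := d6_1 D6378 (iv D4973) (iv F17015)
theorem F21571 : act 3 n6378 = n4970 := d21_1 D6378 (iv D4970) (iv F17017)
def n6379 : Q := act 7 n4969
theorem D6379 : act 7 n4969 = n6379 := rfl
theorem F21576 : act 5 n6379 = n4970 := d26_1 D6379 (iv D4970) (iv F17021)
def n6382 : Q := act 5 n4975
theorem D6382 : act 5 n4975 = n6382 := rfl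
def n6383 : Q := act 6 n4975
theorem D6383 : act 6 n4975 = n6383 := rfl
def n6384 : Q := act 4 n4976
theorem D6384 : act 4 n4976 = n6384 := rfl
def n6389 : Q := act 2 n4980
theorem D6389 : act 2 n4980 = n6389 := rfl
theorem F21613 : act 4 n6389 = n4981 := d14_2 (iv F17061) D6389 (iv D4981)
def n6390 : Q := act 7 n4980
theorem D6390 : act 7 n4980 = n6390 := rfl
theorem F21616 : act 4 n6390 = n4982 := d24_1 D6390 (iv D4982) (iv F17061)
theorem F21617 : act 6 n6390 = n5311 := d27_1 D6390 (iv D5311) (iv D4131) (iv F13419) D4980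
def n6391 : Q := act 3 n4981
theorem D6391 : act 3 n4981 = n6391 := rfl
theorem F21619 : act 2 n6391 = n5001 := d13_1 D6391 (iv D5001) (iv D3887) (iv F13422) D4981
theorem F21620 : act 5 n6391 = n4994 := d19_2 (iv F17063) D6391 (iv D4994)
def n6392 : Q := act 7 n4981
theorem D6392 : act 7 n4981 = n6392 := rfl
theorem F21623 : act 5 n6392 = n4995 := d26_1 D6392 (iv D4995) (iv F17063)
def n6395 : Q := act 7 n4984
theorem D6395 : act 7 n4984 = n6395 := rfl
theorem F21631 : act 3 n6395 = n4986 := d21_1 D6395 (iv D4986) (iv F17074)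
def n6396 : Q := act 7 n4985
theorem D6396 : act 7 n4985 = n6396 := rfl
theorem F21635 : act 4 n6396 = n4996 := d24_1 D6396 (iv D4996) (iv F17077)
def n6401 : Q := act 2 n4991
theorem D6401 : act 2 n4991 = n6401 := rfl
theorem F21650 : act 5 n6401 = n4992 := d15_2 (iv F17098) D6401 (iv D4992)
def n6402 : Q := act 7 n4991
theorem D6402 : act 7 n4991 = n6402 := rfl
theorem F21654 : act 5 n6402 = n4993 := d26_1 D6402 (iv D4993) (iv F17098)
theorem F21655 : act 6 n6402 = n5323 := d27_1 D6402 (iv D5323) (iv D4142) (iv F13453) D4991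
def n6403 : Q := act 3 n4992
theorem D6403 : act 3 n4992 = n6403 := rfl
def n6404 : Q := act 7 n4992
theorem D6404 : act 7 n4992 = n6404 := rfl
theorem F21660 : act 4 n6404 = n4995 := d24_1 D6404 (iv D4995) (iv F17100)
def n6406 : Q := act 7 n4994
theorem D6406 : act 7 n4994 = n6406 := rfl
theorem F21664 : act 2 n6406 = n5008 := d17_1 D6406 (iv D5008) (iv F17107)
theorem F21665 : act 3 n6406 = n4995 := d21_1 D6406 (iv D4995) D4994
def n6407 : Q := act 6 n4995
theorem D6407 : act 6 n4995 = n6407 := rfl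
theorem F21667 : act 2 n6407 = n5328 := d16_1 D6407 (iv D5328) F14275 (iv F13462) (iv F17109)
def n6412 : Q := act 7 n4999
theorem D6412 : act 7 n4999 = n6412 := rfl
theorem F21684 : act 2 n6412 = n5000 := d17_1 D6412 (iv D5000) D4999
theorem F21685 : act 4 n6412 = n5002 := d24_1 D6412 (iv D5002) (iv F17124)
def n6413 : Q := act 4 n5001
theorem D6413 : act 4 n5001 = n6413 := rfl
def n6414 : Q := act 7 n5001
theorem D6414 : act 7 n5001 = n6414 := rfl
theorem F21693 : act 5 n6414 = n5008 := d26_1 D6414 (iv D5008) (iv F17134)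
def n6415 : Q := act 6 n5002
theorem D6415 : act 6 n5002 = n6415 := rfl
theorem F21696 : act 2 n6415 = n5336 := d16_1 D6415 (iv D5336) F14302 (iv F13489) (iv F17138)
def n6423 : Q := act 6 n5008
theorem D6423 : act 6 n5008 = n6423 := rfl
def n6424 : Q := act 2 n5010
theorem D6424 : act 2 n5010 = n6424 := rfl
theorem F21727 : act 0 n6424 = n5011 := d1_1 D6424 (iv D5011) (iv F17165)
theorem F21728 : act 3 n6424 = n5044 := d13_2 D5010 D6424 (iv D5044) (iv D3920) (iv F13512)
theorem F21729 : act 5 n6424 = n5018 := d15_2 (iv F17167) D6424 (iv D5018)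
def n6425 : Q := act 4 n5010
theorem D6425 : act 4 n5010 = n6425 := rfl
theorem F21730 : act 0 n6425 = n5012 := d3_1 D6425 (iv D5012) (iv F17165)
theorem F21731 : act 1 n6425 = n6425 := d9_1 D6425 (iv D6425) F17166
theorem F21732 : act 3 n6425 = n6425 := d18_1 D6425 (iv D6425) (iv D5010) F13513 D5010
theorem F21733 : act 6 n6425 = n6425 := d23_2 F17168 D6425 (iv D6425)
def n6426 : Q := act 4 n5011
theorem D6426 : act 4 n5011 = n6426 := rfl
theorem F21734 : act 1 n6426 = n6426 := d9_1 D6426 (iv D6426) F17169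
theorem F21735 : act 2 n6426 = n5012 := d14_1 D6426 (iv D5012) D5011
def n6427 : Q := act 6 n5011
theorem D6427 : act 6 n5011 = n6427 := rfl
theorem F21736 : act 1 n6427 = n6427 := d11_1 D6427 (iv D6427) F17169
theorem F21737 : act 2 n6427 = n6427 := d16_1 D6427 (iv D6427) (iv D5011) F13518 D5011
theorem F21738 : act 3 n6427 = n5047 := d20_1 D6427 (iv D5047) (iv F17170)
theorem F21739 : act 5 n6427 = n5021 := d25_1 D6427 (iv D5021) (iv F17171)
def n6428 : Q := act 5 n5012
theorem D6428 : act 5 n5012 = n6428 := rfl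
def n6429 : Q := act 2 n5014
theorem D6429 : act 2 n5014 = n6429 := rfl
theorem F21744 : act 0 n6429 = n5015 := d1_1 D6429 (iv D5015) (iv F17180)
theorem F21745 : act 3 n6429 = n5049 := d13_2 D5014 D6429 (iv D5049) (iv D3924) (iv F13524)
theorem F21746 : act 7 n6429 = n5018 := d17_2 (iv F17182) D6429 (iv D5018)
def n6430 : Q := act 4 n5014
theorem D6430 : act 4 n5014 = n6430 := rfl
theorem F21750 : act 7 n6430 = n5019 := d24_2 (iv F17182) D6430 (iv D5019)
def n6431 : Q := act 4 n5015
theorem D6431 : act 4 n5015 = n6431 := rfl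
theorem F21752 : act 2 n6431 = n5016 := d14_1 D6431 (iv D5016) D5015
theorem F21753 : act 7 n6431 = n5020 := d24_2 (iv F17185) D6431 (iv D5020)
def n6432 : Q := act 6 n5015
theorem D6432 : act 6 n5015 = n6432 := rfl
theorem F21754 : act 1 n6432 = n6432 := d11_1 D6432 (iv D6432) F17183
theorem F21755 : act 3 n6432 = n5052 := d20_1 D6432 (iv D5052) (iv F17184)
def n6434 : Q := act 1 n5018
theorem D6434 : act 1 n5018 = n6434 := rfl
theorem F21759 : act 0 n6434 = n6434 := d0_1 D6434 (iv D6434) F17193 F13536 (iv F17193)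
theorem F21760 : act 2 n6434 = n6434 := d7_2 D5018 D6434 (iv D6434) (iv D5018) F13534
theorem F21761 : act 3 n6434 = n5054 := d8_2 (iv F17194) D6434 (iv D5054)
def n6435 : Q := act 4 n5018
theorem D6435 : act 4 n5018 = n6435 := rfl
def n6436 : Q := act 6 n5018
theorem D6436 : act 6 n5018 = n6436 := rfl
theorem F21764 : act 0 n6436 = n5021 := d5_1 D6436 (iv D5021) (iv F17193)
theorem F21765 : act 2 n6436 = n6436 := d16_1 D6436 (iv D6436) (iv D5018) F13535 D5018
theorem F21766 : act 3 n6436 = n5056 := d20_1 D6436 (iv D5056) (iv F17194)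
def n6440 : Q := act 6 n5020
theorem D6440 : act 6 n5020 = n6440 := rfl
theorem F21778 : act 4 n6440 = n5021 := d23_1 D6440 (iv D5021) D5020
def n6441 : Q := act 7 n5021
theorem D6441 : act 7 n5021 = n6441 := rfl
theorem F21779 : act 1 n6441 = n6441 := d12_1 D6441 (iv D6441) F17201
theorem F21780 : act 2 n6441 = n6441 := d17_1 D6441 (iv D6441) F17202
theorem F21781 : act 3 n6441 = n5061 := d21_1 D6441 (iv D5061) (iv F17203)
def n6442 : Q := act 2 n5023
theorem D6442 : act 2 n5023 = n6442 := rfl
def n6447 : Q := act 1 n5027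
theorem D6447 : act 1 n5027 = n6447 := rfl
theorem F21799 : act 3 n6447 = n5062 := d8_2 (iv F17222) D6447 (iv D5062)
def n6465 : Q := act 2 n5040
theorem D6465 : act 2 n5040 = n6465 := rfl
theorem F21856 : act 0 n6465 = n5041 := d1_1 D6465 (iv D5041) (iv F17263)
theorem F21857 : act 5 n6465 = n5049 := d15_2 (iv F17265) D6465 (iv D5049)
theorem F21858 : act 7 n6465 = n5044 := d17_2 (iv F17266) D6465 (iv D5044)
def n6466 : Q := act 4 n5040
theorem D6466 : act 4 n5040 = n6466 := rfl
theorem F21859 : act 0 n6466 = n5042 := d3_1 D6466 (iv D5042) (iv F17263)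
theorem F21860 : act 1 n6466 = n5113 := d9_1 D6466 (iv D5113) (iv F17264)
theorem F21861 : act 3 n6466 = n6466 := d18_1 D6466 (iv D6466) (iv D5040) F13586 D5040
theorem F21862 : act 7 n6466 = n5045 := d24_2 (iv F17266) D6466 (iv D5045)
def n6467 : Q := act 4 n5041
theorem D6467 : act 4 n5041 = n6467 := rfl
theorem F21863 : act 1 n6467 = n6467 := d9_1 D6467 (iv D6467) F17267
theorem F21864 : act 2 n6467 = n5042 := d14_1 D6467 (iv D5042) D5041
theorem F21865 : act 7 n6467 = n5046 := d24_2 (iv F17269) D6467 (iv D5046)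
def n6468 : Q := act 6 n5041
theorem D6468 : act 6 n5041 = n6468 := rfl
theorem F21866 : act 1 n6468 = n6468 := d11_1 D6468 (iv D6468) F17267
theorem F21867 : act 5 n6468 = n5052 := d25_1 D6468 (iv D5052) (iv F17268)
def n6470 : Q := act 1 n5044
theorem D6470 : act 1 n5044 = n6470 := rfl
theorem F21872 : act 0 n6470 = n6470 := d0_1 D6470 (iv D6470) F17278 F13600 (iv F17278)
theorem F21873 : act 2 n6470 = n5117 := d7_2 D5044 D6470 (iv D5117) (iv D3976) (iv F13597)
theorem F21874 : act 5 n6470 = n5054 := d10_2 (iv F17279) D6470 (iv D5054)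
def n6471 : Q := act 4 n5044
theorem D6471 : act 4 n5044 = n6471 := rfl
theorem F21875 : act 0 n6471 = n5046 := d3_1 D6471 (iv D5046) (iv F17278)
theorem F21876 : act 2 n6471 = n5045 := d14_1 D6471 (iv D5045) D5044
def n6472 : Q := act 6 n5044
theorem D6472 : act 6 n5044 = n6472 := rfl
theorem F21877 : act 0 n6472 = n5047 := d5_1 D6472 (iv D5047) (iv F17278)
theorem F21878 : act 2 n6472 = n5082 := d16_1 D6472 (iv D5082) (iv D3946) (iv F13599) D5044
theorem F21879 : act 5 n6472 = n5056 := d25_1 D6472 (iv D5056) (iv F17279)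
def n6474 : Q := act 3 n5046
theorem D6474 : act 3 n5046 = n6474 := rfl
theorem F21885 : act 1 n6474 = n6474 := d8_1 D6474 (iv D6474) F17284
theorem F21886 : act 2 n6474 = n6474 := d13_1 D6474 (iv D6474) F17285 F13603 (iv F17285)
def n6475 : Q := act 5 n5046
theorem D6475 : act 5 n5046 = n6475 := rfl
theorem F21888 : act 2 n6475 = n5048 := d15_1 D6475 (iv D5048) (iv F17285)
def n6476 : Q := act 6 n5046
theorem D6476 : act 6 n5046 = n6476 := rfl
theorem F21891 : act 2 n6476 = n5086 := d16_1 D6476 (iv D5086) F13677 (iv F13604) (iv F17285)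
def n6477 : Q := act 7 n5047
theorem D6477 : act 7 n5047 = n6477 := rfl
theorem F21893 : act 1 n6477 = n6477 := d12_1 D6477 (iv D6477) F17286
theorem F21894 : act 2 n6477 = n5087 := d17_1 D6477 (iv D5087) (iv F17287)
theorem F21895 : act 5 n6477 = n5061 := d26_1 D6477 (iv D5061) (iv F17288)
def n6478 : Q := act 1 n5049
theorem D6478 : act 1 n5049 = n6478 := rfl
theorem F21896 : act 0 n6478 = n6478 := d0_1 D6478 (iv D6478) F17293 F13613 (iv F17293)
theorem F21897 : act 2 n6478 = n5125 := d7_2 D5049 D6478 (iv D5125) (iv D3981) (iv F13611)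
theorem F21898 : act 7 n6478 = n5054 := d12_2 (iv F17294) D6478 (iv D5054)
def n6479 : Q := act 4 n5049
theorem D6479 : act 4 n5049 = n6479 := rfl
theorem F21899 : act 0 n6479 = n5051 := d3_1 D6479 (iv D5051) (iv F17293)
theorem F21900 : act 2 n6479 = n5050 := d14_1 D6479 (iv D5050) D5049
theorem F21901 : act 7 n6479 = n5055 := d24_2 (iv F17294) D6479 (iv D5055)
def n6480 : Q := act 6 n5049
theorem D6480 : act 6 n5049 = n6480 := rfl
theorem F21902 : act 0 n6480 = n5052 := d5_1 D6480 (iv D5052) (iv F17293)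
def n6481 : Q := act 5 n5050
theorem D6481 : act 5 n5050 = n6481 := rfl
theorem F21904 : act 1 n6481 = n5128 := d10_1 D6481 (iv D5128) (iv F17296)
def n6482 : Q := act 3 n5051
theorem D6482 : act 3 n5051 = n6482 := rfl
def n6483 : Q := act 5 n5051
theorem D6483 : act 5 n5051 = n6483 := rfl
theorem F21911 : act 2 n6483 = n5053 := d15_1 D6483 (iv D5053) (iv F17300)
def n6484 : Q := act 6 n5051
theorem D6484 : act 6 n5051 = n6484 := rfl
theorem F21913 : act 1 n6484 = n6484 := d11_1 D6484 (iv D6484) F17299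
theorem F21914 : act 4 n6484 = n5052 := d23_1 D6484 (iv D5052) D5051
def n6485 : Q := act 7 n5052
theorem D6485 : act 7 n5052 = n6485 := rfl
theorem F21915 : act 1 n6485 = n6485 := d12_1 D6485 (iv D6485) F17302
theorem F21916 : act 6 n6485 = n5061 := d27_1 D6485 (iv D5061) (iv D3931) (iv F13614) D5052
def n6486 : Q := act 4 n5054
theorem D6486 : act 4 n5054 = n6486 := rfl
theorem F21917 : act 0 n6486 = n6486 := d3_1 D6486 (iv D6486) F17306
theorem F21918 : act 1 n6486 = n5055 := d9_1 D6486 (iv D5055) D5054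
theorem F21919 : act 2 n6486 = n5133 := d14_1 D6486 (iv D5133) (iv F17307)
def n6487 : Q := act 6 n5054
theorem D6487 : act 6 n5054 = n6487 := rfl
theorem F21920 : act 0 n6487 = n6487 := d5_1 D6487 (iv D6487) F17306
theorem F21921 : act 1 n6487 = n5056 := d11_1 D6487 (iv D5056) D5054
def n6488 : Q := act 3 n5055
theorem D6488 : act 3 n5055 = n6488 := rfl
def n6489 : Q := act 5 n5055
theorem D6489 : act 5 n5055 = n6489 := rfl
theorem F21925 : act 2 n6489 = n5057 := d15_1 D6489 (iv D5057) (iv F17309)
def n6490 : Q := act 6 n5055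
theorem D6490 : act 6 n5055 = n6490 := rfl
theorem F21927 : act 2 n6490 = n5092 := d16_1 D6490 (iv D5092) F13688 (iv F13626) (iv F17309)
def n6491 : Q := act 7 n5056
theorem D6491 : act 7 n5056 = n6491 := rfl
theorem F21929 : act 0 n6491 = n5061 := d6_1 D6491 (iv D5061) (iv F17310)
theorem F21930 : act 2 n6491 = n5093 := d17_1 D6491 (iv D5093) (iv F17311)
def n6496 : Q := act 4 n5062
theorem D6496 : act 4 n5062 = n6496 := rfl
theorem F21944 : act 2 n6496 = n5143 := d14_1 D6496 (iv D5143) (iv F17326)
def n6497 : Q := act 6 n5062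
theorem D6497 : act 6 n5062 = n6497 := rfl
theorem F21947 : act 1 n6497 = n5064 := d11_1 D6497 (iv D5064) D5062
def n6519 : Q := act 4 n5080
theorem D6519 : act 4 n5080 = n6519 := rfl
theorem F22008 : act 0 n6519 = n5182 := d3_1 D6519 (iv D5182) (iv F17377)
def n6520 : Q := act 6 n5080
theorem D6520 : act 6 n5080 = n6520 := rfl
theorem F22012 : act 1 n6520 = n5082 := d11_1 D6520 (iv D5082) D5080
def n6523 : Q := act 6 n5081
theorem D6523 : act 6 n5081 = n6523 := rfl
def n6524 : Q := act 7 n5082
theorem D6524 : act 7 n5082 = n6524 := rfl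
theorem F22023 : act 0 n6524 = n5087 := d6_1 D6524 (iv D5087) (iv F17383)
theorem F22024 : act 3 n6524 = n6524 := d21_1 D6524 (iv D6524) F17384
theorem F22025 : act 5 n6524 = n5093 := d26_1 D6524 (iv D5093) (iv F17385)
def n6526 : Q := act 6 n5084
theorem D6526 : act 6 n5084 = n6526 := rfl
theorem F22030 : act 3 n6526 = n5086 := d20_1 D6526 (iv D5086) D5084
def n6527 : Q := act 6 n5085
theorem D6527 : act 6 n5085 = n6527 := rfl
def n6532 : Q := act 2 n5089
theorem D6532 : act 2 n5089 = n6532 := rfl
def n6533 : Q := act 7 n5089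
theorem D6533 : act 7 n5089 = n6533 := rfl
def n6560 : Q := act 1 n5112
theorem D6560 : act 1 n5112 = n6560 := rfl
theorem F22131 : act 0 n6560 = n6560 := d0_1 D6560 (iv D6560) F17471 F13748 (iv F17471)
theorem F22132 : act 3 n6560 = n6560 := d8_2 F17472 D6560 (iv D6560)
theorem F22133 : act 5 n6560 = n5125 := d10_2 (iv F17473) D6560 (iv D5125)
theorem F22134 : act 7 n6560 = n5117 := d12_2 (iv F17474) D6560 (iv D5117)
def n6561 : Q := act 4 n5112
theorem D6561 : act 4 n5112 = n6561 := rfl
theorem F22136 : act 2 n6561 = n5113 := d14_1 D6561 (iv D5113) D5112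
theorem F22137 : act 7 n6561 = n5118 := d24_2 (iv F17474) D6561 (iv D5118)
def n6562 : Q := act 6 n5112
theorem D6562 : act 6 n5112 = n6562 := rfl
theorem F22138 : act 0 n6562 = n5115 := d5_1 D6562 (iv D5115) (iv F17471)
theorem F22139 : act 3 n6562 = n6562 := d20_1 D6562 (iv D6562) F17472
theorem F22140 : act 5 n6562 = n5127 := d25_1 D6562 (iv D5127) (iv F17473)
def n6563 : Q := act 5 n5113
theorem D6563 : act 5 n5113 = n6563 := rfl
theorem F22143 : act 4 n6563 = n5128 := d22_1 D6563 (iv D5128) (iv D3982) (iv F13746) D5113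
def n6564 : Q := act 3 n5114
theorem D6564 : act 3 n5114 = n6564 := rfl
theorem F22148 : act 7 n6564 = n5121 := d21_2 (iv F17480) D6564 (iv D5121)
def n6565 : Q := act 5 n5114
theorem D6565 : act 5 n5114 = n6565 := rfl
theorem F22151 : act 4 n6565 = n5130 := d22_1 D6565 (iv D5130) (iv D3983) (iv F13750) D5114
theorem F22152 : act 7 n6565 = n5122 := d26_2 (iv F17480) D6565 (iv D5122)
def n6566 : Q := act 6 n5114
theorem D6566 : act 6 n5114 = n6566 := rfl
theorem F22154 : act 4 n6566 = n5115 := d23_1 D6566 (iv D5115) D5114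
def n6568 : Q := act 4 n5117
theorem D6568 : act 4 n5117 = n6568 := rfl
theorem F22160 : act 1 n6568 = n5118 := d9_1 D6568 (iv D5118) D5117
def n6569 : Q := act 6 n5117
theorem D6569 : act 6 n5117 = n6569 := rfl
theorem F22162 : act 1 n6569 = n5119 := d11_1 D6569 (iv D5119) D5117
theorem F22163 : act 3 n6569 = n6569 := d20_1 D6569 (iv D6569) F17489
theorem F22164 : act 5 n6569 = n5134 := d25_1 D6569 (iv D5134) (iv F17490)
def n6570 : Q := act 3 n5118
theorem D6570 : act 3 n5118 = n6570 := rfl
theorem F22167 : act 4 n6570 = n6570 := d18_2 D5118 D6570 (iv D6570) (iv D5118) F13760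
def n6571 : Q := act 5 n5118
theorem D6571 : act 5 n5118 = n6571 := rfl
theorem F22169 : act 2 n6571 = n5120 := d15_1 D6571 (iv D5120) (iv F17492)
theorem F22170 : act 4 n6571 = n5136 := d22_1 D6571 (iv D5136) (iv D3987) (iv F13761) D5118
def n6573 : Q := act 7 n5119
theorem D6573 : act 7 n5119 = n6573 := rfl
theorem F22175 : act 2 n6573 = n5160 := d17_1 D6573 (iv D5160) (iv F17494)
theorem F22176 : act 3 n6573 = n6573 := d21_1 D6573 (iv D6573) F17495
def n6574 : Q := act 5 n5121
theorem D6574 : act 5 n5121 = n6574 := rfl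
theorem F22180 : act 3 n6574 = n5122 := d19_1 D6574 (iv D5122) D5121
def n6575 : Q := act 6 n5121
theorem D6575 : act 6 n5121 = n6575 := rfl
theorem F22182 : act 3 n6575 = n5123 := d20_1 D6575 (iv D5123) D5121
theorem F22183 : act 4 n6575 = n6575 := d23_1 D6575 (iv D6575) F17503
def n6578 : Q := act 4 n5125
theorem D6578 : act 4 n5125 = n6578 := rfl
theorem F22191 : act 0 n6578 = n6578 := d3_1 D6578 (iv D6578) F17514
theorem F22192 : act 1 n6578 = n5126 := d9_1 D6578 (iv D5126) D5125
theorem F22193 : act 7 n6578 = n5133 := d24_2 (iv F17516) D6578 (iv D5133)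
def n6579 : Q := act 6 n5125
theorem D6579 : act 6 n5125 = n6579 := rfl
theorem F22194 : act 0 n6579 = n6579 := d5_1 D6579 (iv D6579) F17514
theorem F22195 : act 1 n6579 = n5127 := d11_1 D6579 (iv D5127) D5125
theorem F22196 : act 3 n6579 = n6579 := d20_1 D6579 (iv D6579) F17515
def n6580 : Q := act 3 n5126
theorem D6580 : act 3 n5126 = n6580 := rfl
theorem F22197 : act 0 n6580 = n5129 := d2_1 D6580 (iv D5129) (iv F17517)
theorem F22198 : act 2 n6580 = n5145 := d13_1 D6580 (iv D5145) F13815 (iv F13779) (iv F17518)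
theorem F22199 : act 4 n6580 = n6580 := d18_2 D5126 D6580 (iv D6580) (iv D5126) F13776
theorem F22200 : act 7 n6580 = n5135 := d21_2 (iv F17519) D6580 (iv D5135)
def n6581 : Q := act 5 n5126
theorem D6581 : act 5 n5126 = n6581 := rfl
theorem F22201 : act 0 n6581 = n5130 := d4_1 D6581 (iv D5130) (iv F17517)
theorem F22202 : act 2 n6581 = n5128 := d15_1 D6581 (iv D5128) (iv F17518)
theorem F22203 : act 7 n6581 = n5136 := d26_2 (iv F17519) D6581 (iv D5136)
def n6582 : Q := act 6 n5126
theorem D6582 : act 6 n5126 = n6582 := rfl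
theorem F22204 : act 0 n6582 = n5131 := d5_1 D6582 (iv D5131) (iv F17517)
theorem F22205 : act 4 n6582 = n5127 := d23_1 D6582 (iv D5127) D5126
def n6583 : Q := act 7 n5127
theorem D6583 : act 7 n5127 = n6583 := rfl
theorem F22206 : act 0 n6583 = n5132 := d6_1 D6583 (iv D5132) (iv F17520)
theorem F22207 : act 3 n6583 = n6583 := d21_1 D6583 (iv D6583) F17521
theorem F22208 : act 6 n6583 = n5138 := d27_1 D6583 (iv D5138) (iv D3988) (iv F13777) D5127
def n6584 : Q := act 5 n5129
theorem D6584 : act 5 n5129 = n6584 := rfl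
theorem F22211 : act 3 n6584 = n5130 := d19_1 D6584 (iv D5130) D5129
theorem F22212 : act 7 n6584 = n5139 := d26_2 (iv F17528) D6584 (iv D5139)
def n6585 : Q := act 6 n5129
theorem D6585 : act 6 n5129 = n6585 := rfl
theorem F22214 : act 3 n6585 = n5131 := d20_1 D6585 (iv D5131) D5129
def n6586 : Q := act 6 n5130
theorem D6586 : act 6 n5130 = n6586 := rfl
theorem F22217 : act 5 n6586 = n5131 := d25_1 D6586 (iv D5131) D5130
def n6587 : Q := act 7 n5131
theorem D6587 : act 7 n5131 = n6587 := rfl
theorem F22218 : act 1 n6587 = n6587 := d12_1 D6587 (iv D6587) F17532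
theorem F22219 : act 4 n6587 = n5132 := d24_1 D6587 (iv D5132) (iv F17533)
theorem F22220 : act 6 n6587 = n5142 := d27_1 D6587 (iv D5142) (iv D3992) (iv F13783) D5131
def n6588 : Q := act 3 n5133
theorem D6588 : act 3 n5133 = n6588 := rfl
theorem F22221 : act 0 n6588 = n6588 := d2_1 D6588 (iv D6588) F17537
theorem F22222 : act 1 n6588 = n5135 := d8_1 D6588 (iv D5135) (iv F17538)
theorem F22223 : act 4 n6588 = n6588 := d18_2 D5133 D6588 (iv D6588) (iv D5133) F13790
def n6589 : Q := act 5 n5133
theorem D6589 : act 5 n5133 = n6589 := rfl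
theorem F22224 : act 0 n6589 = n6589 := d4_1 D6589 (iv D6589) F17537
theorem F22225 : act 1 n6589 = n5136 := d10_1 D6589 (iv D5136) (iv F17538)
def n6590 : Q := act 6 n5133
theorem D6590 : act 6 n5133 = n6590 := rfl
theorem F22226 : act 0 n6590 = n6590 := d5_1 D6590 (iv D6590) F17537
theorem F22227 : act 1 n6590 = n5137 := d11_1 D6590 (iv D5137) (iv F17538)
theorem F22228 : act 4 n6590 = n5134 := d23_1 D6590 (iv D5134) D5133
def n6591 : Q := act 2 n5134
theorem D6591 : act 2 n5134 = n6591 := rfl
theorem F22230 : act 1 n6591 = n5167 := d7_1 D6591 (iv D5167) F13873 (iv F13794) (iv F17540)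
def n6592 : Q := act 7 n5134
theorem D6592 : act 7 n5134 = n6592 := rfl
theorem F22231 : act 0 n6592 = n6592 := d6_1 D6592 (iv D6592) F17539
theorem F22232 : act 1 n6592 = n5138 := d12_1 D6592 (iv D5138) (iv F17540)
theorem F22233 : act 3 n6592 = n6592 := d21_1 D6592 (iv D6592) F17541
def n6593 : Q := act 5 n5135
theorem D6593 : act 5 n5135 = n6593 := rfl
theorem F22234 : act 0 n6593 = n5139 := d4_1 D6593 (iv D5139) (iv F17542)
theorem F22235 : act 2 n6593 = n5153 := d15_1 D6593 (iv D5153) (iv F17543)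
theorem F22236 : act 3 n6593 = n5136 := d19_1 D6593 (iv D5136) D5135
def n6594 : Q := act 6 n5135
theorem D6594 : act 6 n5135 = n6594 := rfl
theorem F22237 : act 0 n6594 = n5140 := d5_1 D6594 (iv D5140) (iv F17542)
theorem F22238 : act 2 n6594 = n6594 := d16_1 D6594 (iv D6594) F17543 F13839 (iv F17543)
theorem F22239 : act 3 n6594 = n5137 := d20_1 D6594 (iv D5137) D5135
theorem F22240 : act 4 n6594 = n6594 := d23_1 D6594 (iv D6594) F17544
def n6595 : Q := act 6 n5136
theorem D6595 : act 6 n5136 = n6595 := rfl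
theorem F22242 : act 2 n6595 = n5169 := d16_1 D6595 (iv D5169) F13876 (iv F13798) (iv F17546)
theorem F22243 : act 5 n6595 = n5137 := d25_1 D6595 (iv D5137) D5136
def n6596 : Q := act 7 n5137
theorem D6596 : act 7 n5137 = n6596 := rfl
theorem F22244 : act 0 n6596 = n5142 := d6_1 D6596 (iv D5142) (iv F17547)
theorem F22245 : act 2 n6596 = n5170 := d17_1 D6596 (iv D5170) (iv F17548)
theorem F22246 : act 4 n6596 = n5138 := d24_1 D6596 (iv D5138) (iv F17549)
def n6597 : Q := act 4 n5139
theorem D6597 : act 4 n5139 = n6597 := rfl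
theorem F22249 : act 5 n6597 = n6597 := d22_2 D5139 D6597 (iv D6597) (iv D5139) F13801
def n6598 : Q := act 6 n5139
theorem D6598 : act 6 n5139 = n6598 := rfl
theorem F22252 : act 3 n6598 = n5141 := d20_1 D6598 (iv D5141) (iv F17555)
theorem F22253 : act 5 n6598 = n5140 := d25_1 D6598 (iv D5140) D5139
def n6599 : Q := act 7 n5140
theorem D6599 : act 7 n5140 = n6599 := rfl
theorem F22254 : act 1 n6599 = n6599 := d12_1 D6599 (iv D6599) F17556
theorem F22255 : act 2 n6599 = n6599 := d17_1 D6599 (iv D6599) F17557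
theorem F22256 : act 3 n6599 = n5142 := d21_1 D6599 (iv D5142) (iv F17558)
theorem F22257 : act 4 n6599 = n6599 := d24_1 D6599 (iv D6599) F17559
def n6600 : Q := act 7 n5141
theorem D6600 : act 7 n5141 = n6600 := rfl
theorem F22259 : act 2 n6600 = n5171 := d17_1 D6600 (iv D5171) (iv F17561)
theorem F22260 : act 5 n6600 = n5142 := d26_1 D6600 (iv D5142) (iv F17562)
def n6601 : Q := act 3 n5143
theorem D6601 : act 3 n5143 = n6601 := rfl
theorem F22262 : act 1 n6601 = n5145 := d8_1 D6601 (iv D5145) (iv F17567)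
def n6602 : Q := act 5 n5143
theorem D6602 : act 5 n5143 = n6602 := rfl
theorem F22266 : act 1 n6602 = n5146 := d10_1 D6602 (iv D5146) (iv F17567)
theorem F22268 : act 7 n6602 = n5152 := d26_2 (iv F17568) D6602 (iv D5152)
def n6603 : Q := act 6 n5143
theorem D6603 : act 6 n5143 = n6603 := rfl
theorem F22270 : act 1 n6603 = n5147 := d11_1 D6603 (iv D5147) (iv F17567)
def n6604 : Q := act 2 n5144
theorem D6604 : act 2 n5144 = n6604 := rfl
def n6605 : Q := act 5 n5145
theorem D6605 : act 5 n5145 = n6605 := rfl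
theorem F22277 : act 3 n6605 = n5146 := d19_1 D6605 (iv D5146) D5145
theorem F22278 : act 7 n6605 = n5153 := d26_2 (iv F17576) D6605 (iv D5153)
def n6606 : Q := act 6 n5145
theorem D6606 : act 6 n5145 = n6606 := rfl
theorem F22280 : act 3 n6606 = n5147 := d20_1 D6606 (iv D5147) D5145
def n6607 : Q := act 6 n5146
theorem D6607 : act 6 n5146 = n6607 := rfl
def n6609 : Q := act 6 n5148
theorem D6609 : act 6 n5148 = n6609 := rfl
theorem F22292 : act 3 n6609 = n5150 := d20_1 D6609 (iv D5150) (iv F17585)
def n6612 : Q := act 5 n5151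
theorem D6612 : act 5 n5151 = n6612 := rfl
theorem F22300 : act 1 n6612 = n5153 := d10_1 D6612 (iv D5153) (iv F17596)
theorem F22301 : act 3 n6612 = n5152 := d19_1 D6612 (iv D5152) D5151
def n6613 : Q := act 4 n5153
theorem D6613 : act 4 n5153 = n6613 := rfl
def n6615 : Q := act 5 n5155
theorem D6615 : act 5 n5155 = n6615 := rfl
def n6617 : Q := act 2 n5156
theorem D6617 : act 2 n5156 = n6617 := rfl
theorem F22316 : act 0 n6617 = n5226 := d1_1 D6617 (iv D5226) (iv F17612)
theorem F22317 : act 5 n6617 = n5167 := d15_2 (iv F17615) D6617 (iv D5167)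
def n6618 : Q := act 7 n5156
theorem D6618 : act 7 n5156 = n6618 := rfl
def n6627 : Q := act 6 n5165
theorem D6627 : act 6 n5165 = n6627 := rfl
theorem F22346 : act 0 n6627 = n5236 := d5_1 D6627 (iv D5236) (iv F17639)
def n6628 : Q := act 2 n5166
theorem D6628 : act 2 n5166 = n6628 := rfl
def n6630 : Q := act 3 n5167
theorem D6630 : act 3 n5167 = n6630 := rfl
def n6631 : Q := act 7 n5167
theorem D6631 : act 7 n5167 = n6631 := rfl
theorem F22358 : act 0 n6631 = n5240 := d6_1 D6631 (iv D5240) (iv F17646)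
def n6632 : Q := act 7 n5169
theorem D6632 : act 7 n5169 = n6632 := rfl
theorem F22362 : act 5 n6632 = n5170 := d26_1 D6632 (iv D5170) (iv F17652)
def n6635 : Q := act 2 n5173
theorem D6635 : act 2 n5173 = n6635 := rfl
theorem F22372 : act 1 n6635 = n6635 := d7_1 D6635 (iv D6635) F17663 F13900 (iv F17663)
def n6637 : Q := act 3 n5174
theorem D6637 : act 3 n5174 = n6637 := rfl
theorem F22380 : act 0 n6637 = n5246 := d2_1 D6637 (iv D5246) (iv F17666)
theorem F22382 : act 5 n6637 = n5180 := d19_2 (iv F17668) D6637 (iv D5180)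
def n6643 : Q := act 4 n5180
theorem D6643 : act 4 n5180 = n6643 := rfl
theorem F22402 : act 0 n6643 = n5252 := d3_1 D6643 (iv D5252) (iv F17686)
def n6644 : Q := act 7 n5180
theorem D6644 : act 7 n5180 = n6644 := rfl
theorem F22406 : act 0 n6644 = n5253 := d6_1 D6644 (iv D5253) (iv F17686)
theorem F22408 : act 3 n6644 = n5181 := d21_1 D6644 (iv D5181) D5180
def n6645 : Q := act 6 n5181
theorem D6645 : act 6 n5181 = n6645 := rfl
def n6646 : Q := act 3 n5182
theorem D6646 : act 3 n5182 = n6646 := rfl
theorem F22413 : act 1 n6646 = n5184 := d8_1 D6646 (iv D5184) (iv F17693)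
def n6651 : Q := act 5 n5184
theorem D6651 : act 5 n5184 = n6651 := rfl
theorem F22427 : act 2 n6651 = n5260 := d15_1 D6651 (iv D5260) (iv F17699)
def n6655 : Q := act 4 n5188
theorem D6655 : act 4 n5188 = n6655 := rfl
theorem F22439 : act 2 n6655 = n5264 := d14_1 D6655 (iv D5264) (iv F17711)
theorem F22440 : act 3 n6655 = n5201 := d18_1 D6655 (iv D5201) F13959 (iv F13937) (iv F17712)
def n6656 : Q := act 6 n5188
theorem D6656 : act 6 n5188 = n6656 := rfl
def n6662 : Q := act 6 n5193
theorem D6662 : act 6 n5193 = n6662 := rfl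
def n6666 : Q := act 7 n5195
theorem D6666 : act 7 n5195 = n6666 := rfl
theorem F22469 : act 2 n6666 = n5196 := d17_1 D6666 (iv D5196) D5195
def n6667 : Q := act 4 n5197
theorem D6667 : act 4 n5197 = n6667 := rfl
theorem F22471 : act 2 n6667 = n5206 := d14_1 D6667 (iv D5206) (iv F17732)
def n6672 : Q := act 6 n5201
theorem D6672 : act 6 n5201 = n6672 := rfl
def n6677 : Q := act 6 n5206
theorem D6677 : act 6 n5206 = n6677 := rfl
def n6682 : Q := act 2 n5211
theorem D6682 : act 2 n5211 = n6682 := rfl
def n6683 : Q := act 7 n5211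
theorem D6683 : act 7 n5211 = n6683 := rfl
def n6703 : Q := act 3 n5226
theorem D6703 : act 3 n5226 = n6703 := rfl
theorem F22582 : act 5 n6703 = n5239 := d19_2 (iv F17818) D6703 (iv D5239)
def n6704 : Q := act 7 n5226
theorem D6704 : act 7 n5226 = n6704 := rfl
theorem F22584 : act 2 n6704 = n5227 := d17_1 D6704 (iv D5227) D5226
theorem F22585 : act 5 n6704 = n5240 := d26_1 D6704 (iv D5240) (iv F17818)
def n6713 : Q := act 2 n5236
theorem D6713 : act 2 n5236 = n6713 := rfl
def n6715 : Q := act 3 n5237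
theorem D6715 : act 3 n5237 = n6715 := rfl
def n6717 : Q := act 4 n5239
theorem D6717 : act 4 n5239 = n6717 := rfl
def n6719 : Q := act 6 n5240
theorem D6719 : act 6 n5240 = n6719 := rfl
def n6726 : Q := act 7 n5246
theorem D6726 : act 7 n5246 = n6726 := rfl
theorem F22646 : act 1 n6726 = n5351 := d12_1 D6726 (iv D5351) (iv F17876)
theorem F22648 : act 5 n6726 = n5253 := d26_1 D6726 (iv D5253) (iv F17877)
def n6735 : Q := act 6 n5253
theorem D6735 : act 6 n5253 = n6735 := rfl
theorem F22675 : act 3 n6735 = n5254 := d20_1 D6735 (iv D5254) (iv F17899)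
def n6744 : Q := act 4 n5260
theorem D6744 : act 4 n5260 = n6744 := rfl
theorem F22707 : act 0 n6744 = n5264 := d3_1 D6744 (iv D5264) (iv F17921)
theorem F22708 : act 3 n6744 = n5276 := d18_1 D6744 (iv D5276) F14135 (iv F14097) (iv F17922)
def n6745 : Q := act 6 n5260
theorem D6745 : act 6 n5260 = n6745 := rfl
theorem F22711 : act 3 n6745 = n5262 := d20_1 D6745 (iv D5262) (iv F17922)
def n6749 : Q := act 6 n5264
theorem D6749 : act 6 n5264 = n6749 := rfl
theorem F22724 : act 3 n6749 = n5281 := d20_1 D6749 (iv D5281) (iv F17934)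
theorem F22725 : act 4 n6749 = n5265 := d23_1 D6749 (iv D5265) D5264
def n6750 : Q := act 2 n5265
theorem D6750 : act 2 n5265 = n6750 := rfl
def n6755 : Q := act 6 n5269
theorem D6755 : act 6 n5269 = n6755 := rfl
theorem F22743 : act 1 n6755 = n5277 := d11_1 D6755 (iv D5277) (iv F17949)
theorem F22744 : act 3 n6755 = n5271 := d20_1 D6755 (iv D5271) (iv F17951)
def n6758 : Q := act 2 n5271
theorem D6758 : act 2 n5271 = n6758 := rfl
theorem F22756 : act 6 n6758 = n5322 := d16_2 D5271 D6758 (iv D5322) (iv D4142) (iv F14123)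
def n6764 : Q := act 6 n5275
theorem D6764 : act 6 n5275 = n6764 := rfl
theorem F22777 : act 7 n6764 = n5328 := d27_2 D5275 D6764 (iv D5328) (iv D4146) (iv F14129)
def n6765 : Q := act 6 n5276
theorem D6765 : act 6 n5276 = n6765 := rfl
theorem F22779 : act 4 n6765 = n5277 := d23_1 D6765 (iv D5277) D5276
def n6766 : Q := act 2 n5277
theorem D6766 : act 2 n5277 = n6766 := rfl
theorem F22784 : act 6 n6766 = n5287 := d16_2 D5277 D6766 (iv D5287) (iv D4113) (iv F14134)
def n6770 : Q := act 2 n5281
theorem D6770 : act 2 n5281 = n6770 := rfl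
theorem F22797 : act 6 n6770 = n5291 := d16_2 D5281 D6770 (iv D5291) (iv D4117) (iv F14146)
def n6772 : Q := act 1 n5282
theorem D6772 : act 1 n5282 = n6772 := rfl
theorem F22803 : act 5 n6772 = n5284 := d10_2 (iv F17993) D6772 (iv D5284)
theorem F22804 : act 6 n6772 = n5293 := d11_2 (iv F17994) D6772 (iv D5293)
def n6773 : Q := act 7 n5282
theorem D6773 : act 7 n5282 = n6773 := rfl
theorem F22805 : act 2 n6773 = n5283 := d17_1 D6773 (iv D5283) D5282
def n6774 : Q := act 0 n5284
theorem D6774 : act 0 n5284 = n6774 := rfl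
theorem F22811 : act 6 n6774 = n5295 := d5_2 (iv F18001) D6774 (iv D5295)
def n6777 : Q := act 2 n5286
theorem D6777 : act 2 n5286 = n6777 := rfl
def n6778 : Q := act 7 n5286
theorem D6778 : act 7 n5286 = n6778 := rfl
def n6779 : Q := act 1 n5287
theorem D6779 : act 1 n5287 = n6779 := rfl
def n6780 : Q := act 7 n5287
theorem D6780 : act 7 n5287 = n6780 := rfl
theorem F22830 : act 2 n6780 = n5288 := d17_1 D6780 (iv D5288) D5287
def n6784 : Q := act 1 n5291
theorem D6784 : act 1 n5291 = n6784 := rfl
theorem F22845 : act 4 n6784 = n5293 := d9_2 (iv F18023) D6784 (iv D5293)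
def n6785 : Q := act 3 n5291
theorem D6785 : act 3 n5291 = n6785 := rfl
def n6786 : Q := act 7 n5291
theorem D6786 : act 7 n5291 = n6786 := rfl
theorem F22849 : act 2 n6786 = n5292 := d17_1 D6786 (iv D5292) D5291
def n6787 : Q := act 0 n5293
theorem D6787 : act 0 n5293 = n6787 := rfl
def n6788 : Q := act 7 n5293
theorem D6788 : act 7 n5293 = n6788 := rfl
theorem F22855 : act 1 n6788 = n5294 := d12_1 D6788 (iv D5294) D5293
theorem F22858 : act 5 n6788 = n5296 := d26_1 D6788 (iv D5296) (iv F18030)
def n6789 : Q := act 6 n5294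
theorem D6789 : act 6 n5294 = n6789 := rfl
def n6790 : Q := act 7 n5295
theorem D6790 : act 7 n5295 = n6790 := rfl
theorem F22861 : act 0 n6790 = n5296 := d6_1 D6790 (iv D5296) D5295
def n6791 : Q := act 6 n5296
theorem D6791 : act 6 n5296 = n6791 := rfl
theorem F22865 : act 1 n6791 = n5297 := d11_1 D6791 (iv D5297) (iv F18037)
def n6822 : Q := act 3 n5322
theorem D6822 : act 3 n5322 = n6822 := rfl
def n6823 : Q := act 7 n5322
theorem D6823 : act 7 n5322 = n6823 := rfl
theorem F22980 : act 2 n6823 = n5323 := d17_1 D6823 (iv D5323) D5322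
def n6859 : Q := act 6 n5351
theorem D6859 : act 6 n5351 = n6859 := rfl
def n7193 : Q := act 2 n5623
theorem D7193 : act 2 n5623 = n7193 := rfl
theorem F24230 : act 0 n7193 = n5624 := d1_1 D7193 (iv D5624) (iv F19149)
theorem F24231 : act 3 n7193 = n5648 := d13_2 D5623 D7193 (iv D5648) (iv D4407) (iv F15113)
theorem F24232 : act 5 n7193 = n5862 := d15_2 (iv F19151) D7193 (iv D5862)
theorem F24233 : act 7 n7193 = n5857 := d17_2 (iv F19153) D7193 (iv D5857)
def n7194 : Q := act 4 n5623
theorem D7194 : act 4 n5623 = n7194 := rfl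
theorem F24234 : act 0 n7194 = n5625 := d3_1 D7194 (iv D5625) (iv F19149)
theorem F24235 : act 1 n7194 = n5763 := d9_1 D7194 (iv D5763) (iv F19150)
theorem F24236 : act 3 n7194 = n5632 := d18_1 D7194 (iv D5632) (iv D4394) (iv F15114) D5623
theorem F24237 : act 6 n7194 = n7194 := d23_2 F19152 D7194 (iv D7194)
theorem F24238 : act 7 n7194 = n5858 := d24_2 (iv F19153) D7194 (iv D5858)
def n7195 : Q := act 4 n5624
theorem D7195 : act 4 n5624 = n7195 := rfl
theorem F24239 : act 1 n7195 = n5877 := d9_1 D7195 (iv D5877) (iv F19154)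
theorem F24240 : act 2 n7195 = n5625 := d14_1 D7195 (iv D5625) D5624
def n7196 : Q := act 6 n5624
theorem D7196 : act 6 n5624 = n7196 := rfl
theorem F24242 : act 1 n7196 = n5878 := d11_1 D7196 (iv D5878) (iv F19154)
theorem F24243 : act 2 n7196 = n7196 := d16_1 D7196 (iv D7196) (iv D5624) F15120 D5624
theorem F24244 : act 3 n7196 = n5651 := d20_1 D7196 (iv D5651) (iv F19155)
theorem F24245 : act 5 n7196 = n5865 := d25_1 D7196 (iv D5865) (iv F19156)
def n7197 : Q := act 5 n5625
theorem D7197 : act 5 n5625 = n7197 := rfl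
theorem F24246 : act 1 n7197 = n5626 := d10_1 D7197 (iv D5626) (iv F19158)
theorem F24247 : act 3 n7197 = n5635 := d19_1 D7197 (iv D5635) (iv F19159)
theorem F24248 : act 4 n7197 = n5866 := d22_1 D7197 (iv D5866) (iv D4574) (iv F15119) D5625
theorem F24249 : act 6 n7197 = n7197 := d25_2 F19160 D7197 (iv D7197)
theorem F24250 : act 7 n7197 = n5861 := d26_2 (iv F19161) D7197 (iv D5861)
def n7198 : Q := act 2 n5627
theorem D7198 : act 2 n5627 = n7198 := rfl
theorem F24251 : act 0 n7198 = n5628 := d1_1 D7198 (iv D5628) (iv F19168)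
theorem F24252 : act 3 n7198 = n5653 := d13_2 D5627 D7198 (iv D5653) (iv D4411) (iv F15128)
theorem F24253 : act 5 n7198 = n7198 := d15_2 F19170 D7198 (iv D7198)
theorem F24254 : act 7 n7198 = n5631 := d17_2 (iv F19172) D7198 (iv D5631)
def n7199 : Q := act 4 n5627
theorem D7199 : act 4 n5627 = n7199 := rfl
theorem F24255 : act 0 n7199 = n5629 := d3_1 D7199 (iv D5629) (iv F19168)
theorem F24256 : act 1 n7199 = n5772 := d9_1 D7199 (iv D5772) (iv F19169)
theorem F24257 : act 3 n7199 = n5858 := d18_1 D7199 (iv D5858) (iv D4568) (iv F15129) D5627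
theorem F24258 : act 6 n7199 = n6067 := d23_2 (iv F19171) D7199 (iv D6067)
theorem F24259 : act 7 n7199 = n5632 := d24_2 (iv F19172) D7199 (iv D5632)
def n7200 : Q := act 4 n5628
theorem D7200 : act 4 n5628 = n7200 := rfl
theorem F24260 : act 1 n7200 = n7200 := d9_1 D7200 (iv D7200) F19173
theorem F24261 : act 2 n7200 = n5629 := d14_1 D7200 (iv D5629) D5628
theorem F24262 : act 7 n7200 = n5633 := d24_2 (iv F19176) D7200 (iv D5633)
def n7201 : Q := act 6 n5628
theorem D7201 : act 6 n5628 = n7201 := rfl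
theorem F24263 : act 1 n7201 = n7201 := d11_1 D7201 (iv D7201) F19173
theorem F24265 : act 3 n7201 = n5656 := d20_1 D7201 (iv D5656) (iv F19174)
theorem F24266 : act 5 n7201 = n7201 := d25_1 D7201 (iv D7201) F19175
def n7202 : Q := act 5 n5629
theorem D7202 : act 5 n5629 = n7202 := rfl
theorem F24267 : act 1 n7202 = n5630 := d10_1 D7202 (iv D5630) (iv F19177)
theorem F24268 : act 3 n7202 = n5861 := d19_1 D7202 (iv D5861) (iv F19178)
theorem F24269 : act 4 n7202 = n7202 := d22_1 D7202 (iv D7202) (iv D5629) F15134 D5629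
theorem F24270 : act 6 n7202 = n6070 := d25_2 (iv F19179) D7202 (iv D6070)
theorem F24271 : act 7 n7202 = n5635 := d26_2 (iv F19180) D7202 (iv D5635)
def n7203 : Q := act 1 n5631
theorem D7203 : act 1 n5631 = n7203 := rfl
theorem F24272 : act 0 n7203 = n7203 := d0_1 D7203 (iv D7203) F19187 F15146 (iv F19187)
theorem F24273 : act 2 n7203 = n5776 := d7_2 D5631 D7203 (iv D5776) (iv D4507) (iv F15143)
theorem F24274 : act 3 n7203 = n5658 := d8_2 (iv F19188) D7203 (iv D5658)
theorem F24275 : act 5 n7203 = n7203 := d10_2 F19189 D7203 (iv D7203)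
def n7204 : Q := act 4 n5631
theorem D7204 : act 4 n5631 = n7204 := rfl
theorem F24276 : act 0 n7204 = n5633 := d3_1 D7204 (iv D5633) (iv F19187)
theorem F24277 : act 2 n7204 = n5632 := d14_1 D7204 (iv D5632) D5631
def n7205 : Q := act 6 n5631
theorem D7205 : act 6 n5631 = n7205 := rfl
theorem F24278 : act 0 n7205 = n5634 := d5_1 D7205 (iv D5634) (iv F19187)
theorem F24279 : act 2 n7205 = n7205 := d16_1 D7205 (iv D7205) (iv D5631) F15145 D5631
theorem F24280 : act 3 n7205 = n5660 := d20_1 D7205 (iv D5660) (iv F19188)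
theorem F24281 : act 5 n7205 = n7205 := d25_1 D7205 (iv D7205) F19189
def n7206 : Q := act 5 n5632
theorem D7206 : act 5 n5632 = n7206 := rfl
theorem F24282 : act 0 n7206 = n5635 := d4_1 D7206 (iv D5635) (iv F19190)
theorem F24283 : act 1 n7206 = n5779 := d10_1 D7206 (iv D5779) (iv F19191)
theorem F24284 : act 4 n7206 = n7206 := d22_1 D7206 (iv D7206) (iv D5632) F15144 D5632
theorem F24285 : act 6 n7206 = n7206 := d25_2 F19192 D7206 (iv D7206)
def n7207 : Q := act 3 n5633
theorem D7207 : act 3 n5633 = n7207 := rfl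
theorem F24286 : act 1 n7207 = n7207 := d8_1 D7207 (iv D7207) F19193
theorem F24287 : act 4 n7207 = n5662 := d18_2 D5633 D7207 (iv D5662) (iv D4417) (iv F15147)
def n7208 : Q := act 5 n5633
theorem D7208 : act 5 n5633 = n7208 := rfl
theorem F24288 : act 1 n7208 = n7208 := d10_1 D7208 (iv D7208) F19193
theorem F24289 : act 2 n7208 = n5635 := d15_1 D7208 (iv D5635) (iv F19194)
theorem F24290 : act 4 n7208 = n7208 := d22_1 D7208 (iv D7208) (iv D5633) F15148 D5633
def n7209 : Q := act 6 n5633
theorem D7209 : act 6 n5633 = n7209 := rfl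
theorem F24291 : act 1 n7209 = n7209 := d11_1 D7209 (iv D7209) F19193
theorem F24292 : act 2 n7209 = n7209 := d16_1 D7209 (iv D7209) F19194 F15150 (iv F19194)
theorem F24293 : act 4 n7209 = n5634 := d23_1 D7209 (iv D5634) D5633
def n7210 : Q := act 7 n5634
theorem D7210 : act 7 n5634 = n7210 := rfl
theorem F24294 : act 1 n7210 = n7210 := d12_1 D7210 (iv D7210) F19195
theorem F24295 : act 2 n7210 = n7210 := d17_1 D7210 (iv D7210) F19196
theorem F24296 : act 3 n7210 = n5665 := d21_1 D7210 (iv D5665) (iv F19197)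
theorem F24297 : act 5 n7210 = n7210 := d26_1 D7210 (iv D7210) F19198
def n7211 : Q := act 2 n5636
theorem D7211 : act 2 n5636 = n7211 := rfl
theorem F24298 : act 0 n7211 = n5637 := d1_1 D7211 (iv D5637) (iv F19202)
theorem F24299 : act 3 n7211 = n5875 := d13_2 D5636 D7211 (iv D5875) (iv D4581) (iv F15156)
theorem F24300 : act 5 n7211 = n5702 := d15_2 (iv F19204) D7211 (iv D5702)
theorem F24301 : act 7 n7211 = n5697 := d17_2 (iv F19206) D7211 (iv D5697)
def n7212 : Q := act 4 n5636
theorem D7212 : act 4 n5636 = n7212 := rfl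
theorem F24302 : act 0 n7212 = n5638 := d3_1 D7212 (iv D5638) (iv F19202)
theorem F24303 : act 1 n7212 = n5693 := d9_1 D7212 (iv D5693) (iv F19203)
theorem F24304 : act 3 n7212 = n7212 := d18_1 D7212 (iv D7212) (iv D5636) F15157 D5636
theorem F24305 : act 6 n7212 = n7212 := d23_2 F19205 D7212 (iv D7212)
theorem F24306 : act 7 n7212 = n5698 := d24_2 (iv F19206) D7212 (iv D5698)
def n7213 : Q := act 4 n5637
theorem D7213 : act 4 n5637 = n7213 := rfl
theorem F24307 : act 1 n7213 = n5650 := d9_1 D7213 (iv D5650) (iv F19207)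
theorem F24308 : act 2 n7213 = n5638 := d14_1 D7213 (iv D5638) D5637
theorem F24309 : act 7 n7213 = n5699 := d24_2 (iv F19210) D7213 (iv D5699)
def n7214 : Q := act 6 n5637
theorem D7214 : act 6 n5637 = n7214 := rfl
theorem F24310 : act 1 n7214 = n5651 := d11_1 D7214 (iv D5651) (iv F19207)
theorem F24311 : act 2 n7214 = n7214 := d16_1 D7214 (iv D7214) (iv D5637) F15163 D5637
theorem F24312 : act 3 n7214 = n5878 := d20_1 D7214 (iv D5878) (iv F19208)
theorem F24313 : act 5 n7214 = n5705 := d25_1 D7214 (iv D5705) (iv F19209)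
def n7215 : Q := act 5 n5638
theorem D7215 : act 5 n5638 = n7215 := rfl
theorem F24314 : act 1 n7215 = n5639 := d10_1 D7215 (iv D5639) (iv F19211)
theorem F24315 : act 3 n7215 = n7215 := d19_1 D7215 (iv D7215) F19212
theorem F24316 : act 4 n7215 = n5706 := d22_1 D7215 (iv D5706) (iv D4450) (iv F15162) D5638
theorem F24317 : act 6 n7215 = n7215 := d25_2 F19213 D7215 (iv D7215)
theorem F24318 : act 7 n7215 = n5701 := d26_2 (iv F19214) D7215 (iv D5701)
def n7216 : Q := act 2 n5640
theorem D7216 : act 2 n5640 = n7216 := rfl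
theorem F24319 : act 0 n7216 = n5641 := d1_1 D7216 (iv D5641) (iv F19221)
theorem F24320 : act 3 n7216 = n5862 := d13_2 D5640 D7216 (iv D5862) (iv D4572) (iv F15171)
theorem F24321 : act 5 n7216 = n5648 := d15_2 (iv F19223) D7216 (iv D5648)
theorem F24322 : act 7 n7216 = n5692 := d17_2 (iv F19225) D7216 (iv D5692)
def n7217 : Q := act 4 n5640
theorem D7217 : act 4 n5640 = n7217 := rfl
theorem F24323 : act 0 n7217 = n5642 := d3_1 D7217 (iv D5642) (iv F19221)
theorem F24324 : act 1 n7217 = n5698 := d9_1 D7217 (iv D5698) (iv F19222)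
theorem F24325 : act 3 n7217 = n7217 := d18_1 D7217 (iv D7217) (iv D5640) F15172 D5640
theorem F24326 : act 6 n7217 = n5667 := d23_2 (iv F19224) D7217 (iv D5667)
theorem F24327 : act 7 n7217 = n5693 := d24_2 (iv F19225) D7217 (iv D5693)
def n7218 : Q := act 4 n5641
theorem D7218 : act 4 n5641 = n7218 := rfl
theorem F24328 : act 1 n7218 = n5704 := d9_1 D7218 (iv D5704) (iv F19226)
theorem F24329 : act 2 n7218 = n5642 := d14_1 D7218 (iv D5642) D5641
theorem F24330 : act 7 n7218 = n5694 := d24_2 (iv F19229) D7218 (iv D5694)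
def n7219 : Q := act 6 n5641
theorem D7219 : act 6 n5641 = n7219 := rfl
theorem F24331 : act 1 n7219 = n5705 := d11_1 D7219 (iv D5705) (iv F19226)
theorem F24332 : act 2 n7219 = n5669 := d16_1 D7219 (iv D5669) (iv D4421) (iv F15178) D5641
theorem F24333 : act 3 n7219 = n5865 := d20_1 D7219 (iv D5865) (iv F19227)
theorem F24334 : act 5 n7219 = n5651 := d25_1 D7219 (iv D5651) (iv F19228)
def n7220 : Q := act 5 n5642
theorem D7220 : act 5 n5642 = n7220 := rfl
theorem F24335 : act 1 n7220 = n5643 := d10_1 D7220 (iv D5643) (iv F19230)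
theorem F24336 : act 3 n7220 = n7220 := d19_1 D7220 (iv D7220) F19231
theorem F24337 : act 4 n7220 = n5652 := d22_1 D7220 (iv D5652) (iv D4409) (iv F15177) D5642
theorem F24338 : act 6 n7220 = n5670 := d25_2 (iv F19232) D7220 (iv D5670)
theorem F24339 : act 7 n7220 = n5696 := d26_2 (iv F19233) D7220 (iv D5696)
def n7221 : Q := act 2 n5644
theorem D7221 : act 2 n5644 = n7221 := rfl
theorem F24340 : act 0 n7221 = n5645 := d1_1 D7221 (iv D5645) (iv F19240)
theorem F24341 : act 3 n7221 = n5857 := d13_2 D5644 D7221 (iv D5857) (iv D4568) (iv F15186)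
theorem F24342 : act 5 n7221 = n5692 := d15_2 (iv F19242) D7221 (iv D5692)
theorem F24343 : act 7 n7221 = n5648 := d17_2 (iv F19244) D7221 (iv D5648)
def n7222 : Q := act 4 n5644
theorem D7222 : act 4 n5644 = n7222 := rfl
theorem F24344 : act 0 n7222 = n5646 := d3_1 D7222 (iv D5646) (iv F19240)
theorem F24345 : act 1 n7222 = n5703 := d9_1 D7222 (iv D5703) (iv F19241)
theorem F24346 : act 3 n7222 = n5654 := d18_1 D7222 (iv D5654) (iv D4411) (iv F15187) D5644
theorem F24347 : act 6 n7222 = n7222 := d23_2 F19243 D7222 (iv D7222)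
theorem F24348 : act 7 n7222 = n5649 := d24_2 (iv F19244) D7222 (iv D5649)
def n7223 : Q := act 4 n5645
theorem D7223 : act 4 n5645 = n7223 := rfl
theorem F24349 : act 1 n7223 = n5699 := d9_1 D7223 (iv D5699) (iv F19245)
theorem F24350 : act 2 n7223 = n5646 := d14_1 D7223 (iv D5646) D5645
theorem F24351 : act 7 n7223 = n5650 := d24_2 (iv F19248) D7223 (iv D5650)
def n7224 : Q := act 6 n5645
theorem D7224 : act 6 n5645 = n7224 := rfl
theorem F24352 : act 1 n7224 = n5700 := d11_1 D7224 (iv D5700) (iv F19245)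
theorem F24353 : act 2 n7224 = n7224 := d16_1 D7224 (iv D7224) (iv D5645) F15193 D5645
theorem F24354 : act 3 n7224 = n5860 := d20_1 D7224 (iv D5860) (iv F19246)
theorem F24355 : act 5 n7224 = n5695 := d25_1 D7224 (iv D5695) (iv F19247)
def n7225 : Q := act 5 n5646
theorem D7225 : act 5 n5646 = n7225 := rfl
theorem F24356 : act 1 n7225 = n5647 := d10_1 D7225 (iv D5647) (iv F19249)
theorem F24357 : act 3 n7225 = n5657 := d19_1 D7225 (iv D5657) (iv F19250)
theorem F24358 : act 4 n7225 = n5696 := d22_1 D7225 (iv D5696) (iv D4442) (iv F15192) D5646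
theorem F24359 : act 6 n7225 = n7225 := d25_2 F19251 D7225 (iv D7225)
theorem F24360 : act 7 n7225 = n5652 := d26_2 (iv F19252) D7225 (iv D5652)
def n7226 : Q := act 1 n5648
theorem D7226 : act 1 n5648 = n7226 := rfl
theorem F24361 : act 2 n7226 = n5707 := d7_2 D5648 D7226 (iv D5707) (iv D4452) (iv F15201)
def n7227 : Q := act 4 n5648
theorem D7227 : act 4 n5648 = n7227 := rfl
theorem F24362 : act 0 n7227 = n5650 := d3_1 D7227 (iv D5650) (iv F19259)
theorem F24363 : act 2 n7227 = n5649 := d14_1 D7227 (iv D5649) D5648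
def n7228 : Q := act 6 n5648
theorem D7228 : act 6 n5648 = n7228 := rfl
theorem F24364 : act 0 n7228 = n5651 := d5_1 D7228 (iv D5651) (iv F19259)
theorem F24365 : act 2 n7228 = n5673 := d16_1 D7228 (iv D5673) (iv D4424) (iv F15202) D5648
def n7229 : Q := act 5 n5649
theorem D7229 : act 5 n5649 = n7229 := rfl
theorem F24366 : act 0 n7229 = n5652 := d4_1 D7229 (iv D5652) (iv F19260)
theorem F24367 : act 1 n7229 = n5710 := d10_1 D7229 (iv D5710) (iv F19261)
theorem F24368 : act 3 n7229 = n5661 := d19_1 D7229 (iv D5661) (iv F19262)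
theorem F24369 : act 6 n7229 = n5674 := d25_2 (iv F19263) D7229 (iv D5674)
def n7230 : Q := act 3 n5650
theorem D7230 : act 3 n5650 = n7230 := rfl
theorem F24370 : act 2 n7230 = n5662 := d13_1 D7230 (iv D5662) F15231 (iv F15204) (iv F19264)
def n7231 : Q := act 5 n5650
theorem D7231 : act 5 n5650 = n7231 := rfl
theorem F24371 : act 2 n7231 = n5652 := d15_1 D7231 (iv D5652) (iv F19264)
def n7232 : Q := act 6 n5650
theorem D7232 : act 6 n5650 = n7232 := rfl
theorem F24372 : act 2 n7232 = n5677 := d16_1 D7232 (iv D5677) F15262 (iv F15205) (iv F19264)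
theorem F24373 : act 4 n7232 = n5651 := d23_1 D7232 (iv D5651) D5650
def n7233 : Q := act 7 n5651
theorem D7233 : act 7 n5651 = n7233 := rfl
theorem F24374 : act 2 n7233 = n5678 := d17_1 D7233 (iv D5678) (iv F19265)
def n7234 : Q := act 1 n5653
theorem D7234 : act 1 n5653 = n7234 := rfl
theorem F24375 : act 0 n7234 = n7234 := d0_1 D7234 (iv D7234) F19269 F15214 (iv F19269)
theorem F24376 : act 2 n7234 = n5715 := d7_2 D5653 D7234 (iv D5715) (iv D4457) (iv F15210)
theorem F24377 : act 5 n7234 = n7234 := d10_2 F19270 D7234 (iv D7234)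
theorem F24378 : act 7 n7234 = n5658 := d12_2 (iv F19271) D7234 (iv D5658)
def n7235 : Q := act 4 n5653
theorem D7235 : act 4 n5653 = n7235 := rfl
theorem F24379 : act 0 n7235 = n5655 := d3_1 D7235 (iv D5655) (iv F19269)
theorem F24380 : act 2 n7235 = n5654 := d14_1 D7235 (iv D5654) D5653
theorem F24381 : act 7 n7235 = n5659 := d24_2 (iv F19271) D7235 (iv D5659)
def n7236 : Q := act 6 n5653
theorem D7236 : act 6 n5653 = n7236 := rfl
theorem F24382 : act 0 n7236 = n5656 := d5_1 D7236 (iv D5656) (iv F19269)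
theorem F24383 : act 2 n7236 = n7236 := d16_1 D7236 (iv D7236) (iv D5653) F15212 D5653
theorem F24384 : act 5 n7236 = n7236 := d25_1 D7236 (iv D7236) F19270
def n7237 : Q := act 5 n5654
theorem D7237 : act 5 n5654 = n7237 := rfl
theorem F24385 : act 0 n7237 = n5657 := d4_1 D7237 (iv D5657) (iv F19272)
theorem F24386 : act 1 n7237 = n5718 := d10_1 D7237 (iv D5718) (iv F19273)
theorem F24387 : act 4 n7237 = n7237 := d22_1 D7237 (iv D7237) (iv D5654) F15211 D5654
theorem F24388 : act 6 n7237 = n7237 := d25_2 F19274 D7237 (iv D7237)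
theorem F24389 : act 7 n7237 = n5661 := d26_2 (iv F19275) D7237 (iv D5661)
def n7238 : Q := act 3 n5655
theorem D7238 : act 3 n5655 = n7238 := rfl
theorem F24390 : act 1 n7238 = n7238 := d8_1 D7238 (iv D7238) F19276
theorem F24391 : act 7 n7238 = n5662 := d21_2 (iv F19278) D7238 (iv D5662)
def n7239 : Q := act 5 n5655
theorem D7239 : act 5 n5655 = n7239 := rfl
theorem F24392 : act 1 n7239 = n7239 := d10_1 D7239 (iv D7239) F19276
theorem F24393 : act 2 n7239 = n5657 := d15_1 D7239 (iv D5657) (iv F19277)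
theorem F24394 : act 4 n7239 = n7239 := d22_1 D7239 (iv D7239) (iv D5655) F15215 D5655
theorem F24395 : act 7 n7239 = n5663 := d26_2 (iv F19278) D7239 (iv D5663)
def n7240 : Q := act 6 n5655
theorem D7240 : act 6 n5655 = n7240 := rfl
theorem F24396 : act 1 n7240 = n7240 := d11_1 D7240 (iv D7240) F19276
theorem F24397 : act 2 n7240 = n7240 := d16_1 D7240 (iv D7240) F19277 F15218 (iv F19277)
theorem F24398 : act 4 n7240 = n5656 := d23_1 D7240 (iv D5656) D5655
def n7241 : Q := act 7 n5656
theorem D7241 : act 7 n5656 = n7241 := rfl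
theorem F24399 : act 1 n7241 = n7241 := d12_1 D7241 (iv D7241) F19279
theorem F24400 : act 2 n7241 = n7241 := d17_1 D7241 (iv D7241) F19280
theorem F24401 : act 5 n7241 = n7241 := d26_1 D7241 (iv D7241) F19281
theorem F24402 : act 6 n7241 = n5665 := d27_1 D7241 (iv D5665) (iv D4418) (iv F15216) D5656
def n7242 : Q := act 4 n5658
theorem D7242 : act 4 n5658 = n7242 := rfl
theorem F24403 : act 0 n7242 = n7242 := d3_1 D7242 (iv D7242) F19286
theorem F24404 : act 1 n7242 = n5659 := d9_1 D7242 (iv D5659) D5658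
theorem F24405 : act 2 n7242 = n5722 := d14_1 D7242 (iv D5722) (iv F19287)
def n7243 : Q := act 6 n5658
theorem D7243 : act 6 n5658 = n7243 := rfl
theorem F24406 : act 0 n7243 = n7243 := d5_1 D7243 (iv D7243) F19286
theorem F24407 : act 1 n7243 = n5660 := d11_1 D7243 (iv D5660) D5658
theorem F24408 : act 2 n7243 = n7243 := d16_1 D7243 (iv D7243) F19287 F15375 (iv F19287)
theorem F24409 : act 5 n7243 = n7243 := d25_1 D7243 (iv D7243) F19288
def n7244 : Q := act 3 n5659
theorem D7244 : act 3 n5659 = n7244 := rfl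
theorem F24410 : act 0 n7244 = n5662 := d2_1 D7244 (iv D5662) (iv F19289)
def n7245 : Q := act 5 n5659
theorem D7245 : act 5 n5659 = n7245 := rfl
theorem F24411 : act 0 n7245 = n5663 := d4_1 D7245 (iv D5663) (iv F19289)
theorem F24412 : act 2 n7245 = n5661 := d15_1 D7245 (iv D5661) (iv F19290)
theorem F24413 : act 4 n7245 = n7245 := d22_1 D7245 (iv D7245) (iv D5659) F15226 D5659
def n7246 : Q := act 6 n5659
theorem D7246 : act 6 n5659 = n7246 := rfl
theorem F24414 : act 0 n7246 = n5664 := d5_1 D7246 (iv D5664) (iv F19289)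
theorem F24415 : act 2 n7246 = n5681 := d16_1 D7246 (iv D5681) F15271 (iv F15229) (iv F19290)
theorem F24416 : act 4 n7246 = n5660 := d23_1 D7246 (iv D5660) D5659
def n7247 : Q := act 7 n5660
theorem D7247 : act 7 n5660 = n7247 := rfl
theorem F24417 : act 0 n7247 = n5665 := d6_1 D7247 (iv D5665) (iv F19291)
theorem F24418 : act 2 n7247 = n5682 := d17_1 D7247 (iv D5682) (iv F19292)
theorem F24419 : act 5 n7247 = n7247 := d26_1 D7247 (iv D7247) F19293
def n7248 : Q := act 5 n5662
theorem D7248 : act 5 n5662 = n7248 := rfl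
def n7249 : Q := act 6 n5662
theorem D7249 : act 6 n5662 = n7249 := rfl
def n7250 : Q := act 6 n5663
theorem D7250 : act 6 n5663 = n7250 := rfl
theorem F24427 : act 5 n7250 = n5664 := d25_1 D7250 (iv D5664) D5663
def n7251 : Q := act 7 n5664
theorem D7251 : act 7 n5664 = n7251 := rfl
theorem F24430 : act 4 n7251 = n5665 := d24_1 D7251 (iv D5665) (iv F19304)
def n7252 : Q := act 1 n5666
theorem D7252 : act 1 n5666 = n7252 := rfl
theorem F24431 : act 0 n7252 = n7252 := d0_1 D7252 (iv D7252) F19308 F15242 (iv F19308)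
theorem F24432 : act 2 n7252 = n5726 := d7_2 D5666 D7252 (iv D5726) (iv D4467) (iv F15239)
theorem F24433 : act 3 n7252 = n7252 := d8_2 F19309 D7252 (iv D7252)
theorem F24434 : act 5 n7252 = n5671 := d10_2 (iv F19310) D7252 (iv D5671)
theorem F24435 : act 7 n7252 = n7252 := d12_2 F19311 D7252 (iv D7252)
def n7253 : Q := act 4 n5666
theorem D7253 : act 4 n5666 = n7253 := rfl
theorem F24436 : act 0 n7253 = n5668 := d3_1 D7253 (iv D5668) (iv F19308)
theorem F24437 : act 2 n7253 = n5667 := d14_1 D7253 (iv D5667) D5666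
theorem F24438 : act 7 n7253 = n7253 := d24_2 F19311 D7253 (iv D7253)
def n7254 : Q := act 6 n5666
theorem D7254 : act 6 n5666 = n7254 := rfl
theorem F24439 : act 0 n7254 = n5669 := d5_1 D7254 (iv D5669) (iv F19308)
theorem F24440 : act 3 n7254 = n7254 := d20_1 D7254 (iv D7254) F19309
theorem F24441 : act 5 n7254 = n5673 := d25_1 D7254 (iv D5673) (iv F19310)
def n7255 : Q := act 5 n5667
theorem D7255 : act 5 n5667 = n7255 := rfl
theorem F24442 : act 0 n7255 = n5670 := d4_1 D7255 (iv D5670) (iv F19312)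
theorem F24443 : act 1 n7255 = n5729 := d10_1 D7255 (iv D5729) (iv F19313)
theorem F24444 : act 3 n7255 = n7255 := d19_1 D7255 (iv D7255) F19314
theorem F24445 : act 4 n7255 = n5674 := d22_1 D7255 (iv D5674) (iv D4425) (iv F15240) D5667
theorem F24446 : act 7 n7255 = n7255 := d26_2 F19315 D7255 (iv D7255)
def n7256 : Q := act 3 n5668
theorem D7256 : act 3 n5668 = n7256 := rfl
theorem F24447 : act 1 n7256 = n7256 := d8_1 D7256 (iv D7256) F19316
theorem F24448 : act 2 n7256 = n7256 := d13_1 D7256 (iv D7256) F19317 F15247 (iv F19317)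
theorem F24449 : act 4 n7256 = n7256 := d18_2 D5668 D7256 (iv D7256) (iv D5668) F15243
theorem F24450 : act 7 n7256 = n7256 := d21_2 F19318 D7256 (iv D7256)
def n7257 : Q := act 5 n5668
theorem D7257 : act 5 n5668 = n7257 := rfl
theorem F24451 : act 1 n7257 = n7257 := d10_1 D7257 (iv D7257) F19316
theorem F24452 : act 2 n7257 = n5670 := d15_1 D7257 (iv D5670) (iv F19317)
theorem F24453 : act 4 n7257 = n5676 := d22_1 D7257 (iv D5676) (iv D4426) (iv F15244) D5668
theorem F24454 : act 7 n7257 = n7257 := d26_2 F19318 D7257 (iv D7257)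
def n7258 : Q := act 6 n5668
theorem D7258 : act 6 n5668 = n7258 := rfl
theorem F24455 : act 1 n7258 = n7258 := d11_1 D7258 (iv D7258) F19316
theorem F24456 : act 4 n7258 = n5669 := d23_1 D7258 (iv D5669) D5668
def n7259 : Q := act 7 n5669
theorem D7259 : act 7 n5669 = n7259 := rfl
theorem F24457 : act 1 n7259 = n7259 := d12_1 D7259 (iv D7259) F19319
theorem F24458 : act 3 n7259 = n7259 := d21_1 D7259 (iv D7259) F19320
theorem F24459 : act 5 n7259 = n5678 := d26_1 D7259 (iv D5678) (iv F19321)
theorem F24460 : act 6 n7259 = n7259 := d27_1 D7259 (iv D7259) (iv D5669) F15245 D5669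
def n7260 : Q := act 4 n5671
theorem D7260 : act 4 n5671 = n7260 := rfl
theorem F24461 : act 0 n7260 = n7260 := d3_1 D7260 (iv D7260) F19326
theorem F24462 : act 1 n7260 = n5672 := d9_1 D7260 (iv D5672) D5671
theorem F24463 : act 2 n7260 = n5734 := d14_1 D7260 (iv D5734) (iv F19327)
theorem F24464 : act 7 n7260 = n7260 := d24_2 F19329 D7260 (iv D7260)
def n7261 : Q := act 6 n5671
theorem D7261 : act 6 n5671 = n7261 := rfl
theorem F24465 : act 0 n7261 = n7261 := d5_1 D7261 (iv D7261) F19326
theorem F24466 : act 1 n7261 = n5673 := d11_1 D7261 (iv D5673) D5671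
theorem F24467 : act 3 n7261 = n7261 := d20_1 D7261 (iv D7261) F19328
def n7262 : Q := act 3 n5672
theorem D7262 : act 3 n5672 = n7262 := rfl
theorem F24468 : act 0 n7262 = n5675 := d2_1 D7262 (iv D5675) (iv F19330)
theorem F24469 : act 2 n7262 = n5679 := d13_1 D7262 (iv D5679) F15271 (iv F15259) (iv F19331)
theorem F24470 : act 4 n7262 = n7262 := d18_2 D5672 D7262 (iv D7262) (iv D5672) F15255
theorem F24471 : act 7 n7262 = n7262 := d21_2 F19332 D7262 (iv D7262)
def n7263 : Q := act 5 n5672
theorem D7263 : act 5 n5672 = n7263 := rfl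
theorem F24472 : act 0 n7263 = n5676 := d4_1 D7263 (iv D5676) (iv F19330)
theorem F24473 : act 2 n7263 = n5674 := d15_1 D7263 (iv D5674) (iv F19331)
theorem F24474 : act 7 n7263 = n7263 := d26_2 F19332 D7263 (iv D7263)
def n7264 : Q := act 6 n5672
theorem D7264 : act 6 n5672 = n7264 := rfl
theorem F24475 : act 0 n7264 = n5677 := d5_1 D7264 (iv D5677) (iv F19330)
theorem F24476 : act 4 n7264 = n5673 := d23_1 D7264 (iv D5673) D5672
def n7265 : Q := act 7 n5673
theorem D7265 : act 7 n5673 = n7265 := rfl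
theorem F24477 : act 0 n7265 = n5678 := d6_1 D7265 (iv D5678) (iv F19333)
theorem F24478 : act 3 n7265 = n7265 := d21_1 D7265 (iv D7265) F19334
theorem F24479 : act 6 n7265 = n7265 := d27_1 D7265 (iv D7265) (iv D5673) F15256 D5673
def n7266 : Q := act 5 n5675
theorem D7266 : act 5 n5675 = n7266 := rfl
theorem F24482 : act 3 n7266 = n5676 := d19_1 D7266 (iv D5676) D5675
def n7267 : Q := act 6 n5675
theorem D7267 : act 6 n5675 = n7267 := rfl
theorem F24485 : act 3 n7267 = n5677 := d20_1 D7267 (iv D5677) D5675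
def n7268 : Q := act 6 n5676
theorem D7268 : act 6 n5676 = n7268 := rfl
theorem F24488 : act 5 n7268 = n5677 := d25_1 D7268 (iv D5677) D5676
def n7269 : Q := act 7 n5677
theorem D7269 : act 7 n5677 = n7269 := rfl
theorem F24490 : act 4 n7269 = n5678 := d24_1 D7269 (iv D5678) (iv F19347)
def n7270 : Q := act 5 n5679
theorem D7270 : act 5 n5679 = n7270 := rfl
theorem F24494 : act 3 n7270 = n5680 := d19_1 D7270 (iv D5680) D5679
def n7271 : Q := act 6 n5679
theorem D7271 : act 6 n5679 = n7271 := rfl
theorem F24498 : act 3 n7271 = n5681 := d20_1 D7271 (iv D5681) D5679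
def n7272 : Q := act 6 n5680
theorem D7272 : act 6 n5680 = n7272 := rfl
theorem F24503 : act 5 n7272 = n5681 := d25_1 D7272 (iv D5681) D5680
def n7273 : Q := act 7 n5681
theorem D7273 : act 7 n5681 = n7273 := rfl
theorem F24506 : act 4 n7273 = n5682 := d24_1 D7273 (iv D5682) (iv F19362)
def n7275 : Q := act 6 n5683
theorem D7275 : act 6 n5683 = n7275 := rfl
theorem F24513 : act 3 n7275 = n5685 := d20_1 D7275 (iv D5685) (iv F19369)
def n7284 : Q := act 1 n5692
theorem D7284 : act 1 n5692 = n7284 := rfl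
theorem F24543 : act 0 n7284 = n5707 := d0_1 D7284 (iv D5707) F15342 (iv F15311) (iv F19401)
theorem F24544 : act 3 n7284 = n5867 := d8_2 (iv F19402) D7284 (iv D5867)
def n7285 : Q := act 4 n5692
theorem D7285 : act 4 n5692 = n7285 := rfl
theorem F24545 : act 0 n7285 = n5694 := d3_1 D7285 (iv D5694) (iv F19401)
theorem F24546 : act 2 n7285 = n5693 := d14_1 D7285 (iv D5693) D5692
def n7286 : Q := act 6 n5692
theorem D7286 : act 6 n5692 = n7286 := rfl
theorem F24547 : act 0 n7286 = n5695 := d5_1 D7286 (iv D5695) (iv F19401)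
theorem F24548 : act 2 n7286 = n7286 := d16_1 D7286 (iv D7286) (iv D5692) F15310 D5692
theorem F24549 : act 3 n7286 = n5869 := d20_1 D7286 (iv D5869) (iv F19402)
def n7287 : Q := act 5 n5693
theorem D7287 : act 5 n5693 = n7287 := rfl
theorem F24550 : act 0 n7287 = n5696 := d4_1 D7287 (iv D5696) (iv F19403)
theorem F24551 : act 3 n7287 = n7287 := d19_1 D7287 (iv D7287) F19404
theorem F24552 : act 6 n7287 = n7287 := d25_2 F19405 D7287 (iv D7287)
def n7288 : Q := act 3 n5694
theorem D7288 : act 3 n5694 = n7288 := rfl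
theorem F24553 : act 1 n7288 = n5711 := d8_1 D7288 (iv D5711) (iv F19406)
theorem F24554 : act 2 n7288 = n7288 := d13_1 D7288 (iv D7288) F19407 F15314 (iv F19407)
theorem F24555 : act 4 n7288 = n5871 := d18_2 D5694 D7288 (iv D5871) (iv D4578) (iv F15312)
def n7289 : Q := act 5 n5694
theorem D7289 : act 5 n5694 = n7289 := rfl
theorem F24556 : act 1 n7289 = n5712 := d10_1 D7289 (iv D5712) (iv F19406)
theorem F24557 : act 2 n7289 = n5696 := d15_1 D7289 (iv D5696) (iv F19407)
def n7290 : Q := act 6 n5694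
theorem D7290 : act 6 n5694 = n7290 := rfl
theorem F24558 : act 1 n7290 = n5713 := d11_1 D7290 (iv D5713) (iv F19406)
theorem F24559 : act 2 n7290 = n7290 := d16_1 D7290 (iv D7290) F19407 F15315 (iv F19407)
theorem F24560 : act 4 n7290 = n5695 := d23_1 D7290 (iv D5695) D5694
def n7291 : Q := act 7 n5695
theorem D7291 : act 7 n5695 = n7291 := rfl
theorem F24561 : act 1 n7291 = n5714 := d12_1 D7291 (iv D5714) (iv F19408)
theorem F24562 : act 2 n7291 = n7291 := d17_1 D7291 (iv D7291) F19409
theorem F24563 : act 3 n7291 = n5874 := d21_1 D7291 (iv D5874) (iv F19410)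
def n7292 : Q := act 1 n5697
theorem D7292 : act 1 n5697 = n7292 := rfl
theorem F24564 : act 3 n7292 = n5880 := d8_2 (iv F19415) D7292 (iv D5880)
theorem F24565 : act 5 n7292 = n5707 := d10_2 (iv F19416) D7292 (iv D5707)
def n7293 : Q := act 4 n5697
theorem D7293 : act 4 n5697 = n7293 := rfl
theorem F24566 : act 0 n7293 = n5699 := d3_1 D7293 (iv D5699) (iv F19414)
theorem F24567 : act 2 n7293 = n5698 := d14_1 D7293 (iv D5698) D5697
def n7294 : Q := act 6 n5697
theorem D7294 : act 6 n5697 = n7294 := rfl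
theorem F24568 : act 0 n7294 = n5700 := d5_1 D7294 (iv D5700) (iv F19414)
theorem F24569 : act 2 n7294 = n5728 := d16_1 D7294 (iv D5728) (iv D4467) (iv F15321) D5697
theorem F24570 : act 3 n7294 = n5882 := d20_1 D7294 (iv D5882) (iv F19415)
theorem F24571 : act 5 n7294 = n5709 := d25_1 D7294 (iv D5709) (iv F19416)
def n7295 : Q := act 5 n5698
theorem D7295 : act 5 n5698 = n7295 := rfl
theorem F24572 : act 0 n7295 = n5701 := d4_1 D7295 (iv D5701) (iv F19417)
theorem F24573 : act 3 n7295 = n7295 := d19_1 D7295 (iv D7295) F19418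
theorem F24574 : act 4 n7295 = n5710 := d22_1 D7295 (iv D5710) (iv D4453) (iv F15320) D5698
theorem F24575 : act 6 n7295 = n5729 := d25_2 (iv F19419) D7295 (iv D5729)
def n7296 : Q := act 3 n5699
theorem D7296 : act 3 n5699 = n7296 := rfl
theorem F24576 : act 2 n7296 = n7296 := d13_1 D7296 (iv D7296) F19420 F15325 (iv F19420)
theorem F24577 : act 4 n7296 = n5884 := d18_2 D5699 D7296 (iv D5884) (iv D4587) (iv F15322)
def n7297 : Q := act 5 n5699
theorem D7297 : act 5 n5699 = n7297 := rfl
theorem F24578 : act 2 n7297 = n5701 := d15_1 D7297 (iv D5701) (iv F19420)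
theorem F24579 : act 4 n7297 = n5712 := d22_1 D7297 (iv D5712) (iv D4454) (iv F15323) D5699
def n7298 : Q := act 6 n5699
theorem D7298 : act 6 n5699 = n7298 := rfl
theorem F24580 : act 2 n7298 = n5732 := d16_1 D7298 (iv D5732) F15397 (iv F15326) (iv F19420)
theorem F24581 : act 4 n7298 = n5700 := d23_1 D7298 (iv D5700) D5699
def n7299 : Q := act 7 n5700
theorem D7299 : act 7 n5700 = n7299 := rfl
theorem F24582 : act 2 n7299 = n5733 := d17_1 D7299 (iv D5733) (iv F19421)
theorem F24584 : act 5 n7299 = n5714 := d26_1 D7299 (iv D5714) (iv F19423)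
def n7300 : Q := act 1 n5702
theorem D7300 : act 1 n5702 = n7300 := rfl
theorem F24585 : act 3 n7300 = n5888 := d8_2 (iv F19429) D7300 (iv D5888)
theorem F24586 : act 7 n7300 = n5707 := d12_2 (iv F19430) D7300 (iv D5707)
def n7301 : Q := act 4 n5702
theorem D7301 : act 4 n5702 = n7301 := rfl
theorem F24587 : act 0 n7301 = n5704 := d3_1 D7301 (iv D5704) (iv F19428)
theorem F24588 : act 2 n7301 = n5703 := d14_1 D7301 (iv D5703) D5702
theorem F24589 : act 7 n7301 = n5708 := d24_2 (iv F19430) D7301 (iv D5708)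
def n7302 : Q := act 6 n5702
theorem D7302 : act 6 n5702 = n7302 := rfl
theorem F24590 : act 0 n7302 = n5705 := d5_1 D7302 (iv D5705) (iv F19428)
theorem F24591 : act 2 n7302 = n7302 := d16_1 D7302 (iv D7302) (iv D5702) F15331 D5702
theorem F24592 : act 3 n7302 = n5890 := d20_1 D7302 (iv D5890) (iv F19429)
def n7303 : Q := act 5 n5703
theorem D7303 : act 5 n5703 = n7303 := rfl
theorem F24593 : act 0 n7303 = n5706 := d4_1 D7303 (iv D5706) (iv F19431)
theorem F24594 : act 3 n7303 = n5718 := d19_1 D7303 (iv D5718) (iv F19432)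
theorem F24595 : act 6 n7303 = n7303 := d25_2 F19433 D7303 (iv D7303)
theorem F24596 : act 7 n7303 = n5710 := d26_2 (iv F19434) D7303 (iv D5710)
def n7304 : Q := act 3 n5704
theorem D7304 : act 3 n5704 = n7304 := rfl
theorem F24597 : act 2 n7304 = n5719 := d13_1 D7304 (iv D5719) F15361 (iv F15336) (iv F19435)
theorem F24598 : act 4 n7304 = n5892 := d18_2 D5704 D7304 (iv D5892) (iv D4592) (iv F15333)
theorem F24599 : act 7 n7304 = n5711 := d21_2 (iv F19436) D7304 (iv D5711)
def n7305 : Q := act 5 n5704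
theorem D7305 : act 5 n5704 = n7305 := rfl
theorem F24600 : act 2 n7305 = n5706 := d15_1 D7305 (iv D5706) (iv F19435)
theorem F24601 : act 7 n7305 = n5712 := d26_2 (iv F19436) D7305 (iv D5712)
def n7306 : Q := act 6 n5704
theorem D7306 : act 6 n5704 = n7306 := rfl
theorem F24602 : act 2 n7306 = n7306 := d16_1 D7306 (iv D7306) F19435 F15337 (iv F19435)
theorem F24603 : act 4 n7306 = n5705 := d23_1 D7306 (iv D5705) D5704
def n7307 : Q := act 7 n5705
theorem D7307 : act 7 n5705 = n7307 := rfl
theorem F24604 : act 2 n7307 = n7307 := d17_1 D7307 (iv D7307) F19437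
theorem F24605 : act 3 n7307 = n5895 := d21_1 D7307 (iv D5895) (iv F19438)
theorem F24606 : act 6 n7307 = n5714 := d27_1 D7307 (iv D5714) (iv D4455) (iv F15334) D5705
def n7308 : Q := act 4 n5707
theorem D7308 : act 4 n5707 = n7308 := rfl
theorem F24607 : act 1 n7308 = n5708 := d9_1 D7308 (iv D5708) D5707
def n7309 : Q := act 6 n5707
theorem D7309 : act 6 n5707 = n7309 := rfl
theorem F24608 : act 1 n7309 = n5709 := d11_1 D7309 (iv D5709) D5707
theorem F24609 : act 3 n7309 = n5897 := d20_1 D7309 (iv D5897) (iv F19443)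
def n7310 : Q := act 3 n5708
theorem D7310 : act 3 n5708 = n7310 := rfl
theorem F24610 : act 0 n7310 = n5711 := d2_1 D7310 (iv D5711) (iv F19444)
theorem F24611 : act 2 n7310 = n5723 := d13_1 D7310 (iv D5723) F15377 (iv F15345) (iv F19445)
theorem F24612 : act 4 n7310 = n5898 := d18_2 D5708 D7310 (iv D5898) (iv D4596) (iv F15343)
def n7311 : Q := act 5 n5708
theorem D7311 : act 5 n5708 = n7311 := rfl
theorem F24613 : act 0 n7311 = n5712 := d4_1 D7311 (iv D5712) (iv F19444)
theorem F24614 : act 2 n7311 = n5710 := d15_1 D7311 (iv D5710) (iv F19445)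
def n7312 : Q := act 6 n5708
theorem D7312 : act 6 n5708 = n7312 := rfl
theorem F24615 : act 0 n7312 = n5713 := d5_1 D7312 (iv D5713) (iv F19444)
theorem F24616 : act 2 n7312 = n5737 := d16_1 D7312 (iv D5737) F15410 (iv F15346) (iv F19445)
theorem F24617 : act 4 n7312 = n5709 := d23_1 D7312 (iv D5709) D5708
def n7313 : Q := act 7 n5709
theorem D7313 : act 7 n5709 = n7313 := rfl
theorem F24618 : act 0 n7313 = n5714 := d6_1 D7313 (iv D5714) (iv F19446)
theorem F24619 : act 2 n7313 = n5738 := d17_1 D7313 (iv D5738) (iv F19447)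
theorem F24620 : act 3 n7313 = n5901 := d21_1 D7313 (iv D5901) (iv F19448)
def n7314 : Q := act 5 n5711
theorem D7314 : act 5 n5711 = n7314 := rfl
theorem F24621 : act 2 n7314 = n5725 := d15_1 D7314 (iv D5725) (iv F19452)
theorem F24622 : act 3 n7314 = n5712 := d19_1 D7314 (iv D5712) D5711
def n7315 : Q := act 6 n5711
theorem D7315 : act 6 n5711 = n7315 := rfl
theorem F24623 : act 2 n7315 = n7315 := d16_1 D7315 (iv D7315) F19452 F15384 (iv F19452)
theorem F24624 : act 3 n7315 = n5713 := d20_1 D7315 (iv D5713) D5711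
theorem F24625 : act 4 n7315 = n5903 := d23_1 D7315 (iv D5903) (iv F19453)
def n7316 : Q := act 6 n5712
theorem D7316 : act 6 n5712 = n7316 := rfl
theorem F24626 : act 2 n7316 = n5739 := d16_1 D7316 (iv D5739) F15419 (iv F15352) (iv F19454)
theorem F24627 : act 5 n7316 = n5713 := d25_1 D7316 (iv D5713) D5712
def n7317 : Q := act 7 n5713
theorem D7317 : act 7 n5713 = n7317 := rfl
theorem F24628 : act 2 n7317 = n5740 := d17_1 D7317 (iv D5740) (iv F19455)
theorem F24629 : act 4 n7317 = n5714 := d24_1 D7317 (iv D5714) (iv F19456)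
def n7318 : Q := act 4 n5715
theorem D7318 : act 4 n5715 = n7318 := rfl
theorem F24630 : act 0 n7318 = n7318 := d3_1 D7318 (iv D7318) F19459
theorem F24631 : act 1 n7318 = n5716 := d9_1 D7318 (iv D5716) D5715
theorem F24632 : act 7 n7318 = n5722 := d24_2 (iv F19462) D7318 (iv D5722)
def n7319 : Q := act 6 n5715
theorem D7319 : act 6 n5715 = n7319 := rfl
theorem F24633 : act 0 n7319 = n7319 := d5_1 D7319 (iv D7319) F19459
theorem F24634 : act 1 n7319 = n5717 := d11_1 D7319 (iv D5717) D5715
theorem F24635 : act 3 n7319 = n5907 := d20_1 D7319 (iv D5907) (iv F19460)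
theorem F24636 : act 5 n7319 = n7319 := d25_1 D7319 (iv D7319) F19461
theorem F24637 : act 7 n7319 = n7319 := d27_2 (iv F19462) D7319 (iv D7319) F19462 F15375
def n7320 : Q := act 3 n5716
theorem D7320 : act 3 n5716 = n7320 := rfl
theorem F24638 : act 0 n7320 = n5719 := d2_1 D7320 (iv D5719) (iv F19463)
theorem F24639 : act 4 n7320 = n5908 := d18_2 D5716 D7320 (iv D5908) (iv D4604) (iv F15354)
theorem F24640 : act 7 n7320 = n5723 := d21_2 (iv F19465) D7320 (iv D5723)
def n7321 : Q := act 5 n5716
theorem D7321 : act 5 n5716 = n7321 := rfl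
theorem F24641 : act 0 n7321 = n5720 := d4_1 D7321 (iv D5720) (iv F19463)
theorem F24642 : act 2 n7321 = n5718 := d15_1 D7321 (iv D5718) (iv F19464)
theorem F24643 : act 4 n7321 = n7321 := d22_1 D7321 (iv D7321) (iv D5716) F15355 D5716
theorem F24644 : act 7 n7321 = n5724 := d26_2 (iv F19465) D7321 (iv D5724)
def n7322 : Q := act 6 n5716
theorem D7322 : act 6 n5716 = n7322 := rfl
theorem F24645 : act 0 n7322 = n5721 := d5_1 D7322 (iv D5721) (iv F19463)
theorem F24646 : act 2 n7322 = n7322 := d16_1 D7322 (iv D7322) F19464 F15358 (iv F19464)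
theorem F24647 : act 4 n7322 = n5717 := d23_1 D7322 (iv D5717) D5716
theorem F24648 : act 7 n7322 = n7322 := d27_2 (iv F19465) D7322 (iv D7322) F19465 F15378
def n7323 : Q := act 5 n5719
theorem D7323 : act 5 n5719 = n7323 := rfl
theorem F24650 : act 3 n7323 = n5720 := d19_1 D7323 (iv D5720) D5719
theorem F24651 : act 7 n7323 = n5725 := d26_2 (iv F19477) D7323 (iv D5725)
def n7324 : Q := act 6 n5719
theorem D7324 : act 6 n5719 = n7324 := rfl
def n7325 : Q := act 6 n5720
theorem D7325 : act 6 n5720 = n7325 := rfl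
theorem F24659 : act 5 n7325 = n5721 := d25_1 D7325 (iv D5721) D5720
def n7326 : Q := act 3 n5722
theorem D7326 : act 3 n5722 = n7326 := rfl
theorem F24661 : act 0 n7326 = n7326 := d2_1 D7326 (iv D7326) F19486
theorem F24662 : act 1 n7326 = n5723 := d8_1 D7326 (iv D5723) (iv F19487)
theorem F24663 : act 4 n7326 = n5914 := d18_2 D5722 D7326 (iv D5914) (iv D4610) (iv F15373)
theorem F24664 : act 6 n7326 = n7326 := d20_2 F19488 D7326 (iv D7326)
def n7327 : Q := act 5 n5722
theorem D7327 : act 5 n5722 = n7327 := rfl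
theorem F24665 : act 0 n7327 = n7327 := d4_1 D7327 (iv D7327) F19486
theorem F24666 : act 1 n7327 = n5724 := d10_1 D7327 (iv D5724) (iv F19487)
theorem F24667 : act 4 n7327 = n7327 := d22_1 D7327 (iv D7327) (iv D5722) F15374 D5722
theorem F24668 : act 6 n7327 = n7327 := d25_2 F19488 D7327 (iv D7327)
def n7328 : Q := act 5 n5723
theorem D7328 : act 5 n5723 = n7328 := rfl
theorem F24669 : act 0 n7328 = n5725 := d4_1 D7328 (iv D5725) (iv F19489)
theorem F24670 : act 3 n7328 = n5724 := d19_1 D7328 (iv D5724) D5723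
theorem F24671 : act 6 n7328 = n7328 := d25_2 F19491 D7328 (iv D7328)
def n7329 : Q := act 4 n5725
theorem D7329 : act 4 n5725 = n7329 := rfl
def n7330 : Q := act 4 n5726
theorem D7330 : act 4 n5726 = n7330 := rfl
theorem F24676 : act 0 n7330 = n7330 := d3_1 D7330 (iv D7330) F19499
theorem F24677 : act 1 n7330 = n5727 := d9_1 D7330 (iv D5727) D5726
theorem F24678 : act 7 n7330 = n7330 := d24_2 F19502 D7330 (iv D7330)
def n7331 : Q := act 6 n5726
theorem D7331 : act 6 n5726 = n7331 := rfl
theorem F24679 : act 0 n7331 = n7331 := d5_1 D7331 (iv D7331) F19499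
theorem F24680 : act 1 n7331 = n5728 := d11_1 D7331 (iv D5728) D5726
theorem F24681 : act 3 n7331 = n5742 := d20_1 D7331 (iv D5742) (iv F19500)
theorem F24682 : act 5 n7331 = n5735 := d25_1 D7331 (iv D5735) (iv F19501)
def n7332 : Q := act 3 n5727
theorem D7332 : act 3 n5727 = n7332 := rfl
theorem F24683 : act 0 n7332 = n5730 := d2_1 D7332 (iv D5730) (iv F19503)
theorem F24684 : act 2 n7332 = n7332 := d13_1 D7332 (iv D7332) F19504 F15394 (iv F19504)
theorem F24685 : act 4 n7332 = n5743 := d18_2 D5727 D7332 (iv D5743) (iv D4480) (iv F15390)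
theorem F24686 : act 7 n7332 = n7332 := d21_2 F19505 D7332 (iv D7332)
def n7333 : Q := act 5 n5727
theorem D7333 : act 5 n5727 = n7333 := rfl
theorem F24687 : act 0 n7333 = n5731 := d4_1 D7333 (iv D5731) (iv F19503)
theorem F24688 : act 2 n7333 = n5729 := d15_1 D7333 (iv D5729) (iv F19504)
theorem F24689 : act 4 n7333 = n5736 := d22_1 D7333 (iv D5736) (iv D4473) (iv F15391) D5727
theorem F24690 : act 7 n7333 = n7333 := d26_2 F19505 D7333 (iv D7333)
def n7334 : Q := act 6 n5727
theorem D7334 : act 6 n5727 = n7334 := rfl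
theorem F24691 : act 0 n7334 = n5732 := d5_1 D7334 (iv D5732) (iv F19503)
theorem F24692 : act 4 n7334 = n5728 := d23_1 D7334 (iv D5728) D5727
def n7335 : Q := act 7 n5728
theorem D7335 : act 7 n5728 = n7335 := rfl
theorem F24693 : act 0 n7335 = n5733 := d6_1 D7335 (iv D5733) (iv F19506)
theorem F24694 : act 3 n7335 = n5745 := d21_1 D7335 (iv D5745) (iv F19507)
theorem F24695 : act 5 n7335 = n5738 := d26_1 D7335 (iv D5738) (iv F19508)
theorem F24696 : act 6 n7335 = n7335 := d27_1 D7335 (iv D7335) (iv D5728) F15392 D5728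
def n7336 : Q := act 5 n5730
theorem D7336 : act 5 n5730 = n7336 := rfl
theorem F24697 : act 1 n7336 = n7336 := d10_1 D7336 (iv D7336) F19513
theorem F24698 : act 2 n7336 = n7336 := d15_1 D7336 (iv D7336) F19514
theorem F24699 : act 3 n7336 = n5731 := d19_1 D7336 (iv D5731) D5730
theorem F24700 : act 4 n7336 = n7336 := d22_1 D7336 (iv D7336) F19515 F15441 (iv F19515)
theorem F24701 : act 7 n7336 = n7336 := d26_2 F19516 D7336 (iv D7336)
def n7337 : Q := act 6 n5730
theorem D7337 : act 6 n5730 = n7337 := rfl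
theorem F24703 : act 3 n7337 = n5732 := d20_1 D7337 (iv D5732) D5730
theorem F24704 : act 4 n7337 = n5746 := d23_1 D7337 (iv D5746) (iv F19515)
def n7338 : Q := act 6 n5731
theorem D7338 : act 6 n5731 = n7338 := rfl
theorem F24705 : act 1 n7338 = n7338 := d11_1 D7338 (iv D7338) F19517
theorem F24706 : act 4 n7338 = n5739 := d23_1 D7338 (iv D5739) (iv F19519)
theorem F24707 : act 5 n7338 = n5732 := d25_1 D7338 (iv D5732) D5731
def n7339 : Q := act 7 n5732
theorem D7339 : act 7 n5732 = n7339 := rfl
theorem F24708 : act 1 n7339 = n7339 := d12_1 D7339 (iv D7339) F19521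
theorem F24709 : act 4 n7339 = n5733 := d24_1 D7339 (iv D5733) (iv F19522)
theorem F24710 : act 6 n7339 = n7339 := d27_1 D7339 (iv D7339) (iv D5732) F15398 D5732
def n7340 : Q := act 5 n5734
theorem D7340 : act 5 n5734 = n7340 := rfl
theorem F24711 : act 0 n7340 = n7340 := d4_1 D7340 (iv D7340) F19527
theorem F24712 : act 1 n7340 = n5736 := d10_1 D7340 (iv D5736) (iv F19528)
theorem F24713 : act 3 n7340 = n7340 := d19_1 D7340 (iv D7340) F19529
theorem F24714 : act 7 n7340 = n7340 := d26_2 F19530 D7340 (iv D7340)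
def n7341 : Q := act 6 n5734
theorem D7341 : act 6 n5734 = n7341 := rfl
theorem F24715 : act 0 n7341 = n7341 := d5_1 D7341 (iv D7341) F19527
theorem F24716 : act 1 n7341 = n5737 := d11_1 D7341 (iv D5737) (iv F19528)
theorem F24717 : act 3 n7341 = n7341 := d20_1 D7341 (iv D7341) F19529
theorem F24718 : act 4 n7341 = n5735 := d23_1 D7341 (iv D5735) D5734
def n7342 : Q := act 2 n5735
theorem D7342 : act 2 n5735 = n7342 := rfl
theorem F24719 : act 0 n7342 = n7342 := d1_1 D7342 (iv D7342) F19531
def n7343 : Q := act 7 n5735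
theorem D7343 : act 7 n5735 = n7343 := rfl
theorem F24720 : act 0 n7343 = n7343 := d6_1 D7343 (iv D7343) F19531
theorem F24721 : act 1 n7343 = n5738 := d12_1 D7343 (iv D5738) (iv F19532)
theorem F24722 : act 3 n7343 = n5749 := d21_1 D7343 (iv D5749) (iv F19533)
theorem F24723 : act 6 n7343 = n7343 := d27_1 D7343 (iv D7343) (iv D5735) F15408 D5735
def n7344 : Q := act 6 n5736
theorem D7344 : act 6 n5736 = n7344 := rfl
theorem F24724 : act 0 n7344 = n5739 := d5_1 D7344 (iv D5739) (iv F19534)
theorem F24725 : act 3 n7344 = n7344 := d20_1 D7344 (iv D7344) F19536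
theorem F24726 : act 5 n7344 = n5737 := d25_1 D7344 (iv D5737) D5736
def n7345 : Q := act 7 n5737
theorem D7345 : act 7 n5737 = n7345 := rfl
theorem F24727 : act 0 n7345 = n5740 := d6_1 D7345 (iv D5740) (iv F19538)
theorem F24728 : act 3 n7345 = n7345 := d21_1 D7345 (iv D7345) F19539
theorem F24729 : act 4 n7345 = n5738 := d24_1 D7345 (iv D5738) (iv F19540)
theorem F24730 : act 6 n7345 = n7345 := d27_1 D7345 (iv D7345) (iv D5737) F15412 D5737
def n7346 : Q := act 7 n5739
theorem D7346 : act 7 n5739 = n7346 := rfl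
theorem F24731 : act 1 n7346 = n7346 := d12_1 D7346 (iv D7346) F19544
theorem F24732 : act 3 n7346 = n7346 := d21_1 D7346 (iv D7346) F19545
theorem F24733 : act 5 n7346 = n5740 := d26_1 D7346 (iv D5740) (iv F19546)
theorem F24734 : act 6 n7346 = n7346 := d27_1 D7346 (iv D7346) (iv D5739) F15421 D5739
def n7347 : Q := act 3 n5741
theorem D7347 : act 3 n5741 = n7347 := rfl
theorem F24735 : act 0 n7347 = n7347 := d2_1 D7347 (iv D7347) F19551
theorem F24736 : act 1 n7347 = n5743 := d8_1 D7347 (iv D5743) (iv F19552)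
theorem F24737 : act 5 n7347 = n7347 := d19_2 F19554 D7347 (iv D7347)
theorem F24738 : act 7 n7347 = n7347 := d21_2 F19555 D7347 (iv D7347)
def n7348 : Q := act 6 n5741
theorem D7348 : act 6 n5741 = n7348 := rfl
theorem F24740 : act 1 n7348 = n5744 := d11_1 D7348 (iv D5744) (iv F19552)
theorem F24741 : act 4 n7348 = n5742 := d23_1 D7348 (iv D5742) D5741
def n7349 : Q := act 2 n5742
theorem D7349 : act 2 n5742 = n7349 := rfl
theorem F24744 : act 1 n7349 = n5937 := d7_1 D7349 (iv D5937) F15909 (iv F15437) (iv F19557)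
theorem F24745 : act 5 n7349 = n5748 := d15_2 (iv F19558) D7349 (iv D5748)
def n7350 : Q := act 7 n5742
theorem D7350 : act 7 n5742 = n7350 := rfl
theorem F24747 : act 0 n7350 = n7350 := d6_1 D7350 (iv D7350) F19556
theorem F24748 : act 1 n7350 = n5745 := d12_1 D7350 (iv D5745) (iv F19557)
theorem F24749 : act 5 n7350 = n5749 := d26_1 D7350 (iv D5749) (iv F19558)
theorem F24750 : act 6 n7350 = n7350 := d27_1 D7350 (iv D7350) (iv D5742) F15431 D5742
def n7351 : Q := act 6 n5743
theorem D7351 : act 6 n5743 = n7351 := rfl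
theorem F24752 : act 3 n7351 = n5744 := d20_1 D7351 (iv D5744) D5743
def n7352 : Q := act 7 n5744
theorem D7352 : act 7 n5744 = n7352 := rfl
theorem F24755 : act 2 n7352 = n5940 := d17_1 D7352 (iv D5940) (iv F19564)
theorem F24756 : act 4 n7352 = n5745 := d24_1 D7352 (iv D5745) (iv F19565)
def n7353 : Q := act 2 n5746
theorem D7353 : act 2 n5746 = n7353 := rfl
theorem F24759 : act 3 n7353 = n5941 := d13_2 (iv F19572) D7353 (iv D5941) F15922 (iv F15444)
def n7354 : Q := act 7 n5746
theorem D7354 : act 7 n5746 = n7354 := rfl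
def n7355 : Q := act 3 n5748
theorem D7355 : act 3 n5748 = n7355 := rfl
theorem F24766 : act 0 n7355 = n7355 := d2_1 D7355 (iv D7355) F19579
theorem F24768 : act 6 n7355 = n7355 := d20_2 F19582 D7355 (iv D7355)
def n7356 : Q := act 7 n5748
theorem D7356 : act 7 n5748 = n7356 := rfl
theorem F24769 : act 0 n7356 = n7356 := d6_1 D7356 (iv D7356) F19579
theorem F24771 : act 2 n7356 = n5749 := d17_1 D7356 (iv D5749) D5748
theorem F24772 : act 4 n7356 = n7356 := d24_1 D7356 (iv D7356) F19581
def n7357 : Q := act 2 n5750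
theorem D7357 : act 2 n5750 = n7357 := rfl
theorem F24773 : act 0 n7357 = n5751 := d1_1 D7357 (iv D5751) (iv F19587)
theorem F24774 : act 3 n7357 = n5784 := d13_2 D5750 D7357 (iv D5784) (iv D4512) (iv F15459)
theorem F24775 : act 5 n7357 = n5794 := d15_2 (iv F19589) D7357 (iv D5794)
theorem F24776 : act 7 n7357 = n5789 := d17_2 (iv F19591) D7357 (iv D5789)
def n7358 : Q := act 4 n5750
theorem D7358 : act 4 n5750 = n7358 := rfl
theorem F24777 : act 0 n7358 = n5752 := d3_1 D7358 (iv D5752) (iv F19587)
theorem F24778 : act 1 n7358 = n5876 := d9_1 D7358 (iv D5876) (iv F19588)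
theorem F24779 : act 3 n7358 = n7358 := d18_1 D7358 (iv D7358) (iv D5750) F15460 D5750
theorem F24780 : act 6 n7358 = n6466 := d23_2 (iv F19590) D7358 (iv D6466)
theorem F24781 : act 7 n7358 = n5790 := d24_2 (iv F19591) D7358 (iv D5790)
def n7359 : Q := act 4 n5751
theorem D7359 : act 4 n5751 = n7359 := rfl
theorem F24782 : act 1 n7359 = n5764 := d9_1 D7359 (iv D5764) (iv F19592)
theorem F24783 : act 2 n7359 = n5752 := d14_1 D7359 (iv D5752) D5751
theorem F24784 : act 7 n7359 = n5791 := d24_2 (iv F19595) D7359 (iv D5791)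
def n7360 : Q := act 6 n5751
theorem D7360 : act 6 n5751 = n7360 := rfl
theorem F24785 : act 1 n7360 = n5765 := d11_1 D7360 (iv D5765) (iv F19592)
theorem F24786 : act 2 n7360 = n6468 := d16_1 D7360 (iv D6468) (iv D5041) (iv F15466) D5751
theorem F24787 : act 3 n7360 = n5787 := d20_1 D7360 (iv D5787) (iv F19593)
theorem F24788 : act 5 n7360 = n5797 := d25_1 D7360 (iv D5797) (iv F19594)
def n7362 : Q := act 2 n5754
theorem D7362 : act 2 n5754 = n7362 := rfl
theorem F24794 : act 0 n7362 = n5755 := d1_1 D7362 (iv D5755) (iv F19606)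
theorem F24795 : act 3 n7362 = n5789 := d13_2 D5754 D7362 (iv D5789) (iv D4516) (iv F15474)
theorem F24796 : act 5 n7362 = n5762 := d15_2 (iv F19608) D7362 (iv D5762)
theorem F24797 : act 7 n7362 = n5784 := d17_2 (iv F19610) D7362 (iv D5784)
def n7363 : Q := act 4 n5754
theorem D7363 : act 4 n5754 = n7363 := rfl
theorem F24798 : act 0 n7363 = n5756 := d3_1 D7363 (iv D5756) (iv F19606)
theorem F24799 : act 1 n7363 = n5863 := d9_1 D7363 (iv D5863) (iv F19607)
theorem F24800 : act 3 n7363 = n7363 := d18_1 D7363 (iv D7363) (iv D5754) F15475 D5754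
theorem F24801 : act 6 n7363 = n7363 := d23_2 F19609 D7363 (iv D7363)
theorem F24802 : act 7 n7363 = n5785 := d24_2 (iv F19610) D7363 (iv D5785)
def n7364 : Q := act 4 n5755
theorem D7364 : act 4 n5755 = n7364 := rfl
theorem F24803 : act 1 n7364 = n5796 := d9_1 D7364 (iv D5796) (iv F19611)
theorem F24804 : act 2 n7364 = n5756 := d14_1 D7364 (iv D5756) D5755
theorem F24805 : act 7 n7364 = n5786 := d24_2 (iv F19614) D7364 (iv D5786)
def n7365 : Q := act 6 n5755
theorem D7365 : act 6 n5755 = n7365 := rfl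
theorem F24806 : act 1 n7365 = n5797 := d11_1 D7365 (iv D5797) (iv F19611)
theorem F24807 : act 2 n7365 = n7365 := d16_1 D7365 (iv D7365) (iv D5755) F15481 D5755
theorem F24808 : act 3 n7365 = n5792 := d20_1 D7365 (iv D5792) (iv F19612)
theorem F24809 : act 5 n7365 = n5765 := d25_1 D7365 (iv D5765) (iv F19613)
def n7367 : Q := act 2 n5758
theorem D7367 : act 2 n5758 = n7367 := rfl
theorem F24815 : act 0 n7367 = n5759 := d1_1 D7367 (iv D5759) (iv F19625)
theorem F24816 : act 3 n7367 = n5794 := d13_2 D5758 D7367 (iv D5794) (iv D4520) (iv F15489)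
theorem F24817 : act 5 n7367 = n5784 := d15_2 (iv F19627) D7367 (iv D5784)
theorem F24818 : act 7 n7367 = n5762 := d17_2 (iv F19629) D7367 (iv D5762)
def n7368 : Q := act 4 n5758
theorem D7368 : act 4 n5758 = n7368 := rfl
theorem F24819 : act 0 n7368 = n5760 := d3_1 D7368 (iv D5760) (iv F19625)
theorem F24820 : act 1 n7368 = n5858 := d9_1 D7368 (iv D5858) (iv F19626)
theorem F24821 : act 3 n7368 = n5772 := d18_1 D7368 (iv D5772) (iv D4503) (iv F15490) D5758
theorem F24822 : act 6 n7368 = n5982 := d23_2 (iv F19628) D7368 (iv D5982)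
theorem F24823 : act 7 n7368 = n5763 := d24_2 (iv F19629) D7368 (iv D5763)
def n7369 : Q := act 4 n5759
theorem D7369 : act 4 n5759 = n7369 := rfl
theorem F24824 : act 1 n7369 = n5791 := d9_1 D7369 (iv D5791) (iv F19630)
theorem F24825 : act 2 n7369 = n5760 := d14_1 D7369 (iv D5760) D5759
theorem F24826 : act 7 n7369 = n5764 := d24_2 (iv F19633) D7369 (iv D5764)
def n7370 : Q := act 6 n5759
theorem D7370 : act 6 n5759 = n7370 := rfl
theorem F24827 : act 1 n7370 = n5792 := d11_1 D7370 (iv D5792) (iv F19630)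
theorem F24828 : act 2 n7370 = n5984 := d16_1 D7370 (iv D5984) (iv D4666) (iv F15496) D5759
theorem F24829 : act 3 n7370 = n5797 := d20_1 D7370 (iv D5797) (iv F19631)
theorem F24830 : act 5 n7370 = n5787 := d25_1 D7370 (iv D5787) (iv F19632)
def n7371 : Q := act 5 n5760
theorem D7371 : act 5 n5760 = n7371 := rfl
theorem F24831 : act 1 n7371 = n5761 := d10_1 D7371 (iv D5761) (iv F19634)
theorem F24832 : act 3 n7371 = n5775 := d19_1 D7371 (iv D5775) (iv F19635)
theorem F24834 : act 6 n7371 = n5985 := d25_2 (iv F19636) D7371 (iv D5985)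
theorem F24835 : act 7 n7371 = n5766 := d26_2 (iv F19637) D7371 (iv D5766)
def n7372 : Q := act 1 n5762
theorem D7372 : act 1 n5762 = n7372 := rfl
theorem F24836 : act 3 n7372 = n5799 := d8_2 (iv F19645) D7372 (iv D5799)
def n7373 : Q := act 4 n5762
theorem D7373 : act 4 n5762 = n7373 := rfl
theorem F24837 : act 0 n7373 = n5764 := d3_1 D7373 (iv D5764) (iv F19644)
theorem F24838 : act 2 n7373 = n5763 := d14_1 D7373 (iv D5763) D5762
def n7374 : Q := act 6 n5762
theorem D7374 : act 6 n5762 = n7374 := rfl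
theorem F24839 : act 0 n7374 = n5765 := d5_1 D7374 (iv D5765) (iv F19644)
theorem F24840 : act 2 n7374 = n7374 := d16_1 D7374 (iv D7374) (iv D5762) F15504 D5762
theorem F24841 : act 3 n7374 = n5801 := d20_1 D7374 (iv D5801) (iv F19645)
def n7375 : Q := act 5 n5763
theorem D7375 : act 5 n5763 = n7375 := rfl
theorem F24842 : act 0 n7375 = n5766 := d4_1 D7375 (iv D5766) (iv F19646)
theorem F24843 : act 3 n7375 = n5779 := d19_1 D7375 (iv D5779) (iv F19647)
theorem F24844 : act 6 n7375 = n7375 := d25_2 F19648 D7375 (iv D7375)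
def n7376 : Q := act 3 n5764
theorem D7376 : act 3 n5764 = n7376 := rfl
theorem F24846 : act 4 n7376 = n5803 := d18_2 D5764 D7376 (iv D5803) (iv D4526) (iv F15505)
def n7377 : Q := act 5 n5764
theorem D7377 : act 5 n5764 = n7377 := rfl
theorem F24847 : act 2 n7377 = n5766 := d15_1 D7377 (iv D5766) (iv F19649)
def n7378 : Q := act 6 n5764
theorem D7378 : act 6 n5764 = n7378 := rfl
theorem F24849 : act 4 n7378 = n5765 := d23_1 D7378 (iv D5765) D5764
def n7379 : Q := act 7 n5765
theorem D7379 : act 7 n5765 = n7379 := rfl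
theorem F24850 : act 2 n7379 = n7379 := d17_1 D7379 (iv D7379) F19650
theorem F24851 : act 3 n7379 = n5806 := d21_1 D7379 (iv D5806) (iv F19651)
def n7380 : Q := act 2 n5767
theorem D7380 : act 2 n5767 = n7380 := rfl
theorem F24853 : act 3 n7380 = n6442 := d13_2 D5767 D7380 (iv D6442) (iv D5023) (iv F15512)
def n7381 : Q := act 4 n5767
theorem D7381 : act 4 n5767 = n7381 := rfl
theorem F24856 : act 0 n7381 = n5769 := d3_1 D7381 (iv D5769) (iv F19655)
theorem F24857 : act 1 n7381 = n6067 := d9_1 D7381 (iv D6067) (iv F19656)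
theorem F24858 : act 3 n7381 = n5982 := d18_1 D7381 (iv D5982) (iv D4665) (iv F15513) D5767
theorem F24859 : act 6 n7381 = n5772 := d23_2 (iv F19658) D7381 (iv D5772)
theorem F24860 : act 7 n7381 = n7381 := d24_2 F19659 D7381 (iv D7381)
def n7382 : Q := act 4 n5768
theorem D7382 : act 4 n5768 = n7382 := rfl
theorem F24861 : act 1 n7382 = n6211 := d9_1 D7382 (iv D6211) (iv F19660)
theorem F24862 : act 2 n7382 = n5769 := d14_1 D7382 (iv D5769) D5768
def n7383 : Q := act 6 n5768
theorem D7383 : act 6 n5768 = n7383 := rfl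
theorem F24865 : act 2 n7383 = n5774 := d16_1 D7383 (iv D5774) (iv D4504) (iv F15519) D5768
def n7384 : Q := act 5 n5769
theorem D7384 : act 5 n5769 = n7384 := rfl
theorem F24868 : act 1 n7384 = n5770 := d10_1 D7384 (iv D5770) (iv F19664)
theorem F24871 : act 6 n7384 = n5775 := d25_2 (iv F19666) D7384 (iv D5775)
def n7385 : Q := act 1 n5771
theorem D7385 : act 1 n5771 = n7385 := rfl
theorem F24873 : act 0 n7385 = n7385 := d0_1 D7385 (iv D7385) F19674 F15529 (iv F19674)
theorem F24874 : act 3 n7385 = n5807 := d8_2 (iv F19675) D7385 (iv D5807)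
theorem F24875 : act 5 n7385 = n7385 := d10_2 F19676 D7385 (iv D7385)
theorem F24876 : act 7 n7385 = n5776 := d12_2 (iv F19677) D7385 (iv D5776)
def n7386 : Q := act 4 n5771
theorem D7386 : act 4 n5771 = n7386 := rfl
theorem F24877 : act 0 n7386 = n5773 := d3_1 D7386 (iv D5773) (iv F19674)
theorem F24878 : act 2 n7386 = n5772 := d14_1 D7386 (iv D5772) D5771
theorem F24879 : act 7 n7386 = n5777 := d24_2 (iv F19677) D7386 (iv D5777)
def n7387 : Q := act 6 n5771
theorem D7387 : act 6 n5771 = n7387 := rfl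
theorem F24881 : act 3 n7387 = n5809 := d20_1 D7387 (iv D5809) (iv F19675)
def n7388 : Q := act 5 n5772
theorem D7388 : act 5 n5772 = n7388 := rfl
theorem F24883 : act 0 n7388 = n5775 := d4_1 D7388 (iv D5775) (iv F19678)
theorem F24884 : act 4 n7388 = n7388 := d22_1 D7388 (iv D7388) (iv D5772) F15527 D5772
theorem F24885 : act 7 n7388 = n5779 := d26_2 (iv F19679) D7388 (iv D5779)
def n7389 : Q := act 3 n5773
theorem D7389 : act 3 n5773 = n7389 := rfl
theorem F24887 : act 4 n7389 = n5811 := d18_2 D5773 D7389 (iv D5811) (iv D4531) (iv F15530)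
def n7390 : Q := act 5 n5773
theorem D7390 : act 5 n5773 = n7390 := rfl
theorem F24889 : act 1 n7390 = n7390 := d10_1 D7390 (iv D7390) F19680
theorem F24890 : act 2 n7390 = n5775 := d15_1 D7390 (iv D5775) (iv F19681)
theorem F24891 : act 4 n7390 = n7390 := d22_1 D7390 (iv D7390) (iv D5773) F15531 D5773
theorem F24892 : act 7 n7390 = n5781 := d26_2 (iv F19682) D7390 (iv D5781)
def n7391 : Q := act 6 n5773
theorem D7391 : act 6 n5773 = n7391 := rfl
def n7393 : Q := act 4 n5776
theorem D7393 : act 4 n5776 = n7393 := rfl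
theorem F24899 : act 0 n7393 = n7393 := d3_1 D7393 (iv D7393) F19689
theorem F24900 : act 1 n7393 = n5777 := d9_1 D7393 (iv D5777) D5776
def n7394 : Q := act 6 n5776
theorem D7394 : act 6 n5776 = n7394 := rfl
theorem F24903 : act 3 n7394 = n5816 := d20_1 D7394 (iv D5816) (iv F19690)
def n7396 : Q := act 5 n5777
theorem D7396 : act 5 n5777 = n7396 := rfl
theorem F24907 : act 0 n7396 = n5781 := d4_1 D7396 (iv D5781) (iv F19692)
theorem F24908 : act 2 n7396 = n5779 := d15_1 D7396 (iv D5779) (iv F19693)
theorem F24909 : act 4 n7396 = n7396 := d22_1 D7396 (iv D7396) (iv D5777) F15540 D5777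
def n7397 : Q := act 6 n5777
theorem D7397 : act 6 n5777 = n7397 := rfl
theorem F24912 : act 4 n7397 = n5778 := d23_1 D7397 (iv D5778) D5777
def n7401 : Q := act 6 n5781
theorem D7401 : act 6 n5781 = n7401 := rfl
theorem F24925 : act 5 n7401 = n5782 := d25_1 D7401 (iv D5782) D5781
def n7403 : Q := act 1 n5784
theorem D7403 : act 1 n5784 = n7403 := rfl
theorem F24929 : act 0 n7403 = n5799 := d0_1 D7403 (iv D5799) F15588 (iv F15555) (iv F19713)
theorem F24930 : act 2 n7403 = n5867 := d7_2 D5784 D7403 (iv D5867) (iv D4576) (iv F15553)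
def n7404 : Q := act 4 n5784
theorem D7404 : act 4 n5784 = n7404 := rfl
theorem F24931 : act 0 n7404 = n5786 := d3_1 D7404 (iv D5786) (iv F19713)
theorem F24932 : act 2 n7404 = n5785 := d14_1 D7404 (iv D5785) D5784
def n7405 : Q := act 6 n5784
theorem D7405 : act 6 n5784 = n7405 := rfl
theorem F24933 : act 0 n7405 = n5787 := d5_1 D7405 (iv D5787) (iv F19713)
def n7407 : Q := act 3 n5786
theorem D7407 : act 3 n5786 = n7407 := rfl
def n7408 : Q := act 5 n5786
theorem D7408 : act 5 n5786 = n7408 := rfl
theorem F24942 : act 2 n7408 = n5788 := d15_1 D7408 (iv D5788) (iv F19719)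
def n7409 : Q := act 6 n5786
theorem D7409 : act 6 n5786 = n7409 := rfl
theorem F24944 : act 2 n7409 = n5992 := d16_1 D7409 (iv D5992) F16063 (iv F15558) (iv F19719)
def n7410 : Q := act 7 n5787
theorem D7410 : act 7 n5787 = n7410 := rfl
def n7411 : Q := act 1 n5789
theorem D7411 : act 1 n5789 = n7411 := rfl
theorem F24948 : act 2 n7411 = n5880 := d7_2 D5789 D7411 (iv D5880) (iv D4585) (iv F15564)
theorem F24949 : act 5 n7411 = n5799 := d10_2 (iv F19726) D7411 (iv D5799)
def n7412 : Q := act 4 n5789
theorem D7412 : act 4 n5789 = n7412 := rfl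
theorem F24950 : act 0 n7412 = n5791 := d3_1 D7412 (iv D5791) (iv F19725)
theorem F24951 : act 2 n7412 = n5790 := d14_1 D7412 (iv D5790) D5789
def n7413 : Q := act 6 n5789
theorem D7413 : act 6 n5789 = n7413 := rfl
theorem F24952 : act 0 n7413 = n5792 := d5_1 D7413 (iv D5792) (iv F19725)
theorem F24953 : act 2 n7413 = n5827 := d16_1 D7413 (iv D5827) (iv D4542) (iv F15566) D5789
theorem F24954 : act 5 n7413 = n5801 := d25_1 D7413 (iv D5801) (iv F19726)
def n7414 : Q := act 5 n5790
theorem D7414 : act 5 n5790 = n7414 := rfl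
theorem F24959 : act 6 n7414 = n5828 := d25_2 (iv F19730) D7414 (iv D5828)
def n7415 : Q := act 3 n5791
theorem D7415 : act 3 n5791 = n7415 := rfl
theorem F24960 : act 2 n7415 = n7415 := d13_1 D7415 (iv D7415) F19731 F15569 (iv F19731)
def n7416 : Q := act 5 n5791
theorem D7416 : act 5 n5791 = n7416 := rfl
theorem F24961 : act 2 n7416 = n5793 := d15_1 D7416 (iv D5793) (iv F19731)
def n7417 : Q := act 6 n5791
theorem D7417 : act 6 n5791 = n7417 := rfl
theorem F24963 : act 2 n7417 = n5831 := d16_1 D7417 (iv D5831) F15646 (iv F15570) (iv F19731)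
theorem F24964 : act 4 n7417 = n5792 := d23_1 D7417 (iv D5792) D5791
def n7418 : Q := act 7 n5792
theorem D7418 : act 7 n5792 = n7418 := rfl
theorem F24965 : act 2 n7418 = n5832 := d17_1 D7418 (iv D5832) (iv F19732)
theorem F24966 : act 5 n7418 = n5806 := d26_1 D7418 (iv D5806) (iv F19733)
def n7419 : Q := act 1 n5794
theorem D7419 : act 1 n5794 = n7419 := rfl
theorem F24967 : act 2 n7419 = n5888 := d7_2 D5794 D7419 (iv D5888) (iv D4590) (iv F15576)
theorem F24968 : act 7 n7419 = n5799 := d12_2 (iv F19739) D7419 (iv D5799)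
def n7420 : Q := act 4 n5794
theorem D7420 : act 4 n5794 = n7420 := rfl
theorem F24969 : act 0 n7420 = n5796 := d3_1 D7420 (iv D5796) (iv F19738)
theorem F24970 : act 2 n7420 = n5795 := d14_1 D7420 (iv D5795) D5794
theorem F24971 : act 7 n7420 = n5800 := d24_2 (iv F19739) D7420 (iv D5800)
def n7421 : Q := act 6 n5794
theorem D7421 : act 6 n5794 = n7421 := rfl
theorem F24972 : act 0 n7421 = n5797 := d5_1 D7421 (iv D5797) (iv F19738)
theorem F24973 : act 2 n7421 = n6480 := d16_1 D7421 (iv D6480) (iv D5049) (iv F15577) D5794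
def n7422 : Q := act 5 n5795
theorem D7422 : act 5 n5795 = n7422 := rfl
theorem F24975 : act 1 n7422 = n5891 := d10_1 D7422 (iv D5891) (iv F19741)
theorem F24977 : act 6 n7422 = n6481 := d25_2 (iv F19743) D7422 (iv D6481)
theorem F24978 : act 7 n7422 = n5802 := d26_2 (iv F19744) D7422 (iv D5802)
def n7423 : Q := act 3 n5796
theorem D7423 : act 3 n5796 = n7423 := rfl
theorem F24980 : act 7 n7423 = n5803 := d21_2 (iv F19746) D7423 (iv D5803)
def n7424 : Q := act 5 n5796
theorem D7424 : act 5 n5796 = n7424 := rfl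
theorem F24981 : act 2 n7424 = n5798 := d15_1 D7424 (iv D5798) (iv F19745)
theorem F24982 : act 7 n7424 = n5804 := d26_2 (iv F19746) D7424 (iv D5804)
def n7425 : Q := act 6 n5796
theorem D7425 : act 6 n5796 = n7425 := rfl
theorem F24983 : act 2 n7425 = n6484 := d16_1 D7425 (iv D6484) F17300 (iv F15582) (iv F19745)
theorem F24984 : act 4 n7425 = n5797 := d23_1 D7425 (iv D5797) D5796
def n7426 : Q := act 7 n5797
theorem D7426 : act 7 n5797 = n7426 := rfl
theorem F24985 : act 2 n7426 = n6485 := d17_1 D7426 (iv D6485) (iv F19747)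
theorem F24986 : act 6 n7426 = n5806 := d27_1 D7426 (iv D5806) (iv D4527) (iv F15579) D5797
def n7427 : Q := act 4 n5799
theorem D7427 : act 4 n5799 = n7427 := rfl
theorem F24987 : act 1 n7427 = n5800 := d9_1 D7427 (iv D5800) D5799
theorem F24988 : act 2 n7427 = n5896 := d14_1 D7427 (iv D5896) (iv F19752)
def n7428 : Q := act 6 n5799
theorem D7428 : act 6 n5799 = n7428 := rfl
theorem F24989 : act 1 n7428 = n5801 := d11_1 D7428 (iv D5801) D5799
def n7429 : Q := act 3 n5800
theorem D7429 : act 3 n5800 = n7429 := rfl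
def n7430 : Q := act 5 n5800
theorem D7430 : act 5 n5800 = n7430 := rfl
theorem F24993 : act 2 n7430 = n5802 := d15_1 D7430 (iv D5802) (iv F19754)
def n7431 : Q := act 6 n5800
theorem D7431 : act 6 n5800 = n7431 := rfl
theorem F24996 : act 4 n7431 = n5801 := d23_1 D7431 (iv D5801) D5800
def n7432 : Q := act 7 n5801
theorem D7432 : act 7 n5801 = n7432 := rfl
theorem F24997 : act 0 n7432 = n5806 := d6_1 D7432 (iv D5806) (iv F19755)
theorem F24998 : act 2 n7432 = n5838 := d17_1 D7432 (iv D5838) (iv F19756)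
def n7433 : Q := act 5 n5803
theorem D7433 : act 5 n5803 = n7433 := rfl
theorem F25000 : act 3 n7433 = n5804 := d19_1 D7433 (iv D5804) D5803
def n7434 : Q := act 6 n5803
theorem D7434 : act 6 n5803 = n7434 := rfl
def n7435 : Q := act 6 n5804
theorem D7435 : act 6 n5804 = n7435 := rfl
theorem F25002 : act 2 n7435 = n5841 := d16_1 D7435 (iv D5841) F15673 (iv F15597) (iv F19762)
theorem F25003 : act 5 n7435 = n5805 := d25_1 D7435 (iv D5805) D5804
def n7436 : Q := act 7 n5805
theorem D7436 : act 7 n5805 = n7436 := rfl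
def n7437 : Q := act 4 n5807
theorem D7437 : act 4 n5807 = n7437 := rfl
theorem F25008 : act 2 n7437 = n5906 := d14_1 D7437 (iv D5906) (iv F19767)
theorem F25009 : act 7 n7437 = n5815 := d24_2 (iv F19769) D7437 (iv D5815)
def n7438 : Q := act 6 n5807
theorem D7438 : act 6 n5807 = n7438 := rfl
theorem F25011 : act 1 n7438 = n5809 := d11_1 D7438 (iv D5809) D5807
def n7442 : Q := act 7 n5809
theorem D7442 : act 7 n5809 = n7442 := rfl
theorem F25025 : act 6 n7442 = n5820 := d27_1 D7442 (iv D5820) (iv D4536) (iv F15600) D5809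
def n7443 : Q := act 5 n5811
theorem D7443 : act 5 n5811 = n7443 := rfl
theorem F25028 : act 7 n7443 = n5821 := d26_2 (iv F19782) D7443 (iv D5821)
def n7447 : Q := act 3 n5815
theorem D7447 : act 3 n5815 = n7447 := rfl
def n7450 : Q := act 7 n5816
theorem D7450 : act 7 n5816 = n7450 := rfl
theorem F25050 : act 1 n7450 = n5820 := d12_1 D7450 (iv D5820) (iv F19798)
def n7455 : Q := act 4 n5821
theorem D7455 : act 4 n5821 = n7455 := rfl
def n7460 : Q := act 4 n5825
theorem D7460 : act 4 n5825 = n7460 := rfl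
theorem F25076 : act 0 n7460 = n6025 := d3_1 D7460 (iv D6025) (iv F19822)
def n7461 : Q := act 6 n5825
theorem D7461 : act 6 n5825 = n7461 := rfl
theorem F25081 : act 1 n7461 = n5827 := d11_1 D7461 (iv D5827) D5825
def n7463 : Q := act 5 n5826
theorem D7463 : act 5 n5826 = n7463 := rfl
theorem F25088 : act 0 n7463 = n5830 := d4_1 D7463 (iv D5830) (iv F19827)
theorem F25090 : act 4 n7463 = n5836 := d22_1 D7463 (iv D5836) (iv D4548) (iv F15639) D5826
def n7465 : Q := act 7 n5827
theorem D7465 : act 7 n5827 = n7465 := rfl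
theorem F25094 : act 0 n7465 = n5832 := d6_1 D7465 (iv D5832) (iv F19830)
theorem F25095 : act 3 n7465 = n7465 := d21_1 D7465 (iv D7465) F19831
theorem F25096 : act 5 n7465 = n5838 := d26_1 D7465 (iv D5838) (iv F19832)
theorem F25097 : act 6 n7465 = n6524 := d27_1 D7465 (iv D6524) (iv D5082) (iv F15640) D5827
def n7468 : Q := act 6 n5830
theorem D7468 : act 6 n5830 = n7468 := rfl
def n7469 : Q := act 7 n5831
theorem D7469 : act 7 n5831 = n7469 := rfl
theorem F25109 : act 4 n7469 = n5832 := d24_1 D7469 (iv D5832) (iv F19847)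
def n7471 : Q := act 5 n5833
theorem D7471 : act 5 n5833 = n7471 := rfl
theorem F25116 : act 0 n7471 = n6036 := d4_1 D7471 (iv D6036) (iv F19852)
def n7473 : Q := act 2 n5834
theorem D7473 : act 2 n5834 = n7473 := rfl
def n7474 : Q := act 7 n5834
theorem D7474 : act 7 n5834 = n7474 := rfl
theorem F25128 : act 6 n7474 = n6533 := d27_1 D7474 (iv D6533) (iv D5089) (iv F15658) D5834
def n7477 : Q := act 6 n5836
theorem D7477 : act 6 n5836 = n7477 := rfl
theorem F25137 : act 5 n7477 = n5837 := d25_1 D7477 (iv D5837) D5836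
def n7501 : Q := act 1 n5857
theorem D7501 : act 1 n5857 = n7501 := rfl
theorem F25219 : act 0 n7501 = n5880 := d0_1 D7501 (iv D5880) F15778 (iv F15733) (iv F19934)
theorem F25220 : act 5 n7501 = n5867 := d10_2 (iv F19935) D7501 (iv D5867)
def n7502 : Q := act 4 n5857
theorem D7502 : act 4 n5857 = n7502 := rfl
theorem F25222 : act 2 n7502 = n5858 := d14_1 D7502 (iv D5858) D5857
def n7503 : Q := act 6 n5857
theorem D7503 : act 6 n5857 = n7503 := rfl
theorem F25223 : act 0 n7503 = n5860 := d5_1 D7503 (iv D5860) (iv F19934)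
theorem F25225 : act 5 n7503 = n5869 := d25_1 D7503 (iv D5869) (iv F19935)
def n7504 : Q := act 5 n5858
theorem D7504 : act 5 n5858 = n7504 := rfl
theorem F25226 : act 0 n7504 = n5861 := d4_1 D7504 (iv D5861) (iv F19936)
theorem F25227 : act 4 n7504 = n5870 := d22_1 D7504 (iv D5870) (iv D4577) (iv F15731) D5858
def n7505 : Q := act 3 n5859
theorem D7505 : act 3 n5859 = n7505 := rfl
theorem F25229 : act 1 n7505 = n5884 := d8_1 D7505 (iv D5884) (iv F19938)
def n7506 : Q := act 5 n5859
theorem D7506 : act 5 n5859 = n7506 := rfl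
theorem F25230 : act 1 n7506 = n5885 := d10_1 D7506 (iv D5885) (iv F19938)
theorem F25231 : act 2 n7506 = n5861 := d15_1 D7506 (iv D5861) (iv F19939)
def n7508 : Q := act 7 n5860
theorem D7508 : act 7 n5860 = n7508 := rfl
theorem F25238 : act 5 n7508 = n5874 := d26_1 D7508 (iv D5874) (iv F19942)
def n7509 : Q := act 1 n5862
theorem D7509 : act 1 n5862 = n7509 := rfl
theorem F25239 : act 0 n7509 = n5888 := d0_1 D7509 (iv D5888) F15790 (iv F15743) (iv F19946)
theorem F25240 : act 7 n7509 = n5867 := d12_2 (iv F19947) D7509 (iv D5867)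
def n7510 : Q := act 4 n5862
theorem D7510 : act 4 n5862 = n7510 := rfl
theorem F25241 : act 0 n7510 = n5864 := d3_1 D7510 (iv D5864) (iv F19946)
theorem F25242 : act 2 n7510 = n5863 := d14_1 D7510 (iv D5863) D5862
theorem F25243 : act 7 n7510 = n5868 := d24_2 (iv F19947) D7510 (iv D5868)
def n7511 : Q := act 6 n5862
theorem D7511 : act 6 n5862 = n7511 := rfl
theorem F25244 : act 0 n7511 = n5865 := d5_1 D7511 (iv D5865) (iv F19946)
theorem F25245 : act 2 n7511 = n7511 := d16_1 D7511 (iv D7511) (iv D5862) F15741 D5862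
def n7512 : Q := act 5 n5863
theorem D7512 : act 5 n5863 = n7512 := rfl
theorem F25246 : act 0 n7512 = n5866 := d4_1 D7512 (iv D5866) (iv F19948)
theorem F25247 : act 3 n7512 = n7512 := d19_1 D7512 (iv D7512) F19949
theorem F25248 : act 6 n7512 = n7512 := d25_2 F19950 D7512 (iv D7512)
theorem F25249 : act 7 n7512 = n5870 := d26_2 (iv F19951) D7512 (iv D5870)
def n7513 : Q := act 3 n5864
theorem D7513 : act 3 n5864 = n7513 := rfl
theorem F25250 : act 1 n7513 = n5892 := d8_1 D7513 (iv D5892) (iv F19952)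
theorem F25251 : act 2 n7513 = n7513 := d13_1 D7513 (iv D7513) F19953 F15746 (iv F19953)
theorem F25252 : act 7 n7513 = n5871 := d21_2 (iv F19954) D7513 (iv D5871)
def n7514 : Q := act 5 n5864
theorem D7514 : act 5 n5864 = n7514 := rfl
theorem F25253 : act 1 n7514 = n5893 := d10_1 D7514 (iv D5893) (iv F19952)
theorem F25254 : act 2 n7514 = n5866 := d15_1 D7514 (iv D5866) (iv F19953)
theorem F25255 : act 7 n7514 = n5872 := d26_2 (iv F19954) D7514 (iv D5872)
def n7515 : Q := act 6 n5864
theorem D7515 : act 6 n5864 = n7515 := rfl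
theorem F25256 : act 1 n7515 = n5894 := d11_1 D7515 (iv D5894) (iv F19952)
theorem F25257 : act 2 n7515 = n7515 := d16_1 D7515 (iv D7515) F19953 F15747 (iv F19953)
theorem F25258 : act 4 n7515 = n5865 := d23_1 D7515 (iv D5865) D5864
def n7516 : Q := act 7 n5865
theorem D7516 : act 7 n5865 = n7516 := rfl
theorem F25259 : act 1 n7516 = n5895 := d12_1 D7516 (iv D5895) (iv F19955)
theorem F25260 : act 2 n7516 = n7516 := d17_1 D7516 (iv D7516) F19956
theorem F25261 : act 6 n7516 = n5874 := d27_1 D7516 (iv D5874) (iv D4579) (iv F15744) D5865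
def n7517 : Q := act 4 n5867
theorem D7517 : act 4 n5867 = n7517 := rfl
theorem F25262 : act 0 n7517 = n5896 := d3_1 D7517 (iv D5896) (iv F19961)
theorem F25263 : act 1 n7517 = n5868 := d9_1 D7517 (iv D5868) D5867
def n7518 : Q := act 6 n5867
theorem D7518 : act 6 n5867 = n7518 := rfl
theorem F25264 : act 0 n7518 = n5897 := d5_1 D7518 (iv D5897) (iv F19961)
theorem F25265 : act 1 n7518 = n5869 := d11_1 D7518 (iv D5869) D5867
def n7519 : Q := act 3 n5868
theorem D7519 : act 3 n5868 = n7519 := rfl
theorem F25266 : act 0 n7519 = n5871 := d2_1 D7519 (iv D5871) (iv F19962)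
theorem F25267 : act 2 n7519 = n7519 := d13_1 D7519 (iv D7519) F19963 F15755 (iv F19963)
def n7520 : Q := act 5 n5868
theorem D7520 : act 5 n5868 = n7520 := rfl
theorem F25268 : act 0 n7520 = n5872 := d4_1 D7520 (iv D5872) (iv F19962)
theorem F25269 : act 2 n7520 = n5870 := d15_1 D7520 (iv D5870) (iv F19963)
def n7521 : Q := act 6 n5868
theorem D7521 : act 6 n5868 = n7521 := rfl
theorem F25270 : act 0 n7521 = n5873 := d5_1 D7521 (iv D5873) (iv F19962)
theorem F25271 : act 2 n7521 = n6083 := d16_1 D7521 (iv D6083) F16272 (iv F15756) (iv F19963)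
theorem F25272 : act 4 n7521 = n5869 := d23_1 D7521 (iv D5869) D5868
def n7522 : Q := act 7 n5869
theorem D7522 : act 7 n5869 = n7522 := rfl
theorem F25273 : act 0 n7522 = n5874 := d6_1 D7522 (iv D5874) (iv F19964)
theorem F25274 : act 2 n7522 = n6084 := d17_1 D7522 (iv D6084) (iv F19965)
def n7523 : Q := act 5 n5871
theorem D7523 : act 5 n5871 = n7523 := rfl
theorem F25275 : act 1 n7523 = n5902 := d10_1 D7523 (iv D5902) (iv F19969)
theorem F25276 : act 2 n7523 = n7523 := d15_1 D7523 (iv D7523) F19970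
theorem F25277 : act 3 n7523 = n5872 := d19_1 D7523 (iv D5872) D5871
def n7524 : Q := act 6 n5871
theorem D7524 : act 6 n5871 = n7524 := rfl
theorem F25278 : act 1 n7524 = n5903 := d11_1 D7524 (iv D5903) (iv F19969)
theorem F25279 : act 3 n7524 = n5873 := d20_1 D7524 (iv D5873) D5871
def n7526 : Q := act 7 n5873
theorem D7526 : act 7 n5873 = n7526 := rfl
theorem F25283 : act 1 n7526 = n5905 := d12_1 D7526 (iv D5905) (iv F19973)
theorem F25285 : act 4 n7526 = n5874 := d24_1 D7526 (iv D5874) (iv F19975)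
def n7527 : Q := act 1 n5875
theorem D7527 : act 1 n5875 = n7527 := rfl
theorem F25286 : act 5 n7527 = n5888 := d10_2 (iv F19979) D7527 (iv D5888)
theorem F25287 : act 7 n7527 = n5880 := d12_2 (iv F19980) D7527 (iv D5880)
def n7528 : Q := act 4 n5875
theorem D7528 : act 4 n5875 = n7528 := rfl
theorem F25288 : act 0 n7528 = n5877 := d3_1 D7528 (iv D5877) (iv F19978)
theorem F25289 : act 2 n7528 = n5876 := d14_1 D7528 (iv D5876) D5875
theorem F25290 : act 7 n7528 = n5881 := d24_2 (iv F19980) D7528 (iv D5881)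
def n7529 : Q := act 6 n5875
theorem D7529 : act 6 n5875 = n7529 := rfl
theorem F25291 : act 0 n7529 = n5878 := d5_1 D7529 (iv D5878) (iv F19978)
theorem F25292 : act 2 n7529 = n6562 := d16_1 D7529 (iv D6562) (iv D5112) (iv F15766) D5875
theorem F25293 : act 5 n7529 = n5890 := d25_1 D7529 (iv D5890) (iv F19979)
def n7530 : Q := act 5 n5876
theorem D7530 : act 5 n5876 = n7530 := rfl
theorem F25296 : act 4 n7530 = n5891 := d22_1 D7530 (iv D5891) (iv D4591) (iv F15765) D5876
theorem F25297 : act 6 n7530 = n6563 := d25_2 (iv F19983) D7530 (iv D6563)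
theorem F25298 : act 7 n7530 = n5883 := d26_2 (iv F19984) D7530 (iv D5883)
def n7531 : Q := act 3 n5877
theorem D7531 : act 3 n5877 = n7531 := rfl
theorem F25300 : act 7 n7531 = n5884 := d21_2 (iv F19986) D7531 (iv D5884)
def n7532 : Q := act 5 n5877
theorem D7532 : act 5 n5877 = n7532 := rfl
theorem F25303 : act 7 n7532 = n5885 := d26_2 (iv F19986) D7532 (iv D5885)
def n7533 : Q := act 6 n5877
theorem D7533 : act 6 n5877 = n7533 := rfl
theorem F25304 : act 2 n7533 = n6566 := d16_1 D7533 (iv D6566) F17479 (iv F15772) (iv F19985)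
theorem F25305 : act 4 n7533 = n5878 := d23_1 D7533 (iv D5878) D5877
def n7535 : Q := act 4 n5880
theorem D7535 : act 4 n5880 = n7535 := rfl
theorem F25309 : act 1 n7535 = n5881 := d9_1 D7535 (iv D5881) D5880
def n7536 : Q := act 6 n5880
theorem D7536 : act 6 n5880 = n7536 := rfl
theorem F25310 : act 1 n7536 = n5882 := d11_1 D7536 (iv D5882) D5880
def n7537 : Q := act 3 n5881
theorem D7537 : act 3 n5881 = n7537 := rfl
def n7538 : Q := act 5 n5881
theorem D7538 : act 5 n5881 = n7538 := rfl
theorem F25315 : act 2 n7538 = n5883 := d15_1 D7538 (iv D5883) (iv F19996)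
theorem F25316 : act 4 n7538 = n5899 := d22_1 D7538 (iv D5899) (iv D4596) (iv F15779) D5881
def n7539 : Q := act 6 n5881
theorem D7539 : act 6 n5881 = n7539 := rfl
theorem F25318 : act 2 n7539 = n5922 := d16_1 D7539 (iv D5922) F15856 (iv F15782) (iv F19996)
def n7541 : Q := act 5 n5884
theorem D7541 : act 5 n5884 = n7541 := rfl
theorem F25324 : act 3 n7541 = n5885 := d19_1 D7541 (iv D5885) D5884
def n7542 : Q := act 6 n5884
theorem D7542 : act 6 n5884 = n7542 := rfl
theorem F25325 : act 3 n7542 = n5886 := d20_1 D7542 (iv D5886) D5884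
def n7543 : Q := act 6 n5885
theorem D7543 : act 6 n5885 = n7543 := rfl
theorem F25328 : act 5 n7543 = n5886 := d25_1 D7543 (iv D5886) D5885
def n7545 : Q := act 4 n5888
theorem D7545 : act 4 n5888 = n7545 := rfl
theorem F25331 : act 1 n7545 = n5889 := d9_1 D7545 (iv D5889) D5888
theorem F25332 : act 7 n7545 = n5896 := d24_2 (iv F20011) D7545 (iv D5896)
def n7546 : Q := act 6 n5888
theorem D7546 : act 6 n5888 = n7546 := rfl
theorem F25333 : act 1 n7546 = n5890 := d11_1 D7546 (iv D5890) D5888
def n7547 : Q := act 3 n5889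
theorem D7547 : act 3 n5889 = n7547 := rfl
theorem F25334 : act 0 n7547 = n5892 := d2_1 D7547 (iv D5892) (iv F20012)
theorem F25335 : act 2 n7547 = n5908 := d13_1 D7547 (iv D5908) F15819 (iv F15793) (iv F20013)
theorem F25336 : act 7 n7547 = n5898 := d21_2 (iv F20014) D7547 (iv D5898)
def n7548 : Q := act 5 n5889
theorem D7548 : act 5 n5889 = n7548 := rfl
theorem F25337 : act 0 n7548 = n5893 := d4_1 D7548 (iv D5893) (iv F20012)
theorem F25338 : act 2 n7548 = n5891 := d15_1 D7548 (iv D5891) (iv F20013)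
theorem F25339 : act 7 n7548 = n5899 := d26_2 (iv F20014) D7548 (iv D5899)
def n7549 : Q := act 6 n5889
theorem D7549 : act 6 n5889 = n7549 := rfl
theorem F25340 : act 0 n7549 = n5894 := d5_1 D7549 (iv D5894) (iv F20012)
theorem F25341 : act 2 n7549 = n6582 := d16_1 D7549 (iv D6582) F17518 (iv F15794) (iv F20013)
theorem F25342 : act 4 n7549 = n5890 := d23_1 D7549 (iv D5890) D5889
def n7550 : Q := act 7 n5890
theorem D7550 : act 7 n5890 = n7550 := rfl
theorem F25343 : act 0 n7550 = n5895 := d6_1 D7550 (iv D5895) (iv F20015)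
theorem F25344 : act 2 n7550 = n6583 := d17_1 D7550 (iv D6583) (iv F20016)
theorem F25345 : act 6 n7550 = n5901 := d27_1 D7550 (iv D5901) (iv D4597) (iv F15791) D5890
def n7551 : Q := act 5 n5892
theorem D7551 : act 5 n5892 = n7551 := rfl
theorem F25346 : act 2 n7551 = n5911 := d15_1 D7551 (iv D5911) (iv F20021)
theorem F25348 : act 7 n7551 = n5902 := d26_2 (iv F20022) D7551 (iv D5902)
def n7552 : Q := act 6 n5892
theorem D7552 : act 6 n5892 = n7552 := rfl
def n7553 : Q := act 6 n5893
theorem D7553 : act 6 n5893 = n7553 := rfl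
theorem F25350 : act 2 n7553 = n6586 := d16_1 D7553 (iv D6586) F17530 (iv F15801) (iv F20023)
theorem F25351 : act 5 n7553 = n5894 := d25_1 D7553 (iv D5894) D5893
def n7554 : Q := act 7 n5894
theorem D7554 : act 7 n5894 = n7554 := rfl
theorem F25352 : act 2 n7554 = n6587 := d17_1 D7554 (iv D6587) (iv F20025)
theorem F25353 : act 4 n7554 = n5895 := d24_1 D7554 (iv D5895) (iv F20026)
theorem F25354 : act 6 n7554 = n5905 := d27_1 D7554 (iv D5905) (iv D4601) (iv F15797) D5894
def n7555 : Q := act 3 n5896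
theorem D7555 : act 3 n5896 = n7555 := rfl
theorem F25355 : act 1 n7555 = n5898 := d8_1 D7555 (iv D5898) (iv F20029)
def n7556 : Q := act 5 n5896
theorem D7556 : act 5 n5896 = n7556 := rfl
theorem F25356 : act 1 n7556 = n5899 := d10_1 D7556 (iv D5899) (iv F20029)
def n7557 : Q := act 6 n5896
theorem D7557 : act 6 n5896 = n7557 := rfl
theorem F25357 : act 1 n7557 = n5900 := d11_1 D7557 (iv D5900) (iv F20029)
theorem F25358 : act 4 n7557 = n5897 := d23_1 D7557 (iv D5897) D5896
def n7558 : Q := act 2 n5897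
theorem D7558 : act 2 n5897 = n7558 := rfl
theorem F25359 : act 1 n7558 = n5930 := d7_1 D7558 (iv D5930) F15884 (iv F15806) (iv F20030)
def n7559 : Q := act 7 n5897
theorem D7559 : act 7 n5897 = n7559 := rfl
theorem F25360 : act 1 n7559 = n5901 := d12_1 D7559 (iv D5901) (iv F20030)
def n7560 : Q := act 5 n5898
theorem D7560 : act 5 n5898 = n7560 := rfl
theorem F25361 : act 0 n7560 = n5902 := d4_1 D7560 (iv D5902) (iv F20031)
theorem F25362 : act 2 n7560 = n5916 := d15_1 D7560 (iv D5916) (iv F20032)
theorem F25363 : act 3 n7560 = n5899 := d19_1 D7560 (iv D5899) D5898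
def n7561 : Q := act 6 n5898
theorem D7561 : act 6 n5898 = n7561 := rfl
theorem F25364 : act 0 n7561 = n5903 := d5_1 D7561 (iv D5903) (iv F20031)
theorem F25365 : act 2 n7561 = n7561 := d16_1 D7561 (iv D7561) F20032 F15843 (iv F20032)
theorem F25366 : act 3 n7561 = n5900 := d20_1 D7561 (iv D5900) D5898
def n7562 : Q := act 6 n5899
theorem D7562 : act 6 n5899 = n7562 := rfl
theorem F25368 : act 2 n7562 = n5932 := d16_1 D7562 (iv D5932) F15887 (iv F15809) (iv F20034)
theorem F25369 : act 5 n7562 = n5900 := d25_1 D7562 (iv D5900) D5899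
def n7563 : Q := act 7 n5900
theorem D7563 : act 7 n5900 = n7563 := rfl
theorem F25370 : act 0 n7563 = n5905 := d6_1 D7563 (iv D5905) (iv F20035)
theorem F25371 : act 2 n7563 = n5933 := d17_1 D7563 (iv D5933) (iv F20036)
theorem F25372 : act 4 n7563 = n5901 := d24_1 D7563 (iv D5901) (iv F20037)
def n7564 : Q := act 4 n5902
theorem D7564 : act 4 n5902 = n7564 := rfl
def n7565 : Q := act 6 n5902
theorem D7565 : act 6 n5902 = n7565 := rfl
theorem F25375 : act 3 n7565 = n5904 := d20_1 D7565 (iv D5904) (iv F20041)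
theorem F25376 : act 5 n7565 = n5903 := d25_1 D7565 (iv D5903) D5902
def n7566 : Q := act 7 n5903
theorem D7566 : act 7 n5903 = n7566 := rfl
theorem F25377 : act 2 n7566 = n7566 := d17_1 D7566 (iv D7566) F20042
theorem F25378 : act 3 n7566 = n5905 := d21_1 D7566 (iv D5905) (iv F20043)
def n7567 : Q := act 7 n5904
theorem D7567 : act 7 n5904 = n7567 := rfl
theorem F25380 : act 5 n7567 = n5905 := d26_1 D7567 (iv D5905) (iv F20045)
def n7568 : Q := act 3 n5906
theorem D7568 : act 3 n5906 = n7568 := rfl
theorem F25381 : act 0 n7568 = n7568 := d2_1 D7568 (iv D7568) F20048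
theorem F25382 : act 1 n7568 = n5908 := d8_1 D7568 (iv D5908) (iv F20049)
theorem F25383 : act 7 n7568 = n5914 := d21_2 (iv F20050) D7568 (iv D5914)
def n7569 : Q := act 5 n5906
theorem D7569 : act 5 n5906 = n7569 := rfl
theorem F25385 : act 1 n7569 = n5909 := d10_1 D7569 (iv D5909) (iv F20049)
theorem F25387 : act 7 n7569 = n5915 := d26_2 (iv F20050) D7569 (iv D5915)
def n7570 : Q := act 6 n5906
theorem D7570 : act 6 n5906 = n7570 := rfl
theorem F25388 : act 0 n7570 = n7570 := d5_1 D7570 (iv D7570) F20048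
theorem F25389 : act 1 n7570 = n5910 := d11_1 D7570 (iv D5910) (iv F20049)
theorem F25390 : act 4 n7570 = n5907 := d23_1 D7570 (iv D5907) D5906
theorem F25391 : act 7 n7570 = n7570 := d27_2 (iv F20050) D7570 (iv D7570) F20050 F15841
def n7571 : Q := act 2 n5907
theorem D7571 : act 2 n5907 = n7571 := rfl
def n7572 : Q := act 5 n5908
theorem D7572 : act 5 n5908 = n7572 := rfl
theorem F25397 : act 3 n7572 = n5909 := d19_1 D7572 (iv D5909) D5908
theorem F25398 : act 7 n7572 = n5916 := d26_2 (iv F20056) D7572 (iv D5916)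
def n7573 : Q := act 6 n5908
theorem D7573 : act 6 n5908 = n7573 := rfl
def n7574 : Q := act 6 n5909
theorem D7574 : act 6 n5909 = n7574 := rfl
theorem F25403 : act 2 n7574 = n6607 := d16_1 D7574 (iv D6607) F17578 (iv F15827) (iv F20058)
def n7577 : Q := act 2 n5912
theorem D7577 : act 2 n5912 = n7577 := rfl
def n7578 : Q := act 2 n5914
theorem D7578 : act 2 n5914 = n7578 := rfl
theorem F25416 : act 0 n7578 = n7578 := d1_1 D7578 (iv D7578) F20076
def n7579 : Q := act 5 n5914
theorem D7579 : act 5 n5914 = n7579 := rfl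
theorem F25418 : act 1 n7579 = n5916 := d10_1 D7579 (iv D5916) (iv F20077)
theorem F25419 : act 3 n7579 = n5915 := d19_1 D7579 (iv D5915) D5914
def n7580 : Q := act 4 n5916
theorem D7580 : act 4 n5916 = n7580 := rfl
def n7582 : Q := act 5 n5918
theorem D7582 : act 5 n5918 = n7582 := rfl
theorem F25428 : act 0 n7582 = n6116 := d4_1 D7582 (iv D6116) (iv F20089)
theorem F25429 : act 1 n7582 = n5921 := d10_1 D7582 (iv D5921) (iv F20090)
theorem F25431 : act 7 n7582 = n6615 := d26_2 (iv F20091) D7582 (iv D6615)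
def n7583 : Q := act 6 n5918
theorem D7583 : act 6 n5918 = n7583 := rfl
theorem F25433 : act 1 n7583 = n5922 := d11_1 D7583 (iv D5922) (iv F20090)
def n7584 : Q := act 2 n5919
theorem D7584 : act 2 n5919 = n7584 := rfl
theorem F25435 : act 0 n7584 = n6118 := d1_1 D7584 (iv D6118) (iv F20092)
def n7585 : Q := act 7 n5919
theorem D7585 : act 7 n5919 = n7585 := rfl
theorem F25441 : act 6 n7585 = n6618 := d27_1 D7585 (iv D6618) (iv D5156) (iv F15854) D5919
def n7588 : Q := act 6 n5921
theorem D7588 : act 6 n5921 = n7588 := rfl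
def n7595 : Q := act 2 n5929
theorem D7595 : act 2 n5929 = n7595 := rfl
def n7599 : Q := act 7 n5932
theorem D7599 : act 7 n5932 = n7599 := rfl
theorem F25487 : act 5 n7599 = n5933 := d26_1 D7599 (iv D5933) (iv F20139)
theorem F25488 : act 6 n7599 = n6632 := d27_1 D7599 (iv D6632) (iv D5169) (iv F15889) D5932
def n7604 : Q := act 3 n5937
theorem D7604 : act 3 n5937 = n7604 := rfl
theorem F25507 : act 0 n7604 = n6138 := d2_1 D7604 (iv D6138) (iv F20156)
def n7606 : Q := act 2 n5939
theorem D7606 : act 2 n5939 = n7606 := rfl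
def n7607 : Q := act 7 n5939
theorem D7607 : act 7 n5939 = n7607 := rfl
theorem F25516 : act 0 n7607 = n5942 := d6_1 D7607 (iv D5942) (iv F20163)
theorem F25517 : act 3 n7607 = n5940 := d21_1 D7607 (iv D5940) (iv F20164)
def n7609 : Q := act 7 n5941
theorem D7609 : act 7 n5941 = n7609 := rfl
theorem F25523 : act 2 n7609 = n5942 := d17_1 D7609 (iv D5942) D5941
def n7613 : Q := act 2 n5945
theorem D7613 : act 2 n5945 = n7613 := rfl
theorem F25534 : act 0 n7613 = n5946 := d1_1 D7613 (iv D5946) (iv F20181)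
theorem F25535 : act 3 n7613 = n6465 := d13_2 D5945 D7613 (iv D6465) (iv D5040) (iv F15936)
theorem F25536 : act 5 n7613 = n6429 := d15_2 (iv F20183) D7613 (iv D6429)
theorem F25537 : act 7 n7613 = n6424 := d17_2 (iv F20185) D7613 (iv D6424)
def n7614 : Q := act 4 n5945
theorem D7614 : act 4 n5945 = n7614 := rfl
theorem F25538 : act 0 n7614 = n5947 := d3_1 D7614 (iv D5947) (iv F20181)
theorem F25539 : act 1 n7614 = n7614 := d9_1 D7614 (iv D7614) F20182
theorem F25540 : act 3 n7614 = n7614 := d18_1 D7614 (iv D7614) (iv D5945) F15937 D5945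
theorem F25541 : act 6 n7614 = n5954 := d23_2 (iv F20184) D7614 (iv D5954)
theorem F25542 : act 7 n7614 = n6425 := d24_2 (iv F20185) D7614 (iv D6425)
def n7615 : Q := act 4 n5946
theorem D7615 : act 4 n5946 = n7615 := rfl
theorem F25544 : act 2 n7615 = n5947 := d14_1 D7615 (iv D5947) D5946
theorem F25545 : act 7 n7615 = n6426 := d24_2 (iv F20189) D7615 (iv D6426)
def n7616 : Q := act 6 n5946
theorem D7616 : act 6 n5946 = n7616 := rfl
theorem F25547 : act 2 n7616 = n5956 := d16_1 D7616 (iv D5956) (iv D4645) (iv F15943) D5946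
theorem F25548 : act 3 n7616 = n6468 := d20_1 D7616 (iv D6468) (iv F20187)
def n7617 : Q := act 5 n5947
theorem D7617 : act 5 n5947 = n7617 := rfl
theorem F25553 : act 6 n7617 = n5957 := d25_2 (iv F20192) D7617 (iv D5957)
theorem F25554 : act 7 n7617 = n6428 := d26_2 (iv F20193) D7617 (iv D6428)
def n7618 : Q := act 2 n5949
theorem D7618 : act 2 n5949 = n7618 := rfl
theorem F25555 : act 0 n7618 = n5950 := d1_1 D7618 (iv D5950) (iv F20200)
theorem F25556 : act 3 n7618 = n5981 := d13_2 D5949 D7618 (iv D5981) (iv D4665) (iv F15951)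
theorem F25557 : act 5 n7618 = n5953 := d15_2 (iv F20202) D7618 (iv D5953)
theorem F25558 : act 7 n7618 = n7618 := d17_2 F20204 D7618 (iv D7618)
def n7619 : Q := act 4 n5949
theorem D7619 : act 4 n5949 = n7619 := rfl
theorem F25562 : act 6 n7619 = n6430 := d23_2 (iv F20203) D7619 (iv D6430)
def n7620 : Q := act 4 n5950
theorem D7620 : act 4 n5950 = n7620 := rfl
theorem F25565 : act 2 n7620 = n5951 := d14_1 D7620 (iv D5951) D5950
def n7621 : Q := act 6 n5950
theorem D7621 : act 6 n5950 = n7621 := rfl
theorem F25568 : act 2 n7621 = n6432 := d16_1 D7621 (iv D6432) (iv D5015) (iv F15958) D5950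
def n7624 : Q := act 4 n5953
theorem D7624 : act 4 n5953 = n7624 := rfl
theorem F25580 : act 0 n7624 = n5955 := d3_1 D7624 (iv D5955) (iv F20219)
theorem F25581 : act 2 n7624 = n5954 := d14_1 D7624 (iv D5954) D5953
def n7625 : Q := act 6 n5953
theorem D7625 : act 6 n5953 = n7625 := rfl
def n7626 : Q := act 5 n5954
theorem D7626 : act 5 n5954 = n7626 := rfl
def n7627 : Q := act 3 n5955
theorem D7627 : act 3 n5955 = n7627 := rfl
theorem F25589 : act 1 n7627 = n5967 := d8_1 D7627 (iv D5967) (iv F20226)
def n7628 : Q := act 5 n5955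
theorem D7628 : act 5 n5955 = n7628 := rfl
theorem F25594 : act 2 n7628 = n5957 := d15_1 D7628 (iv D5957) (iv F20227)
def n7629 : Q := act 6 n5955
theorem D7629 : act 6 n5955 = n7629 := rfl
def n7635 : Q := act 3 n5960
theorem D7635 : act 3 n5960 = n7635 := rfl
theorem F25618 : act 2 n7635 = n6181 := d13_1 D7635 (iv D6181) F16539 (iv F15987) (iv F20243)
theorem F25619 : act 4 n7635 = n5998 := d18_2 D5960 D7635 (iv D5998) (iv D4676) (iv F15983)
def n7645 : Q := act 5 n5967
theorem D7645 : act 5 n5967 = n7645 := rfl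
theorem F25649 : act 2 n7645 = n5977 := d15_1 D7645 (iv D5977) (iv F20267)
def n7646 : Q := act 6 n5967
theorem D7646 : act 6 n5967 = n7646 := rfl
def n7659 : Q := act 6 n5977
theorem D7659 : act 6 n5977 = n7659 := rfl
theorem F25700 : act 3 n7659 = n5979 := d20_1 D7659 (iv D5979) (iv F20301)
def n7660 : Q := act 2 n5978
theorem D7660 : act 2 n5978 = n7660 := rfl
def n7661 : Q := act 7 n5978
theorem D7661 : act 7 n5978 = n7661 := rfl
theorem F25705 : act 3 n7661 = n5980 := d21_1 D7661 (iv D5980) (iv F20304)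
def n7662 : Q := act 7 n5979
theorem D7662 : act 7 n5979 = n7662 := rfl
theorem F25710 : act 4 n7662 = n6208 := d24_1 D7662 (iv D6208) (iv F20308)
def n7663 : Q := act 1 n5981
theorem D7663 : act 1 n5981 = n7663 := rfl
theorem F25714 : act 2 n7663 = n6071 := d7_2 D5981 D7663 (iv D6071) (iv D4733) (iv F16044)
def n7664 : Q := act 4 n5981
theorem D7664 : act 4 n5981 = n7664 := rfl
theorem F25717 : act 0 n7664 = n5983 := d3_1 D7664 (iv D5983) (iv F20314)
theorem F25718 : act 2 n7664 = n5982 := d14_1 D7664 (iv D5982) D5981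
def n7665 : Q := act 6 n5981
theorem D7665 : act 6 n5981 = n7665 := rfl
def n7666 : Q := act 5 n5982
theorem D7666 : act 5 n5982 = n7666 := rfl
theorem F25722 : act 0 n7666 = n5985 := d4_1 D7666 (iv D5985) (iv F20317)
theorem F25723 : act 1 n7666 = n6074 := d10_1 D7666 (iv D6074) (iv F20318)
def n7667 : Q := act 3 n5983
theorem D7667 : act 3 n5983 = n7667 := rfl
theorem F25726 : act 1 n7667 = n5998 := d8_1 D7667 (iv D5998) (iv F20320)
def n7668 : Q := act 5 n5983
theorem D7668 : act 5 n5983 = n7668 := rfl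
theorem F25728 : act 1 n7668 = n5999 := d10_1 D7668 (iv D5999) (iv F20320)
theorem F25729 : act 2 n7668 = n5985 := d15_1 D7668 (iv D5985) (iv F20321)
def n7674 : Q := act 5 n5987
theorem D7674 : act 5 n5987 = n7674 := rfl
theorem F25746 : act 0 n7674 = n5991 := d4_1 D7674 (iv D5991) (iv F20331)
def n7693 : Q := act 6 n6002
theorem D7693 : act 6 n6002 = n7693 := rfl
theorem F25798 : act 1 n7693 = n6006 := d11_1 D7693 (iv D6006) (iv F20374)
def n7720 : Q := act 3 n6025
theorem D7720 : act 3 n6025 = n7720 := rfl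
theorem F25877 : act 1 n7720 = n6027 := d8_1 D7720 (iv D6027) (iv F20444)
def n7721 : Q := act 5 n6025
theorem D7721 : act 5 n6025 = n7721 := rfl
theorem F25880 : act 1 n7721 = n6028 := d10_1 D7721 (iv D6028) (iv F20444)
theorem F25882 : act 4 n7721 = n6036 := d22_1 D7721 (iv D6036) (iv D4705) (iv F16142) D6025
def n7725 : Q := act 5 n6027
theorem D7725 : act 5 n6027 = n7725 := rfl
theorem F25893 : act 2 n7725 = n6276 := d15_1 D7725 (iv D6276) (iv F20451)
def n7736 : Q := act 6 n6036
theorem D7736 : act 6 n6036 = n7736 := rfl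
theorem F25927 : act 5 n7736 = n6037 := d25_1 D7736 (iv D6037) D6036
def n7737 : Q := act 2 n6037
theorem D7737 : act 2 n6037 = n7737 := rfl
def n7740 : Q := act 7 n6038
theorem D7740 : act 7 n6038 = n7740 := rfl
theorem F25935 : act 2 n7740 = n6039 := d17_1 D7740 (iv D6039) D6038
def n7741 : Q := act 4 n6040
theorem D7741 : act 4 n6040 = n7741 := rfl
theorem F25937 : act 2 n7741 = n6049 := d14_1 D7741 (iv D6049) (iv F20487)
def n7751 : Q := act 6 n6049
theorem D7751 : act 6 n6049 = n7751 := rfl
theorem F25966 : act 3 n7751 = n6302 := d20_1 D7751 (iv D6302) (iv F20512)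
def n7757 : Q := act 7 n6054
theorem D7757 : act 7 n6054 = n7757 := rfl
theorem F25984 : act 3 n7757 = n6308 := d21_1 D7757 (iv D6308) (iv F20532)
theorem F25987 : act 6 n7757 = n6683 := d27_1 D7757 (iv D6683) (iv D5211) (iv F16209) D6054
def n7771 : Q := act 1 n6066
theorem D7771 : act 1 n6066 = n7771 := rfl
theorem F26026 : act 0 n7771 = n6322 := d0_1 D7771 (iv D6322) F16888 (iv F16242) (iv F20568)
def n7772 : Q := act 4 n6066
theorem D7772 : act 4 n6066 = n7772 := rfl
theorem F26030 : act 0 n7772 = n6068 := d3_1 D7772 (iv D6068) (iv F20568)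
theorem F26031 : act 2 n7772 = n6067 := d14_1 D7772 (iv D6067) D6066
def n7773 : Q := act 6 n6066
theorem D7773 : act 6 n6066 = n7773 := rfl
def n7774 : Q := act 5 n6067
theorem D7774 : act 5 n6067 = n7774 := rfl
def n7775 : Q := act 3 n6068
theorem D7775 : act 3 n6068 = n7775 := rfl
theorem F26040 : act 1 n7775 = n6326 := d8_1 D7775 (iv D6326) (iv F20575)
def n7777 : Q := act 6 n6068
theorem D7777 : act 6 n6068 = n7777 := rfl
def n7779 : Q := act 4 n6071
theorem D7779 : act 4 n6071 = n7779 := rfl
theorem F26054 : act 0 n7779 = n6089 := d3_1 D7779 (iv D6089) (iv F20585)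
def n7780 : Q := act 6 n6071
theorem D7780 : act 6 n6071 = n7780 := rfl
theorem F26057 : act 0 n7780 = n6090 := d5_1 D7780 (iv D6090) (iv F20585)
def n7784 : Q := act 7 n6073
theorem D7784 : act 7 n6073 = n7784 := rfl
theorem F26072 : act 5 n7784 = n6084 := d26_1 D7784 (iv D6084) (iv F20594)
def n7787 : Q := act 6 n6076
theorem D7787 : act 6 n6076 = n7787 := rfl
def n7791 : Q := act 6 n6079
theorem D7791 : act 6 n6079 = n7791 := rfl
theorem F26093 : act 0 n7791 = n6101 := d5_1 D7791 (iv D6101) (iv F20611)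
theorem F26094 : act 1 n7791 = n6083 := d11_1 D7791 (iv D6083) (iv F20612)
theorem F26095 : act 4 n7791 = n6080 := d23_1 D7791 (iv D6080) D6079
def n7792 : Q := act 2 n6080
theorem D7792 : act 2 n6080 = n7792 := rfl
theorem F26096 : act 0 n7792 = n6102 := d1_1 D7792 (iv D6102) (iv F20614)
def n7793 : Q := act 7 n6080
theorem D7793 : act 7 n6080 = n7793 := rfl
theorem F26098 : act 1 n7793 = n6084 := d12_1 D7793 (iv D6084) (iv F20615)
def n7795 : Q := act 6 n6081
theorem D7795 : act 6 n6081 = n7795 := rfl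
def n7796 : Q := act 6 n6082
theorem D7796 : act 6 n6082 = n7796 := rfl
def n7797 : Q := act 7 n6083
theorem D7797 : act 7 n6083 = n7797 := rfl
theorem F26111 : act 4 n7797 = n6084 := d24_1 D7797 (iv D6084) (iv F20625)
def n7800 : Q := act 2 n6086
theorem D7800 : act 2 n6086 = n7800 := rfl
def n7803 : Q := act 3 n6089
theorem D7803 : act 3 n6089 = n7803 := rfl
theorem F26130 : act 1 n7803 = n6091 := d8_1 D7803 (iv D6091) (iv F20641)
def n7804 : Q := act 5 n6089
theorem D7804 : act 5 n6089 = n7804 := rfl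
theorem F26133 : act 1 n7804 = n6092 := d10_1 D7804 (iv D6092) (iv F20641)
def n7806 : Q := act 2 n6090
theorem D7806 : act 2 n6090 = n7806 := rfl
theorem F26138 : act 1 n7806 = n6118 := d7_1 D7806 (iv D6118) F16368 (iv F16298) (iv F20643)
def n7808 : Q := act 5 n6091
theorem D7808 : act 5 n6091 = n7808 := rfl
theorem F26145 : act 2 n7808 = n6359 := d15_1 D7808 (iv D6359) (iv F20647)
theorem F26146 : act 3 n7808 = n6092 := d19_1 D7808 (iv D6092) D6091
def n7821 : Q := act 2 n6101
theorem D7821 : act 2 n6101 = n7821 := rfl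
theorem F26186 : act 1 n7821 = n6129 := d7_1 D7821 (iv D6129) F16398 (iv F16330) (iv F20678)
theorem F26187 : act 4 n7821 = n6102 := d14_2 (iv F20679) D7821 (iv D6102)
def n7823 : Q := act 3 n6102
theorem D7823 : act 3 n6102 = n7823 := rfl
def n7824 : Q := act 7 n6102
theorem D7824 : act 7 n6102 = n7824 := rfl
def n7825 : Q := act 4 n6104
theorem D7825 : act 4 n6104 = n7825 := rfl
def n7833 : Q := act 4 n6113
theorem D7833 : act 4 n6113 = n7833 := rfl
theorem F26227 : act 3 n7833 = n6384 := d18_1 D7833 (iv D6384) F17044 (iv F16354) (iv F20717)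
def n7837 : Q := act 6 n6116
theorem D7837 : act 6 n6116 = n7837 := rfl
theorem F26243 : act 5 n7837 = n6117 := d25_1 D7837 (iv D6117) D6116
def n7838 : Q := act 2 n6117
theorem D7838 : act 2 n6117 = n7838 := rfl
def n7840 : Q := act 3 n6118
theorem D7840 : act 3 n6118 = n7840 := rfl
theorem F26248 : act 2 n7840 = n6138 := d13_1 D7840 (iv D6138) (iv D4787) (iv F16369) D6118
def n7841 : Q := act 7 n6118
theorem D7841 : act 7 n6118 = n7841 := rfl
theorem F26250 : act 2 n7841 = n6119 := d17_1 D7841 (iv D6119) D6118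
def n7852 : Q := act 3 n6129
theorem D7852 : act 3 n6129 = n7852 := rfl
def n7853 : Q := act 7 n6129
theorem D7853 : act 7 n6129 = n7853 := rfl
def n7862 : Q := act 4 n6138
theorem D7862 : act 4 n6138 = n7862 := rfl
def n7863 : Q := act 7 n6138
theorem D7863 : act 7 n6138 = n7863 := rfl
def n7904 : Q := act 4 n6169
theorem D7904 : act 4 n6169 = n7904 := rfl
theorem F26454 : act 0 n7904 = n6185 := d3_1 D7904 (iv D6185) (iv F20908)
def n7905 : Q := act 6 n6169
theorem D7905 : act 6 n6169 = n7905 := rfl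
theorem F26460 : act 3 n7905 = n6223 := d20_1 D7905 (iv D6223) (iv F20910)
def n7911 : Q := act 6 n6173
theorem D7911 : act 6 n6173 = n7911 := rfl
theorem F26477 : act 1 n7911 = n6192 := d11_1 D7911 (iv D6192) (iv F20921)
theorem F26479 : act 4 n7911 = n6229 := d23_1 D7911 (iv D6229) (iv F20923)
def n7916 : Q := act 3 n6178
theorem D7916 : act 3 n6178 = n7916 := rfl
theorem F26492 : act 4 n7916 = n6234 := d18_2 D6178 D7916 (iv D6234) (iv D4858) (iv F16532)
def n7917 : Q := act 5 n6178
theorem D7917 : act 5 n6178 = n7917 := rfl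
theorem F26496 : act 4 n7917 = n6188 := d22_1 D7917 (iv D6188) (iv D4823) (iv F16533) D6178
def n7920 : Q := act 5 n6181
theorem D7920 : act 5 n6181 = n7920 := rfl
theorem F26506 : act 3 n7920 = n6182 := d19_1 D7920 (iv D6182) D6181
def n7921 : Q := act 6 n6181
theorem D7921 : act 6 n6181 = n7921 := rfl
theorem F26508 : act 3 n7921 = n6183 := d20_1 D7921 (iv D6183) D6181
def n7922 : Q := act 6 n6182
theorem D7922 : act 6 n6182 = n7922 := rfl
theorem F26511 : act 4 n7922 = n6193 := d23_1 D7922 (iv D6193) (iv F20952)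
theorem F26512 : act 5 n7922 = n6183 := d25_1 D7922 (iv D6183) D6182
def n7923 : Q := act 7 n6183
theorem D7923 : act 7 n6183 = n7923 := rfl
def n7924 : Q := act 3 n6185
theorem D7924 : act 3 n6185 = n7924 := rfl
theorem F26516 : act 1 n7924 = n6187 := d8_1 D7924 (iv D6187) (iv F20960)
theorem F26517 : act 4 n7924 = n6242 := d18_2 D6185 D7924 (iv D6242) (iv D4865) (iv F16549)
def n7926 : Q := act 6 n6185
theorem D7926 : act 6 n6185 = n7926 := rfl
def n7929 : Q := act 5 n6187
theorem D7929 : act 5 n6187 = n7929 := rfl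
theorem F26530 : act 2 n7929 = n6200 := d15_1 D7929 (iv D6200) (iv F20966)
theorem F26531 : act 3 n7929 = n6188 := d19_1 D7929 (iv D6188) D6187
def n7930 : Q := act 6 n6187
theorem D7930 : act 6 n6187 = n7930 := rfl
theorem F26534 : act 3 n7930 = n6189 := d20_1 D7930 (iv D6189) D6187
def n7933 : Q := act 4 n6191
theorem D7933 : act 4 n6191 = n7933 := rfl
theorem F26543 : act 2 n7933 = n6204 := d14_1 D7933 (iv D6204) (iv F20979)
def n7934 : Q := act 6 n6191
theorem D7934 : act 6 n6191 = n7934 := rfl
theorem F26546 : act 3 n7934 = n6193 := d20_1 D7934 (iv D6193) (iv F20980)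
def n7935 : Q := act 2 n6192
theorem D7935 : act 2 n6192 = n7935 := rfl
theorem F26550 : act 6 n7935 = n6206 := d16_2 D6192 D7935 (iv D6206) (iv D4837) (iv F16562)
def n7936 : Q := act 7 n6192
theorem D7936 : act 7 n6192 = n7936 := rfl
theorem F26551 : act 3 n7936 = n6194 := d21_1 D7936 (iv D6194) (iv F20982)
def n7937 : Q := act 7 n6193
theorem D7937 : act 7 n6193 = n7937 := rfl
def n7938 : Q := act 2 n6195
theorem D7938 : act 2 n6195 = n7938 := rfl
theorem F26559 : act 4 n7938 = n6256 := d14_2 (iv F20991) D7938 (iv D6256)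
def n7939 : Q := act 5 n6195
theorem D7939 : act 5 n6195 = n7939 := rfl
def n7940 : Q := act 6 n6195
theorem D7940 : act 6 n6195 = n7940 := rfl
theorem F26566 : act 1 n7940 = n6201 := d11_1 D7940 (iv D6201) (iv F20990)
theorem F26567 : act 3 n7940 = n6197 := d20_1 D7940 (iv D6197) D6195
theorem F26568 : act 4 n7940 = n6258 := d23_1 D7940 (iv D6258) (iv F20991)
def n7943 : Q := act 7 n6197
theorem D7943 : act 7 n6197 = n7943 := rfl
theorem F26578 : act 4 n7943 = n6199 := d24_1 D7943 (iv D6199) (iv F20999)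
def n7945 : Q := act 4 n6200
theorem D7945 : act 4 n6200 = n7945 := rfl
def n7946 : Q := act 6 n6200
theorem D7946 : act 6 n6200 = n7946 := rfl
theorem F26589 : act 5 n7946 = n6201 := d25_1 D7946 (iv D6201) D6200
def n7947 : Q := act 2 n6201
theorem D7947 : act 2 n6201 = n7947 := rfl
theorem F26590 : act 0 n7947 = n6206 := d1_1 D7947 (iv D6206) (iv F21011)
def n7948 : Q := act 7 n6201
theorem D7948 : act 7 n6201 = n7948 := rfl
theorem F26593 : act 0 n7948 = n6207 := d6_1 D7948 (iv D6207) (iv F21011)
theorem F26594 : act 3 n7948 = n6203 := d21_1 D7948 (iv D6203) (iv F21012)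
def n7949 : Q := act 7 n6202
theorem D7949 : act 7 n6202 = n7949 := rfl
theorem F26599 : act 5 n7949 = n6203 := d26_1 D7949 (iv D6203) (iv F21016)
def n7950 : Q := act 6 n6204
theorem D7950 : act 6 n6204 = n7950 := rfl
theorem F26602 : act 4 n7950 = n6205 := d23_1 D7950 (iv D6205) D6204
def n7951 : Q := act 2 n6205
theorem D7951 : act 2 n6205 = n7951 := rfl
theorem F26605 : act 5 n7951 = n6206 := d15_2 (iv F21026) D7951 (iv D6206)
def n7952 : Q := act 7 n6205
theorem D7952 : act 7 n6205 = n7952 := rfl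
theorem F26607 : act 3 n7952 = n6208 := d21_1 D7952 (iv D6208) (iv F21025)
theorem F26608 : act 5 n7952 = n6207 := d26_1 D7952 (iv D6207) (iv F21026)
def n7954 : Q := act 7 n6206
theorem D7954 : act 7 n6206 = n7954 := rfl
def n7960 : Q := act 5 n6211
theorem D7960 : act 5 n6211 = n7960 := rfl
theorem F26633 : act 2 n7960 = n6213 := d15_1 D7960 (iv D6213) (iv F21045)
def n7973 : Q := act 3 n6222
theorem D7973 : act 3 n6222 = n7973 := rfl
theorem F26674 : act 0 n7973 = n6242 := d2_1 D7973 (iv D6242) (iv F21082)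
theorem F26675 : act 1 n7973 = n6224 := d8_1 D7973 (iv D6224) (iv F21083)
def n7974 : Q := act 5 n6222
theorem D7974 : act 5 n6222 = n7974 := rfl
theorem F26678 : act 1 n7974 = n6225 := d10_1 D7974 (iv D6225) (iv F21083)
theorem F26679 : act 2 n7974 = n6341 := d15_1 D7974 (iv D6341) (iv F21084)
def n7975 : Q := act 6 n6222
theorem D7975 : act 6 n6222 = n7975 := rfl
theorem F26682 : act 1 n7975 = n6226 := d11_1 D7975 (iv D6226) (iv F21083)
def n7976 : Q := act 2 n6223
theorem D7976 : act 2 n6223 = n7976 := rfl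
theorem F26686 : act 6 n7976 = n6343 := d16_2 D6223 D7976 (iv D6343) (iv D4943) (iv F16639)
def n7979 : Q := act 6 n6224
theorem D7979 : act 6 n6224 = n7979 := rfl
theorem F26694 : act 0 n7979 = n6229 := d5_1 D7979 (iv D6229) (iv F21088)
def n7980 : Q := act 6 n6225
theorem D7980 : act 6 n6225 = n7980 := rfl
theorem F26696 : act 0 n7980 = n6230 := d5_1 D7980 (iv D6230) (iv F21091)
def n7982 : Q := act 4 n6228
theorem D7982 : act 4 n6228 = n7982 := rfl
def n7983 : Q := act 6 n6228
theorem D7983 : act 6 n6228 = n7983 := rfl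
theorem F26706 : act 1 n7983 = n6252 := d11_1 D7983 (iv D6252) (iv F21100)
theorem F26707 : act 3 n7983 = n6230 := d20_1 D7983 (iv D6230) (iv F21102)
theorem F26708 : act 5 n7983 = n6229 := d25_1 D7983 (iv D6229) D6228
def n7984 : Q := act 2 n6229
theorem D7984 : act 2 n6229 = n7984 := rfl
def n7987 : Q := act 3 n6232
theorem D7987 : act 3 n6232 = n7987 := rfl
theorem F26718 : act 1 n7987 = n6234 := d8_1 D7987 (iv D6234) (iv F21113)
def n7989 : Q := act 6 n6232
theorem D7989 : act 6 n6232 = n7989 := rfl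
theorem F26724 : act 1 n7989 = n6236 := d11_1 D7989 (iv D6236) (iv F21113)
def n7993 : Q := act 6 n6234
theorem D7993 : act 6 n6234 = n7993 := rfl
theorem F26735 : act 0 n7993 = n6239 := d5_1 D7993 (iv D6239) (iv F21118)
theorem F26736 : act 3 n7993 = n6236 := d20_1 D7993 (iv D6236) D6234
def n7995 : Q := act 7 n6236
theorem D7995 : act 7 n6236 = n7995 := rfl
theorem F26741 : act 0 n7995 = n6241 := d6_1 D7995 (iv D6241) (iv F21124)
def n7996 : Q := act 4 n6238
theorem D7996 : act 4 n6238 = n7996 := rfl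
theorem F26745 : act 3 n7996 = n6251 := d18_1 D7996 (iv D6251) F16703 (iv F16679) (iv F21131)
def n7997 : Q := act 6 n6238
theorem D7997 : act 6 n6238 = n7997 := rfl
theorem F26747 : act 3 n7997 = n6240 := d20_1 D7997 (iv D6240) (iv F21131)
def n7998 : Q := act 2 n6239
theorem D7998 : act 2 n6239 = n7998 := rfl
def n7999 : Q := act 7 n6239
theorem D7999 : act 7 n6239 = n7999 := rfl
theorem F26750 : act 3 n7999 = n6241 := d21_1 D7999 (iv D6241) (iv F21133)
def n8001 : Q := act 2 n6242
theorem D8001 : act 2 n6242 = n8001 := rfl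
theorem F26756 : act 1 n8001 = n6256 := d7_1 D8001 (iv D6256) F16712 (iv F16691) (iv F21140)
theorem F26757 : act 3 n8001 = n6368 := d13_2 D6242 D8001 (iv D6368) (iv D4962) (iv F16687)
def n8002 : Q := act 5 n6242
theorem D8002 : act 5 n6242 = n8002 := rfl
theorem F26759 : act 1 n8002 = n6247 := d10_1 D8002 (iv D6247) (iv F21140)
theorem F26760 : act 3 n8002 = n6243 := d19_1 D8002 (iv D6243) D6242
def n8003 : Q := act 6 n6242
theorem D8003 : act 6 n6242 = n8003 := rfl
theorem F26762 : act 1 n8003 = n6248 := d11_1 D8003 (iv D6248) (iv F21140)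
theorem F26763 : act 3 n8003 = n6244 := d20_1 D8003 (iv D6244) D6242
def n8004 : Q := act 6 n6243
theorem D8004 : act 6 n6243 = n8004 := rfl
def n8005 : Q := act 2 n6244
theorem D8005 : act 2 n6244 = n8005 := rfl
theorem F26768 : act 6 n8005 = n6372 := d16_2 D6244 D8005 (iv D6372) (iv D4964) (iv F16687)
def n8010 : Q := act 6 n6247
theorem D8010 : act 6 n6247 = n8010 := rfl
def n8011 : Q := act 2 n6248
theorem D8011 : act 2 n6248 = n8011 := rfl
theorem F26784 : act 6 n8011 = n6263 := d16_2 D6248 D8011 (iv D6263) (iv D4880) (iv F16691)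
def n8014 : Q := act 6 n6251
theorem D8014 : act 6 n6251 = n8014 := rfl
def n8015 : Q := act 2 n6252
theorem D8015 : act 2 n6252 = n8015 := rfl
theorem F26793 : act 3 n8015 = n6298 := d13_2 (iv F21166) D8015 (iv D6298) F16819 (iv F16706)
theorem F26795 : act 6 n8015 = n6267 := d16_2 D6252 D8015 (iv D6267) (iv D4884) (iv F16702)
def n8017 : Q := act 1 n6253
theorem D8017 : act 1 n6253 = n8017 := rfl
theorem F26800 : act 6 n8017 = n6269 := d11_2 (iv F21169) D8017 (iv D6269)
def n8019 : Q := act 5 n6256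
theorem D8019 : act 5 n6256 = n8019 := rfl
theorem F26805 : act 3 n8019 = n6382 := d19_1 D8019 (iv D6382) (iv F21176)
def n8020 : Q := act 6 n6256
theorem D8020 : act 6 n6256 = n8020 := rfl
theorem F26808 : act 3 n8020 = n6383 := d20_1 D8020 (iv D6383) (iv F21176)
def n8022 : Q := act 6 n6257
theorem D8022 : act 6 n6257 = n8022 := rfl
theorem F26813 : act 1 n8022 = n6262 := d11_1 D8022 (iv D6262) (iv F21179)
theorem F26815 : act 5 n8022 = n6258 := d25_1 D8022 (iv D6258) D6257
def n8023 : Q := act 2 n6258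
theorem D8023 : act 2 n6258 = n8023 := rfl
def n8024 : Q := act 7 n6258
theorem D8024 : act 7 n6258 = n8024 := rfl
theorem F26819 : act 1 n8024 = n6264 := d12_1 D8024 (iv D6264) (iv F21183)
def n8027 : Q := act 2 n6262
theorem D8027 : act 2 n6262 = n8027 := rfl
theorem F26831 : act 5 n8027 = n6263 := d15_2 (iv F21198) D8027 (iv D6263)
def n8028 : Q := act 7 n6262
theorem D8028 : act 7 n6262 = n8028 := rfl
theorem F26832 : act 0 n8028 = n6268 := d6_1 D8028 (iv D6268) (iv F21196)
def n8029 : Q := act 1 n6263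
theorem D8029 : act 1 n6263 = n8029 := rfl
theorem F26836 : act 3 n8029 = n6305 := d8_2 (iv F21200) D8029 (iv D6305)
def n8030 : Q := act 7 n6263
theorem D8030 : act 7 n6263 = n8030 := rfl
theorem F26837 : act 0 n8030 = n6270 := d6_1 D8030 (iv D6270) (iv F21199)
theorem F26839 : act 3 n8030 = n6306 := d21_1 D8030 (iv D6306) (iv F21200)
def n8031 : Q := act 2 n6266
theorem D8031 : act 2 n6266 = n8031 := rfl
theorem F26840 : act 4 n8031 = n6267 := d14_2 (iv F21209) D8031 (iv D6267)
def n8033 : Q := act 1 n6267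
theorem D8033 : act 1 n6267 = n8033 := rfl
theorem F26846 : act 5 n8033 = n6269 := d10_2 (iv F21211) D8033 (iv D6269)
def n8034 : Q := act 7 n6267
theorem D8034 : act 7 n6267 = n8034 := rfl
theorem F26849 : act 5 n8034 = n6270 := d26_1 D8034 (iv D6270) (iv F21211)
def n8035 : Q := act 0 n6269
theorem D8035 : act 0 n6269 = n8035 := rfl
theorem F26851 : act 3 n8035 = n6311 := d2_2 (iv F21217) D8035 (iv D6311)
def n8036 : Q := act 7 n6269
theorem D8036 : act 7 n6269 = n8036 := rfl
theorem F26854 : act 3 n8036 = n6312 := d21_1 D8036 (iv D6312) (iv F21217)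
def n8042 : Q := act 2 n6273
theorem D8042 : act 2 n6273 = n8042 := rfl
theorem F26875 : act 6 n8042 = n6389 := d16_2 D6273 D8042 (iv D6389) (iv D4980) (iv F16753)
def n8043 : Q := act 7 n6273
theorem D8043 : act 7 n6273 = n8043 := rfl
def n8045 : Q := act 7 n6274
theorem D8045 : act 7 n6274 = n8045 := rfl
theorem F26885 : act 2 n8045 = n6275 := d17_1 D8045 (iv D6275) D6274
def n8046 : Q := act 4 n6276
theorem D8046 : act 4 n6276 = n8046 := rfl
theorem F26888 : act 3 n8046 = n6292 := d18_1 D8046 (iv D6292) F16804 (iv F16764) (iv F21241)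
def n8051 : Q := act 6 n6280
theorem D8051 : act 6 n6280 = n8051 := rfl
theorem F26905 : act 3 n8051 = n6297 := d20_1 D8051 (iv D6297) (iv F21253)
theorem F26906 : act 4 n8051 = n6281 := d23_1 D8051 (iv D6281) D6280
def n8052 : Q := act 2 n6281
theorem D8052 : act 2 n6281 = n8052 := rfl
def n8057 : Q := act 6 n6285
theorem D8057 : act 6 n6285 = n8057 := rfl
theorem F26923 : act 1 n8057 = n6293 := d11_1 D8057 (iv D6293) (iv F21269)
theorem F26924 : act 3 n8057 = n6287 := d20_1 D8057 (iv D6287) (iv F21271)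
def n8058 : Q := act 2 n6286
theorem D8058 : act 2 n6286 = n8058 := rfl
def n8060 : Q := act 2 n6287
theorem D8060 : act 2 n6287 = n8060 := rfl
theorem F26936 : act 6 n8060 = n6401 := d16_2 D6287 D8060 (iv D6401) (iv D4991) (iv F16791)
def n8062 : Q := act 3 n6288
theorem D8062 : act 3 n6288 = n8062 := rfl
theorem F26942 : act 6 n8062 = n6403 := d20_2 (iv F21282) D8062 (iv D6403)
def n8066 : Q := act 6 n6291
theorem D8066 : act 6 n6291 = n8066 := rfl
theorem F26954 : act 7 n8066 = n6407 := d27_2 D6291 D8066 (iv D6407) (iv D4995) (iv F16797)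
def n8068 : Q := act 2 n6293
theorem D8068 : act 2 n6293 = n8068 := rfl
theorem F26960 : act 6 n8068 = n6303 := d16_2 D6293 D8068 (iv D6303) (iv D4913) (iv F16803)
def n8070 : Q := act 1 n6294
theorem D8070 : act 1 n6294 = n8070 := rfl
theorem F26966 : act 6 n8070 = n6305 := d11_2 (iv F21301) D8070 (iv D6305)
def n8072 : Q := act 2 n6297
theorem D8072 : act 2 n6297 = n8072 := rfl
theorem F26970 : act 4 n8072 = n6298 := d14_2 (iv F21310) D8072 (iv D6298)
theorem F26972 : act 6 n8072 = n6307 := d16_2 D6297 D8072 (iv D6307) (iv D4917) (iv F16815)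
def n8073 : Q := act 7 n6297
theorem D8073 : act 7 n6297 = n8073 := rfl
def n8074 : Q := act 1 n6298
theorem D8074 : act 1 n6298 = n8074 := rfl
theorem F26979 : act 6 n8074 = n6309 := d11_2 (iv F21313) D8074 (iv D6309)
def n8075 : Q := act 7 n6298
theorem D8075 : act 7 n6298 = n8075 := rfl
theorem F26980 : act 2 n8075 = n6299 := d17_1 D8075 (iv D6299) D6298
def n8080 : Q := act 7 n6302
theorem D8080 : act 7 n6302 = n8080 := rfl
theorem F26996 : act 4 n8080 = n6304 := d24_1 D8080 (iv D6304) (iv F21325)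
theorem F26998 : act 6 n8080 = n6778 := d27_1 D8080 (iv D6778) (iv D5286) (iv F16833) D6302
def n8081 : Q := act 1 n6303
theorem D8081 : act 1 n6303 = n8081 := rfl
theorem F27000 : act 5 n8081 = n6305 := d10_2 (iv F21328) D8081 (iv D6305)
def n8082 : Q := act 7 n6303
theorem D8082 : act 7 n6303 = n8082 := rfl
theorem F27002 : act 2 n8082 = n6304 := d17_1 D8082 (iv D6304) D6303
theorem F27003 : act 5 n8082 = n6306 := d26_1 D8082 (iv D6306) (iv F21328)
def n8084 : Q := act 7 n6305
theorem D8084 : act 7 n6305 = n8084 := rfl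
def n8086 : Q := act 1 n6307
theorem D8086 : act 1 n6307 = n8086 := rfl
theorem F27013 : act 2 n8086 = n6314 := d7_2 D6307 D8086 (iv D6314) (iv D4922) (iv F16849)
theorem F27014 : act 4 n8086 = n6309 := d9_2 (iv F21339) D8086 (iv D6309)
def n8087 : Q := act 3 n6307
theorem D8087 : act 3 n6307 = n8087 := rfl
def n8088 : Q := act 7 n6307
theorem D8088 : act 7 n6307 = n8088 := rfl
theorem F27017 : act 2 n8088 = n6308 := d17_1 D8088 (iv D6308) D6307
theorem F27018 : act 4 n8088 = n6310 := d24_1 D8088 (iv D6310) (iv F21339)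
def n8089 : Q := act 0 n6309
theorem D8089 : act 0 n6309 = n8089 := rfl
theorem F27021 : act 5 n8089 = n6311 := d4_2 (iv F21346) D8089 (iv D6311)
def n8090 : Q := act 7 n6309
theorem D8090 : act 7 n6309 = n8090 := rfl
theorem F27022 : act 1 n8090 = n6310 := d12_1 D8090 (iv D6310) D6309
theorem F27023 : act 2 n8090 = n6318 := d17_1 D8090 (iv D6318) (iv F21345)
theorem F27024 : act 5 n8090 = n6312 := d26_1 D8090 (iv D6312) (iv F21346)
def n8091 : Q := act 6 n6310
theorem D8091 : act 6 n6310 = n8091 := rfl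
theorem F27025 : act 2 n8091 = n6789 := d16_1 D8091 (iv D6789) F18031 (iv F16856) (iv F21347)
def n8092 : Q := act 7 n6311
theorem D8092 : act 7 n6311 = n8092 := rfl
theorem F27028 : act 2 n8092 = n6320 := d17_1 D8092 (iv D6320) (iv F21349)
def n8093 : Q := act 6 n6312
theorem D8093 : act 6 n6312 = n8093 := rfl
theorem F27030 : act 1 n8093 = n6313 := d11_1 D8093 (iv D6313) (iv F21351)
def n8094 : Q := act 0 n6314
theorem D8094 : act 0 n6314 = n8094 := rfl
theorem F27033 : act 4 n8094 = n6317 := d3_2 (iv F21356) D8094 (iv D6317)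
def n8099 : Q := act 7 n6317
theorem D8099 : act 7 n6317 = n8099 := rfl
theorem F27055 : act 5 n8099 = n6320 := d26_1 D8099 (iv D6320) (iv F21369)
def n8101 : Q := act 6 n6320
theorem D8101 : act 6 n6320 = n8101 := rfl
theorem F27060 : act 0 n8101 = n6321 := d5_1 D8101 (iv D6321) (iv F21379)
def n8103 : Q := act 4 n6322
theorem D8103 : act 4 n6322 = n8103 := rfl
theorem F27068 : act 1 n8103 = n6323 := d9_1 D8103 (iv D6323) D6322
def n8105 : Q := act 3 n6323
theorem D8105 : act 3 n6323 = n8105 := rfl
theorem F27074 : act 2 n8105 = n6332 := d13_1 D8105 (iv D6332) F16911 (iv F16893) (iv F21391)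
def n8109 : Q := act 5 n6326
theorem D8109 : act 5 n6326 = n8109 := rfl
theorem F27089 : act 2 n8109 = n6336 := d15_1 D8109 (iv D6336) (iv F21402)
def n8110 : Q := act 6 n6326
theorem D8110 : act 6 n6326 = n8110 := rfl
def n8118 : Q := act 5 n6332
theorem D8118 : act 5 n6332 = n8118 := rfl
theorem F27120 : act 3 n8118 = n6333 := d19_1 D8118 (iv D6333) D6332
def n8119 : Q := act 6 n6332
theorem D8119 : act 6 n6332 = n8119 := rfl
theorem F27123 : act 3 n8119 = n6334 := d20_1 D8119 (iv D6334) D6332
def n8120 : Q := act 6 n6333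
theorem D8120 : act 6 n6333 = n8120 := rfl
theorem F27127 : act 4 n8120 = n6347 := d23_1 D8120 (iv D6347) (iv F21426)
def n8121 : Q := act 7 n6334
theorem D8121 : act 7 n6334 = n8121 := rfl
theorem F27131 : act 4 n8121 = n6335 := d24_1 D8121 (iv D6335) (iv F21430)
def n8123 : Q := act 6 n6336
theorem D8123 : act 6 n6336 = n8123 := rfl
theorem F27138 : act 3 n8123 = n6338 := d20_1 D8123 (iv D6338) (iv F21437)
def n8124 : Q := act 2 n6337
theorem D8124 : act 2 n6337 = n8124 := rfl
def n8125 : Q := act 7 n6337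
theorem D8125 : act 7 n6337 = n8125 := rfl
theorem F27143 : act 3 n8125 = n6339 := d21_1 D8125 (iv D6339) (iv F21440)
def n8126 : Q := act 7 n6338
theorem D8126 : act 7 n6338 = n8126 := rfl
theorem F27148 : act 4 n8126 = n6353 := d24_1 D8126 (iv D6353) (iv F21444)
def n8127 : Q := act 2 n6340
theorem D8127 : act 2 n6340 = n8127 := rfl
theorem F27153 : act 4 n8127 = n8127 := d14_2 F21452 D8127 (iv D8127)
def n8129 : Q := act 6 n6340
theorem D8129 : act 6 n6340 = n8129 := rfl
theorem F27159 : act 0 n8129 = n6370 := d5_1 D8129 (iv D6370) (iv F21450)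
theorem F27160 : act 1 n8129 = n6346 := d11_1 D8129 (iv D6346) (iv F21451)
theorem F27161 : act 3 n8129 = n6342 := d20_1 D8129 (iv D6342) D6340
def n8130 : Q := act 6 n6341
theorem D8130 : act 6 n6341 = n8130 := rfl
theorem F27165 : act 5 n8130 = n6342 := d25_1 D8130 (iv D6342) D6341
def n8131 : Q := act 2 n6342
theorem D8131 : act 2 n6342 = n8131 := rfl
theorem F27168 : act 4 n8131 = n6343 := d14_2 (iv F21459) D8131 (iv D6343)
def n8132 : Q := act 7 n6342
theorem D8132 : act 7 n6342 = n8132 := rfl
theorem F27169 : act 0 n8132 = n6373 := d6_1 D8132 (iv D6373) (iv F21457)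
def n8133 : Q := act 3 n6343
theorem D8133 : act 3 n6343 = n8133 := rfl
def n8134 : Q := act 7 n6343
theorem D8134 : act 7 n6343 = n8134 := rfl
def n8137 : Q := act 2 n6346
theorem D8137 : act 2 n6346 = n8137 := rfl
theorem F27186 : act 0 n8137 = n6351 := d1_1 D8137 (iv D6351) (iv F21470)
def n8138 : Q := act 7 n6346
theorem D8138 : act 7 n6346 = n8138 := rfl
theorem F27190 : act 0 n8138 = n6352 := d6_1 D8138 (iv D6352) (iv F21470)
theorem F27191 : act 3 n8138 = n6348 := d21_1 D8138 (iv D6348) (iv F21471)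
def n8139 : Q := act 7 n6347
theorem D8139 : act 7 n6347 = n8139 := rfl
theorem F27196 : act 5 n8139 = n6348 := d26_1 D8139 (iv D6348) (iv F21475)
def n8143 : Q := act 7 n6351
theorem D8143 : act 7 n6351 = n8143 := rfl
theorem F27210 : act 2 n8143 = n6352 := d17_1 D8143 (iv D6352) D6351
theorem F27211 : act 3 n8143 = n8143 := d21_1 D8143 (iv D8143) F21488
theorem F27212 : act 4 n8143 = n8143 := d24_1 D8143 (iv D8143) F21489
def n8144 : Q := act 2 n6354
theorem D8144 : act 2 n6354 = n8144 := rfl
def n8146 : Q := act 6 n6354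
theorem D8146 : act 6 n6354 = n8146 := rfl
theorem F27219 : act 3 n8146 = n6356 := d20_1 D8146 (iv D6356) D6354
def n8148 : Q := act 2 n6356
theorem D8148 : act 2 n6356 = n8148 := rfl
theorem F27225 : act 4 n8148 = n6357 := d14_2 (iv F21506) D8148 (iv D6357)
def n8149 : Q := act 7 n6356
theorem D8149 : act 7 n6356 = n8149 := rfl
theorem F27227 : act 4 n8149 = n6358 := d24_1 D8149 (iv D6358) (iv F21506)
def n8151 : Q := act 7 n6357
theorem D8151 : act 7 n6357 = n8151 := rfl
theorem F27234 : act 5 n8151 = n6375 := d26_1 D8151 (iv D6375) (iv F21508)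
def n8152 : Q := act 4 n6359
theorem D8152 : act 4 n6359 = n8152 := rfl
theorem F27236 : act 3 n8152 = n6376 := d18_1 D8152 (iv D6376) F17013 (iv F16980) (iv F21514)
def n8155 : Q := act 7 n6360
theorem D8155 : act 7 n6360 = n8155 := rfl
theorem F27246 : act 3 n8155 = n6362 := d21_1 D8155 (iv D6362) (iv F21517)
def n8162 : Q := act 5 n6368
theorem D8162 : act 5 n6368 = n8162 := rfl
theorem F27267 : act 1 n8162 = n6382 := d10_1 D8162 (iv D6382) (iv F21541)
theorem F27268 : act 2 n8162 = n6369 := d15_1 D8162 (iv D6369) D6368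
def n8163 : Q := act 6 n6368
theorem D8163 : act 6 n6368 = n8163 := rfl
theorem F27270 : act 1 n8163 = n6383 := d11_1 D8163 (iv D6383) (iv F21541)
def n8165 : Q := act 6 n6369
theorem D8165 : act 6 n6369 = n8165 := rfl
theorem F27277 : act 5 n8165 = n6370 := d25_1 D8165 (iv D6370) D6369
def n8166 : Q := act 2 n6370
theorem D8166 : act 2 n6370 = n8166 := rfl
theorem F27278 : act 1 n8166 = n8166 := d7_1 D8166 (iv D8166) F21547 F17016 (iv F21547)
def n8167 : Q := act 7 n6370
theorem D8167 : act 7 n6370 = n8167 := rfl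
theorem F27281 : act 3 n8167 = n6373 := d21_1 D8167 (iv D6373) (iv F21548)
def n8168 : Q := act 2 n6371
theorem D8168 : act 2 n6371 = n8168 := rfl
theorem F27285 : act 5 n8168 = n6372 := d15_2 (iv F21551) D8168 (iv D6372)
def n8170 : Q := act 3 n6372
theorem D8170 : act 3 n6372 = n8170 := rfl
theorem F27289 : act 1 n8170 = n6403 := d8_1 D8170 (iv D6403) (iv F21552)
def n8171 : Q := act 7 n6372
theorem D8171 : act 7 n6372 = n8171 := rfl
theorem F27290 : act 1 n8171 = n6404 := d12_1 D8171 (iv D6404) (iv F21552)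
theorem F27291 : act 2 n8171 = n6373 := d17_1 D8171 (iv D6373) D6372
theorem F27292 : act 4 n8171 = n6375 := d24_1 D8171 (iv D6375) (iv F21553)
def n8175 : Q := act 6 n6376
theorem D8175 : act 6 n6376 = n8175 := rfl
theorem F27302 : act 4 n8175 = n6377 := d23_1 D8175 (iv D6377) D6376
def n8176 : Q := act 7 n6377
theorem D8176 : act 7 n6377 = n8176 := rfl
theorem F27306 : act 3 n8176 = n6379 := d21_1 D8176 (iv D6379) (iv F21567)
theorem F27307 : act 5 n8176 = n6378 := d26_1 D8176 (iv D6378) (iv F21568)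
def n8178 : Q := act 4 n6382
theorem D8178 : act 4 n6382 = n8178 := rfl
def n8179 : Q := act 6 n6382
theorem D8179 : act 6 n6382 = n8179 := rfl
def n8189 : Q := act 7 n6389
theorem D8189 : act 7 n6389 = n8189 := rfl
theorem F27353 : act 4 n8189 = n6392 := d24_1 D8189 (iv D6392) (iv F21613)
def n8190 : Q := act 4 n6391
theorem D8190 : act 4 n6391 = n8190 := rfl
theorem F27355 : act 2 n8190 = n6413 := d14_1 D8190 (iv D6413) (iv F21619)
def n8191 : Q := act 7 n6391
theorem D8191 : act 7 n6391 = n8191 := rfl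
theorem F27359 : act 5 n8191 = n6406 := d26_1 D8191 (iv D6406) (iv F21620)
def n8192 : Q := act 6 n6392
theorem D8192 : act 6 n6392 = n8192 := rfl
def n8202 : Q := act 3 n6401
theorem D8202 : act 3 n6401 = n8202 := rfl
theorem F27390 : act 5 n8202 = n6403 := d19_2 (iv F21650) D8202 (iv D6403)
def n8203 : Q := act 7 n6401
theorem D8203 : act 7 n6401 = n8203 := rfl
theorem F27392 : act 2 n8203 = n6402 := d17_1 D8203 (iv D6402) D6401
theorem F27393 : act 5 n8203 = n6404 := d26_1 D8203 (iv D6404) (iv F21650)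
def n8205 : Q := act 7 n6403
theorem D8205 : act 7 n6403 = n8205 := rfl
def n8219 : Q := act 7 n6413
theorem D8219 : act 7 n6413 = n8219 := rfl
theorem F27445 : act 4 n8219 = n6414 := d24_1 D8219 (iv D6414) D6413
def n8220 : Q := act 6 n6414
theorem D8220 : act 6 n6414 = n8220 := rfl
theorem F27449 : act 5 n8220 = n6423 := d25_1 D8220 (iv D6423) (iv F21693)
def n8228 : Q := act 2 n6423
theorem D8228 : act 2 n6423 = n8228 := rfl
def n8229 : Q := act 1 n6424
theorem D8229 : act 1 n6424 = n8229 := rfl
theorem F27480 : act 0 n8229 = n8229 := d0_1 D8229 (iv D8229) F21727 F17169 (iv F21727)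
theorem F27481 : act 2 n8229 = n8229 := d7_2 D6424 D8229 (iv D8229) (iv D6424) F17166
theorem F27482 : act 3 n8229 = n6470 := d8_2 (iv F21728) D8229 (iv D6470)
theorem F27483 : act 5 n8229 = n6434 := d10_2 (iv F21729) D8229 (iv D6434)
def n8230 : Q := act 4 n6424
theorem D8230 : act 4 n6424 = n8230 := rfl
theorem F27484 : act 0 n8230 = n6426 := d3_1 D8230 (iv D6426) (iv F21727)
theorem F27485 : act 2 n8230 = n6425 := d14_1 D8230 (iv D6425) D6424
def n8231 : Q := act 6 n6424
theorem D8231 : act 6 n6424 = n8231 := rfl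
theorem F27486 : act 0 n8231 = n6427 := d5_1 D8231 (iv D6427) (iv F21727)
theorem F27487 : act 2 n8231 = n8231 := d16_1 D8231 (iv D8231) (iv D6424) F17168 D6424
theorem F27488 : act 3 n8231 = n6472 := d20_1 D8231 (iv D6472) (iv F21728)
theorem F27489 : act 5 n8231 = n6436 := d25_1 D8231 (iv D6436) (iv F21729)
def n8232 : Q := act 5 n6425
theorem D8232 : act 5 n6425 = n8232 := rfl
def n8233 : Q := act 3 n6426
theorem D8233 : act 3 n6426 = n8233 := rfl
theorem F27497 : act 4 n8233 = n6474 := d18_2 D6426 D8233 (iv D6474) (iv D5046) (iv F17170)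
def n8234 : Q := act 5 n6426
theorem D8234 : act 5 n6426 = n8234 := rfl
def n8235 : Q := act 6 n6426
theorem D8235 : act 6 n6426 = n8235 := rfl
theorem F27503 : act 4 n8235 = n6427 := d23_1 D8235 (iv D6427) D6426
def n8237 : Q := act 1 n6429
theorem D8237 : act 1 n6429 = n8237 := rfl
theorem F27508 : act 0 n8237 = n8237 := d0_1 D8237 (iv D8237) F21744 F17183 (iv F21744)
theorem F27509 : act 2 n8237 = n8237 := d7_2 D6429 D8237 (iv D8237) (iv D6429) F17181
theorem F27510 : act 3 n8237 = n6478 := d8_2 (iv F21745) D8237 (iv D6478)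
theorem F27511 : act 7 n8237 = n6434 := d12_2 (iv F21746) D8237 (iv D6434)
def n8238 : Q := act 4 n6429
theorem D8238 : act 4 n6429 = n8238 := rfl
theorem F27513 : act 2 n8238 = n6430 := d14_1 D8238 (iv D6430) D6429
theorem F27514 : act 7 n8238 = n6435 := d24_2 (iv F21746) D8238 (iv D6435)
def n8239 : Q := act 6 n6429
theorem D8239 : act 6 n6429 = n8239 := rfl
theorem F27515 : act 0 n8239 = n6432 := d5_1 D8239 (iv D6432) (iv F21744)
theorem F27516 : act 3 n8239 = n6480 := d20_1 D8239 (iv D6480) (iv F21745)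
def n8241 : Q := act 3 n6431
theorem D8241 : act 3 n6431 = n8241 := rfl
theorem F27523 : act 4 n8241 = n6482 := d18_2 D6431 D8241 (iv D6482) (iv D5051) (iv F17184)
def n8243 : Q := act 6 n6431
theorem D8243 : act 6 n6431 = n8243 := rfl
theorem F27529 : act 4 n8243 = n6432 := d23_1 D8243 (iv D6432) D6431
def n8244 : Q := act 7 n6432
theorem D8244 : act 7 n6432 = n8244 := rfl
theorem F27532 : act 6 n8244 = n6441 := d27_1 D8244 (iv D6441) (iv D5021) (iv F17185) D6432
def n8245 : Q := act 4 n6434
theorem D8245 : act 4 n6434 = n8245 := rfl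
theorem F27534 : act 1 n8245 = n6435 := d9_1 D8245 (iv D6435) D6434
def n8246 : Q := act 6 n6434
theorem D8246 : act 6 n6434 = n8246 := rfl
theorem F27536 : act 0 n8246 = n8246 := d5_1 D8246 (iv D8246) F21759
theorem F27537 : act 1 n8246 = n6436 := d11_1 D8246 (iv D6436) D6434
theorem F27538 : act 3 n8246 = n6487 := d20_1 D8246 (iv D6487) (iv F21761)
def n8249 : Q := act 6 n6435
theorem D8249 : act 6 n6435 = n8249 := rfl
theorem F27546 : act 4 n8249 = n6436 := d23_1 D8249 (iv D6436) D6435
def n8250 : Q := act 7 n6436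
theorem D8250 : act 7 n6436 = n8250 := rfl
theorem F27547 : act 0 n8250 = n6441 := d6_1 D8250 (iv D6441) (iv F21764)
theorem F27548 : act 2 n8250 = n8250 := d17_1 D8250 (iv D8250) F21765
theorem F27549 : act 3 n8250 = n6491 := d21_1 D8250 (iv D6491) (iv F21766)
def n8254 : Q := act 7 n6440
theorem D8254 : act 7 n6440 = n8254 := rfl
theorem F27561 : act 4 n8254 = n6441 := d24_1 D8254 (iv D6441) (iv F21778)
def n8287 : Q := act 1 n6465
theorem D8287 : act 1 n6465 = n8287 := rfl
theorem F27664 : act 0 n8287 = n8287 := d0_1 D8287 (iv D8287) F21856 F17267 (iv F21856)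
theorem F27665 : act 2 n8287 = n6560 := d7_2 D6465 D8287 (iv D6560) (iv D5112) (iv F17264)
theorem F27666 : act 5 n8287 = n6478 := d10_2 (iv F21857) D8287 (iv D6478)
theorem F27667 : act 7 n8287 = n6470 := d12_2 (iv F21858) D8287 (iv D6470)
def n8288 : Q := act 4 n6465
theorem D8288 : act 4 n6465 = n8288 := rfl
theorem F27668 : act 0 n8288 = n6467 := d3_1 D8288 (iv D6467) (iv F21856)
theorem F27669 : act 2 n8288 = n6466 := d14_1 D8288 (iv D6466) D6465
theorem F27670 : act 7 n8288 = n6471 := d24_2 (iv F21858) D8288 (iv D6471)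
def n8289 : Q := act 6 n6465
theorem D8289 : act 6 n6465 = n8289 := rfl
theorem F27671 : act 0 n8289 = n6468 := d5_1 D8289 (iv D6468) (iv F21856)
theorem F27672 : act 5 n8289 = n6480 := d25_1 D8289 (iv D6480) (iv F21857)
def n8291 : Q := act 3 n6467
theorem D8291 : act 3 n6467 = n8291 := rfl
theorem F27680 : act 7 n8291 = n6474 := d21_2 (iv F21865) D8291 (iv D6474)
def n8293 : Q := act 6 n6467
theorem D8293 : act 6 n6467 = n8293 := rfl
theorem F27686 : act 4 n8293 = n6468 := d23_1 D8293 (iv D6468) D6467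
def n8294 : Q := act 7 n6468
theorem D8294 : act 7 n6468 = n8294 := rfl
theorem F27689 : act 6 n8294 = n6477 := d27_1 D8294 (iv D6477) (iv D5047) (iv F17269) D6468
def n8295 : Q := act 4 n6470
theorem D8295 : act 4 n6470 = n8295 := rfl
theorem F27690 : act 0 n8295 = n8295 := d3_1 D8295 (iv D8295) F21872
theorem F27691 : act 1 n8295 = n6471 := d9_1 D8295 (iv D6471) D6470
theorem F27692 : act 2 n8295 = n6568 := d14_1 D8295 (iv D6568) (iv F21873)
def n8296 : Q := act 6 n6470
theorem D8296 : act 6 n6470 = n8296 := rfl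
theorem F27693 : act 0 n8296 = n8296 := d5_1 D8296 (iv D8296) F21872
theorem F27694 : act 1 n8296 = n6472 := d11_1 D8296 (iv D6472) D6470
theorem F27695 : act 5 n8296 = n6487 := d25_1 D8296 (iv D6487) (iv F21874)
def n8297 : Q := act 3 n6471
theorem D8297 : act 3 n6471 = n8297 := rfl
theorem F27696 : act 0 n8297 = n6474 := d2_1 D8297 (iv D6474) (iv F21875)
theorem F27697 : act 2 n8297 = n8297 := d13_1 D8297 (iv D8297) F21876 F17282 (iv F21876)
def n8299 : Q := act 6 n6471
theorem D8299 : act 6 n6471 = n8299 := rfl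
theorem F27702 : act 2 n8299 = n6523 := d16_1 D8299 (iv D6523) F17382 (iv F17283) (iv F21876)
def n8300 : Q := act 7 n6472
theorem D8300 : act 7 n6472 = n8300 := rfl
theorem F27704 : act 0 n8300 = n6477 := d6_1 D8300 (iv D6477) (iv F21877)
theorem F27705 : act 2 n8300 = n6524 := d17_1 D8300 (iv D6524) (iv F21878)
theorem F27706 : act 5 n8300 = n6491 := d26_1 D8300 (iv D6491) (iv F21879)
def n8301 : Q := act 5 n6474
theorem D8301 : act 5 n6474 = n8301 := rfl
theorem F27709 : act 3 n8301 = n6475 := d19_1 D8301 (iv D6475) D6474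
def n8302 : Q := act 6 n6474
theorem D8302 : act 6 n6474 = n8302 := rfl
theorem F27711 : act 3 n8302 = n6476 := d20_1 D8302 (iv D6476) D6474
def n8303 : Q := act 6 n6475
theorem D8303 : act 6 n6475 = n8303 := rfl
theorem F27713 : act 2 n8303 = n6527 := d16_1 D8303 (iv D6527) F17394 (iv F17292) (iv F21888)
def n8304 : Q := act 7 n6476
theorem D8304 : act 7 n6476 = n8304 := rfl
def n8305 : Q := act 4 n6478
theorem D8305 : act 4 n6478 = n8305 := rfl
theorem F27719 : act 0 n8305 = n8305 := d3_1 D8305 (iv D8305) F21896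
theorem F27720 : act 1 n8305 = n6479 := d9_1 D8305 (iv D6479) D6478
theorem F27721 : act 2 n8305 = n6578 := d14_1 D8305 (iv D6578) (iv F21897)
theorem F27722 : act 7 n8305 = n6486 := d24_2 (iv F21898) D8305 (iv D6486)
def n8306 : Q := act 6 n6478
theorem D8306 : act 6 n6478 = n8306 := rfl
theorem F27723 : act 0 n8306 = n8306 := d5_1 D8306 (iv D8306) F21896
theorem F27724 : act 1 n8306 = n6480 := d11_1 D8306 (iv D6480) D6478
def n8307 : Q := act 3 n6479
theorem D8307 : act 3 n6479 = n8307 := rfl
def n8308 : Q := act 5 n6479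
theorem D8308 : act 5 n6479 = n8308 := rfl
theorem F27729 : act 2 n8308 = n6481 := d15_1 D8308 (iv D6481) (iv F21900)
def n8309 : Q := act 6 n6479
theorem D8309 : act 6 n6479 = n8309 := rfl
theorem F27731 : act 0 n8309 = n6484 := d5_1 D8309 (iv D6484) (iv F21899)
theorem F27732 : act 4 n8309 = n6480 := d23_1 D8309 (iv D6480) D6479
def n8310 : Q := act 7 n6480
theorem D8310 : act 7 n6480 = n8310 := rfl
theorem F27733 : act 0 n8310 = n6485 := d6_1 D8310 (iv D6485) (iv F21902)
theorem F27734 : act 6 n8310 = n6491 := d27_1 D8310 (iv D6491) (iv D5056) (iv F17294) D6480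
def n8312 : Q := act 6 n6482
theorem D8312 : act 6 n6482 = n8312 := rfl
theorem F27740 : act 3 n8312 = n6484 := d20_1 D8312 (iv D6484) D6482
def n8313 : Q := act 6 n6483
theorem D8313 : act 6 n6483 = n8313 := rfl
theorem F27742 : act 5 n8313 = n6484 := d25_1 D8313 (iv D6484) D6483
def n8314 : Q := act 7 n6484
theorem D8314 : act 7 n6484 = n8314 := rfl
def n8315 : Q := act 3 n6486
theorem D8315 : act 3 n6486 = n8315 := rfl
def n8316 : Q := act 5 n6486
theorem D8316 : act 5 n6486 = n8316 := rfl
theorem F27749 : act 1 n8316 = n6489 := d10_1 D8316 (iv D6489) (iv F21918)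
theorem F27750 : act 2 n8316 = n6589 := d15_1 D8316 (iv D6589) (iv F21919)
def n8317 : Q := act 6 n6486
theorem D8317 : act 6 n6486 = n8317 := rfl
theorem F27752 : act 1 n8317 = n6490 := d11_1 D8317 (iv D6490) (iv F21918)
def n8318 : Q := act 2 n6487
theorem D8318 : act 2 n6487 = n8318 := rfl
theorem F27755 : act 1 n8318 = n6532 := d7_1 D8318 (iv D6532) F17405 (iv F17311) (iv F21921)
def n8319 : Q := act 7 n6487
theorem D8319 : act 7 n6487 = n8319 := rfl
theorem F27757 : act 0 n8319 = n8319 := d6_1 D8319 (iv D8319) F21920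
theorem F27758 : act 1 n8319 = n6491 := d12_1 D8319 (iv D6491) (iv F21921)
def n8331 : Q := act 6 n6496
theorem D8331 : act 6 n6496 = n8331 := rfl
theorem F27792 : act 4 n8331 = n6497 := d23_1 D8331 (iv D6497) D6496
def n8332 : Q := act 2 n6497
theorem D8332 : act 2 n6497 = n8332 := rfl
theorem F27795 : act 6 n8332 = n6604 := d16_2 D6497 D8332 (iv D6604) (iv D5144) (iv F17326)
def n8358 : Q := act 3 n6519
theorem D8358 : act 3 n6519 = n8358 := rfl
theorem F27866 : act 0 n8358 = n6646 := d2_1 D8358 (iv D6646) (iv F22008)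
def n8361 : Q := act 2 n6520
theorem D8361 : act 2 n6520 = n8361 := rfl
def n8362 : Q := act 7 n6520
theorem D8362 : act 7 n6520 = n8362 := rfl
theorem F27880 : act 1 n8362 = n6524 := d12_1 D8362 (iv D6524) (iv F22012)
def n8369 : Q := act 2 n6526
theorem D8369 : act 2 n6526 = n8369 := rfl
def n8371 : Q := act 7 n6527
theorem D8371 : act 7 n6527 = n8371 := rfl
def n8378 : Q := act 7 n6532
theorem D8378 : act 7 n6532 = n8378 := rfl
theorem F27930 : act 2 n8378 = n6533 := d17_1 D8378 (iv D6533) D6532
def n8409 : Q := act 4 n6560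
theorem D8409 : act 4 n6560 = n8409 := rfl
theorem F28022 : act 1 n8409 = n6561 := d9_1 D8409 (iv D6561) D6560
theorem F28023 : act 7 n8409 = n6568 := d24_2 (iv F22134) D8409 (iv D6568)
def n8410 : Q := act 6 n6560
theorem D8410 : act 6 n6560 = n8410 := rfl
theorem F28024 : act 0 n8410 = n8410 := d5_1 D8410 (iv D8410) F22131
theorem F28025 : act 1 n8410 = n6562 := d11_1 D8410 (iv D6562) D6560
theorem F28026 : act 3 n8410 = n8410 := d20_1 D8410 (iv D8410) F22132
theorem F28027 : act 5 n8410 = n6579 := d25_1 D8410 (iv D6579) (iv F22133)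
def n8411 : Q := act 3 n6561
theorem D8411 : act 3 n6561 = n8411 := rfl
theorem F28031 : act 7 n8411 = n6570 := d21_2 (iv F22137) D8411 (iv D6570)
def n8412 : Q := act 5 n6561
theorem D8412 : act 5 n6561 = n8412 := rfl
theorem F28033 : act 2 n8412 = n6563 := d15_1 D8412 (iv D6563) (iv F22136)
theorem F28034 : act 4 n8412 = n6581 := d22_1 D8412 (iv D6581) (iv D5126) (iv F17473) D6561
def n8413 : Q := act 6 n6561
theorem D8413 : act 6 n6561 = n8413 := rfl
theorem F28037 : act 4 n8413 = n6562 := d23_1 D8413 (iv D6562) D6561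
def n8415 : Q := act 5 n6564
theorem D8415 : act 5 n6564 = n8415 := rfl
theorem F28044 : act 3 n8415 = n6565 := d19_1 D8415 (iv D6565) D6564
theorem F28045 : act 7 n8415 = n6574 := d26_2 (iv F22148) D8415 (iv D6574)
def n8419 : Q := act 3 n6568
theorem D8419 : act 3 n6568 = n8419 := rfl
theorem F28056 : act 1 n8419 = n6570 := d8_1 D8419 (iv D6570) (iv F22160)
theorem F28057 : act 4 n8419 = n8419 := d18_2 D6568 D8419 (iv D8419) (iv D6568) F17489
def n8420 : Q := act 5 n6568
theorem D8420 : act 5 n6568 = n8420 := rfl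
theorem F28059 : act 1 n8420 = n6571 := d10_1 D8420 (iv D6571) (iv F22160)
theorem F28060 : act 4 n8420 = n6589 := d22_1 D8420 (iv D6589) (iv D5133) (iv F17490) D6568
def n8422 : Q := act 2 n6569
theorem D8422 : act 2 n6569 = n8422 := rfl
theorem F28065 : act 1 n8422 = n6617 := d7_1 D8422 (iv D6617) F17613 (iv F17494) (iv F22162)
theorem F28066 : act 5 n8422 = n6591 := d15_2 (iv F22164) D8422 (iv D6591)
def n8423 : Q := act 7 n6569
theorem D8423 : act 7 n6569 = n8423 := rfl
theorem F28068 : act 1 n8423 = n6573 := d12_1 D8423 (iv D6573) (iv F22162)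
theorem F28069 : act 3 n8423 = n8423 := d21_1 D8423 (iv D8423) F22163
def n8424 : Q := act 5 n6570
theorem D8424 : act 5 n6570 = n8424 := rfl
theorem F28073 : act 3 n8424 = n6571 := d19_1 D8424 (iv D6571) D6570
def n8428 : Q := act 4 n6574
theorem D8428 : act 4 n6574 = n8428 := rfl
theorem F28087 : act 5 n8428 = n8428 := d22_2 D6574 D8428 (iv D8428) (iv D6574) F17503
def n8433 : Q := act 3 n6578
theorem D8433 : act 3 n6578 = n8433 := rfl
theorem F28101 : act 0 n8433 = n8433 := d2_1 D8433 (iv D8433) F22191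
theorem F28102 : act 1 n8433 = n6580 := d8_1 D8433 (iv D6580) (iv F22192)
theorem F28103 : act 4 n8433 = n8433 := d18_2 D6578 D8433 (iv D8433) (iv D6578) F17515
theorem F28104 : act 7 n8433 = n6588 := d21_2 (iv F22193) D8433 (iv D6588)
def n8434 : Q := act 5 n6578
theorem D8434 : act 5 n6578 = n8434 := rfl
theorem F28105 : act 0 n8434 = n8434 := d4_1 D8434 (iv D8434) F22191
theorem F28106 : act 1 n8434 = n6581 := d10_1 D8434 (iv D6581) (iv F22192)
theorem F28107 : act 7 n8434 = n6589 := d26_2 (iv F22193) D8434 (iv D6589)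
def n8435 : Q := act 6 n6578
theorem D8435 : act 6 n6578 = n8435 := rfl
theorem F28108 : act 0 n8435 = n8435 := d5_1 D8435 (iv D8435) F22191
theorem F28109 : act 1 n8435 = n6582 := d11_1 D8435 (iv D6582) (iv F22192)
theorem F28110 : act 4 n8435 = n6579 := d23_1 D8435 (iv D6579) D6578
def n8436 : Q := act 2 n6579
theorem D8436 : act 2 n6579 = n8436 := rfl
theorem F28111 : act 0 n8436 = n8436 := d1_1 D8436 (iv D8436) F22194
def n8437 : Q := act 7 n6579
theorem D8437 : act 7 n6579 = n8437 := rfl
theorem F28112 : act 0 n8437 = n8437 := d6_1 D8437 (iv D8437) F22194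
theorem F28113 : act 1 n8437 = n6583 := d12_1 D8437 (iv D6583) (iv F22195)
theorem F28114 : act 3 n8437 = n8437 := d21_1 D8437 (iv D8437) F22196
theorem F28115 : act 6 n8437 = n6592 := d27_1 D8437 (iv D6592) (iv D5134) (iv F17516) D6579
def n8438 : Q := act 5 n6580
theorem D8438 : act 5 n6580 = n8438 := rfl
theorem F28119 : act 7 n8438 = n6593 := d26_2 (iv F22200) D8438 (iv D6593)
def n8439 : Q := act 6 n6580
theorem D8439 : act 6 n6580 = n8439 := rfl
theorem F28120 : act 0 n8439 = n6585 := d5_1 D8439 (iv D6585) (iv F22197)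
theorem F28121 : act 3 n8439 = n6582 := d20_1 D8439 (iv D6582) D6580
def n8440 : Q := act 6 n6581
theorem D8440 : act 6 n6581 = n8440 := rfl
theorem F28124 : act 5 n8440 = n6582 := d25_1 D8440 (iv D6582) D6581
def n8441 : Q := act 7 n6582
theorem D8441 : act 7 n6582 = n8441 := rfl
theorem F28125 : act 0 n8441 = n6587 := d6_1 D8441 (iv D6587) (iv F22204)
theorem F28126 : act 4 n8441 = n6583 := d24_1 D8441 (iv D6583) (iv F22205)
theorem F28127 : act 6 n8441 = n6596 := d27_1 D8441 (iv D6596) (iv D5137) (iv F17519) D6582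
def n8445 : Q := act 7 n6585
theorem D8445 : act 7 n6585 = n8445 := rfl
theorem F28138 : act 3 n8445 = n6587 := d21_1 D8445 (iv D6587) (iv F22214)
theorem F28140 : act 6 n8445 = n6599 := d27_1 D8445 (iv D6599) (iv D5140) (iv F17528) D6585
def n8446 : Q := act 7 n6586
theorem D8446 : act 7 n6586 = n8446 := rfl
theorem F28142 : act 5 n8446 = n6587 := d26_1 D8446 (iv D6587) (iv F22217)
def n8447 : Q := act 2 n6588
theorem D8447 : act 2 n6588 = n8447 := rfl
def n8448 : Q := act 5 n6588
theorem D8448 : act 5 n6588 = n8448 := rfl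
theorem F28147 : act 0 n8448 = n8448 := d4_1 D8448 (iv D8448) F22221
theorem F28148 : act 1 n8448 = n6593 := d10_1 D8448 (iv D6593) (iv F22222)
theorem F28149 : act 3 n8448 = n6589 := d19_1 D8448 (iv D6589) D6588
def n8449 : Q := act 6 n6588
theorem D8449 : act 6 n6588 = n8449 := rfl
theorem F28150 : act 0 n8449 = n8449 := d5_1 D8449 (iv D8449) F22221
theorem F28151 : act 1 n8449 = n6594 := d11_1 D8449 (iv D6594) (iv F22222)
theorem F28152 : act 3 n8449 = n6590 := d20_1 D8449 (iv D6590) D6588
theorem F28153 : act 4 n8449 = n8449 := d23_1 D8449 (iv D8449) F22223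
def n8450 : Q := act 6 n6589
theorem D8450 : act 6 n6589 = n8450 := rfl
theorem F28155 : act 1 n8450 = n6595 := d11_1 D8450 (iv D6595) (iv F22225)
theorem F28156 : act 5 n8450 = n6590 := d25_1 D8450 (iv D6590) D6589
def n8451 : Q := act 2 n6590
theorem D8451 : act 2 n6590 = n8451 := rfl
theorem F28158 : act 1 n8451 = n6628 := d7_1 D8451 (iv D6628) F17643 (iv F17548) (iv F22227)
def n8452 : Q := act 7 n6590
theorem D8452 : act 7 n6590 = n8452 := rfl
theorem F28160 : act 0 n8452 = n8452 := d6_1 D8452 (iv D8452) F22226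
theorem F28161 : act 1 n8452 = n6596 := d12_1 D8452 (iv D6596) (iv F22227)
theorem F28162 : act 4 n8452 = n6592 := d24_1 D8452 (iv D6592) (iv F22228)
def n8453 : Q := act 3 n6591
theorem D8453 : act 3 n6591 = n8453 := rfl
theorem F28164 : act 1 n8453 = n6630 := d8_1 D8453 (iv D6630) (iv F22230)
theorem F28165 : act 2 n8453 = n8453 := d13_1 D8453 (iv D8453) (iv D6591) F17541 D6591
def n8454 : Q := act 7 n6591
theorem D8454 : act 7 n6591 = n8454 := rfl
theorem F28167 : act 1 n8454 = n6631 := d12_1 D8454 (iv D6631) (iv F22230)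
theorem F28168 : act 2 n8454 = n6592 := d17_1 D8454 (iv D6592) D6591
def n8455 : Q := act 4 n6593
theorem D8455 : act 4 n6593 = n8455 := rfl
def n8456 : Q := act 6 n6593
theorem D8456 : act 6 n6593 = n8456 := rfl
theorem F28174 : act 3 n8456 = n6595 := d20_1 D8456 (iv D6595) (iv F22236)
theorem F28175 : act 5 n8456 = n6594 := d25_1 D8456 (iv D6594) D6593
def n8457 : Q := act 7 n6594
theorem D8457 : act 7 n6594 = n8457 := rfl
theorem F28176 : act 0 n8457 = n6599 := d6_1 D8457 (iv D6599) (iv F22237)
theorem F28177 : act 2 n8457 = n8457 := d17_1 D8457 (iv D8457) F22238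
theorem F28178 : act 3 n8457 = n6596 := d21_1 D8457 (iv D6596) (iv F22239)
theorem F28179 : act 4 n8457 = n8457 := d24_1 D8457 (iv D8457) F22240
def n8458 : Q := act 7 n6595
theorem D8458 : act 7 n6595 = n8458 := rfl
theorem F28181 : act 2 n8458 = n6632 := d17_1 D8458 (iv D6632) (iv F22242)
theorem F28182 : act 5 n8458 = n6596 := d26_1 D8458 (iv D6596) (iv F22243)
def n8460 : Q := act 7 n6598
theorem D8460 : act 7 n6598 = n8460 := rfl
theorem F28189 : act 3 n8460 = n6600 := d21_1 D8460 (iv D6600) (iv F22252)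
theorem F28190 : act 5 n8460 = n6599 := d26_1 D8460 (iv D6599) (iv F22253)
def n8465 : Q := act 2 n6603
theorem D8465 : act 2 n6603 = n8465 := rfl
def n8468 : Q := act 6 n6605
theorem D8468 : act 6 n6605 = n8468 := rfl
theorem F28220 : act 3 n8468 = n6607 := d20_1 D8468 (iv D6607) (iv F22277)
def n8482 : Q := act 3 n6617
theorem D8482 : act 3 n6617 = n8482 := rfl
theorem F28266 : act 0 n8482 = n6703 := d2_1 D8482 (iv D6703) (iv F22316)
theorem F28268 : act 5 n8482 = n6630 := d19_2 (iv F22317) D8482 (iv D6630)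
def n8483 : Q := act 7 n6617
theorem D8483 : act 7 n6617 = n8483 := rfl
theorem F28270 : act 2 n8483 = n6618 := d17_1 D8483 (iv D6618) D6617
theorem F28271 : act 5 n8483 = n6631 := d26_1 D8483 (iv D6631) (iv F22317)
def n8492 : Q := act 2 n6627
theorem D8492 : act 2 n6627 = n8492 := rfl
theorem F28297 : act 0 n8492 = n6713 := d1_1 D8492 (iv D6713) (iv F22346)
def n8496 : Q := act 4 n6630
theorem D8496 : act 4 n6630 = n8496 := rfl
def n8497 : Q := act 7 n6630
theorem D8497 : act 7 n6630 = n8497 := rfl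
def n8498 : Q := act 6 n6631
theorem D8498 : act 6 n6631 = n8498 := rfl
theorem F28313 : act 0 n8498 = n6719 := d5_1 D8498 (iv D6719) (iv F22358)
def n8505 : Q := act 7 n6637
theorem D8505 : act 7 n6637 = n8505 := rfl
theorem F28336 : act 0 n8505 = n6726 := d6_1 D8505 (iv D6726) (iv F22380)
theorem F28339 : act 5 n8505 = n6644 := d26_1 D8505 (iv D6644) (iv F22382)
def n8514 : Q := act 6 n6644
theorem D8514 : act 6 n6644 = n8514 := rfl
theorem F28372 : act 3 n8514 = n6645 := d20_1 D8514 (iv D6645) (iv F22408)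
def n8516 : Q := act 5 n6646
theorem D8516 : act 5 n6646 = n8516 := rfl
theorem F28377 : act 1 n8516 = n6651 := d10_1 D8516 (iv D6651) (iv F22413)
def n8523 : Q := act 4 n6651
theorem D8523 : act 4 n6651 = n8523 := rfl
theorem F28398 : act 2 n8523 = n6744 := d14_1 D8523 (iv D6744) (iv F22427)
def n8524 : Q := act 6 n6651
theorem D8524 : act 6 n6651 = n8524 := rfl
def n8528 : Q := act 6 n6655
theorem D8528 : act 6 n6655 = n8528 := rfl
theorem F28415 : act 3 n8528 = n6672 := d20_1 D8528 (iv D6672) (iv F22440)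
def n8529 : Q := act 2 n6656
theorem D8529 : act 2 n6656 = n8529 := rfl
theorem F28420 : act 6 n8529 = n6750 := d16_2 D6656 D8529 (iv D6750) (iv D5265) (iv F17711)
def n8537 : Q := act 2 n6662
theorem D8537 : act 2 n6662 = n8537 := rfl
theorem F28442 : act 6 n8537 = n6713 := d16_2 D6662 D8537 (iv D6713) (iv D5236) (iv F17724)
def n8543 : Q := act 6 n6666
theorem D8543 : act 6 n6666 = n8543 := rfl
def n8544 : Q := act 6 n6667
theorem D8544 : act 6 n6667 = n8544 := rfl
def n8549 : Q := act 2 n6672
theorem D8549 : act 2 n6672 = n8549 := rfl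
theorem F28477 : act 6 n8549 = n6682 := d16_2 D6672 D8549 (iv D6682) (iv D5211) (iv F17743)
def n8556 : Q := act 2 n6677
theorem D8556 : act 2 n6677 = n8556 := rfl
def n8557 : Q := act 7 n6677
theorem D8557 : act 7 n6677 = n8557 := rfl
def n8564 : Q := act 3 n6682
theorem D8564 : act 3 n6682 = n8564 := rfl
def n8565 : Q := act 7 n6682
theorem D8565 : act 7 n6682 = n8565 := rfl
theorem F28527 : act 2 n8565 = n6683 := d17_1 D8565 (iv D6683) D6682
def n8589 : Q := act 4 n6703
theorem D8589 : act 4 n6703 = n8589 := rfl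
def n8590 : Q := act 7 n6703
theorem D8590 : act 7 n6703 = n8590 := rfl
theorem F28602 : act 3 n8590 = n6704 := d21_1 D8590 (iv D6704) D6703
def n8591 : Q := act 6 n6704
theorem D8591 : act 6 n6704 = n8591 := rfl
theorem F28605 : act 5 n8591 = n6719 := d25_1 D8591 (iv D6719) (iv F22585)
def n8601 : Q := act 3 n6713
theorem D8601 : act 3 n6713 = n8601 := rfl
def n8603 : Q := act 4 n6715
theorem D8603 : act 4 n6715 = n8603 := rfl
theorem F28647 : act 3 n8603 = n6717 := d18_1 D8603 (iv D6717) (iv D5239) (iv F17851) D6715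
def n8606 : Q := act 5 n6717
theorem D8606 : act 5 n6717 = n8606 := rfl
def n8619 : Q := act 6 n6726
theorem D8619 : act 6 n6726 = n8619 := rfl
theorem F28686 : act 1 n8619 = n6859 := d11_1 D8619 (iv D6859) (iv F22646)
def n8642 : Q := act 2 n6745
theorem D8642 : act 2 n6745 = n8642 := rfl
def n8646 : Q := act 2 n6749
theorem D8646 : act 2 n6749 = n8646 := rfl
theorem F28781 : act 4 n8646 = n6750 := d14_2 (iv F22725) D8646 (iv D6750)
def n8648 : Q := act 1 n6750
theorem D8648 : act 1 n6750 = n8648 := rfl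
def n8654 : Q := act 2 n6755
theorem D8654 : act 2 n6755 = n8654 := rfl
def n8659 : Q := act 3 n6758
theorem D8659 : act 3 n6758 = n8659 := rfl
theorem F28825 : act 6 n8659 = n6822 := d20_2 (iv F22756) D8659 (iv D6822)
def n8667 : Q := act 2 n6765
theorem D8667 : act 2 n6765 = n8667 := rfl
theorem F28854 : act 4 n8667 = n6766 := d14_2 (iv F22779) D8667 (iv D6766)
theorem F28856 : act 6 n8667 = n6777 := d16_2 D6765 D8667 (iv D6777) (iv D5286) (iv F17974)
def n8669 : Q := act 1 n6766
theorem D8669 : act 1 n6766 = n8669 := rfl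
theorem F28862 : act 6 n8669 = n6779 := d11_2 (iv F22784) D8669 (iv D6779)
def n8674 : Q := act 1 n6770
theorem D8674 : act 1 n6770 = n8674 := rfl
theorem F28881 : act 6 n8674 = n6784 := d11_2 (iv F22797) D8674 (iv D6784)
def n8675 : Q := act 3 n6770
theorem D8675 : act 3 n6770 = n8675 := rfl
theorem F28884 : act 6 n8675 = n6785 := d20_2 (iv F22797) D8675 (iv D6785)
def n8676 : Q := act 7 n6770
theorem D8676 : act 7 n6770 = n8676 := rfl
def n8677 : Q := act 0 n6772
theorem D8677 : act 0 n6772 = n8677 := rfl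
theorem F28890 : act 5 n8677 = n6774 := d4_2 (iv F22803) D8677 (iv D6774)
theorem F28891 : act 6 n8677 = n6787 := d5_2 (iv F22804) D8677 (iv D6787)
def n8678 : Q := act 7 n6772
theorem D8678 : act 7 n6772 = n8678 := rfl
theorem F28892 : act 1 n8678 = n6773 := d12_1 D8678 (iv D6773) D6772
def n8679 : Q := act 6 n6773
theorem D8679 : act 6 n6773 = n8679 := rfl
def n8680 : Q := act 7 n6774
theorem D8680 : act 7 n6774 = n8680 := rfl
def n8682 : Q := act 1 n6777
theorem D8682 : act 1 n6777 = n8682 := rfl
def n8684 : Q := act 7 n6777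
theorem D8684 : act 7 n6777 = n8684 := rfl
theorem F28914 : act 2 n8684 = n6778 := d17_1 D8684 (iv D6778) D6777
def n8685 : Q := act 0 n6779
theorem D8685 : act 0 n6779 = n8685 := rfl
def n8686 : Q := act 7 n6779
theorem D8686 : act 7 n6779 = n8686 := rfl
theorem F28921 : act 1 n8686 = n6780 := d12_1 D8686 (iv D6780) D6779
def n8687 : Q := act 6 n6780
theorem D8687 : act 6 n6780 = n8687 := rfl
def n8690 : Q := act 0 n6784
theorem D8690 : act 0 n6784 = n8690 := rfl
def n8692 : Q := act 7 n6784
theorem D8692 : act 7 n6784 = n8692 := rfl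
theorem F28942 : act 1 n8692 = n6786 := d12_1 D8692 (iv D6786) D6784
def n8693 : Q := act 7 n6785
theorem D8693 : act 7 n6785 = n8693 := rfl
theorem F28946 : act 3 n8693 = n6786 := d21_1 D8693 (iv D6786) D6785
def n8694 : Q := act 6 n6786
theorem D8694 : act 6 n6786 = n8694 := rfl
def n8695 : Q := act 7 n6787
theorem D8695 : act 7 n6787 = n8695 := rfl
theorem F28951 : act 0 n8695 = n6788 := d6_1 D8695 (iv D6788) D6787
def n8696 : Q := act 6 n6788
theorem D8696 : act 6 n6788 = n8696 := rfl
theorem F28955 : act 1 n8696 = n6789 := d11_1 D8696 (iv D6789) (iv F22855)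
theorem F28957 : act 5 n8696 = n6791 := d25_1 D8696 (iv D6791) (iv F22858)
def n8697 : Q := act 6 n6790
theorem D8697 : act 6 n6790 = n8697 := rfl
theorem F28958 : act 0 n8697 = n6791 := d5_1 D8697 (iv D6791) (iv F22861)
def n8698 : Q := act 2 n6791
theorem D8698 : act 2 n6791 = n8698 := rfl
def n8736 : Q := act 7 n6822
theorem D8736 : act 7 n6822 = n8736 := rfl
theorem F29093 : act 3 n8736 = n6823 := d21_1 D8736 (iv D6823) D6822
def n8737 : Q := act 6 n6823
theorem D8737 : act 6 n6823 = n8737 := rfl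
def n9198 : Q := act 1 n7193
theorem D9198 : act 1 n7193 = n9198 := rfl
theorem F30651 : act 0 n9198 = n7527 := d0_1 D9198 (iv D7527) F19978 (iv F19154) (iv F24230)
theorem F30652 : act 2 n9198 = n7372 := d7_2 D7193 D9198 (iv D7372) (iv D5762) (iv F19150)
theorem F30653 : act 3 n9198 = n7226 := d8_2 (iv F24231) D9198 (iv D7226)
theorem F30654 : act 5 n9198 = n7509 := d10_2 (iv F24232) D9198 (iv D7509)
theorem F30655 : act 7 n9198 = n7501 := d12_2 (iv F24233) D9198 (iv D7501)
def n9199 : Q := act 4 n7193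
theorem D9199 : act 4 n7193 = n9199 := rfl
theorem F30656 : act 0 n9199 = n7195 := d3_1 D9199 (iv D7195) (iv F24230)
theorem F30657 : act 2 n9199 = n7194 := d14_1 D9199 (iv D7194) D7193
def n9200 : Q := act 6 n7193
theorem D9200 : act 6 n7193 = n9200 := rfl
theorem F30659 : act 0 n9200 = n7196 := d5_1 D9200 (iv D7196) (iv F24230)
theorem F30660 : act 2 n9200 = n9200 := d16_1 D9200 (iv D9200) (iv D7193) F19152 D7193
theorem F30661 : act 3 n9200 = n7228 := d20_1 D9200 (iv D7228) (iv F24231)
theorem F30662 : act 5 n9200 = n7511 := d25_1 D9200 (iv D7511) (iv F24232)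
def n9201 : Q := act 5 n7194
theorem D9201 : act 5 n7194 = n9201 := rfl
theorem F30663 : act 0 n9201 = n7197 := d4_1 D9201 (iv D7197) (iv F24234)
theorem F30664 : act 1 n9201 = n7375 := d10_1 D9201 (iv D7375) (iv F24235)
theorem F30665 : act 3 n9201 = n7206 := d19_1 D9201 (iv D7206) (iv F24236)
theorem F30666 : act 4 n9201 = n7512 := d22_1 D9201 (iv D7512) (iv D5863) (iv F19151) D7194
theorem F30667 : act 6 n9201 = n9201 := d25_2 F24237 D9201 (iv D9201)
theorem F30668 : act 7 n9201 = n7504 := d26_2 (iv F24238) D9201 (iv D7504)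
def n9202 : Q := act 3 n7195
theorem D9202 : act 3 n7195 = n9202 := rfl
theorem F30669 : act 1 n9202 = n7531 := d8_1 D9202 (iv D7531) (iv F24239)
theorem F30670 : act 2 n9202 = n7207 := d13_1 D9202 (iv D7207) F19194 (iv F19159) (iv F24240)
theorem F30671 : act 4 n9202 = n7230 := d18_2 D7195 D9202 (iv D7230) (iv D5650) (iv F19155)
def n9203 : Q := act 5 n7195
theorem D9203 : act 5 n7195 = n9203 := rfl
theorem F30673 : act 1 n9203 = n7532 := d10_1 D9203 (iv D7532) (iv F24239)
theorem F30674 : act 2 n9203 = n7197 := d15_1 D9203 (iv D7197) (iv F24240)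
theorem F30675 : act 4 n9203 = n7514 := d22_1 D9203 (iv D7514) (iv D5864) (iv F19156) D7195
def n9204 : Q := act 6 n7195
theorem D9204 : act 6 n7195 = n9204 := rfl
theorem F30677 : act 1 n9204 = n7533 := d11_1 D9204 (iv D7533) (iv F24239)
theorem F30678 : act 2 n9204 = n9204 := d16_1 D9204 (iv D9204) F24240 F19160 (iv F24240)
theorem F30679 : act 4 n9204 = n7196 := d23_1 D9204 (iv D7196) D7195
def n9205 : Q := act 7 n7196
theorem D9205 : act 7 n7196 = n9205 := rfl
theorem F30681 : act 2 n9205 = n9205 := d17_1 D9205 (iv D9205) F24243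
theorem F30682 : act 3 n9205 = n7233 := d21_1 D9205 (iv D7233) (iv F24244)
theorem F30683 : act 5 n9205 = n7516 := d26_1 D9205 (iv D7516) (iv F24245)
theorem F30684 : act 6 n9205 = n7508 := d27_1 D9205 (iv D7508) (iv D5860) (iv F19157) D7196
def n9206 : Q := act 1 n7198
theorem D9206 : act 1 n7198 = n9206 := rfl
theorem F30685 : act 0 n9206 = n9206 := d0_1 D9206 (iv D9206) F24251 F19173 (iv F24251)
theorem F30686 : act 2 n9206 = n7385 := d7_2 D7198 D9206 (iv D7385) (iv D5771) (iv F19169)
theorem F30687 : act 3 n9206 = n7234 := d8_2 (iv F24252) D9206 (iv D7234)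
theorem F30688 : act 5 n9206 = n9206 := d10_2 F24253 D9206 (iv D9206)
theorem F30689 : act 7 n9206 = n7203 := d12_2 (iv F24254) D9206 (iv D7203)
def n9207 : Q := act 4 n7198
theorem D9207 : act 4 n7198 = n9207 := rfl
theorem F30690 : act 0 n9207 = n7200 := d3_1 D9207 (iv D7200) (iv F24251)
theorem F30691 : act 2 n9207 = n7199 := d14_1 D9207 (iv D7199) D7198
theorem F30692 : act 7 n9207 = n7204 := d24_2 (iv F24254) D9207 (iv D7204)
def n9208 : Q := act 6 n7198
theorem D9208 : act 6 n7198 = n9208 := rfl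
theorem F30693 : act 0 n9208 = n7201 := d5_1 D9208 (iv D7201) (iv F24251)
theorem F30694 : act 2 n9208 = n7773 := d16_1 D9208 (iv D7773) (iv D6066) (iv F19171) D7198
theorem F30695 : act 3 n9208 = n7236 := d20_1 D9208 (iv D7236) (iv F24252)
theorem F30696 : act 5 n9208 = n9208 := d25_1 D9208 (iv D9208) F24253
def n9209 : Q := act 5 n7199
theorem D9209 : act 5 n7199 = n9209 := rfl
theorem F30697 : act 0 n9209 = n7202 := d4_1 D9209 (iv D7202) (iv F24255)
theorem F30698 : act 1 n9209 = n7388 := d10_1 D9209 (iv D7388) (iv F24256)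
theorem F30699 : act 3 n9209 = n7504 := d19_1 D9209 (iv D7504) (iv F24257)
theorem F30700 : act 4 n9209 = n9209 := d22_1 D9209 (iv D9209) (iv D7199) F19170 D7199
theorem F30701 : act 6 n9209 = n7774 := d25_2 (iv F24258) D9209 (iv D7774)
theorem F30702 : act 7 n9209 = n7206 := d26_2 (iv F24259) D9209 (iv D7206)
def n9210 : Q := act 3 n7200
theorem D9210 : act 3 n7200 = n9210 := rfl
theorem F30705 : act 4 n9210 = n7238 := d18_2 D7200 D9210 (iv D7238) (iv D5655) (iv F19174)
theorem F30706 : act 7 n9210 = n7207 := d21_2 (iv F24262) D9210 (iv D7207)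
def n9211 : Q := act 5 n7200
theorem D9211 : act 5 n7200 = n9211 := rfl
theorem F30708 : act 2 n9211 = n7202 := d15_1 D9211 (iv D7202) (iv F24261)
theorem F30710 : act 7 n9211 = n7208 := d26_2 (iv F24262) D9211 (iv D7208)
def n9212 : Q := act 6 n7200
theorem D9212 : act 6 n7200 = n9212 := rfl
theorem F30712 : act 2 n9212 = n7777 := d16_1 D9212 (iv D7777) F20576 (iv F19179) (iv F24261)
def n9213 : Q := act 7 n7201
theorem D9213 : act 7 n7201 = n9213 := rfl
theorem F30718 : act 6 n9213 = n7210 := d27_1 D9213 (iv D7210) (iv D5634) (iv F19176) D7201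
def n9214 : Q := act 4 n7203
theorem D9214 : act 4 n7203 = n9214 := rfl
theorem F30719 : act 0 n9214 = n9214 := d3_1 D9214 (iv D9214) F24272
theorem F30720 : act 1 n9214 = n7204 := d9_1 D9214 (iv D7204) D7203
theorem F30721 : act 2 n9214 = n7393 := d14_1 D9214 (iv D7393) (iv F24273)
def n9215 : Q := act 6 n7203
theorem D9215 : act 6 n7203 = n9215 := rfl
theorem F30722 : act 0 n9215 = n9215 := d5_1 D9215 (iv D9215) F24272
theorem F30723 : act 1 n9215 = n7205 := d11_1 D9215 (iv D7205) D7203
theorem F30724 : act 3 n9215 = n7243 := d20_1 D9215 (iv D7243) (iv F24274)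
theorem F30725 : act 5 n9215 = n9215 := d25_1 D9215 (iv D9215) F24275
def n9216 : Q := act 3 n7204
theorem D9216 : act 3 n7204 = n9216 := rfl
theorem F30726 : act 0 n9216 = n7207 := d2_1 D9216 (iv D7207) (iv F24276)
theorem F30727 : act 4 n9216 = n7244 := d18_2 D7204 D9216 (iv D7244) (iv D5659) (iv F19188)
def n9217 : Q := act 5 n7204
theorem D9217 : act 5 n7204 = n9217 := rfl
theorem F30728 : act 0 n9217 = n7208 := d4_1 D9217 (iv D7208) (iv F24276)
theorem F30729 : act 2 n9217 = n7206 := d15_1 D9217 (iv D7206) (iv F24277)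
theorem F30730 : act 4 n9217 = n9217 := d22_1 D9217 (iv D9217) (iv D7204) F19189 D7204
def n9218 : Q := act 6 n7204
theorem D9218 : act 6 n7204 = n9218 := rfl
theorem F30731 : act 0 n9218 = n7209 := d5_1 D9218 (iv D7209) (iv F24276)
theorem F30732 : act 2 n9218 = n9218 := d16_1 D9218 (iv D9218) F24277 F19192 (iv F24277)
theorem F30733 : act 4 n9218 = n7205 := d23_1 D9218 (iv D7205) D7204
def n9219 : Q := act 7 n7205
theorem D9219 : act 7 n7205 = n9219 := rfl
theorem F30734 : act 0 n9219 = n7210 := d6_1 D9219 (iv D7210) (iv F24278)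
theorem F30735 : act 2 n9219 = n9219 := d17_1 D9219 (iv D9219) F24279
theorem F30736 : act 3 n9219 = n7247 := d21_1 D9219 (iv D7247) (iv F24280)
theorem F30737 : act 5 n9219 = n9219 := d26_1 D9219 (iv D9219) F24281
def n9220 : Q := act 5 n7207
theorem D9220 : act 5 n7207 = n9220 := rfl
theorem F30739 : act 3 n9220 = n7208 := d19_1 D9220 (iv D7208) D7207
def n9221 : Q := act 6 n7207
theorem D9221 : act 6 n7207 = n9221 := rfl
theorem F30742 : act 4 n9221 = n7249 := d23_1 D9221 (iv D7249) (iv F24287)
def n9222 : Q := act 6 n7208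
theorem D9222 : act 6 n7208 = n9222 := rfl
theorem F30746 : act 5 n9222 = n7209 := d25_1 D9222 (iv D7209) D7208
def n9223 : Q := act 7 n7209
theorem D9223 : act 7 n7209 = n9223 := rfl
def n9224 : Q := act 1 n7211
theorem D9224 : act 1 n7211 = n9224 := rfl
theorem F30750 : act 0 n9224 = n7226 := d0_1 D9224 (iv D7226) F19259 (iv F19207) (iv F24298)
theorem F30751 : act 2 n9224 = n7284 := d7_2 D7211 D9224 (iv D7284) (iv D5692) (iv F19203)
theorem F30752 : act 3 n9224 = n7527 := d8_2 (iv F24299) D9224 (iv D7527)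
theorem F30753 : act 5 n9224 = n7300 := d10_2 (iv F24300) D9224 (iv D7300)
theorem F30754 : act 7 n9224 = n7292 := d12_2 (iv F24301) D9224 (iv D7292)
def n9225 : Q := act 4 n7211
theorem D9225 : act 4 n7211 = n9225 := rfl
theorem F30755 : act 0 n9225 = n7213 := d3_1 D9225 (iv D7213) (iv F24298)
theorem F30756 : act 2 n9225 = n7212 := d14_1 D9225 (iv D7212) D7211
theorem F30757 : act 7 n9225 = n7293 := d24_2 (iv F24301) D9225 (iv D7293)
def n9226 : Q := act 6 n7211
theorem D9226 : act 6 n7211 = n9226 := rfl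
theorem F30758 : act 0 n9226 = n7214 := d5_1 D9226 (iv D7214) (iv F24298)
theorem F30759 : act 2 n9226 = n9226 := d16_1 D9226 (iv D9226) (iv D7211) F19205 D7211
theorem F30760 : act 3 n9226 = n7529 := d20_1 D9226 (iv D7529) (iv F24299)
theorem F30761 : act 5 n9226 = n7302 := d25_1 D9226 (iv D7302) (iv F24300)
def n9227 : Q := act 5 n7212
theorem D9227 : act 5 n7212 = n9227 := rfl
theorem F30762 : act 0 n9227 = n7215 := d4_1 D9227 (iv D7215) (iv F24302)
theorem F30763 : act 1 n9227 = n7287 := d10_1 D9227 (iv D7287) (iv F24303)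
theorem F30764 : act 3 n9227 = n9227 := d19_1 D9227 (iv D9227) F24304
theorem F30765 : act 4 n9227 = n7303 := d22_1 D9227 (iv D7303) (iv D5703) (iv F19204) D7212
theorem F30766 : act 6 n9227 = n9227 := d25_2 F24305 D9227 (iv D9227)
theorem F30767 : act 7 n9227 = n7295 := d26_2 (iv F24306) D9227 (iv D7295)
def n9228 : Q := act 3 n7213
theorem D9228 : act 3 n7213 = n9228 := rfl
theorem F30768 : act 1 n9228 = n7230 := d8_1 D9228 (iv D7230) (iv F24307)
theorem F30769 : act 2 n9228 = n9228 := d13_1 D9228 (iv D9228) F24308 F19212 (iv F24308)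
theorem F30771 : act 7 n9228 = n7296 := d21_2 (iv F24309) D9228 (iv D7296)
def n9229 : Q := act 5 n7213
theorem D9229 : act 5 n7213 = n9229 := rfl
theorem F30772 : act 1 n9229 = n7231 := d10_1 D9229 (iv D7231) (iv F24307)
theorem F30773 : act 2 n9229 = n7215 := d15_1 D9229 (iv D7215) (iv F24308)
theorem F30774 : act 4 n9229 = n7305 := d22_1 D9229 (iv D7305) (iv D5704) (iv F19209) D7213
theorem F30775 : act 7 n9229 = n7297 := d26_2 (iv F24309) D9229 (iv D7297)
def n9230 : Q := act 6 n7213
theorem D9230 : act 6 n7213 = n9230 := rfl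
theorem F30776 : act 1 n9230 = n7232 := d11_1 D9230 (iv D7232) (iv F24307)
theorem F30777 : act 2 n9230 = n9230 := d16_1 D9230 (iv D9230) F24308 F19213 (iv F24308)
theorem F30778 : act 4 n9230 = n7214 := d23_1 D9230 (iv D7214) D7213
def n9231 : Q := act 7 n7214
theorem D9231 : act 7 n7214 = n9231 := rfl
theorem F30779 : act 1 n9231 = n7233 := d12_1 D9231 (iv D7233) (iv F24310)
theorem F30780 : act 2 n9231 = n9231 := d17_1 D9231 (iv D9231) F24311
theorem F30782 : act 5 n9231 = n7307 := d26_1 D9231 (iv D7307) (iv F24313)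
theorem F30783 : act 6 n9231 = n7299 := d27_1 D9231 (iv D7299) (iv D5700) (iv F19210) D7214
def n9232 : Q := act 1 n7216
theorem D9232 : act 1 n7216 = n9232 := rfl
theorem F30784 : act 0 n9232 = n7300 := d0_1 D9232 (iv D7300) F19428 (iv F19226) (iv F24319)
theorem F30785 : act 2 n9232 = n7292 := d7_2 D7216 D9232 (iv D7292) (iv D5697) (iv F19222)
theorem F30786 : act 3 n9232 = n7509 := d8_2 (iv F24320) D9232 (iv D7509)
theorem F30787 : act 5 n9232 = n7226 := d10_2 (iv F24321) D9232 (iv D7226)
theorem F30788 : act 7 n9232 = n7284 := d12_2 (iv F24322) D9232 (iv D7284)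
def n9233 : Q := act 4 n7216
theorem D9233 : act 4 n7216 = n9233 := rfl
theorem F30789 : act 0 n9233 = n7218 := d3_1 D9233 (iv D7218) (iv F24319)
theorem F30790 : act 2 n9233 = n7217 := d14_1 D9233 (iv D7217) D7216
theorem F30791 : act 7 n9233 = n7285 := d24_2 (iv F24322) D9233 (iv D7285)
def n9234 : Q := act 6 n7216
theorem D9234 : act 6 n7216 = n9234 := rfl
theorem F30792 : act 0 n9234 = n7219 := d5_1 D9234 (iv D7219) (iv F24319)
theorem F30793 : act 2 n9234 = n7254 := d16_1 D9234 (iv D7254) (iv D5666) (iv F19224) D7216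
theorem F30794 : act 3 n9234 = n7511 := d20_1 D9234 (iv D7511) (iv F24320)
theorem F30795 : act 5 n9234 = n7228 := d25_1 D9234 (iv D7228) (iv F24321)
def n9235 : Q := act 5 n7217
theorem D9235 : act 5 n7217 = n9235 := rfl
theorem F30796 : act 0 n9235 = n7220 := d4_1 D9235 (iv D7220) (iv F24323)
theorem F30797 : act 1 n9235 = n7295 := d10_1 D9235 (iv D7295) (iv F24324)
theorem F30798 : act 3 n9235 = n9235 := d19_1 D9235 (iv D9235) F24325
theorem F30799 : act 4 n9235 = n7229 := d22_1 D9235 (iv D7229) (iv D5649) (iv F19223) D7217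
theorem F30800 : act 6 n9235 = n7255 := d25_2 (iv F24326) D9235 (iv D7255)
theorem F30801 : act 7 n9235 = n7287 := d26_2 (iv F24327) D9235 (iv D7287)
def n9236 : Q := act 3 n7218
theorem D9236 : act 3 n7218 = n9236 := rfl
theorem F30802 : act 1 n9236 = n7304 := d8_1 D9236 (iv D7304) (iv F24328)
theorem F30803 : act 2 n9236 = n9236 := d13_1 D9236 (iv D9236) F24329 F19231 (iv F24329)
theorem F30804 : act 4 n9236 = n7513 := d18_2 D7218 D9236 (iv D7513) (iv D5864) (iv F19227)
theorem F30805 : act 7 n9236 = n7288 := d21_2 (iv F24330) D9236 (iv D7288)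
def n9237 : Q := act 5 n7218
theorem D9237 : act 5 n7218 = n9237 := rfl
theorem F30806 : act 1 n9237 = n7305 := d10_1 D9237 (iv D7305) (iv F24328)
theorem F30807 : act 2 n9237 = n7220 := d15_1 D9237 (iv D7220) (iv F24329)
theorem F30808 : act 4 n9237 = n7231 := d22_1 D9237 (iv D7231) (iv D5650) (iv F19228) D7218
theorem F30809 : act 7 n9237 = n7289 := d26_2 (iv F24330) D9237 (iv D7289)
def n9238 : Q := act 6 n7218
theorem D9238 : act 6 n7218 = n9238 := rfl
theorem F30810 : act 1 n9238 = n7306 := d11_1 D9238 (iv D7306) (iv F24328)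
theorem F30811 : act 2 n9238 = n7258 := d16_1 D9238 (iv D7258) F19317 (iv F19232) (iv F24329)
theorem F30812 : act 4 n9238 = n7219 := d23_1 D9238 (iv D7219) D7218
def n9239 : Q := act 7 n7219
theorem D9239 : act 7 n7219 = n9239 := rfl
theorem F30813 : act 1 n9239 = n7307 := d12_1 D9239 (iv D7307) (iv F24331)
theorem F30814 : act 2 n9239 = n7259 := d17_1 D9239 (iv D7259) (iv F24332)
theorem F30815 : act 3 n9239 = n7516 := d21_1 D9239 (iv D7516) (iv F24333)
theorem F30816 : act 5 n9239 = n7233 := d26_1 D9239 (iv D7233) (iv F24334)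
theorem F30817 : act 6 n9239 = n7291 := d27_1 D9239 (iv D7291) (iv D5695) (iv F19229) D7219
def n9240 : Q := act 1 n7221
theorem D9240 : act 1 n7221 = n9240 := rfl
theorem F30818 : act 0 n9240 = n7292 := d0_1 D9240 (iv D7292) F19414 (iv F19245) (iv F24340)
theorem F30819 : act 2 n9240 = n7300 := d7_2 D7221 D9240 (iv D7300) (iv D5702) (iv F19241)
theorem F30820 : act 3 n9240 = n7501 := d8_2 (iv F24341) D9240 (iv D7501)
theorem F30821 : act 5 n9240 = n7284 := d10_2 (iv F24342) D9240 (iv D7284)
theorem F30822 : act 7 n9240 = n7226 := d12_2 (iv F24343) D9240 (iv D7226)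
def n9241 : Q := act 4 n7221
theorem D9241 : act 4 n7221 = n9241 := rfl
theorem F30823 : act 0 n9241 = n7223 := d3_1 D9241 (iv D7223) (iv F24340)
theorem F30824 : act 2 n9241 = n7222 := d14_1 D9241 (iv D7222) D7221
theorem F30825 : act 7 n9241 = n7227 := d24_2 (iv F24343) D9241 (iv D7227)
def n9242 : Q := act 6 n7221
theorem D9242 : act 6 n7221 = n9242 := rfl
theorem F30826 : act 0 n9242 = n7224 := d5_1 D9242 (iv D7224) (iv F24340)
theorem F30827 : act 2 n9242 = n9242 := d16_1 D9242 (iv D9242) (iv D7221) F19243 D7221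
theorem F30828 : act 3 n9242 = n7503 := d20_1 D9242 (iv D7503) (iv F24341)
theorem F30829 : act 5 n9242 = n7286 := d25_1 D9242 (iv D7286) (iv F24342)
def n9243 : Q := act 5 n7222
theorem D9243 : act 5 n7222 = n9243 := rfl
theorem F30830 : act 0 n9243 = n7225 := d4_1 D9243 (iv D7225) (iv F24344)
theorem F30831 : act 1 n9243 = n7303 := d10_1 D9243 (iv D7303) (iv F24345)
theorem F30832 : act 3 n9243 = n7237 := d19_1 D9243 (iv D7237) (iv F24346)
theorem F30833 : act 4 n9243 = n7287 := d22_1 D9243 (iv D7287) (iv D5693) (iv F19242) D7222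
theorem F30834 : act 6 n9243 = n9243 := d25_2 F24347 D9243 (iv D9243)
theorem F30835 : act 7 n9243 = n7229 := d26_2 (iv F24348) D9243 (iv D7229)
def n9244 : Q := act 3 n7223
theorem D9244 : act 3 n7223 = n9244 := rfl
theorem F30836 : act 1 n9244 = n7296 := d8_1 D9244 (iv D7296) (iv F24349)
theorem F30837 : act 2 n9244 = n7238 := d13_1 D9244 (iv D7238) F19277 (iv F19250) (iv F24350)
theorem F30838 : act 4 n9244 = n7505 := d18_2 D7223 D9244 (iv D7505) (iv D5859) (iv F19246)
theorem F30839 : act 7 n9244 = n7230 := d21_2 (iv F24351) D9244 (iv D7230)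
def n9245 : Q := act 5 n7223
theorem D9245 : act 5 n7223 = n9245 := rfl
theorem F30840 : act 1 n9245 = n7297 := d10_1 D9245 (iv D7297) (iv F24349)
theorem F30841 : act 2 n9245 = n7225 := d15_1 D9245 (iv D7225) (iv F24350)
theorem F30842 : act 4 n9245 = n7289 := d22_1 D9245 (iv D7289) (iv D5694) (iv F19247) D7223
theorem F30843 : act 7 n9245 = n7231 := d26_2 (iv F24351) D9245 (iv D7231)
def n9246 : Q := act 6 n7223
theorem D9246 : act 6 n7223 = n9246 := rfl
theorem F30844 : act 1 n9246 = n7298 := d11_1 D9246 (iv D7298) (iv F24349)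
theorem F30845 : act 2 n9246 = n9246 := d16_1 D9246 (iv D9246) F24350 F19251 (iv F24350)
theorem F30846 : act 4 n9246 = n7224 := d23_1 D9246 (iv D7224) D7223
def n9247 : Q := act 7 n7224
theorem D9247 : act 7 n7224 = n9247 := rfl
theorem F30847 : act 1 n9247 = n7299 := d12_1 D9247 (iv D7299) (iv F24352)
theorem F30848 : act 2 n9247 = n9247 := d17_1 D9247 (iv D9247) F24353
theorem F30850 : act 5 n9247 = n7291 := d26_1 D9247 (iv D7291) (iv F24355)
theorem F30851 : act 6 n9247 = n7233 := d27_1 D9247 (iv D7233) (iv D5651) (iv F19248) D7224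
def n9248 : Q := act 4 n7226
theorem D9248 : act 4 n7226 = n9248 := rfl
theorem F30852 : act 1 n9248 = n7227 := d9_1 D9248 (iv D7227) D7226
theorem F30853 : act 2 n9248 = n7308 := d14_1 D9248 (iv D7308) (iv F24361)
def n9249 : Q := act 6 n7226
theorem D9249 : act 6 n7226 = n9249 := rfl
theorem F30854 : act 1 n9249 = n7228 := d11_1 D9249 (iv D7228) D7226
def n9250 : Q := act 3 n7227
theorem D9250 : act 3 n7227 = n9250 := rfl
theorem F30855 : act 0 n9250 = n7230 := d2_1 D9250 (iv D7230) (iv F24362)
theorem F30856 : act 2 n9250 = n7244 := d13_1 D9250 (iv D7244) F19290 (iv F19262) (iv F24363)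
def n9251 : Q := act 5 n7227
theorem D9251 : act 5 n7227 = n9251 := rfl
theorem F30857 : act 0 n9251 = n7231 := d4_1 D9251 (iv D7231) (iv F24362)
theorem F30858 : act 2 n9251 = n7229 := d15_1 D9251 (iv D7229) (iv F24363)
def n9252 : Q := act 6 n7227
theorem D9252 : act 6 n7227 = n9252 := rfl
theorem F30859 : act 0 n9252 = n7232 := d5_1 D9252 (iv D7232) (iv F24362)
theorem F30860 : act 2 n9252 = n7264 := d16_1 D9252 (iv D7264) F19331 (iv F19263) (iv F24363)
theorem F30861 : act 4 n9252 = n7228 := d23_1 D9252 (iv D7228) D7227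
def n9253 : Q := act 7 n7228
theorem D9253 : act 7 n7228 = n9253 := rfl
theorem F30862 : act 0 n9253 = n7233 := d6_1 D9253 (iv D7233) (iv F24364)
theorem F30863 : act 2 n9253 = n7265 := d17_1 D9253 (iv D7265) (iv F24365)
def n9254 : Q := act 5 n7230
theorem D9254 : act 5 n7230 = n9254 := rfl
theorem F30865 : act 3 n9254 = n7231 := d19_1 D9254 (iv D7231) D7230
def n9255 : Q := act 6 n7230
theorem D9255 : act 6 n7230 = n9255 := rfl
theorem F30866 : act 3 n9255 = n7232 := d20_1 D9255 (iv D7232) D7230
def n9256 : Q := act 6 n7231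
theorem D9256 : act 6 n7231 = n9256 := rfl
theorem F30868 : act 5 n9256 = n7232 := d25_1 D9256 (iv D7232) D7231
def n9257 : Q := act 7 n7232
theorem D9257 : act 7 n7232 = n9257 := rfl
theorem F30869 : act 2 n9257 = n7269 := d17_1 D9257 (iv D7269) (iv F24372)
theorem F30870 : act 4 n9257 = n7233 := d24_1 D9257 (iv D7233) (iv F24373)
def n9258 : Q := act 4 n7234
theorem D9258 : act 4 n7234 = n9258 := rfl
theorem F30871 : act 0 n9258 = n9258 := d3_1 D9258 (iv D9258) F24375
theorem F30872 : act 1 n9258 = n7235 := d9_1 D9258 (iv D7235) D7234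
theorem F30873 : act 2 n9258 = n7318 := d14_1 D9258 (iv D7318) (iv F24376)
theorem F30874 : act 7 n9258 = n7242 := d24_2 (iv F24378) D9258 (iv D7242)
def n9259 : Q := act 6 n7234
theorem D9259 : act 6 n7234 = n9259 := rfl
theorem F30875 : act 0 n9259 = n9259 := d5_1 D9259 (iv D9259) F24375
theorem F30876 : act 1 n9259 = n7236 := d11_1 D9259 (iv D7236) D7234
theorem F30877 : act 5 n9259 = n9259 := d25_1 D9259 (iv D9259) F24377
def n9260 : Q := act 3 n7235
theorem D9260 : act 3 n7235 = n9260 := rfl
theorem F30878 : act 0 n9260 = n7238 := d2_1 D9260 (iv D7238) (iv F24379)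
theorem F30879 : act 7 n9260 = n7244 := d21_2 (iv F24381) D9260 (iv D7244)
def n9261 : Q := act 5 n7235
theorem D9261 : act 5 n7235 = n9261 := rfl
theorem F30880 : act 0 n9261 = n7239 := d4_1 D9261 (iv D7239) (iv F24379)
theorem F30881 : act 2 n9261 = n7237 := d15_1 D9261 (iv D7237) (iv F24380)
theorem F30882 : act 4 n9261 = n9261 := d22_1 D9261 (iv D9261) (iv D7235) F19270 D7235
theorem F30883 : act 7 n9261 = n7245 := d26_2 (iv F24381) D9261 (iv D7245)
def n9262 : Q := act 6 n7235
theorem D9262 : act 6 n7235 = n9262 := rfl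
theorem F30884 : act 0 n9262 = n7240 := d5_1 D9262 (iv D7240) (iv F24379)
theorem F30885 : act 2 n9262 = n9262 := d16_1 D9262 (iv D9262) F24380 F19274 (iv F24380)
theorem F30886 : act 4 n9262 = n7236 := d23_1 D9262 (iv D7236) D7235
def n9263 : Q := act 7 n7236
theorem D9263 : act 7 n7236 = n9263 := rfl
theorem F30887 : act 0 n9263 = n7241 := d6_1 D9263 (iv D7241) (iv F24382)
theorem F30888 : act 2 n9263 = n9263 := d17_1 D9263 (iv D9263) F24383
theorem F30889 : act 5 n9263 = n9263 := d26_1 D9263 (iv D9263) F24384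
theorem F30890 : act 6 n9263 = n7247 := d27_1 D9263 (iv D7247) (iv D5660) (iv F19271) D7236
def n9266 : Q := act 6 n7239
theorem D9266 : act 6 n7239 = n9266 := rfl
theorem F30899 : act 5 n9266 = n7240 := d25_1 D9266 (iv D7240) D7239
def n9267 : Q := act 7 n7240
theorem D9267 : act 7 n7240 = n9267 := rfl
theorem F30902 : act 4 n9267 = n7241 := d24_1 D9267 (iv D7241) (iv F24398)
def n9268 : Q := act 3 n7242
theorem D9268 : act 3 n7242 = n9268 := rfl
theorem F30904 : act 0 n9268 = n9268 := d2_1 D9268 (iv D9268) F24403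
theorem F30905 : act 1 n9268 = n7244 := d8_1 D9268 (iv D7244) (iv F24404)
def n9269 : Q := act 5 n7242
theorem D9269 : act 5 n7242 = n9269 := rfl
theorem F30906 : act 0 n9269 = n9269 := d4_1 D9269 (iv D9269) F24403
theorem F30907 : act 1 n9269 = n7245 := d10_1 D9269 (iv D7245) (iv F24404)
theorem F30908 : act 2 n9269 = n7327 := d15_1 D9269 (iv D7327) (iv F24405)
theorem F30909 : act 4 n9269 = n9269 := d22_1 D9269 (iv D9269) (iv D7242) F19288 D7242
def n9270 : Q := act 6 n7242
theorem D9270 : act 6 n7242 = n9270 := rfl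
theorem F30910 : act 0 n9270 = n9270 := d5_1 D9270 (iv D9270) F24403
theorem F30911 : act 1 n9270 = n7246 := d11_1 D9270 (iv D7246) (iv F24404)
theorem F30912 : act 2 n9270 = n9270 := d16_1 D9270 (iv D9270) F24405 F19488 (iv F24405)
theorem F30913 : act 4 n9270 = n7243 := d23_1 D9270 (iv D7243) D7242
def n9271 : Q := act 7 n7243
theorem D9271 : act 7 n7243 = n9271 := rfl
theorem F30914 : act 0 n9271 = n9271 := d6_1 D9271 (iv D9271) F24406
theorem F30915 : act 1 n9271 = n7247 := d12_1 D9271 (iv D7247) (iv F24407)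
theorem F30916 : act 2 n9271 = n9271 := d17_1 D9271 (iv D9271) F24408
theorem F30917 : act 5 n9271 = n9271 := d26_1 D9271 (iv D9271) F24409
def n9272 : Q := act 5 n7244
theorem D9272 : act 5 n7244 = n9272 := rfl
def n9273 : Q := act 6 n7244
theorem D9273 : act 6 n7244 = n9273 := rfl
theorem F30921 : act 3 n9273 = n7246 := d20_1 D9273 (iv D7246) D7244
def n9274 : Q := act 6 n7245
theorem D9274 : act 6 n7245 = n9274 := rfl
theorem F30925 : act 5 n9274 = n7246 := d25_1 D9274 (iv D7246) D7245
def n9275 : Q := act 7 n7246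
theorem D9275 : act 7 n7246 = n9275 := rfl
theorem F30928 : act 4 n9275 = n7247 := d24_1 D9275 (iv D7247) (iv F24416)
def n9281 : Q := act 4 n7252
theorem D9281 : act 4 n7252 = n9281 := rfl
theorem F30941 : act 0 n9281 = n9281 := d3_1 D9281 (iv D9281) F24431
theorem F30942 : act 1 n9281 = n7253 := d9_1 D9281 (iv D7253) D7252
theorem F30943 : act 2 n9281 = n7330 := d14_1 D9281 (iv D7330) (iv F24432)
theorem F30944 : act 7 n9281 = n9281 := d24_2 F24435 D9281 (iv D9281)
def n9282 : Q := act 6 n7252
theorem D9282 : act 6 n7252 = n9282 := rfl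
theorem F30945 : act 0 n9282 = n9282 := d5_1 D9282 (iv D9282) F24431
theorem F30946 : act 1 n9282 = n7254 := d11_1 D9282 (iv D7254) D7252
theorem F30947 : act 3 n9282 = n9282 := d20_1 D9282 (iv D9282) F24433
theorem F30948 : act 5 n9282 = n7261 := d25_1 D9282 (iv D7261) (iv F24434)
def n9283 : Q := act 3 n7253
theorem D9283 : act 3 n7253 = n9283 := rfl
theorem F30949 : act 0 n9283 = n7256 := d2_1 D9283 (iv D7256) (iv F24436)
theorem F30950 : act 2 n9283 = n9283 := d13_1 D9283 (iv D9283) F24437 F19314 (iv F24437)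
theorem F30951 : act 4 n9283 = n9283 := d18_2 D7253 D9283 (iv D9283) (iv D7253) F19309
theorem F30952 : act 7 n9283 = n9283 := d21_2 F24438 D9283 (iv D9283)
def n9284 : Q := act 5 n7253
theorem D9284 : act 5 n7253 = n9284 := rfl
theorem F30953 : act 0 n9284 = n7257 := d4_1 D9284 (iv D7257) (iv F24436)
theorem F30954 : act 2 n9284 = n7255 := d15_1 D9284 (iv D7255) (iv F24437)
theorem F30955 : act 4 n9284 = n7263 := d22_1 D9284 (iv D7263) (iv D5672) (iv F19310) D7253
theorem F30956 : act 7 n9284 = n9284 := d26_2 F24438 D9284 (iv D9284)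
def n9285 : Q := act 6 n7253
theorem D9285 : act 6 n7253 = n9285 := rfl
theorem F30957 : act 0 n9285 = n7258 := d5_1 D9285 (iv D7258) (iv F24436)
theorem F30958 : act 4 n9285 = n7254 := d23_1 D9285 (iv D7254) D7253
def n9286 : Q := act 7 n7254
theorem D9286 : act 7 n7254 = n9286 := rfl
theorem F30959 : act 0 n9286 = n7259 := d6_1 D9286 (iv D7259) (iv F24439)
theorem F30960 : act 3 n9286 = n9286 := d21_1 D9286 (iv D9286) F24440
theorem F30961 : act 5 n9286 = n7265 := d26_1 D9286 (iv D7265) (iv F24441)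
theorem F30962 : act 6 n9286 = n9286 := d27_1 D9286 (iv D9286) (iv D7254) F19311 D7254
def n9287 : Q := act 5 n7256
theorem D9287 : act 5 n7256 = n9287 := rfl
theorem F30965 : act 3 n9287 = n7257 := d19_1 D9287 (iv D7257) D7256
def n9288 : Q := act 6 n7256
theorem D9288 : act 6 n7256 = n9288 := rfl
theorem F30968 : act 3 n9288 = n7258 := d20_1 D9288 (iv D7258) D7256
def n9289 : Q := act 6 n7257
theorem D9289 : act 6 n7257 = n9289 := rfl
theorem F30972 : act 5 n9289 = n7258 := d25_1 D9289 (iv D7258) D7257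
def n9291 : Q := act 3 n7260
theorem D9291 : act 3 n7260 = n9291 := rfl
theorem F30976 : act 0 n9291 = n9291 := d2_1 D9291 (iv D9291) F24461
theorem F30977 : act 1 n9291 = n7262 := d8_1 D9291 (iv D7262) (iv F24462)
theorem F30978 : act 2 n9291 = n9291 := d13_1 D9291 (iv D9291) F24463 F19529 (iv F24463)
theorem F30979 : act 4 n9291 = n9291 := d18_2 D7260 D9291 (iv D9291) (iv D7260) F19328
theorem F30980 : act 7 n9291 = n9291 := d21_2 F24464 D9291 (iv D9291)
def n9292 : Q := act 5 n7260
theorem D9292 : act 5 n7260 = n9292 := rfl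
theorem F30981 : act 0 n9292 = n9292 := d4_1 D9292 (iv D9292) F24461
theorem F30982 : act 1 n9292 = n7263 := d10_1 D9292 (iv D7263) (iv F24462)
theorem F30983 : act 2 n9292 = n7340 := d15_1 D9292 (iv D7340) (iv F24463)
theorem F30984 : act 7 n9292 = n9292 := d26_2 F24464 D9292 (iv D9292)
def n9293 : Q := act 6 n7260
theorem D9293 : act 6 n7260 = n9293 := rfl
theorem F30985 : act 0 n9293 = n9293 := d5_1 D9293 (iv D9293) F24461
theorem F30986 : act 1 n9293 = n7264 := d11_1 D9293 (iv D7264) (iv F24462)
theorem F30987 : act 4 n9293 = n7261 := d23_1 D9293 (iv D7261) D7260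
def n9294 : Q := act 2 n7261
theorem D9294 : act 2 n7261 = n9294 := rfl
theorem F30988 : act 0 n9294 = n9294 := d1_1 D9294 (iv D9294) F24465
theorem F30989 : act 6 n9294 = n7342 := d16_2 D7261 D9294 (iv D7342) (iv D5735) (iv F19327)
def n9295 : Q := act 7 n7261
theorem D9295 : act 7 n7261 = n9295 := rfl
theorem F30990 : act 0 n9295 = n9295 := d6_1 D9295 (iv D9295) F24465
theorem F30991 : act 1 n9295 = n7265 := d12_1 D9295 (iv D7265) (iv F24466)
theorem F30992 : act 3 n9295 = n9295 := d21_1 D9295 (iv D9295) F24467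
theorem F30993 : act 6 n9295 = n9295 := d27_1 D9295 (iv D9295) (iv D7261) F19329 D7261
def n9296 : Q := act 5 n7262
theorem D9296 : act 5 n7262 = n9296 := rfl
theorem F30995 : act 2 n9296 = n7270 := d15_1 D9296 (iv D7270) (iv F24469)
theorem F30996 : act 3 n9296 = n7263 := d19_1 D9296 (iv D7263) D7262
def n9297 : Q := act 6 n7262
theorem D9297 : act 6 n7262 = n9297 := rfl
theorem F30999 : act 3 n9297 = n7264 := d20_1 D9297 (iv D7264) D7262
def n9298 : Q := act 6 n7263
theorem D9298 : act 6 n7263 = n9298 := rfl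
theorem F31002 : act 5 n9298 = n7264 := d25_1 D9298 (iv D7264) D7263
def n9299 : Q := act 7 n7264
theorem D9299 : act 7 n7264 = n9299 := rfl
theorem F31004 : act 4 n9299 = n7265 := d24_1 D9299 (iv D7265) (iv F24476)
def n9322 : Q := act 4 n7284
theorem D9322 : act 4 n7284 = n9322 := rfl
theorem F31084 : act 0 n9322 = n7308 := d3_1 D9322 (iv D7308) (iv F24543)
theorem F31085 : act 1 n9322 = n7285 := d9_1 D9322 (iv D7285) D7284
def n9323 : Q := act 6 n7284
theorem D9323 : act 6 n7284 = n9323 := rfl
theorem F31086 : act 0 n9323 = n7309 := d5_1 D9323 (iv D7309) (iv F24543)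
theorem F31087 : act 1 n9323 = n7286 := d11_1 D9323 (iv D7286) D7284
theorem F31088 : act 3 n9323 = n7518 := d20_1 D9323 (iv D7518) (iv F24544)
def n9324 : Q := act 3 n7285
theorem D9324 : act 3 n7285 = n9324 := rfl
theorem F31089 : act 0 n9324 = n7288 := d2_1 D9324 (iv D7288) (iv F24545)
theorem F31090 : act 2 n9324 = n9324 := d13_1 D9324 (iv D9324) F24546 F19404 (iv F24546)
theorem F31091 : act 4 n9324 = n7519 := d18_2 D7285 D9324 (iv D7519) (iv D5868) (iv F19402)
def n9325 : Q := act 5 n7285
theorem D9325 : act 5 n7285 = n9325 := rfl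
theorem F31092 : act 0 n9325 = n7289 := d4_1 D9325 (iv D7289) (iv F24545)
theorem F31093 : act 2 n9325 = n7287 := d15_1 D9325 (iv D7287) (iv F24546)
def n9326 : Q := act 6 n7285
theorem D9326 : act 6 n7285 = n9326 := rfl
theorem F31094 : act 0 n9326 = n7290 := d5_1 D9326 (iv D7290) (iv F24545)
theorem F31095 : act 2 n9326 = n9326 := d16_1 D9326 (iv D9326) F24546 F19405 (iv F24546)
theorem F31096 : act 4 n9326 = n7286 := d23_1 D9326 (iv D7286) D7285
def n9327 : Q := act 7 n7286
theorem D9327 : act 7 n7286 = n9327 := rfl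
theorem F31097 : act 0 n9327 = n7291 := d6_1 D9327 (iv D7291) (iv F24547)
theorem F31098 : act 2 n9327 = n9327 := d17_1 D9327 (iv D9327) F24548
theorem F31099 : act 3 n9327 = n7522 := d21_1 D9327 (iv D7522) (iv F24549)
def n9328 : Q := act 5 n7288
theorem D9328 : act 5 n7288 = n9328 := rfl
theorem F31100 : act 1 n9328 = n7314 := d10_1 D9328 (iv D7314) (iv F24553)
theorem F31101 : act 2 n9328 = n9328 := d15_1 D9328 (iv D9328) F24554
theorem F31102 : act 3 n9328 = n7289 := d19_1 D9328 (iv D7289) D7288
def n9329 : Q := act 6 n7288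
theorem D9329 : act 6 n7288 = n9329 := rfl
theorem F31103 : act 1 n9329 = n7315 := d11_1 D9329 (iv D7315) (iv F24553)
theorem F31104 : act 3 n9329 = n7290 := d20_1 D9329 (iv D7290) D7288
theorem F31105 : act 4 n9329 = n7524 := d23_1 D9329 (iv D7524) (iv F24555)
def n9330 : Q := act 6 n7289
theorem D9330 : act 6 n7289 = n9330 := rfl
theorem F31106 : act 1 n9330 = n7316 := d11_1 D9330 (iv D7316) (iv F24556)
theorem F31107 : act 2 n9330 = n9330 := d16_1 D9330 (iv D9330) F24557 F19413 (iv F24557)
theorem F31108 : act 5 n9330 = n7290 := d25_1 D9330 (iv D7290) D7289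
def n9331 : Q := act 7 n7290
theorem D9331 : act 7 n7290 = n9331 := rfl
theorem F31109 : act 1 n9331 = n7317 := d12_1 D9331 (iv D7317) (iv F24558)
theorem F31110 : act 2 n9331 = n9331 := d17_1 D9331 (iv D9331) F24559
theorem F31111 : act 4 n9331 = n7291 := d24_1 D9331 (iv D7291) (iv F24560)
def n9332 : Q := act 4 n7292
theorem D9332 : act 4 n7292 = n9332 := rfl
theorem F31112 : act 1 n9332 = n7293 := d9_1 D9332 (iv D7293) D7292
def n9333 : Q := act 6 n7292
theorem D9333 : act 6 n7292 = n9333 := rfl
theorem F31113 : act 1 n9333 = n7294 := d11_1 D9333 (iv D7294) D7292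
theorem F31114 : act 3 n9333 = n7536 := d20_1 D9333 (iv D7536) (iv F24564)
theorem F31115 : act 5 n9333 = n7309 := d25_1 D9333 (iv D7309) (iv F24565)
def n9334 : Q := act 3 n7293
theorem D9334 : act 3 n7293 = n9334 := rfl
theorem F31116 : act 0 n9334 = n7296 := d2_1 D9334 (iv D7296) (iv F24566)
theorem F31117 : act 2 n9334 = n9334 := d13_1 D9334 (iv D9334) F24567 F19418 (iv F24567)
theorem F31118 : act 4 n9334 = n7537 := d18_2 D7293 D9334 (iv D7537) (iv D5881) (iv F19415)
def n9335 : Q := act 5 n7293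
theorem D9335 : act 5 n7293 = n9335 := rfl
theorem F31119 : act 0 n9335 = n7297 := d4_1 D9335 (iv D7297) (iv F24566)
theorem F31120 : act 2 n9335 = n7295 := d15_1 D9335 (iv D7295) (iv F24567)
theorem F31121 : act 4 n9335 = n7311 := d22_1 D9335 (iv D7311) (iv D5708) (iv F19416) D7293
def n9336 : Q := act 6 n7293
theorem D9336 : act 6 n7293 = n9336 := rfl
theorem F31122 : act 0 n9336 = n7298 := d5_1 D9336 (iv D7298) (iv F24566)
theorem F31123 : act 2 n9336 = n7334 := d16_1 D9336 (iv D7334) F19504 (iv F19419) (iv F24567)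
theorem F31124 : act 4 n9336 = n7294 := d23_1 D9336 (iv D7294) D7293
def n9337 : Q := act 7 n7294
theorem D9337 : act 7 n7294 = n9337 := rfl
theorem F31125 : act 0 n9337 = n7299 := d6_1 D9337 (iv D7299) (iv F24568)
theorem F31126 : act 2 n9337 = n7335 := d17_1 D9337 (iv D7335) (iv F24569)
theorem F31128 : act 5 n9337 = n7313 := d26_1 D9337 (iv D7313) (iv F24571)
def n9338 : Q := act 5 n7296
theorem D9338 : act 5 n7296 = n9338 := rfl
theorem F31129 : act 2 n9338 = n9338 := d15_1 D9338 (iv D9338) F24576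
theorem F31130 : act 3 n9338 = n7297 := d19_1 D9338 (iv D7297) D7296
def n9339 : Q := act 6 n7296
theorem D9339 : act 6 n7296 = n9339 := rfl
theorem F31131 : act 3 n9339 = n7298 := d20_1 D9339 (iv D7298) D7296
theorem F31132 : act 4 n9339 = n7542 := d23_1 D9339 (iv D7542) (iv F24577)
def n9340 : Q := act 6 n7297
theorem D9340 : act 6 n7297 = n9340 := rfl
theorem F31133 : act 2 n9340 = n7338 := d16_1 D9340 (iv D7338) F19518 (iv F19427) (iv F24578)
theorem F31134 : act 4 n9340 = n7316 := d23_1 D9340 (iv D7316) (iv F24579)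
theorem F31135 : act 5 n9340 = n7298 := d25_1 D9340 (iv D7298) D7297
def n9341 : Q := act 7 n7298
theorem D9341 : act 7 n7298 = n9341 := rfl
theorem F31136 : act 2 n9341 = n7339 := d17_1 D9341 (iv D7339) (iv F24580)
theorem F31137 : act 4 n9341 = n7299 := d24_1 D9341 (iv D7299) (iv F24581)
def n9342 : Q := act 4 n7300
theorem D9342 : act 4 n7300 = n9342 := rfl
theorem F31138 : act 1 n9342 = n7301 := d9_1 D9342 (iv D7301) D7300
theorem F31139 : act 7 n9342 = n7308 := d24_2 (iv F24586) D9342 (iv D7308)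
def n9343 : Q := act 6 n7300
theorem D9343 : act 6 n7300 = n9343 := rfl
theorem F31140 : act 1 n9343 = n7302 := d11_1 D9343 (iv D7302) D7300
theorem F31141 : act 3 n9343 = n7546 := d20_1 D9343 (iv D7546) (iv F24585)
def n9344 : Q := act 3 n7301
theorem D9344 : act 3 n7301 = n9344 := rfl
theorem F31142 : act 0 n9344 = n7304 := d2_1 D9344 (iv D7304) (iv F24587)
theorem F31143 : act 2 n9344 = n7320 := d13_1 D9344 (iv D7320) F19464 (iv F19432) (iv F24588)
theorem F31144 : act 4 n9344 = n7547 := d18_2 D7301 D9344 (iv D7547) (iv D5889) (iv F19429)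
theorem F31145 : act 7 n9344 = n7310 := d21_2 (iv F24589) D9344 (iv D7310)
def n9345 : Q := act 5 n7301
theorem D9345 : act 5 n7301 = n9345 := rfl
theorem F31146 : act 0 n9345 = n7305 := d4_1 D9345 (iv D7305) (iv F24587)
theorem F31147 : act 2 n9345 = n7303 := d15_1 D9345 (iv D7303) (iv F24588)
theorem F31148 : act 7 n9345 = n7311 := d26_2 (iv F24589) D9345 (iv D7311)
def n9346 : Q := act 6 n7301
theorem D9346 : act 6 n7301 = n9346 := rfl
theorem F31149 : act 0 n9346 = n7306 := d5_1 D9346 (iv D7306) (iv F24587)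
theorem F31150 : act 2 n9346 = n9346 := d16_1 D9346 (iv D9346) F24588 F19433 (iv F24588)
theorem F31151 : act 4 n9346 = n7302 := d23_1 D9346 (iv D7302) D7301
def n9347 : Q := act 7 n7302
theorem D9347 : act 7 n7302 = n9347 := rfl
theorem F31152 : act 0 n9347 = n7307 := d6_1 D9347 (iv D7307) (iv F24590)
theorem F31153 : act 2 n9347 = n9347 := d17_1 D9347 (iv D9347) F24591
theorem F31154 : act 3 n9347 = n7550 := d21_1 D9347 (iv D7550) (iv F24592)
theorem F31155 : act 6 n9347 = n7313 := d27_1 D9347 (iv D7313) (iv D5709) (iv F19430) D7302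
def n9348 : Q := act 5 n7304
theorem D9348 : act 5 n7304 = n9348 := rfl
theorem F31158 : act 7 n9348 = n7314 := d26_2 (iv F24599) D9348 (iv D7314)
def n9349 : Q := act 6 n7304
theorem D9349 : act 6 n7304 = n9349 := rfl
theorem F31159 : act 3 n9349 = n7306 := d20_1 D9349 (iv D7306) D7304
def n9350 : Q := act 6 n7305
theorem D9350 : act 6 n7305 = n9350 := rfl
theorem F31162 : act 5 n9350 = n7306 := d25_1 D9350 (iv D7306) D7305
def n9351 : Q := act 7 n7306
theorem D9351 : act 7 n7306 = n9351 := rfl
theorem F31164 : act 4 n9351 = n7307 := d24_1 D9351 (iv D7307) (iv F24603)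
theorem F31165 : act 6 n9351 = n7317 := d27_1 D9351 (iv D7317) (iv D5713) (iv F19436) D7306
def n9352 : Q := act 3 n7308
theorem D9352 : act 3 n7308 = n9352 := rfl
theorem F31166 : act 1 n9352 = n7310 := d8_1 D9352 (iv D7310) (iv F24607)
theorem F31167 : act 4 n9352 = n7555 := d18_2 D7308 D9352 (iv D7555) (iv D5896) (iv F19443)
def n9353 : Q := act 5 n7308
theorem D9353 : act 5 n7308 = n9353 := rfl
theorem F31168 : act 1 n9353 = n7311 := d10_1 D9353 (iv D7311) (iv F24607)
def n9354 : Q := act 6 n7308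
theorem D9354 : act 6 n7308 = n9354 := rfl
theorem F31169 : act 1 n9354 = n7312 := d11_1 D9354 (iv D7312) (iv F24607)
theorem F31170 : act 4 n9354 = n7309 := d23_1 D9354 (iv D7309) D7308
def n9355 : Q := act 2 n7309
theorem D9355 : act 2 n7309 = n9355 := rfl
theorem F31171 : act 1 n9355 = n7342 := d7_1 D9355 (iv D7342) F19532 (iv F19447) (iv F24608)
def n9356 : Q := act 7 n7309
theorem D9356 : act 7 n7309 = n9356 := rfl
theorem F31172 : act 1 n9356 = n7313 := d12_1 D9356 (iv D7313) (iv F24608)
theorem F31173 : act 3 n9356 = n7559 := d21_1 D9356 (iv D7559) (iv F24609)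
def n9357 : Q := act 5 n7310
theorem D9357 : act 5 n7310 = n9357 := rfl
theorem F31174 : act 0 n9357 = n7314 := d4_1 D9357 (iv D7314) (iv F24610)
theorem F31175 : act 2 n9357 = n7328 := d15_1 D9357 (iv D7328) (iv F24611)
theorem F31176 : act 3 n9357 = n7311 := d19_1 D9357 (iv D7311) D7310
def n9358 : Q := act 6 n7310
theorem D9358 : act 6 n7310 = n9358 := rfl
theorem F31177 : act 0 n9358 = n7315 := d5_1 D9358 (iv D7315) (iv F24610)
theorem F31178 : act 2 n9358 = n9358 := d16_1 D9358 (iv D9358) F24611 F19491 (iv F24611)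
theorem F31179 : act 3 n9358 = n7312 := d20_1 D9358 (iv D7312) D7310
theorem F31180 : act 4 n9358 = n7561 := d23_1 D9358 (iv D7561) (iv F24612)
def n9359 : Q := act 6 n7311
theorem D9359 : act 6 n7311 = n9359 := rfl
theorem F31181 : act 0 n9359 = n7316 := d5_1 D9359 (iv D7316) (iv F24613)
theorem F31182 : act 2 n9359 = n7344 := d16_1 D9359 (iv D7344) F19535 (iv F19451) (iv F24614)
theorem F31183 : act 5 n9359 = n7312 := d25_1 D9359 (iv D7312) D7311
def n9360 : Q := act 7 n7312
theorem D9360 : act 7 n7312 = n9360 := rfl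
theorem F31184 : act 0 n9360 = n7317 := d6_1 D9360 (iv D7317) (iv F24615)
theorem F31185 : act 2 n9360 = n7345 := d17_1 D9360 (iv D7345) (iv F24616)
theorem F31186 : act 4 n9360 = n7313 := d24_1 D9360 (iv D7313) (iv F24617)
def n9361 : Q := act 4 n7314
theorem D9361 : act 4 n7314 = n9361 := rfl
theorem F31187 : act 2 n9361 = n7329 := d14_1 D9361 (iv D7329) (iv F24621)
theorem F31188 : act 5 n9361 = n7564 := d22_2 D7314 D9361 (iv D7564) (iv D5902) (iv F19453)
def n9362 : Q := act 6 n7314
theorem D9362 : act 6 n7314 = n9362 := rfl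
theorem F31191 : act 5 n9362 = n7315 := d25_1 D9362 (iv D7315) D7314
def n9363 : Q := act 7 n7315
theorem D9363 : act 7 n7315 = n9363 := rfl
def n9364 : Q := act 7 n7316
theorem D9364 : act 7 n7316 = n9364 := rfl
theorem F31196 : act 5 n9364 = n7317 := d26_1 D9364 (iv D7317) (iv F24627)
def n9365 : Q := act 3 n7318
theorem D9365 : act 3 n7318 = n9365 := rfl
theorem F31197 : act 0 n9365 = n9365 := d2_1 D9365 (iv D9365) F24630
theorem F31198 : act 1 n9365 = n7320 := d8_1 D9365 (iv D7320) (iv F24631)
theorem F31199 : act 4 n9365 = n7568 := d18_2 D7318 D9365 (iv D7568) (iv D5906) (iv F19460)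
theorem F31200 : act 7 n9365 = n7326 := d21_2 (iv F24632) D9365 (iv D7326)
def n9366 : Q := act 5 n7318
theorem D9366 : act 5 n7318 = n9366 := rfl
theorem F31201 : act 0 n9366 = n9366 := d4_1 D9366 (iv D9366) F24630
theorem F31202 : act 1 n9366 = n7321 := d10_1 D9366 (iv D7321) (iv F24631)
theorem F31203 : act 4 n9366 = n9366 := d22_1 D9366 (iv D9366) (iv D7318) F19461 D7318
theorem F31204 : act 7 n9366 = n7327 := d26_2 (iv F24632) D9366 (iv D7327)
def n9367 : Q := act 6 n7318
theorem D9367 : act 6 n7318 = n9367 := rfl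
theorem F31205 : act 0 n9367 = n9367 := d5_1 D9367 (iv D9367) F24630
theorem F31206 : act 1 n9367 = n7322 := d11_1 D9367 (iv D7322) (iv F24631)
theorem F31207 : act 4 n9367 = n7319 := d23_1 D9367 (iv D7319) D7318
theorem F31208 : act 7 n9367 = n9367 := d27_2 (iv F24632) D9367 (iv D9367) F24632 F19488
def n9368 : Q := act 2 n7319
theorem D9368 : act 2 n7319 = n9368 := rfl
theorem F31209 : act 0 n9368 = n9368 := d1_1 D9368 (iv D9368) F24633
theorem F31210 : act 1 n9368 = n9368 := d7_1 D9368 (iv D9368) F24634 F19467 (iv F24634)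
theorem F31211 : act 5 n9368 = n9368 := d15_2 F24636 D9368 (iv D9368)
theorem F31212 : act 7 n9368 = n9368 := d17_2 F24637 D9368 (iv D9368)
def n9369 : Q := act 5 n7320
theorem D9369 : act 5 n7320 = n9369 := rfl
theorem F31214 : act 3 n9369 = n7321 := d19_1 D9369 (iv D7321) D7320
theorem F31215 : act 7 n9369 = n7328 := d26_2 (iv F24640) D9369 (iv D7328)
def n9370 : Q := act 6 n7320
theorem D9370 : act 6 n7320 = n9370 := rfl
def n9371 : Q := act 6 n7321
theorem D9371 : act 6 n7321 = n9371 := rfl
def n9373 : Q := act 6 n7323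
theorem D9373 : act 6 n7323 = n9373 := rfl
theorem F31230 : act 3 n9373 = n7325 := d20_1 D9373 (iv D7325) (iv F24650)
theorem F31231 : act 5 n9373 = n7324 := d25_1 D9373 (iv D7324) D7323
def n9375 : Q := act 2 n7326
theorem D9375 : act 2 n7326 = n9375 := rfl
theorem F31236 : act 0 n9375 = n9375 := d1_1 D9375 (iv D9375) F24661
theorem F31237 : act 4 n9375 = n7578 := d14_2 (iv F24663) D9375 (iv D7578)
def n9376 : Q := act 5 n7326
theorem D9376 : act 5 n7326 = n9376 := rfl
theorem F31238 : act 0 n9376 = n9376 := d4_1 D9376 (iv D9376) F24661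
theorem F31239 : act 1 n9376 = n7328 := d10_1 D9376 (iv D7328) (iv F24662)
theorem F31240 : act 3 n9376 = n7327 := d19_1 D9376 (iv D7327) D7326
theorem F31241 : act 6 n9376 = n9376 := d25_2 F24664 D9376 (iv D9376)
def n9377 : Q := act 4 n7328
theorem D9377 : act 4 n7328 = n9377 := rfl
def n9378 : Q := act 3 n7330
theorem D9378 : act 3 n7330 = n9378 := rfl
theorem F31246 : act 0 n9378 = n9378 := d2_1 D9378 (iv D9378) F24676
theorem F31247 : act 1 n9378 = n7332 := d8_1 D9378 (iv D7332) (iv F24677)
theorem F31248 : act 4 n9378 = n7347 := d18_2 D7330 D9378 (iv D7347) (iv D5741) (iv F19500)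
theorem F31249 : act 7 n9378 = n9378 := d21_2 F24678 D9378 (iv D9378)
def n9379 : Q := act 5 n7330
theorem D9379 : act 5 n7330 = n9379 := rfl
theorem F31250 : act 0 n9379 = n9379 := d4_1 D9379 (iv D9379) F24676
theorem F31251 : act 1 n9379 = n7333 := d10_1 D9379 (iv D7333) (iv F24677)
theorem F31252 : act 4 n9379 = n7340 := d22_1 D9379 (iv D7340) (iv D5734) (iv F19501) D7330
theorem F31253 : act 7 n9379 = n9379 := d26_2 F24678 D9379 (iv D9379)
def n9380 : Q := act 6 n7330
theorem D9380 : act 6 n7330 = n9380 := rfl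
theorem F31254 : act 0 n9380 = n9380 := d5_1 D9380 (iv D9380) F24676
theorem F31255 : act 1 n9380 = n7334 := d11_1 D9380 (iv D7334) (iv F24677)
theorem F31256 : act 4 n9380 = n7331 := d23_1 D9380 (iv D7331) D7330
def n9381 : Q := act 2 n7331
theorem D9381 : act 2 n7331 = n9381 := rfl
theorem F31257 : act 0 n9381 = n9381 := d1_1 D9381 (iv D9381) F24679
theorem F31258 : act 5 n9381 = n7342 := d15_2 (iv F24682) D9381 (iv D7342)
def n9382 : Q := act 7 n7331
theorem D9382 : act 7 n7331 = n9382 := rfl
theorem F31259 : act 0 n9382 = n9382 := d6_1 D9382 (iv D9382) F24679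
theorem F31260 : act 1 n9382 = n7335 := d12_1 D9382 (iv D7335) (iv F24680)
theorem F31261 : act 3 n9382 = n7350 := d21_1 D9382 (iv D7350) (iv F24681)
theorem F31262 : act 5 n9382 = n7343 := d26_1 D9382 (iv D7343) (iv F24682)
theorem F31263 : act 6 n9382 = n9382 := d27_1 D9382 (iv D9382) (iv D7331) F19502 D7331
def n9383 : Q := act 5 n7332
theorem D9383 : act 5 n7332 = n9383 := rfl
theorem F31264 : act 0 n9383 = n7336 := d4_1 D9383 (iv D7336) (iv F24683)
theorem F31265 : act 2 n9383 = n9383 := d15_1 D9383 (iv D9383) F24684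
theorem F31266 : act 3 n9383 = n7333 := d19_1 D9383 (iv D7333) D7332
theorem F31267 : act 4 n9383 = n9383 := d22_1 D9383 (iv D9383) F24685 F19561 (iv F24685)
theorem F31268 : act 7 n9383 = n9383 := d26_2 F24686 D9383 (iv D9383)
def n9384 : Q := act 6 n7332
theorem D9384 : act 6 n7332 = n9384 := rfl
theorem F31270 : act 3 n9384 = n7334 := d20_1 D9384 (iv D7334) D7332
theorem F31271 : act 4 n9384 = n7351 := d23_1 D9384 (iv D7351) (iv F24685)
def n9385 : Q := act 6 n7333
theorem D9385 : act 6 n7333 = n9385 := rfl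
theorem F31272 : act 0 n9385 = n7338 := d5_1 D9385 (iv D7338) (iv F24687)
theorem F31273 : act 4 n9385 = n7344 := d23_1 D9385 (iv D7344) (iv F24689)
theorem F31274 : act 5 n9385 = n7334 := d25_1 D9385 (iv D7334) D7333
def n9386 : Q := act 7 n7334
theorem D9386 : act 7 n7334 = n9386 := rfl
theorem F31275 : act 0 n9386 = n7339 := d6_1 D9386 (iv D7339) (iv F24691)
theorem F31276 : act 4 n9386 = n7335 := d24_1 D9386 (iv D7335) (iv F24692)
theorem F31277 : act 6 n9386 = n9386 := d27_1 D9386 (iv D9386) (iv D7334) F19505 D7334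
def n9387 : Q := act 6 n7336
theorem D9387 : act 6 n7336 = n9387 := rfl
theorem F31279 : act 3 n9387 = n7338 := d20_1 D9387 (iv D7338) (iv F24699)
theorem F31281 : act 5 n9387 = n7337 := d25_1 D9387 (iv D7337) D7336
def n9389 : Q := act 7 n7337
theorem D9389 : act 7 n7337 = n9389 := rfl
theorem F31285 : act 3 n9389 = n7339 := d21_1 D9389 (iv D7339) (iv F24703)
theorem F31286 : act 4 n9389 = n7354 := d24_1 D9389 (iv D7354) (iv F24704)
def n9390 : Q := act 7 n7338
theorem D9390 : act 7 n7338 = n9390 := rfl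
theorem F31288 : act 1 n9390 = n9390 := d12_1 D9390 (iv D9390) F24705
theorem F31289 : act 4 n9390 = n7346 := d24_1 D9390 (iv D7346) (iv F24706)
theorem F31290 : act 5 n9390 = n7339 := d26_1 D9390 (iv D7339) (iv F24707)
theorem F31291 : act 6 n9390 = n9390 := d27_1 D9390 (iv D9390) (iv D7338) F19520 D7338
def n9391 : Q := act 6 n7340
theorem D9391 : act 6 n7340 = n9391 := rfl
theorem F31292 : act 0 n9391 = n9391 := d5_1 D9391 (iv D9391) F24711
theorem F31293 : act 1 n9391 = n7344 := d11_1 D9391 (iv D7344) (iv F24712)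
theorem F31294 : act 3 n9391 = n9391 := d20_1 D9391 (iv D9391) F24713
theorem F31295 : act 5 n9391 = n7341 := d25_1 D9391 (iv D7341) D7340
def n9392 : Q := act 2 n7341
theorem D9392 : act 2 n7341 = n9392 := rfl
theorem F31296 : act 0 n9392 = n9392 := d1_1 D9392 (iv D9392) F24715
theorem F31297 : act 4 n9392 = n7342 := d14_2 (iv F24718) D9392 (iv D7342)
def n9393 : Q := act 7 n7341
theorem D9393 : act 7 n7341 = n9393 := rfl
theorem F31298 : act 0 n9393 = n9393 := d6_1 D9393 (iv D9393) F24715
theorem F31299 : act 1 n9393 = n7345 := d12_1 D9393 (iv D7345) (iv F24716)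
theorem F31300 : act 3 n9393 = n9393 := d21_1 D9393 (iv D9393) F24717
theorem F31301 : act 4 n9393 = n7343 := d24_1 D9393 (iv D7343) (iv F24718)
theorem F31302 : act 6 n9393 = n9393 := d27_1 D9393 (iv D9393) (iv D7341) F19530 D7341
def n9394 : Q := act 3 n7342
theorem D9394 : act 3 n7342 = n9394 := rfl
theorem F31303 : act 0 n9394 = n9394 := d2_1 D9394 (iv D9394) F24719
theorem F31304 : act 2 n9394 = n7355 := d13_1 D9394 (iv D7355) (iv D5748) (iv F19533) D7342
def n9395 : Q := act 7 n7342
theorem D9395 : act 7 n7342 = n9395 := rfl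
theorem F31305 : act 0 n9395 = n9395 := d6_1 D9395 (iv D9395) F24719
theorem F31306 : act 2 n9395 = n7343 := d17_1 D9395 (iv D7343) D7342
def n9396 : Q := act 7 n7344
theorem D9396 : act 7 n7344 = n9396 := rfl
theorem F31307 : act 0 n9396 = n7346 := d6_1 D9396 (iv D7346) (iv F24724)
theorem F31308 : act 3 n9396 = n9396 := d21_1 D9396 (iv D9396) F24725
theorem F31309 : act 5 n9396 = n7345 := d26_1 D9396 (iv D7345) (iv F24726)
theorem F31310 : act 6 n9396 = n9396 := d27_1 D9396 (iv D9396) (iv D7344) F19537 D7344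
def n9397 : Q := act 2 n7347
theorem D9397 : act 2 n7347 = n9397 := rfl
theorem F31311 : act 0 n9397 = n9397 := d1_1 D9397 (iv D9397) F24735
theorem F31312 : act 1 n9397 = n9397 := d7_1 D9397 (iv D9397) F24736 F19560 (iv F24736)
theorem F31313 : act 3 n9397 = n9397 := d13_2 D7347 D9397 (iv D9397) (iv D7347) F19553
theorem F31314 : act 5 n9397 = n9397 := d15_2 F24737 D9397 (iv D9397)
theorem F31315 : act 7 n9397 = n9397 := d17_2 F24738 D9397 (iv D9397)
def n9398 : Q := act 6 n7347
theorem D9398 : act 6 n7347 = n9398 := rfl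
theorem F31317 : act 1 n9398 = n7351 := d11_1 D9398 (iv D7351) (iv F24736)
def n9400 : Q := act 7 n7348
theorem D9400 : act 7 n7348 = n9400 := rfl
theorem F31326 : act 1 n9400 = n7352 := d12_1 D9400 (iv D7352) (iv F24740)
theorem F31327 : act 4 n9400 = n7350 := d24_1 D9400 (iv D7350) (iv F24741)
def n9401 : Q := act 3 n7349
theorem D9401 : act 3 n7349 = n9401 := rfl
theorem F31332 : act 5 n9401 = n7355 := d19_2 (iv F24745) D9401 (iv D7355)
def n9402 : Q := act 7 n7349
theorem D9402 : act 7 n7349 = n9402 := rfl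
theorem F31336 : act 2 n9402 = n7350 := d17_1 D9402 (iv D7350) D7349
theorem F31337 : act 5 n9402 = n7356 := d26_1 D9402 (iv D7356) (iv F24745)
def n9403 : Q := act 2 n7351
theorem D9403 : act 2 n7351 = n9403 := rfl
theorem F31339 : act 3 n9403 = n7606 := d13_2 (iv F24752) D9403 (iv D7606) F20164 (iv F19564)
def n9404 : Q := act 7 n7351
theorem D9404 : act 7 n7351 = n9404 := rfl
def n9406 : Q := act 7 n7353
theorem D9406 : act 7 n7353 = n9406 := rfl
theorem F31350 : act 2 n9406 = n7354 := d17_1 D9406 (iv D7354) D7353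
theorem F31351 : act 3 n9406 = n7609 := d21_1 D9406 (iv D7609) (iv F24759)
def n9407 : Q := act 4 n7355
theorem D9407 : act 4 n7355 = n9407 := rfl
def n9408 : Q := act 7 n7355
theorem D9408 : act 7 n7355 = n9408 := rfl
theorem F31359 : act 3 n9408 = n7356 := d21_1 D9408 (iv D7356) D7355
def n9409 : Q := act 6 n7356
theorem D9409 : act 6 n7356 = n9409 := rfl
def n9410 : Q := act 1 n7357
theorem D9410 : act 1 n7357 = n9410 := rfl
theorem F31365 : act 0 n9410 = n7372 := d0_1 D9410 (iv D7372) F19644 (iv F19592) (iv F24773)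
theorem F31366 : act 2 n9410 = n7527 := d7_2 D7357 D9410 (iv D7527) (iv D5875) (iv F19588)
theorem F31367 : act 3 n9410 = n7403 := d8_2 (iv F24774) D9410 (iv D7403)
theorem F31368 : act 5 n9410 = n7419 := d10_2 (iv F24775) D9410 (iv D7419)
theorem F31369 : act 7 n9410 = n7411 := d12_2 (iv F24776) D9410 (iv D7411)
def n9411 : Q := act 4 n7357
theorem D9411 : act 4 n7357 = n9411 := rfl
theorem F31370 : act 0 n9411 = n7359 := d3_1 D9411 (iv D7359) (iv F24773)
theorem F31371 : act 2 n9411 = n7358 := d14_1 D9411 (iv D7358) D7357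
theorem F31372 : act 7 n9411 = n7412 := d24_2 (iv F24776) D9411 (iv D7412)
def n9412 : Q := act 6 n7357
theorem D9412 : act 6 n7357 = n9412 := rfl
theorem F31373 : act 0 n9412 = n7360 := d5_1 D9412 (iv D7360) (iv F24773)
theorem F31374 : act 2 n9412 = n8289 := d16_1 D9412 (iv D8289) (iv D6465) (iv F19590) D7357
theorem F31375 : act 3 n9412 = n7405 := d20_1 D9412 (iv D7405) (iv F24774)
theorem F31376 : act 5 n9412 = n7421 := d25_1 D9412 (iv D7421) (iv F24775)
def n9414 : Q := act 3 n7359
theorem D9414 : act 3 n7359 = n9414 := rfl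
theorem F31385 : act 4 n9414 = n7407 := d18_2 D7359 D9414 (iv D7407) (iv D5786) (iv F19593)
theorem F31386 : act 7 n9414 = n7415 := d21_2 (iv F24784) D9414 (iv D7415)
def n9416 : Q := act 6 n7359
theorem D9416 : act 6 n7359 = n9416 := rfl
theorem F31391 : act 1 n9416 = n7378 := d11_1 D9416 (iv D7378) (iv F24782)
theorem F31393 : act 4 n9416 = n7360 := d23_1 D9416 (iv D7360) D7359
def n9417 : Q := act 7 n7360
theorem D9417 : act 7 n7360 = n9417 := rfl
theorem F31397 : act 5 n9417 = n7426 := d26_1 D9417 (iv D7426) (iv F24788)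
theorem F31398 : act 6 n9417 = n7418 := d27_1 D9417 (iv D7418) (iv D5792) (iv F19595) D7360
def n9418 : Q := act 1 n7362
theorem D9418 : act 1 n7362 = n9418 := rfl
theorem F31399 : act 0 n9418 = n7419 := d0_1 D9418 (iv D7419) F19738 (iv F19611) (iv F24794)
theorem F31400 : act 2 n9418 = n7509 := d7_2 D7362 D9418 (iv D7509) (iv D5862) (iv F19607)
theorem F31401 : act 3 n9418 = n7411 := d8_2 (iv F24795) D9418 (iv D7411)
theorem F31402 : act 5 n9418 = n7372 := d10_2 (iv F24796) D9418 (iv D7372)
theorem F31403 : act 7 n9418 = n7403 := d12_2 (iv F24797) D9418 (iv D7403)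
def n9419 : Q := act 4 n7362
theorem D9419 : act 4 n7362 = n9419 := rfl
theorem F31404 : act 0 n9419 = n7364 := d3_1 D9419 (iv D7364) (iv F24794)
theorem F31405 : act 2 n9419 = n7363 := d14_1 D9419 (iv D7363) D7362
theorem F31406 : act 7 n9419 = n7404 := d24_2 (iv F24797) D9419 (iv D7404)
def n9420 : Q := act 6 n7362
theorem D9420 : act 6 n7362 = n9420 := rfl
theorem F31407 : act 0 n9420 = n7365 := d5_1 D9420 (iv D7365) (iv F24794)
theorem F31408 : act 2 n9420 = n9420 := d16_1 D9420 (iv D9420) (iv D7362) F19609 D7362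
theorem F31409 : act 3 n9420 = n7413 := d20_1 D9420 (iv D7413) (iv F24795)
theorem F31410 : act 5 n9420 = n7374 := d25_1 D9420 (iv D7374) (iv F24796)
def n9422 : Q := act 3 n7364
theorem D9422 : act 3 n7364 = n9422 := rfl
theorem F31419 : act 4 n9422 = n7415 := d18_2 D7364 D9422 (iv D7415) (iv D5791) (iv F19612)
theorem F31420 : act 7 n9422 = n7407 := d21_2 (iv F24805) D9422 (iv D7407)
def n9424 : Q := act 6 n7364
theorem D9424 : act 6 n7364 = n9424 := rfl
theorem F31425 : act 1 n9424 = n7425 := d11_1 D9424 (iv D7425) (iv F24803)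
theorem F31427 : act 4 n9424 = n7365 := d23_1 D9424 (iv D7365) D7364
def n9425 : Q := act 7 n7365
theorem D9425 : act 7 n7365 = n9425 := rfl
theorem F31431 : act 5 n9425 = n7379 := d26_1 D9425 (iv D7379) (iv F24809)
theorem F31432 : act 6 n9425 = n7410 := d27_1 D9425 (iv D7410) (iv D5787) (iv F19614) D7365
def n9426 : Q := act 1 n7367
theorem D9426 : act 1 n7367 = n9426 := rfl
theorem F31433 : act 0 n9426 = n7411 := d0_1 D9426 (iv D7411) F19725 (iv F19630) (iv F24815)
theorem F31434 : act 2 n9426 = n7501 := d7_2 D7367 D9426 (iv D7501) (iv D5857) (iv F19626)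
theorem F31435 : act 3 n9426 = n7419 := d8_2 (iv F24816) D9426 (iv D7419)
theorem F31436 : act 5 n9426 = n7403 := d10_2 (iv F24817) D9426 (iv D7403)
theorem F31437 : act 7 n9426 = n7372 := d12_2 (iv F24818) D9426 (iv D7372)
def n9427 : Q := act 4 n7367
theorem D9427 : act 4 n7367 = n9427 := rfl
theorem F31438 : act 0 n9427 = n7369 := d3_1 D9427 (iv D7369) (iv F24815)
theorem F31439 : act 2 n9427 = n7368 := d14_1 D9427 (iv D7368) D7367
theorem F31440 : act 7 n9427 = n7373 := d24_2 (iv F24818) D9427 (iv D7373)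
def n9428 : Q := act 6 n7367
theorem D9428 : act 6 n7367 = n9428 := rfl
theorem F31441 : act 0 n9428 = n7370 := d5_1 D9428 (iv D7370) (iv F24815)
theorem F31442 : act 2 n9428 = n7665 := d16_1 D9428 (iv D7665) (iv D5981) (iv F19628) D7367
theorem F31443 : act 3 n9428 = n7421 := d20_1 D9428 (iv D7421) (iv F24816)
theorem F31444 : act 5 n9428 = n7405 := d25_1 D9428 (iv D7405) (iv F24817)
def n9429 : Q := act 5 n7368
theorem D9429 : act 5 n7368 = n9429 := rfl
theorem F31445 : act 0 n9429 = n7371 := d4_1 D9429 (iv D7371) (iv F24819)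
theorem F31446 : act 1 n9429 = n7504 := d10_1 D9429 (iv D7504) (iv F24820)
theorem F31447 : act 3 n9429 = n7388 := d19_1 D9429 (iv D7388) (iv F24821)
theorem F31450 : act 7 n9429 = n7375 := d26_2 (iv F24823) D9429 (iv D7375)
def n9430 : Q := act 3 n7369
theorem D9430 : act 3 n7369 = n9430 := rfl
theorem F31451 : act 1 n9430 = n7415 := d8_1 D9430 (iv D7415) (iv F24824)
theorem F31452 : act 2 n9430 = n7389 := d13_1 D9430 (iv D7389) F19681 (iv F19635) (iv F24825)
theorem F31453 : act 4 n9430 = n7423 := d18_2 D7369 D9430 (iv D7423) (iv D5796) (iv F19631)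
theorem F31454 : act 7 n9430 = n7376 := d21_2 (iv F24826) D9430 (iv D7376)
def n9431 : Q := act 5 n7369
theorem D9431 : act 5 n7369 = n9431 := rfl
theorem F31455 : act 1 n9431 = n7416 := d10_1 D9431 (iv D7416) (iv F24824)
theorem F31456 : act 2 n9431 = n7371 := d15_1 D9431 (iv D7371) (iv F24825)
theorem F31458 : act 7 n9431 = n7377 := d26_2 (iv F24826) D9431 (iv D7377)
def n9432 : Q := act 6 n7369
theorem D9432 : act 6 n7369 = n9432 := rfl
theorem F31461 : act 4 n9432 = n7370 := d23_1 D9432 (iv D7370) D7369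
def n9433 : Q := act 7 n7370
theorem D9433 : act 7 n7370 = n9433 := rfl
theorem F31465 : act 5 n9433 = n7410 := d26_1 D9433 (iv D7410) (iv F24830)
theorem F31466 : act 6 n9433 = n7379 := d27_1 D9433 (iv D7379) (iv D5765) (iv F19633) D7370
def n9434 : Q := act 4 n7372
theorem D9434 : act 4 n7372 = n9434 := rfl
theorem F31467 : act 1 n9434 = n7373 := d9_1 D9434 (iv D7373) D7372
def n9435 : Q := act 6 n7372
theorem D9435 : act 6 n7372 = n9435 := rfl
theorem F31468 : act 1 n9435 = n7374 := d11_1 D9435 (iv D7374) D7372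
theorem F31469 : act 3 n9435 = n7428 := d20_1 D9435 (iv D7428) (iv F24836)
def n9436 : Q := act 3 n7373
theorem D9436 : act 3 n7373 = n9436 := rfl
theorem F31472 : act 4 n9436 = n7429 := d18_2 D7373 D9436 (iv D7429) (iv D5800) (iv F19645)
def n9437 : Q := act 5 n7373
theorem D9437 : act 5 n7373 = n9437 := rfl
theorem F31473 : act 0 n9437 = n7377 := d4_1 D9437 (iv D7377) (iv F24837)
theorem F31474 : act 2 n9437 = n7375 := d15_1 D9437 (iv D7375) (iv F24838)
def n9438 : Q := act 6 n7373
theorem D9438 : act 6 n7373 = n9438 := rfl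
theorem F31475 : act 0 n9438 = n7378 := d5_1 D9438 (iv D7378) (iv F24837)
theorem F31477 : act 4 n9438 = n7374 := d23_1 D9438 (iv D7374) D7373
def n9439 : Q := act 7 n7374
theorem D9439 : act 7 n7374 = n9439 := rfl
theorem F31478 : act 0 n9439 = n7379 := d6_1 D9439 (iv D7379) (iv F24839)
theorem F31479 : act 2 n9439 = n9439 := d17_1 D9439 (iv D9439) F24840
theorem F31480 : act 3 n9439 = n7432 := d21_1 D9439 (iv D7432) (iv F24841)
def n9440 : Q := act 5 n7376
theorem D9440 : act 5 n7376 = n9440 := rfl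
def n9441 : Q := act 6 n7376
theorem D9441 : act 6 n7376 = n9441 := rfl
theorem F31483 : act 3 n9441 = n7378 := d20_1 D9441 (iv D7378) D7376
theorem F31484 : act 4 n9441 = n7434 := d23_1 D9441 (iv D7434) (iv F24846)
def n9442 : Q := act 6 n7377
theorem D9442 : act 6 n7377 = n9442 := rfl
theorem F31486 : act 5 n9442 = n7378 := d25_1 D9442 (iv D7378) D7377
def n9443 : Q := act 7 n7378
theorem D9443 : act 7 n7378 = n9443 := rfl
theorem F31488 : act 4 n9443 = n7379 := d24_1 D9443 (iv D7379) (iv F24849)
def n9444 : Q := act 1 n7380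
theorem D9444 : act 1 n7380 = n9444 := rfl
theorem F31490 : act 2 n9444 = n7771 := d7_2 D7380 D9444 (iv D7771) (iv D6066) (iv F19656)
def n9445 : Q := act 4 n7380
theorem D9445 : act 4 n7380 = n9445 := rfl
theorem F31495 : act 2 n9445 = n7381 := d14_1 D9445 (iv D7381) D7380
def n9446 : Q := act 6 n7380
theorem D9446 : act 6 n7380 = n9446 := rfl
theorem F31498 : act 2 n9446 = n7387 := d16_1 D9446 (iv D7387) (iv D5771) (iv F19658) D7380
def n9447 : Q := act 5 n7381
theorem D9447 : act 5 n7381 = n9447 := rfl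
theorem F31501 : act 0 n9447 = n7384 := d4_1 D9447 (iv D7384) (iv F24856)
theorem F31502 : act 1 n9447 = n7774 := d10_1 D9447 (iv D7774) (iv F24857)
theorem F31505 : act 6 n9447 = n7388 := d25_2 (iv F24859) D9447 (iv D7388)
def n9449 : Q := act 5 n7382
theorem D9449 : act 5 n7382 = n9449 := rfl
theorem F31511 : act 1 n9449 = n7960 := d10_1 D9449 (iv D7960) (iv F24861)
theorem F31512 : act 2 n9449 = n7384 := d15_1 D9449 (iv D7384) (iv F24862)
def n9450 : Q := act 6 n7382
theorem D9450 : act 6 n7382 = n9450 := rfl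
theorem F31516 : act 2 n9450 = n7391 := d16_1 D9450 (iv D7391) F19681 (iv F19666) (iv F24862)
def n9452 : Q := act 4 n7385
theorem D9452 : act 4 n7385 = n9452 := rfl
theorem F31523 : act 0 n9452 = n9452 := d3_1 D9452 (iv D9452) F24873
theorem F31524 : act 1 n9452 = n7386 := d9_1 D9452 (iv D7386) D7385
theorem F31525 : act 7 n9452 = n7393 := d24_2 (iv F24876) D9452 (iv D7393)
def n9453 : Q := act 6 n7385
theorem D9453 : act 6 n7385 = n9453 := rfl
theorem F31528 : act 3 n9453 = n7438 := d20_1 D9453 (iv D7438) (iv F24874)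
def n9454 : Q := act 3 n7386
theorem D9454 : act 3 n7386 = n9454 := rfl
def n9455 : Q := act 5 n7386
theorem D9455 : act 5 n7386 = n9455 := rfl
theorem F31533 : act 0 n9455 = n7390 := d4_1 D9455 (iv D7390) (iv F24877)
theorem F31534 : act 2 n9455 = n7388 := d15_1 D9455 (iv D7388) (iv F24878)
theorem F31535 : act 4 n9455 = n9455 := d22_1 D9455 (iv D9455) (iv D7386) F19676 D7386
theorem F31536 : act 7 n9455 = n7396 := d26_2 (iv F24879) D9455 (iv D7396)
def n9456 : Q := act 6 n7386
theorem D9456 : act 6 n7386 = n9456 := rfl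
def n9458 : Q := act 5 n7389
theorem D9458 : act 5 n7389 = n9458 := rfl
theorem F31544 : act 3 n9458 = n7390 := d19_1 D9458 (iv D7390) D7389
def n9460 : Q := act 6 n7390
theorem D9460 : act 6 n7390 = n9460 := rfl
def n9462 : Q := act 3 n7393
theorem D9462 : act 3 n7393 = n9462 := rfl
theorem F31557 : act 4 n9462 = n7447 := d18_2 D7393 D9462 (iv D7447) (iv D5815) (iv F19690)
def n9463 : Q := act 5 n7393
theorem D9463 : act 5 n7393 = n9463 := rfl
theorem F31558 : act 0 n9463 = n9463 := d4_1 D9463 (iv D9463) F24899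
theorem F31559 : act 1 n9463 = n7396 := d10_1 D9463 (iv D7396) (iv F24900)
theorem F31560 : act 4 n9463 = n9463 := d22_1 D9463 (iv D9463) (iv D7393) F19691 D7393
def n9464 : Q := act 6 n7393
theorem D9464 : act 6 n7393 = n9464 := rfl
theorem F31563 : act 4 n9464 = n7394 := d23_1 D9464 (iv D7394) D7393
def n9465 : Q := act 2 n7394
theorem D9465 : act 2 n7394 = n9465 := rfl
def n9469 : Q := act 6 n7396
theorem D9469 : act 6 n7396 = n9469 := rfl
theorem F31580 : act 5 n9469 = n7397 := d25_1 D9469 (iv D7397) D7396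
def n9476 : Q := act 4 n7403
theorem D9476 : act 4 n7403 = n9476 := rfl
theorem F31599 : act 0 n9476 = n7427 := d3_1 D9476 (iv D7427) (iv F24929)
theorem F31600 : act 1 n9476 = n7404 := d9_1 D9476 (iv D7404) D7403
theorem F31601 : act 2 n9476 = n7517 := d14_1 D9476 (iv D7517) (iv F24930)
def n9477 : Q := act 6 n7403
theorem D9477 : act 6 n7403 = n9477 := rfl
theorem F31602 : act 0 n9477 = n7428 := d5_1 D9477 (iv D7428) (iv F24929)
theorem F31603 : act 1 n9477 = n7405 := d11_1 D9477 (iv D7405) D7403
def n9478 : Q := act 3 n7404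
theorem D9478 : act 3 n7404 = n9478 := rfl
def n9481 : Q := act 7 n7405
theorem D9481 : act 7 n7405 = n9481 := rfl
def n9482 : Q := act 5 n7407
theorem D9482 : act 5 n7407 = n9482 := rfl
theorem F31615 : act 3 n9482 = n7408 := d19_1 D9482 (iv D7408) D7407
def n9483 : Q := act 6 n7407
theorem D9483 : act 6 n7407 = n9483 := rfl
theorem F31617 : act 3 n9483 = n7409 := d20_1 D9483 (iv D7409) D7407
def n9486 : Q := act 4 n7411
theorem D9486 : act 4 n7411 = n9486 := rfl
theorem F31624 : act 1 n9486 = n7412 := d9_1 D9486 (iv D7412) D7411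
theorem F31625 : act 2 n9486 = n7535 := d14_1 D9486 (iv D7535) (iv F24948)
def n9487 : Q := act 6 n7411
theorem D9487 : act 6 n7411 = n9487 := rfl
theorem F31626 : act 1 n9487 = n7413 := d11_1 D9487 (iv D7413) D7411
theorem F31627 : act 5 n9487 = n7428 := d25_1 D9487 (iv D7428) (iv F24949)
def n9488 : Q := act 3 n7412
theorem D9488 : act 3 n7412 = n9488 := rfl
theorem F31628 : act 0 n9488 = n7415 := d2_1 D9488 (iv D7415) (iv F24950)
theorem F31629 : act 2 n9488 = n9488 := d13_1 D9488 (iv D9488) F24951 F19729 (iv F24951)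
def n9489 : Q := act 5 n7412
theorem D9489 : act 5 n7412 = n9489 := rfl
theorem F31631 : act 2 n9489 = n7414 := d15_1 D9489 (iv D7414) (iv F24951)
def n9491 : Q := act 7 n7413
theorem D9491 : act 7 n7413 = n9491 := rfl
theorem F31636 : act 0 n9491 = n7418 := d6_1 D9491 (iv D7418) (iv F24952)
theorem F31637 : act 2 n9491 = n7465 := d17_1 D9491 (iv D7465) (iv F24953)
theorem F31638 : act 5 n9491 = n7432 := d26_1 D9491 (iv D7432) (iv F24954)
def n9492 : Q := act 5 n7415
theorem D9492 : act 5 n7415 = n9492 := rfl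
theorem F31640 : act 3 n9492 = n7416 := d19_1 D9492 (iv D7416) D7415
def n9493 : Q := act 6 n7415
theorem D9493 : act 6 n7415 = n9493 := rfl
theorem F31641 : act 3 n9493 = n7417 := d20_1 D9493 (iv D7417) D7415
def n9495 : Q := act 7 n7417
theorem D9495 : act 7 n7417 = n9495 := rfl
theorem F31646 : act 4 n9495 = n7418 := d24_1 D9495 (iv D7418) (iv F24964)
def n9496 : Q := act 4 n7419
theorem D9496 : act 4 n7419 = n9496 := rfl
theorem F31647 : act 1 n9496 = n7420 := d9_1 D9496 (iv D7420) D7419
theorem F31648 : act 2 n9496 = n7545 := d14_1 D9496 (iv D7545) (iv F24967)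
theorem F31649 : act 7 n9496 = n7427 := d24_2 (iv F24968) D9496 (iv D7427)
def n9497 : Q := act 6 n7419
theorem D9497 : act 6 n7419 = n9497 := rfl
theorem F31650 : act 1 n9497 = n7421 := d11_1 D9497 (iv D7421) D7419
def n9498 : Q := act 3 n7420
theorem D9498 : act 3 n7420 = n9498 := rfl
theorem F31653 : act 7 n9498 = n7429 := d21_2 (iv F24971) D9498 (iv D7429)
def n9499 : Q := act 5 n7420
theorem D9499 : act 5 n7420 = n9499 := rfl
theorem F31655 : act 2 n9499 = n7422 := d15_1 D9499 (iv D7422) (iv F24970)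
theorem F31656 : act 7 n9499 = n7430 := d26_2 (iv F24971) D9499 (iv D7430)
def n9500 : Q := act 6 n7420
theorem D9500 : act 6 n7420 = n9500 := rfl
theorem F31657 : act 0 n9500 = n7425 := d5_1 D9500 (iv D7425) (iv F24969)
theorem F31658 : act 2 n9500 = n8309 := d16_1 D9500 (iv D8309) F21900 (iv F19743) (iv F24970)
theorem F31659 : act 4 n9500 = n7421 := d23_1 D9500 (iv D7421) D7420
def n9501 : Q := act 7 n7421
theorem D9501 : act 7 n7421 = n9501 := rfl
theorem F31660 : act 0 n9501 = n7426 := d6_1 D9501 (iv D7426) (iv F24972)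
theorem F31661 : act 2 n9501 = n8310 := d17_1 D9501 (iv D8310) (iv F24973)
theorem F31662 : act 6 n9501 = n7432 := d27_1 D9501 (iv D7432) (iv D5801) (iv F19739) D7421
def n9502 : Q := act 5 n7423
theorem D9502 : act 5 n7423 = n9502 := rfl
theorem F31665 : act 7 n9502 = n7433 := d26_2 (iv F24980) D9502 (iv D7433)
def n9503 : Q := act 6 n7423
theorem D9503 : act 6 n7423 = n9503 := rfl
theorem F31666 : act 3 n9503 = n7425 := d20_1 D9503 (iv D7425) D7423
def n9504 : Q := act 6 n7424
theorem D9504 : act 6 n7424 = n9504 := rfl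
theorem F31667 : act 2 n9504 = n8313 := d16_1 D9504 (iv D8313) F21911 (iv F19750) (iv F24981)
theorem F31668 : act 5 n9504 = n7425 := d25_1 D9504 (iv D7425) D7424
def n9505 : Q := act 7 n7425
theorem D9505 : act 7 n7425 = n9505 := rfl
theorem F31669 : act 2 n9505 = n8314 := d17_1 D9505 (iv D8314) (iv F24983)
theorem F31671 : act 6 n9505 = n7436 := d27_1 D9505 (iv D7436) (iv D5805) (iv F19746) D7425
def n9506 : Q := act 3 n7427
theorem D9506 : act 3 n7427 = n9506 := rfl
def n9507 : Q := act 5 n7427
theorem D9507 : act 5 n7427 = n9507 := rfl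
theorem F31673 : act 1 n9507 = n7430 := d10_1 D9507 (iv D7430) (iv F24987)
theorem F31674 : act 2 n9507 = n7556 := d15_1 D9507 (iv D7556) (iv F24988)
def n9508 : Q := act 6 n7427
theorem D9508 : act 6 n7427 = n9508 := rfl
theorem F31676 : act 4 n9508 = n7428 := d23_1 D9508 (iv D7428) D7427
def n9509 : Q := act 2 n7428
theorem D9509 : act 2 n7428 = n9509 := rfl
theorem F31677 : act 1 n9509 = n7473 := d7_1 D9509 (iv D7473) F19857 (iv F19756) (iv F24989)
def n9510 : Q := act 7 n7428
theorem D9510 : act 7 n7428 = n9510 := rfl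
theorem F31679 : act 1 n9510 = n7432 := d12_1 D9510 (iv D7432) (iv F24989)
def n9511 : Q := act 5 n7429
theorem D9511 : act 5 n7429 = n9511 := rfl
theorem F31682 : act 3 n9511 = n7430 := d19_1 D9511 (iv D7430) D7429
def n9512 : Q := act 6 n7429
theorem D9512 : act 6 n7429 = n9512 := rfl
def n9513 : Q := act 6 n7430
theorem D9513 : act 6 n7430 = n9513 := rfl
theorem F31686 : act 2 n9513 = n7477 := d16_1 D9513 (iv D7477) F19864 (iv F19760) (iv F24993)
theorem F31687 : act 5 n9513 = n7431 := d25_1 D9513 (iv D7431) D7430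
def n9514 : Q := act 7 n7431
theorem D9514 : act 7 n7431 = n9514 := rfl
def n9515 : Q := act 4 n7433
theorem D9515 : act 4 n7433 = n9515 := rfl
def n9516 : Q := act 6 n7433
theorem D9516 : act 6 n7433 = n9516 := rfl
theorem F31692 : act 3 n9516 = n7435 := d20_1 D9516 (iv D7435) (iv F25000)
theorem F31693 : act 5 n9516 = n7434 := d25_1 D9516 (iv D7434) D7433
def n9520 : Q := act 3 n7437
theorem D9520 : act 3 n7437 = n9520 := rfl
theorem F31701 : act 7 n9520 = n7447 := d21_2 (iv F25009) D9520 (iv D7447)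
def n9522 : Q := act 6 n7437
theorem D9522 : act 6 n7437 = n9522 := rfl
theorem F31709 : act 4 n9522 = n7438 := d23_1 D9522 (iv D7438) D7437
def n9523 : Q := act 2 n7438
theorem D9523 : act 2 n7438 = n9523 := rfl
theorem F31711 : act 1 n9523 = n8332 := d7_1 D9523 (iv D8332) F21947 (iv F19774) (iv F25011)
theorem F31713 : act 6 n9523 = n7571 := d16_2 D7438 D9523 (iv D7571) (iv D5907) (iv F19767)
def n9524 : Q := act 7 n7438
theorem D9524 : act 7 n7438 = n9524 := rfl
theorem F31717 : act 6 n9524 = n7450 := d27_1 D9524 (iv D7450) (iv D5816) (iv F19769) D7438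
def n9529 : Q := act 4 n7443
theorem D9529 : act 4 n7443 = n9529 := rfl
theorem F31733 : act 7 n9529 = n7455 := d24_2 (iv F25028) D9529 (iv D7455)
def n9534 : Q := act 2 n7447
theorem D9534 : act 2 n7447 = n9534 := rfl
theorem F31747 : act 3 n9534 = n7578 := d13_2 D7447 D9534 (iv D7578) (iv D5914) (iv F19796)
def n9549 : Q := act 3 n7460
theorem D9549 : act 3 n7460 = n9549 := rfl
theorem F31788 : act 0 n9549 = n7720 := d2_1 D9549 (iv D7720) (iv F25076)
def n9550 : Q := act 5 n7460
theorem D9550 : act 5 n7460 = n9550 := rfl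
theorem F31792 : act 0 n9550 = n7721 := d4_1 D9550 (iv D7721) (iv F25076)
theorem F31795 : act 4 n9550 = n7471 := d22_1 D9550 (iv D7471) (iv D5833) (iv F19825) D7460
def n9552 : Q := act 2 n7461
theorem D9552 : act 2 n7461 = n9552 := rfl
def n9553 : Q := act 7 n7461
theorem D9553 : act 7 n7461 = n9553 := rfl
theorem F31804 : act 1 n9553 = n7465 := d12_1 D9553 (iv D7465) (iv F25081)
theorem F31807 : act 6 n9553 = n8362 := d27_1 D9553 (iv D8362) (iv D6520) (iv F19826) D7461
def n9562 : Q := act 7 n7468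
theorem D9562 : act 7 n7468 = n9562 := rfl
theorem F31838 : act 6 n9562 = n8371 := d27_1 D9562 (iv D8371) (iv D6527) (iv F19845) D7468
def n9569 : Q := act 7 n7473
theorem D9569 : act 7 n7473 = n9569 := rfl
theorem F31862 : act 2 n9569 = n7474 := d17_1 D9569 (iv D7474) D7473
def n9600 : Q := act 4 n7501
theorem D9600 : act 4 n7501 = n9600 := rfl
theorem F31961 : act 0 n9600 = n7535 := d3_1 D9600 (iv D7535) (iv F25219)
def n9601 : Q := act 6 n7501
theorem D9601 : act 6 n7501 = n9601 := rfl
theorem F31963 : act 0 n9601 = n7536 := d5_1 D9601 (iv D7536) (iv F25219)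
theorem F31965 : act 5 n9601 = n7518 := d25_1 D9601 (iv D7518) (iv F25220)
def n9603 : Q := act 5 n7502
theorem D9603 : act 5 n7502 = n9603 := rfl
theorem F31968 : act 2 n9603 = n7504 := d15_1 D9603 (iv D7504) (iv F25222)
def n9605 : Q := act 7 n7503
theorem D9605 : act 7 n7503 = n9605 := rfl
theorem F31975 : act 5 n9605 = n7522 := d26_1 D9605 (iv D7522) (iv F25225)
def n9606 : Q := act 5 n7505
theorem D9606 : act 5 n7505 = n9606 := rfl
theorem F31976 : act 1 n9606 = n7541 := d10_1 D9606 (iv D7541) (iv F25229)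
def n9608 : Q := act 6 n7506
theorem D9608 : act 6 n7506 = n9608 := rfl
theorem F31981 : act 2 n9608 = n7787 := d16_1 D9608 (iv D7787) F20602 (iv F19945) (iv F25231)
def n9610 : Q := act 4 n7509
theorem D9610 : act 4 n7509 = n9610 := rfl
theorem F31987 : act 0 n9610 = n7545 := d3_1 D9610 (iv D7545) (iv F25239)
theorem F31988 : act 1 n9610 = n7510 := d9_1 D9610 (iv D7510) D7509
theorem F31989 : act 7 n9610 = n7517 := d24_2 (iv F25240) D9610 (iv D7517)
def n9611 : Q := act 6 n7509
theorem D9611 : act 6 n7509 = n9611 := rfl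
theorem F31990 : act 0 n9611 = n7546 := d5_1 D9611 (iv D7546) (iv F25239)
theorem F31991 : act 1 n9611 = n7511 := d11_1 D9611 (iv D7511) D7509
def n9612 : Q := act 3 n7510
theorem D9612 : act 3 n7510 = n9612 := rfl
theorem F31992 : act 0 n9612 = n7513 := d2_1 D9612 (iv D7513) (iv F25241)
theorem F31993 : act 2 n9612 = n9612 := d13_1 D9612 (iv D9612) F25242 F19949 (iv F25242)
theorem F31994 : act 7 n9612 = n7519 := d21_2 (iv F25243) D9612 (iv D7519)
def n9613 : Q := act 5 n7510
theorem D9613 : act 5 n7510 = n9613 := rfl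
theorem F31995 : act 0 n9613 = n7514 := d4_1 D9613 (iv D7514) (iv F25241)
theorem F31996 : act 2 n9613 = n7512 := d15_1 D9613 (iv D7512) (iv F25242)
theorem F31997 : act 7 n9613 = n7520 := d26_2 (iv F25243) D9613 (iv D7520)
def n9614 : Q := act 6 n7510
theorem D9614 : act 6 n7510 = n9614 := rfl
theorem F31998 : act 0 n9614 = n7515 := d5_1 D9614 (iv D7515) (iv F25241)
theorem F31999 : act 2 n9614 = n9614 := d16_1 D9614 (iv D9614) F25242 F19950 (iv F25242)
theorem F32000 : act 4 n9614 = n7511 := d23_1 D9614 (iv D7511) D7510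
def n9615 : Q := act 7 n7511
theorem D9615 : act 7 n7511 = n9615 := rfl
theorem F32001 : act 0 n9615 = n7516 := d6_1 D9615 (iv D7516) (iv F25244)
theorem F32002 : act 2 n9615 = n9615 := d17_1 D9615 (iv D9615) F25245
theorem F32003 : act 6 n9615 = n7522 := d27_1 D9615 (iv D7522) (iv D5869) (iv F19947) D7511
def n9616 : Q := act 5 n7513
theorem D9616 : act 5 n7513 = n9616 := rfl
theorem F32007 : act 7 n9616 = n7523 := d26_2 (iv F25252) D9616 (iv D7523)
def n9618 : Q := act 6 n7514
theorem D9618 : act 6 n7514 = n9618 := rfl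
def n9619 : Q := act 7 n7515
theorem D9619 : act 7 n7515 = n9619 := rfl
theorem F32013 : act 1 n9619 = n7554 := d12_1 D9619 (iv D7554) (iv F25256)
theorem F32015 : act 4 n9619 = n7516 := d24_1 D9619 (iv D7516) (iv F25258)
theorem F32016 : act 6 n9619 = n7526 := d27_1 D9619 (iv D7526) (iv D5873) (iv F19954) D7515
def n9620 : Q := act 3 n7517
theorem D9620 : act 3 n7517 = n9620 := rfl
theorem F32017 : act 0 n9620 = n7555 := d2_1 D9620 (iv D7555) (iv F25262)
theorem F32018 : act 1 n9620 = n7519 := d8_1 D9620 (iv D7519) (iv F25263)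
def n9621 : Q := act 5 n7517
theorem D9621 : act 5 n7517 = n9621 := rfl
theorem F32019 : act 0 n9621 = n7556 := d4_1 D9621 (iv D7556) (iv F25262)
theorem F32020 : act 1 n9621 = n7520 := d10_1 D9621 (iv D7520) (iv F25263)
def n9622 : Q := act 6 n7517
theorem D9622 : act 6 n7517 = n9622 := rfl
theorem F32021 : act 0 n9622 = n7557 := d5_1 D9622 (iv D7557) (iv F25262)
theorem F32022 : act 1 n9622 = n7521 := d11_1 D9622 (iv D7521) (iv F25263)
theorem F32023 : act 4 n9622 = n7518 := d23_1 D9622 (iv D7518) D7517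
def n9623 : Q := act 2 n7518
theorem D9623 : act 2 n7518 = n9623 := rfl
theorem F32024 : act 0 n9623 = n7558 := d1_1 D9623 (iv D7558) (iv F25264)
theorem F32025 : act 1 n9623 = n7792 := d7_1 D9623 (iv D7792) F20615 (iv F19965) (iv F25265)
def n9624 : Q := act 7 n7518
theorem D9624 : act 7 n7518 = n9624 := rfl
theorem F32026 : act 0 n9624 = n7559 := d6_1 D9624 (iv D7559) (iv F25264)
theorem F32027 : act 1 n9624 = n7522 := d12_1 D9624 (iv D7522) (iv F25265)
def n9625 : Q := act 5 n7519
theorem D9625 : act 5 n7519 = n9625 := rfl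
theorem F32028 : act 0 n9625 = n7523 := d4_1 D9625 (iv D7523) (iv F25266)
theorem F32029 : act 2 n9625 = n9625 := d15_1 D9625 (iv D9625) F25267
theorem F32030 : act 3 n9625 = n7520 := d19_1 D9625 (iv D7520) D7519
def n9626 : Q := act 6 n7519
theorem D9626 : act 6 n7519 = n9626 := rfl
theorem F32031 : act 0 n9626 = n7524 := d5_1 D9626 (iv D7524) (iv F25266)
theorem F32032 : act 3 n9626 = n7521 := d20_1 D9626 (iv D7521) D7519
def n9627 : Q := act 6 n7520
theorem D9627 : act 6 n7520 = n9627 := rfl
theorem F32034 : act 2 n9627 = n7796 := d16_1 D9627 (iv D7796) F20622 (iv F19968) (iv F25269)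
def n9628 : Q := act 7 n7521
theorem D9628 : act 7 n7521 = n9628 := rfl
theorem F32038 : act 4 n9628 = n7522 := d24_1 D9628 (iv D7522) (iv F25272)
def n9629 : Q := act 4 n7523
theorem D9629 : act 4 n7523 = n9629 := rfl
def n9631 : Q := act 2 n7524
theorem D9631 : act 2 n7524 = n9631 := rfl
theorem F32045 : act 3 n9631 = n7800 := d13_2 (iv F25279) D9631 (iv D7800) F20634 (iv F19974)
def n9632 : Q := act 7 n7524
theorem D9632 : act 7 n7524 = n9632 := rfl
def n9634 : Q := act 4 n7527
theorem D9634 : act 4 n7527 = n9634 := rfl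
theorem F32052 : act 1 n9634 = n7528 := d9_1 D9634 (iv D7528) D7527
theorem F32053 : act 7 n9634 = n7535 := d24_2 (iv F25287) D9634 (iv D7535)
def n9635 : Q := act 6 n7527
theorem D9635 : act 6 n7527 = n9635 := rfl
theorem F32054 : act 1 n9635 = n7529 := d11_1 D9635 (iv D7529) D7527
theorem F32055 : act 5 n9635 = n7546 := d25_1 D9635 (iv D7546) (iv F25286)
def n9636 : Q := act 3 n7528
theorem D9636 : act 3 n7528 = n9636 := rfl
theorem F32056 : act 0 n9636 = n7531 := d2_1 D9636 (iv D7531) (iv F25288)
theorem F32058 : act 7 n9636 = n7537 := d21_2 (iv F25290) D9636 (iv D7537)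
def n9637 : Q := act 5 n7528
theorem D9637 : act 5 n7528 = n9637 := rfl
theorem F32059 : act 0 n9637 = n7532 := d4_1 D9637 (iv D7532) (iv F25288)
theorem F32061 : act 4 n9637 = n7548 := d22_1 D9637 (iv D7548) (iv D5889) (iv F19979) D7528
theorem F32062 : act 7 n9637 = n7538 := d26_2 (iv F25290) D9637 (iv D7538)
def n9638 : Q := act 6 n7528
theorem D9638 : act 6 n7528 = n9638 := rfl
theorem F32064 : act 2 n9638 = n8413 := d16_1 D9638 (iv D8413) F22136 (iv F19983) (iv F25289)
theorem F32065 : act 4 n9638 = n7529 := d23_1 D9638 (iv D7529) D7528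
def n9640 : Q := act 5 n7531
theorem D9640 : act 5 n7531 = n9640 := rfl
theorem F32072 : act 7 n9640 = n7541 := d26_2 (iv F25300) D9640 (iv D7541)
def n9642 : Q := act 6 n7532
theorem D9642 : act 6 n7532 = n9642 := rfl
def n9644 : Q := act 3 n7535
theorem D9644 : act 3 n7535 = n9644 := rfl
def n9645 : Q := act 5 n7535
theorem D9645 : act 5 n7535 = n9645 := rfl
theorem F32081 : act 1 n9645 = n7538 := d10_1 D9645 (iv D7538) (iv F25309)
theorem F32082 : act 4 n9645 = n7556 := d22_1 D9645 (iv D7556) (iv D5896) (iv F19994) D7535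
def n9646 : Q := act 6 n7535
theorem D9646 : act 6 n7535 = n9646 := rfl
theorem F32083 : act 1 n9646 = n7539 := d11_1 D9646 (iv D7539) (iv F25309)
def n9647 : Q := act 2 n7536
theorem D9647 : act 2 n7536 = n9647 := rfl
theorem F32085 : act 1 n9647 = n7584 := d7_1 D9647 (iv D7584) F20093 (iv F19998) (iv F25310)
def n9648 : Q := act 7 n7536
theorem D9648 : act 7 n7536 = n9648 := rfl
def n9649 : Q := act 5 n7537
theorem D9649 : act 5 n7537 = n9649 := rfl
theorem F32091 : act 3 n9649 = n7538 := d19_1 D9649 (iv D7538) D7537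
def n9650 : Q := act 6 n7537
theorem D9650 : act 6 n7537 = n9650 := rfl
theorem F32093 : act 3 n9650 = n7539 := d20_1 D9650 (iv D7539) D7537
def n9651 : Q := act 6 n7538
theorem D9651 : act 6 n7538 = n9651 := rfl
theorem F32095 : act 2 n9651 = n7588 := d16_1 D9651 (iv D7588) F20101 (iv F20003) (iv F25315)
def n9654 : Q := act 6 n7541
theorem D9654 : act 6 n7541 = n9654 := rfl
theorem F32104 : act 5 n9654 = n7542 := d25_1 D9654 (iv D7542) D7541
def n9658 : Q := act 3 n7545
theorem D9658 : act 3 n7545 = n9658 := rfl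
theorem F32111 : act 1 n9658 = n7547 := d8_1 D9658 (iv D7547) (iv F25331)
theorem F32112 : act 7 n9658 = n7555 := d21_2 (iv F25332) D9658 (iv D7555)
def n9659 : Q := act 5 n7545
theorem D9659 : act 5 n7545 = n9659 := rfl
theorem F32113 : act 1 n9659 = n7548 := d10_1 D9659 (iv D7548) (iv F25331)
theorem F32114 : act 7 n9659 = n7556 := d26_2 (iv F25332) D9659 (iv D7556)
def n9660 : Q := act 6 n7545
theorem D9660 : act 6 n7545 = n9660 := rfl
theorem F32115 : act 1 n9660 = n7549 := d11_1 D9660 (iv D7549) (iv F25331)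
theorem F32116 : act 4 n9660 = n7546 := d23_1 D9660 (iv D7546) D7545
def n9661 : Q := act 2 n7546
theorem D9661 : act 2 n7546 = n9661 := rfl
theorem F32117 : act 1 n9661 = n8436 := d7_1 D9661 (iv D8436) F22195 (iv F20016) (iv F25333)
def n9662 : Q := act 7 n7546
theorem D9662 : act 7 n7546 = n9662 := rfl
theorem F32118 : act 1 n9662 = n7550 := d12_1 D9662 (iv D7550) (iv F25333)
theorem F32119 : act 6 n9662 = n7559 := d27_1 D9662 (iv D7559) (iv D5897) (iv F20011) D7546
def n9663 : Q := act 5 n7547
theorem D9663 : act 5 n7547 = n9663 := rfl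
theorem F32120 : act 0 n9663 = n7551 := d4_1 D9663 (iv D7551) (iv F25334)
theorem F32121 : act 2 n9663 = n7572 := d15_1 D9663 (iv D7572) (iv F25335)
theorem F32123 : act 7 n9663 = n7560 := d26_2 (iv F25336) D9663 (iv D7560)
def n9664 : Q := act 6 n7547
theorem D9664 : act 6 n7547 = n9664 := rfl
theorem F32124 : act 0 n9664 = n7552 := d5_1 D9664 (iv D7552) (iv F25334)
theorem F32125 : act 3 n9664 = n7549 := d20_1 D9664 (iv D7549) D7547
def n9665 : Q := act 6 n7548
theorem D9665 : act 6 n7548 = n9665 := rfl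
theorem F32126 : act 0 n9665 = n7553 := d5_1 D9665 (iv D7553) (iv F25337)
theorem F32127 : act 2 n9665 = n8440 := d16_1 D9665 (iv D8440) F22202 (iv F20019) (iv F25338)
theorem F32128 : act 5 n9665 = n7549 := d25_1 D9665 (iv D7549) D7548
def n9666 : Q := act 7 n7549
theorem D9666 : act 7 n7549 = n9666 := rfl
theorem F32129 : act 0 n9666 = n7554 := d6_1 D9666 (iv D7554) (iv F25340)
theorem F32130 : act 2 n9666 = n8441 := d17_1 D9666 (iv D8441) (iv F25341)
theorem F32131 : act 4 n9666 = n7550 := d24_1 D9666 (iv D7550) (iv F25342)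
theorem F32132 : act 6 n9666 = n7563 := d27_1 D9666 (iv D7563) (iv D5900) (iv F20014) D7549
def n9670 : Q := act 7 n7552
theorem D9670 : act 7 n7552 = n9670 := rfl
theorem F32140 : act 6 n9670 = n7566 := d27_1 D9670 (iv D7566) (iv D5903) (iv F20022) D7552
def n9671 : Q := act 7 n7553
theorem D9671 : act 7 n7553 = n9671 := rfl
theorem F32141 : act 2 n9671 = n8446 := d17_1 D9671 (iv D8446) (iv F25350)
theorem F32142 : act 5 n9671 = n7554 := d26_1 D9671 (iv D7554) (iv F25351)
theorem F32143 : act 6 n9671 = n7567 := d27_1 D9671 (iv D7567) (iv D5904) (iv F20024) D7553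
def n9672 : Q := act 2 n7555
theorem D9672 : act 2 n7555 = n9672 := rfl
theorem F32144 : act 1 n9672 = n7578 := d7_1 D9672 (iv D7578) F20077 (iv F20032) (iv F25355)
def n9673 : Q := act 5 n7555
theorem D9673 : act 5 n7555 = n9673 := rfl
theorem F32145 : act 1 n9673 = n7560 := d10_1 D9673 (iv D7560) (iv F25355)
theorem F32146 : act 3 n9673 = n7556 := d19_1 D9673 (iv D7556) D7555
def n9674 : Q := act 6 n7555
theorem D9674 : act 6 n7555 = n9674 := rfl
theorem F32147 : act 1 n9674 = n7561 := d11_1 D9674 (iv D7561) (iv F25355)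
theorem F32148 : act 3 n9674 = n7557 := d20_1 D9674 (iv D7557) D7555
def n9675 : Q := act 6 n7556
theorem D9675 : act 6 n7556 = n9675 := rfl
theorem F32149 : act 1 n9675 = n7562 := d11_1 D9675 (iv D7562) (iv F25356)
theorem F32150 : act 5 n9675 = n7557 := d25_1 D9675 (iv D7557) D7556
def n9676 : Q := act 2 n7557
theorem D9676 : act 2 n7557 = n9676 := rfl
theorem F32151 : act 1 n9676 = n7595 := d7_1 D9676 (iv D7595) F20129 (iv F20036) (iv F25357)
def n9677 : Q := act 7 n7557
theorem D9677 : act 7 n7557 = n9677 := rfl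
theorem F32153 : act 1 n9677 = n7563 := d12_1 D9677 (iv D7563) (iv F25357)
theorem F32154 : act 4 n9677 = n7559 := d24_1 D9677 (iv D7559) (iv F25358)
def n9678 : Q := act 3 n7558
theorem D9678 : act 3 n7558 = n9678 := rfl
def n9679 : Q := act 7 n7558
theorem D9679 : act 7 n7558 = n9679 := rfl
theorem F32157 : act 2 n9679 = n7559 := d17_1 D9679 (iv D7559) D7558
def n9680 : Q := act 4 n7560
theorem D9680 : act 4 n7560 = n9680 := rfl
theorem F32158 : act 0 n9680 = n7564 := d3_1 D9680 (iv D7564) (iv F25361)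
theorem F32159 : act 2 n9680 = n7580 := d14_1 D9680 (iv D7580) (iv F25362)
def n9681 : Q := act 6 n7560
theorem D9681 : act 6 n7560 = n9681 := rfl
theorem F32160 : act 0 n9681 = n7565 := d5_1 D9681 (iv D7565) (iv F25361)
theorem F32162 : act 3 n9681 = n7562 := d20_1 D9681 (iv D7562) (iv F25363)
theorem F32163 : act 5 n9681 = n7561 := d25_1 D9681 (iv D7561) D7560
def n9682 : Q := act 7 n7561
theorem D9682 : act 7 n7561 = n9682 := rfl
theorem F32164 : act 0 n9682 = n7566 := d6_1 D9682 (iv D7566) (iv F25364)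
theorem F32165 : act 2 n9682 = n9682 := d17_1 D9682 (iv D9682) F25365
theorem F32166 : act 3 n9682 = n7563 := d21_1 D9682 (iv D7563) (iv F25366)
def n9683 : Q := act 7 n7562
theorem D9683 : act 7 n7562 = n9683 := rfl
theorem F32169 : act 5 n9683 = n7563 := d26_1 D9683 (iv D7563) (iv F25369)
def n9684 : Q := act 6 n7564
theorem D9684 : act 6 n7564 = n9684 := rfl
theorem F32171 : act 4 n9684 = n7565 := d23_1 D9684 (iv D7565) D7564
def n9685 : Q := act 7 n7565
theorem D9685 : act 7 n7565 = n9685 := rfl
theorem F32174 : act 5 n9685 = n7566 := d26_1 D9685 (iv D7566) (iv F25376)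
def n9686 : Q := act 2 n7568
theorem D9686 : act 2 n7568 = n9686 := rfl
theorem F32175 : act 0 n9686 = n9686 := d1_1 D9686 (iv D9686) F25381
theorem F32176 : act 7 n9686 = n7578 := d17_2 (iv F25383) D9686 (iv D7578)
def n9687 : Q := act 5 n7568
theorem D9687 : act 5 n7568 = n9687 := rfl
theorem F32180 : act 7 n9687 = n7579 := d26_2 (iv F25383) D9687 (iv D7579)
def n9688 : Q := act 6 n7568
theorem D9688 : act 6 n7568 = n9688 := rfl
theorem F32182 : act 1 n9688 = n7573 := d11_1 D9688 (iv D7573) (iv F25382)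
def n9689 : Q := act 6 n7569
theorem D9689 : act 6 n7569 = n9689 := rfl
theorem F32186 : act 1 n9689 = n7574 := d11_1 D9689 (iv D7574) (iv F25385)
def n9690 : Q := act 2 n7570
theorem D9690 : act 2 n7570 = n9690 := rfl
def n9691 : Q := act 3 n7571
theorem D9691 : act 3 n7571 = n9691 := rfl
def n9694 : Q := act 2 n7573
theorem D9694 : act 2 n7573 = n9694 := rfl
def n9698 : Q := act 5 n7578
theorem D9698 : act 5 n7578 = n9698 := rfl
theorem F32219 : act 2 n9698 = n7579 := d15_1 D9698 (iv D7579) D7578
def n9699 : Q := act 6 n7578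
theorem D9699 : act 6 n7578 = n9699 := rfl
theorem F32220 : act 0 n9699 = n9699 := d5_1 D9699 (iv D9699) F25416
theorem F32221 : act 2 n9699 = n9699 := d16_1 D9699 (iv D9699) (iv D7578) F20078 D7578
def n9700 : Q := act 4 n7579
theorem D9700 : act 4 n7579 = n9700 := rfl
theorem F32223 : act 1 n9700 = n7580 := d9_1 D9700 (iv D7580) (iv F25418)
def n9704 : Q := act 6 n7582
theorem D9704 : act 6 n7582 = n9704 := rfl
theorem F32240 : act 1 n9704 = n7588 := d11_1 D9704 (iv D7588) (iv F25429)
theorem F32242 : act 5 n9704 = n7583 := d25_1 D9704 (iv D7583) D7582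
def n9705 : Q := act 2 n7583
theorem D9705 : act 2 n7583 = n9705 := rfl
def n9707 : Q := act 3 n7584
theorem D9707 : act 3 n7584 = n9707 := rfl
theorem F32249 : act 0 n9707 = n7840 := d2_1 D9707 (iv D7840) (iv F25435)
def n9708 : Q := act 7 n7584
theorem D9708 : act 7 n7584 = n9708 := rfl
theorem F32253 : act 2 n9708 = n7585 := d17_1 D9708 (iv D7585) D7584
def n9729 : Q := act 4 n7604
theorem D9729 : act 4 n7604 = n9729 := rfl
theorem F32320 : act 0 n9729 = n7862 := d3_1 D9729 (iv D7862) (iv F25507)
def n9730 : Q := act 7 n7604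
theorem D9730 : act 7 n7604 = n9730 := rfl
theorem F32322 : act 0 n9730 = n7863 := d6_1 D9730 (iv D7863) (iv F25507)
def n9733 : Q := act 7 n7606
theorem D9733 : act 7 n7606 = n9733 := rfl
theorem F32332 : act 2 n9733 = n7607 := d17_1 D9733 (iv D7607) D7606
def n9740 : Q := act 1 n7613
theorem D9740 : act 1 n7613 = n9740 := rfl
theorem F32352 : act 0 n9740 = n9740 := d0_1 D9740 (iv D9740) F25534 F20186 (iv F25534)
theorem F32353 : act 2 n9740 = n9740 := d7_2 D7613 D9740 (iv D9740) (iv D7613) F20182
theorem F32354 : act 3 n9740 = n8287 := d8_2 (iv F25535) D9740 (iv D8287)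
theorem F32355 : act 5 n9740 = n8237 := d10_2 (iv F25536) D9740 (iv D8237)
theorem F32356 : act 7 n9740 = n8229 := d12_2 (iv F25537) D9740 (iv D8229)
def n9741 : Q := act 4 n7613
theorem D9741 : act 4 n7613 = n9741 := rfl
theorem F32358 : act 2 n9741 = n7614 := d14_1 D9741 (iv D7614) D7613
theorem F32359 : act 7 n9741 = n8230 := d24_2 (iv F25537) D9741 (iv D8230)
def n9742 : Q := act 6 n7613
theorem D9742 : act 6 n7613 = n9742 := rfl
theorem F32361 : act 2 n9742 = n7625 := d16_1 D9742 (iv D7625) (iv D5953) (iv F20184) D7613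
theorem F32362 : act 3 n9742 = n8289 := d20_1 D9742 (iv D8289) (iv F25535)
def n9743 : Q := act 5 n7614
theorem D9743 : act 5 n7614 = n9743 := rfl
theorem F32368 : act 6 n9743 = n7626 := d25_2 (iv F25541) D9743 (iv D7626)
theorem F32369 : act 7 n9743 = n8232 := d26_2 (iv F25542) D9743 (iv D8232)
def n9744 : Q := act 3 n7615
theorem D9744 : act 3 n7615 = n9744 := rfl
theorem F32372 : act 4 n9744 = n8291 := d18_2 D7615 D9744 (iv D8291) (iv D6467) (iv F20187)
theorem F32373 : act 7 n9744 = n8233 := d21_2 (iv F25545) D9744 (iv D8233)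
def n9745 : Q := act 5 n7615
theorem D9745 : act 5 n7615 = n9745 := rfl
theorem F32375 : act 2 n9745 = n7617 := d15_1 D9745 (iv D7617) (iv F25544)
theorem F32377 : act 7 n9745 = n8234 := d26_2 (iv F25545) D9745 (iv D8234)
def n9746 : Q := act 6 n7615
theorem D9746 : act 6 n7615 = n9746 := rfl
theorem F32379 : act 2 n9746 = n7629 := d16_1 D9746 (iv D7629) F20227 (iv F20192) (iv F25544)
def n9749 : Q := act 4 n7618
theorem D9749 : act 4 n7618 = n9749 := rfl
theorem F32392 : act 2 n9749 = n7619 := d14_1 D9749 (iv D7619) D7618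
def n9750 : Q := act 6 n7618
theorem D9750 : act 6 n7618 = n9750 := rfl
theorem F32395 : act 2 n9750 = n8239 := d16_1 D9750 (iv D8239) (iv D6429) (iv F20203) D7618
def n9752 : Q := act 3 n7620
theorem D9752 : act 3 n7620 = n9752 := rfl
theorem F32406 : act 4 n9752 = n7667 := d18_2 D7620 D9752 (iv D7667) (iv D5983) (iv F20206)
def n9754 : Q := act 6 n7620
theorem D9754 : act 6 n7620 = n9754 := rfl
theorem F32413 : act 2 n9754 = n8243 := d16_1 D9754 (iv D8243) F21752 (iv F20211) (iv F25565)
def n9758 : Q := act 3 n7624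
theorem D9758 : act 3 n7624 = n9758 := rfl
theorem F32427 : act 0 n9758 = n7627 := d2_1 D9758 (iv D7627) (iv F25580)
def n9759 : Q := act 5 n7624
theorem D9759 : act 5 n7624 = n9759 := rfl
theorem F32432 : act 2 n9759 = n7626 := d15_1 D9759 (iv D7626) (iv F25581)
def n9760 : Q := act 6 n7624
theorem D9760 : act 6 n7624 = n9760 := rfl
def n9762 : Q := act 5 n7627
theorem D9762 : act 5 n7627 = n9762 := rfl
theorem F32439 : act 1 n9762 = n7645 := d10_1 D9762 (iv D7645) (iv F25589)
theorem F32441 : act 3 n9762 = n7628 := d19_1 D9762 (iv D7628) D7627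
def n9763 : Q := act 6 n7627
theorem D9763 : act 6 n7627 = n9763 := rfl
theorem F32443 : act 1 n9763 = n7646 := d11_1 D9763 (iv D7646) (iv F25589)
theorem F32444 : act 3 n9763 = n7629 := d20_1 D9763 (iv D7629) D7627
def n9764 : Q := act 6 n7628
theorem D9764 : act 6 n7628 = n9764 := rfl
def n9773 : Q := act 6 n7635
theorem D9773 : act 6 n7635 = n9773 := rfl
def n9786 : Q := act 6 n7645
theorem D9786 : act 6 n7645 = n9786 := rfl
def n9787 : Q := act 2 n7646
theorem D9787 : act 2 n7646 = n9787 := rfl
theorem F32518 : act 6 n9787 = n7660 := d16_2 D7646 D9787 (iv D7660) (iv D5978) (iv F20267)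
def n9803 : Q := act 2 n7659
theorem D9803 : act 2 n7659 = n9803 := rfl
def n9804 : Q := act 7 n7659
theorem D9804 : act 7 n7659 = n9804 := rfl
theorem F32580 : act 3 n9804 = n7662 := d21_1 D9804 (iv D7662) (iv F25700)
def n9806 : Q := act 7 n7660
theorem D9806 : act 7 n7660 = n9806 := rfl
theorem F32586 : act 2 n9806 = n7661 := d17_1 D9806 (iv D7661) D7660
def n9807 : Q := act 4 n7663
theorem D9807 : act 4 n7663 = n9807 := rfl
theorem F32590 : act 1 n9807 = n7664 := d9_1 D9807 (iv D7664) D7663
theorem F32591 : act 2 n9807 = n7779 := d14_1 D9807 (iv D7779) (iv F25714)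
def n9809 : Q := act 3 n7664
theorem D9809 : act 3 n7664 = n9809 := rfl
def n9815 : Q := act 6 n7668
theorem D9815 : act 6 n7668 = n9815 := rfl
def n9849 : Q := act 2 n7693
theorem D9849 : act 2 n7693 = n9849 := rfl
theorem F32710 : act 6 n9849 = n7821 := d16_2 D7693 D9849 (iv D7821) (iv D6101) (iv F20375)
def n9883 : Q := act 5 n7720
theorem D9883 : act 5 n7720 = n9883 := rfl
theorem F32807 : act 1 n9883 = n7725 := d10_1 D9883 (iv D7725) (iv F25877)
def n9890 : Q := act 4 n7725
theorem D9890 : act 4 n7725 = n9890 := rfl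
theorem F32827 : act 2 n9890 = n8046 := d14_1 D9890 (iv D8046) (iv F25893)
def n9904 : Q := act 2 n7736
theorem D9904 : act 2 n7736 = n9904 := rfl
theorem F32870 : act 5 n9904 = n7737 := d15_2 (iv F25927) D9904 (iv D7737)
def n9906 : Q := act 3 n7737
theorem D9906 : act 3 n7737 = n9906 := rfl
def n9910 : Q := act 6 n7740
theorem D9910 : act 6 n7740 = n9910 := rfl
theorem F32882 : act 2 n9910 = n8543 := d16_1 D9910 (iv D8543) F22469 (iv F20485) (iv F25935)
def n9911 : Q := act 6 n7741
theorem D9911 : act 6 n7741 = n9911 := rfl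
def n9923 : Q := act 2 n7751
theorem D9923 : act 2 n7751 = n9923 := rfl
def n9924 : Q := act 7 n7751
theorem D9924 : act 7 n7751 = n9924 := rfl
theorem F32921 : act 3 n9924 = n8080 := d21_1 D9924 (iv D8080) (iv F25966)
theorem F32924 : act 6 n9924 = n8557 := d27_1 D9924 (iv D8557) (iv D6677) (iv F20514) D7751
def n9947 : Q := act 4 n7771
theorem D9947 : act 4 n7771 = n9947 := rfl
theorem F32990 : act 0 n9947 = n8103 := d3_1 D9947 (iv D8103) (iv F26026)
def n9948 : Q := act 6 n7771
theorem D9948 : act 6 n7771 = n9948 := rfl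
theorem F32994 : act 1 n9948 = n7773 := d11_1 D9948 (iv D7773) D7771
def n9949 : Q := act 3 n7772
theorem D9949 : act 3 n7772 = n9949 := rfl
theorem F32997 : act 0 n9949 = n7775 := d2_1 D9949 (iv D7775) (iv F26030)
def n9950 : Q := act 5 n7772
theorem D9950 : act 5 n7772 = n9950 := rfl
theorem F33002 : act 2 n9950 = n7774 := d15_1 D9950 (iv D7774) (iv F26031)
def n9951 : Q := act 6 n7772
theorem D9951 : act 6 n7772 = n9951 := rfl
def n9953 : Q := act 5 n7775
theorem D9953 : act 5 n7775 = n9953 := rfl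
theorem F33011 : act 1 n9953 = n8109 := d10_1 D9953 (iv D8109) (iv F26040)
def n9954 : Q := act 6 n7775
theorem D9954 : act 6 n7775 = n9954 := rfl
theorem F33015 : act 1 n9954 = n8110 := d11_1 D9954 (iv D8110) (iv F26040)
def n9957 : Q := act 3 n7779
theorem D9957 : act 3 n7779 = n9957 := rfl
theorem F33024 : act 0 n9957 = n7803 := d2_1 D9957 (iv D7803) (iv F26054)
def n9958 : Q := act 5 n7779
theorem D9958 : act 5 n7779 = n9958 := rfl
theorem F33028 : act 0 n9958 = n7804 := d4_1 D9958 (iv D7804) (iv F26054)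
def n9960 : Q := act 2 n7780
theorem D9960 : act 2 n7780 = n9960 := rfl
theorem F33035 : act 0 n9960 = n7806 := d1_1 D9960 (iv D7806) (iv F26057)
def n9975 : Q := act 2 n7791
theorem D9975 : act 2 n7791 = n9975 := rfl
theorem F33085 : act 0 n9975 = n7821 := d1_1 D9975 (iv D7821) (iv F26093)
theorem F33086 : act 4 n9975 = n7792 := d14_2 (iv F26095) D9975 (iv D7792)
def n9977 : Q := act 3 n7792
theorem D9977 : act 3 n7792 = n9977 := rfl
theorem F33091 : act 0 n9977 = n7823 := d2_1 D9977 (iv D7823) (iv F26096)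
def n9978 : Q := act 7 n7792
theorem D9978 : act 7 n7792 = n9978 := rfl
theorem F33093 : act 0 n9978 = n7824 := d6_1 D9978 (iv D7824) (iv F26096)
def n9988 : Q := act 2 n7803
theorem D9988 : act 2 n7803 = n9988 := rfl
theorem F33125 : act 1 n9988 = n8144 := d7_1 D9988 (iv D8144) F21499 (iv F20647) (iv F26130)
def n9995 : Q := act 7 n7806
theorem D9995 : act 7 n7806 = n9995 := rfl
def n9996 : Q := act 4 n7808
theorem D9996 : act 4 n7808 = n9996 := rfl
theorem F33149 : act 2 n9996 = n8152 := d14_1 D9996 (iv D8152) (iv F26145)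
theorem F33150 : act 3 n9996 = n7825 := d18_1 D9996 (iv D7825) F20686 (iv F20652) (iv F26146)
def n10014 : Q := act 3 n7821
theorem D10014 : act 3 n7821 = n10014 := rfl
theorem F33206 : act 1 n10014 = n7852 := d8_1 D10014 (iv D7852) (iv F26186)
def n10015 : Q := act 7 n7821
theorem D10015 : act 7 n7821 = n10015 := rfl
theorem F33207 : act 1 n10015 = n7853 := d12_1 D10015 (iv D7853) (iv F26186)
def n10016 : Q := act 4 n7823
theorem D10016 : act 4 n7823 = n10016 := rfl
def n10018 : Q := act 6 n7824
theorem D10018 : act 6 n7824 = n10018 := rfl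
def n10030 : Q := act 2 n7837
theorem D10030 : act 2 n7837 = n10030 := rfl
theorem F33257 : act 5 n10030 = n7838 := d15_2 (iv F26243) D10030 (iv D7838)
def n10032 : Q := act 3 n7838
theorem D10032 : act 3 n7838 = n10032 := rfl
def n10034 : Q := act 4 n7840
theorem D10034 : act 4 n7840 = n10034 := rfl
theorem F33264 : act 2 n10034 = n7862 := d14_1 D10034 (iv D7862) (iv F26248)
def n10035 : Q := act 7 n7840
theorem D10035 : act 7 n7840 = n10035 := rfl
theorem F33265 : act 2 n10035 = n7863 := d17_1 D10035 (iv D7863) (iv F26248)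
def n10036 : Q := act 6 n7841
theorem D10036 : act 6 n7841 = n10036 := rfl
theorem F33268 : act 2 n10036 = n8591 := d16_1 D10036 (iv D8591) F22584 (iv F20737) (iv F26250)
def n10062 : Q := act 5 n7862
theorem D10062 : act 5 n7862 = n10062 := rfl
def n10063 : Q := act 7 n7862
theorem D10063 : act 7 n7862 = n10063 := rfl
def n10064 : Q := act 6 n7863
theorem D10064 : act 6 n7863 = n10064 := rfl
def n10119 : Q := act 6 n7904
theorem D10119 : act 6 n7904 = n10119 := rfl
theorem F33543 : act 0 n10119 = n7926 := d5_1 D10119 (iv D7926) (iv F26454)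
theorem F33545 : act 4 n10119 = n7905 := d23_1 D10119 (iv D7905) D7904
def n10120 : Q := act 2 n7905
theorem D10120 : act 2 n7905 = n10120 := rfl
def n10136 : Q := act 5 n7916
theorem D10136 : act 5 n7916 = n10136 := rfl
theorem F33597 : act 3 n10136 = n7917 := d19_1 D10136 (iv D7917) D7916
def n10137 : Q := act 6 n7916
theorem D10137 : act 6 n7916 = n10137 := rfl
theorem F33601 : act 4 n10137 = n7993 := d23_1 D10137 (iv D7993) (iv F26492)
def n10140 : Q := act 4 n7920
theorem D10140 : act 4 n7920 = n10140 := rfl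
theorem F33610 : act 3 n10140 = n7933 := d18_1 D10140 (iv D7933) F20980 (iv F20952) (iv F26506)
def n10141 : Q := act 6 n7920
theorem D10141 : act 6 n7920 = n10141 := rfl
theorem F33614 : act 5 n10141 = n7921 := d25_1 D10141 (iv D7921) D7920
def n10142 : Q := act 2 n7921
theorem D10142 : act 2 n7921 = n10142 := rfl
def n10144 : Q := act 7 n7922
theorem D10144 : act 7 n7922 = n10144 := rfl
theorem F33621 : act 4 n10144 = n7937 := d24_1 D10144 (iv D7937) (iv F26511)
theorem F33622 : act 5 n10144 = n7923 := d26_1 D10144 (iv D7923) (iv F26512)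
def n10147 : Q := act 6 n7924
theorem D10147 : act 6 n7924 = n10147 := rfl
theorem F33631 : act 1 n10147 = n7930 := d11_1 D10147 (iv D7930) (iv F26516)
theorem F33632 : act 3 n10147 = n7926 := d20_1 D10147 (iv D7926) D7924
theorem F33633 : act 4 n10147 = n8003 := d23_1 D10147 (iv D8003) (iv F26517)
def n10149 : Q := act 2 n7926
theorem D10149 : act 2 n7926 = n10149 := rfl
def n10153 : Q := act 4 n7929
theorem D10153 : act 4 n7929 = n10153 := rfl
theorem F33648 : act 2 n10153 = n7945 := d14_1 D10153 (iv D7945) (iv F26530)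
def n10155 : Q := act 2 n7930
theorem D10155 : act 2 n7930 = n10155 := rfl
theorem F33657 : act 6 n10155 = n7947 := d16_2 D7930 D10155 (iv D7947) (iv D6201) (iv F20966)
def n10158 : Q := act 6 n7933
theorem D10158 : act 6 n7933 = n10158 := rfl
def n10159 : Q := act 2 n7934
theorem D10159 : act 2 n7934 = n10159 := rfl
theorem F33670 : act 6 n10159 = n7951 := d16_2 D7934 D10159 (iv D7951) (iv D6205) (iv F20979)
def n10160 : Q := act 7 n7934
theorem D10160 : act 7 n7934 = n10160 := rfl
theorem F33671 : act 3 n10160 = n7937 := d21_1 D10160 (iv D7937) (iv F26546)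
def n10162 : Q := act 7 n7935
theorem D10162 : act 7 n7935 = n10162 := rfl
theorem F33677 : act 2 n10162 = n7936 := d17_1 D10162 (iv D7936) D7935
def n10163 : Q := act 5 n7938
theorem D10163 : act 5 n7938 = n10163 := rfl
theorem F33681 : act 2 n10163 = n7939 := d15_1 D10163 (iv D7939) D7938
def n10164 : Q := act 6 n7938
theorem D10164 : act 6 n7938 = n10164 := rfl
theorem F33686 : act 4 n10164 = n8020 := d23_1 D10164 (iv D8020) (iv F26559)
def n10166 : Q := act 6 n7939
theorem D10166 : act 6 n7939 = n10166 := rfl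
theorem F33694 : act 5 n10166 = n7940 := d25_1 D10166 (iv D7940) D7939
def n10167 : Q := act 2 n7940
theorem D10167 : act 2 n7940 = n10167 := rfl
theorem F33696 : act 4 n10167 = n8023 := d14_2 (iv F26568) D10167 (iv D8023)
def n10168 : Q := act 7 n7940
theorem D10168 : act 7 n7940 = n10168 := rfl
theorem F33698 : act 1 n10168 = n7948 := d12_1 D10168 (iv D7948) (iv F26566)
theorem F33699 : act 3 n10168 = n7943 := d21_1 D10168 (iv D7943) (iv F26567)
def n10174 : Q := act 6 n7945
theorem D10174 : act 6 n7945 = n10174 := rfl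
theorem F33724 : act 4 n10174 = n7946 := d23_1 D10174 (iv D7946) D7945
def n10175 : Q := act 2 n7946
theorem D10175 : act 2 n7946 = n10175 := rfl
theorem F33728 : act 5 n10175 = n7947 := d15_2 (iv F26589) D10175 (iv D7947)
def n10177 : Q := act 1 n7947
theorem D10177 : act 1 n7947 = n10177 := rfl
def n10178 : Q := act 7 n7947
theorem D10178 : act 7 n7947 = n10178 := rfl
theorem F33735 : act 0 n10178 = n7954 := d6_1 D10178 (iv D7954) (iv F26590)
def n10179 : Q := act 2 n7950
theorem D10179 : act 2 n7950 = n10179 := rfl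
theorem F33739 : act 4 n10179 = n7951 := d14_2 (iv F26602) D10179 (iv D7951)
def n10182 : Q := act 7 n7951
theorem D10182 : act 7 n7951 = n10182 := rfl
theorem F33750 : act 5 n10182 = n7954 := d26_1 D10182 (iv D7954) (iv F26605)
def n10185 : Q := act 6 n7954
theorem D10185 : act 6 n7954 = n10185 := rfl
def n10210 : Q := act 2 n7973
theorem D10210 : act 2 n7973 = n10210 := rfl
theorem F33837 : act 0 n10210 = n8001 := d1_1 D10210 (iv D8001) (iv F26674)
theorem F33839 : act 3 n10210 = n8127 := d13_2 D7973 D10210 (iv D8127) (iv D6340) (iv F21084)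
def n10212 : Q := act 6 n7973
theorem D10212 : act 6 n7973 = n10212 := rfl
theorem F33846 : act 1 n10212 = n7979 := d11_1 D10212 (iv D7979) (iv F26675)
theorem F33847 : act 3 n10212 = n7975 := d20_1 D10212 (iv D7975) D7973
def n10213 : Q := act 6 n7974
theorem D10213 : act 6 n7974 = n10213 := rfl
theorem F33849 : act 1 n10213 = n7980 := d11_1 D10213 (iv D7980) (iv F26678)
def n10214 : Q := act 2 n7975
theorem D10214 : act 2 n7975 = n10214 := rfl
theorem F33854 : act 6 n10214 = n8131 := d16_2 D7975 D10214 (iv D8131) (iv D6342) (iv F21084)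
def n10216 : Q := act 3 n7976
theorem D10216 : act 3 n7976 = n10216 := rfl
theorem F33861 : act 6 n10216 = n8133 := d20_2 (iv F26686) D10216 (iv D8133)
def n10220 : Q := act 2 n7979
theorem D10220 : act 2 n7979 = n10220 := rfl
theorem F33871 : act 0 n10220 = n7984 := d1_1 D10220 (iv D7984) (iv F26694)
def n10223 : Q := act 6 n7982
theorem D10223 : act 6 n7982 = n10223 := rfl
theorem F33882 : act 4 n10223 = n7983 := d23_1 D10223 (iv D7983) D7982
def n10224 : Q := act 2 n7983
theorem D10224 : act 2 n7983 = n10224 := rfl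
theorem F33884 : act 5 n10224 = n7984 := d15_2 (iv F26708) D10224 (iv D7984)
def n10226 : Q := act 1 n7984
theorem D10226 : act 1 n7984 = n10226 := rfl
theorem F33890 : act 2 n10226 = n8017 := d7_2 D7984 D10226 (iv D8017) (iv D6253) (iv F21104)
def n10230 : Q := act 6 n7987
theorem D10230 : act 6 n7987 = n10230 := rfl
theorem F33900 : act 1 n10230 = n7993 := d11_1 D10230 (iv D7993) (iv F26718)
theorem F33901 : act 3 n10230 = n7989 := d20_1 D10230 (iv D7989) D7987
def n10232 : Q := act 2 n7989
theorem D10232 : act 2 n7989 = n10232 := rfl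
theorem F33907 : act 6 n10232 = n8148 := d16_2 D7989 D10232 (iv D8148) (iv D6356) (iv F21114)
def n10233 : Q := act 7 n7989
theorem D10233 : act 7 n7989 = n10233 := rfl
theorem F33908 : act 1 n10233 = n7995 := d12_1 D10233 (iv D7995) (iv F26724)
def n10238 : Q := act 2 n7993
theorem D10238 : act 2 n7993 = n10238 := rfl
theorem F33923 : act 0 n10238 = n7998 := d1_1 D10238 (iv D7998) (iv F26735)
def n10239 : Q := act 7 n7993
theorem D10239 : act 7 n7993 = n10239 := rfl
theorem F33926 : act 3 n10239 = n7995 := d21_1 D10239 (iv D7995) (iv F26736)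
def n10241 : Q := act 6 n7996
theorem D10241 : act 6 n7996 = n10241 := rfl
theorem F33933 : act 3 n10241 = n8014 := d20_1 D10241 (iv D8014) (iv F26745)
theorem F33934 : act 4 n10241 = n7997 := d23_1 D10241 (iv D7997) D7996
def n10242 : Q := act 2 n7997
theorem D10242 : act 2 n7997 = n10242 := rfl
theorem F33935 : act 3 n10242 = n8052 := d13_2 (iv F26747) D10242 (iv D8052) F21257 (iv F21134)
def n10245 : Q := act 7 n7998
theorem D10245 : act 7 n7998 = n10245 := rfl
theorem F33941 : act 2 n10245 = n7999 := d17_1 D10245 (iv D7999) D7998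
def n10246 : Q := act 5 n8001
theorem D10246 : act 5 n8001 = n10246 := rfl
theorem F33943 : act 1 n10246 = n8019 := d10_1 D10246 (iv D8019) (iv F26756)
theorem F33945 : act 3 n10246 = n8162 := d19_1 D10246 (iv D8162) (iv F26757)
def n10247 : Q := act 6 n8001
theorem D10247 : act 6 n8001 = n10247 := rfl
theorem F33947 : act 1 n10247 = n8020 := d11_1 D10247 (iv D8020) (iv F26756)
theorem F33948 : act 3 n10247 = n8163 := d20_1 D10247 (iv D8163) (iv F26757)
def n10249 : Q := act 6 n8002
theorem D10249 : act 6 n8002 = n10249 := rfl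
theorem F33951 : act 1 n10249 = n8010 := d11_1 D10249 (iv D8010) (iv F26759)
theorem F33952 : act 3 n10249 = n8004 := d20_1 D10249 (iv D8004) (iv F26760)
def n10250 : Q := act 2 n8003
theorem D10250 : act 2 n8003 = n10250 := rfl
def n10252 : Q := act 2 n8004
theorem D10252 : act 2 n8004 = n10252 := rfl
theorem F33959 : act 6 n10252 = n8168 := d16_2 D8004 D10252 (iv D8168) (iv D6371) (iv F21143)
def n10254 : Q := act 3 n8005
theorem D10254 : act 3 n8005 = n10254 := rfl
theorem F33964 : act 6 n10254 = n8170 := d20_2 (iv F26768) D10254 (iv D8170)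
def n10260 : Q := act 2 n8010
theorem D10260 : act 2 n8010 = n10260 := rfl
theorem F33980 : act 6 n10260 = n8027 := d16_2 D8010 D10260 (iv D8027) (iv D6262) (iv F21152)
def n10262 : Q := act 1 n8011
theorem D10262 : act 1 n8011 = n10262 := rfl
theorem F33986 : act 6 n10262 = n8029 := d11_2 (iv F26784) D10262 (iv D8029)
def n10264 : Q := act 2 n8014
theorem D10264 : act 2 n8014 = n10264 := rfl
theorem F33991 : act 6 n10264 = n8031 := d16_2 D8014 D10264 (iv D8031) (iv D6266) (iv F21164)
def n10266 : Q := act 1 n8015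
theorem D10266 : act 1 n8015 = n10266 := rfl
theorem F33994 : act 3 n10266 = n8074 := d8_2 (iv F26793) D10266 (iv D8074)
theorem F33996 : act 6 n10266 = n8033 := d11_2 (iv F26795) D10266 (iv D8033)
def n10268 : Q := act 0 n8017
theorem D10268 : act 0 n8017 = n10268 := rfl
theorem F34001 : act 6 n10268 = n8035 := d5_2 (iv F26800) D10268 (iv D8035)
def n10271 : Q := act 4 n8019
theorem D10271 : act 4 n8019 = n10271 := rfl
def n10272 : Q := act 6 n8019
theorem D10272 : act 6 n8019 = n10272 := rfl
theorem F34011 : act 3 n10272 = n8179 := d20_1 D10272 (iv D8179) (iv F26805)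
def n10273 : Q := act 2 n8020
theorem D10273 : act 2 n8020 = n10273 := rfl
theorem F34015 : act 6 n10273 = n8023 := d16_2 D8020 D10273 (iv D8023) (iv D6258) D6256
def n10274 : Q := act 7 n8020
theorem D10274 : act 7 n8020 = n10274 := rfl
def n10276 : Q := act 2 n8022
theorem D10276 : act 2 n8022 = n10276 := rfl
theorem F34024 : act 5 n10276 = n8023 := d15_2 (iv F26815) D10276 (iv D8023)
def n10277 : Q := act 7 n8022
theorem D10277 : act 7 n8022 = n10277 := rfl
theorem F34026 : act 1 n10277 = n8028 := d12_1 D10277 (iv D8028) (iv F26813)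
def n10278 : Q := act 1 n8023
theorem D10278 : act 1 n8023 = n10278 := rfl
theorem F34030 : act 2 n10278 = n8029 := d7_2 D8023 D10278 (iv D8029) (iv D6263) (iv F21183)
def n10279 : Q := act 7 n8023
theorem D10279 : act 7 n8023 = n10279 := rfl
theorem F34033 : act 2 n10279 = n8024 := d17_1 D10279 (iv D8024) D8023
def n10282 : Q := act 1 n8027
theorem D10282 : act 1 n8027 = n10282 := rfl
theorem F34041 : act 5 n10282 = n8029 := d10_2 (iv F26831) D10282 (iv D8029)
def n10284 : Q := act 0 n8029
theorem D10284 : act 0 n8029 = n10284 := rfl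
theorem F34046 : act 1 n10284 = n8035 := d0_2 D8029 D10284 (iv D8035) (iv D6269) (iv F21199)
def n10285 : Q := act 7 n8029
theorem D10285 : act 7 n8029 = n10285 := rfl
theorem F34048 : act 1 n10285 = n8030 := d12_1 D10285 (iv D8030) D8029
theorem F34049 : act 3 n10285 = n8084 := d21_1 D10285 (iv D8084) (iv F26836)
def n10288 : Q := act 3 n8031
theorem D10288 : act 3 n8031 = n10288 := rfl
def n10289 : Q := act 7 n8031
theorem D10289 : act 7 n8031 = n10289 := rfl
theorem F34057 : act 4 n10289 = n8034 := d24_1 D10289 (iv D8034) (iv F26840)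
def n10290 : Q := act 0 n8033
theorem D10290 : act 0 n8033 = n10290 := rfl
theorem F34060 : act 5 n10290 = n8035 := d4_2 (iv F26846) D10290 (iv D8035)
def n10291 : Q := act 7 n8033
theorem D10291 : act 7 n8033 = n10291 := rfl
theorem F34064 : act 5 n10291 = n8036 := d26_1 D10291 (iv D8036) (iv F26846)
def n10293 : Q := act 7 n8035
theorem D10293 : act 7 n8035 = n10293 := rfl
theorem F34068 : act 0 n10293 = n8036 := d6_1 D10293 (iv D8036) D8035
theorem F34070 : act 3 n10293 = n8092 := d21_1 D10293 (iv D8092) (iv F26851)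
def n10304 : Q := act 7 n8042
theorem D10304 : act 7 n8042 = n10304 := rfl
theorem F34108 : act 2 n10304 = n8043 := d17_1 D10304 (iv D8043) D8042
def n10307 : Q := act 6 n8045
theorem D10307 : act 6 n8045 = n10307 := rfl
theorem F34120 : act 7 n10307 = n8192 := d27_2 D8045 D10307 (iv D8192) (iv D6392) (iv F21234)
def n10313 : Q := act 2 n8051
theorem D10313 : act 2 n8051 = n10313 := rfl
theorem F34135 : act 4 n10313 = n8052 := d14_2 (iv F26906) D10313 (iv D8052)
def n10321 : Q := act 2 n8057
theorem D10321 : act 2 n8057 = n10321 := rfl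
def n10323 : Q := act 1 n8058
theorem D10323 : act 1 n8058 = n10323 := rfl
theorem F34165 : act 2 n10323 = n8070 := d7_2 D8058 D10323 (iv D8070) (iv D6294) (iv F21274)
def n10324 : Q := act 3 n8058
theorem D10324 : act 3 n8058 = n10324 := rfl
theorem F34169 : act 2 n10324 = n8062 := d13_1 D10324 (iv D8062) (iv D6288) (iv F21275) D8058
def n10326 : Q := act 3 n8060
theorem D10326 : act 3 n8060 = n10326 := rfl
theorem F34176 : act 6 n10326 = n8202 := d20_2 (iv F26936) D10326 (iv D8202)
def n10329 : Q := act 7 n8062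
theorem D10329 : act 7 n8062 = n10329 := rfl
def n10336 : Q := act 1 n8068
theorem D10336 : act 1 n8068 = n10336 := rfl
theorem F34207 : act 6 n10336 = n8081 := d11_2 (iv F26960) D10336 (iv D8081)
def n10339 : Q := act 7 n8070
theorem D10339 : act 7 n8070 = n10339 := rfl
def n10341 : Q := act 1 n8072
theorem D10341 : act 1 n8072 = n10341 := rfl
theorem F34221 : act 4 n10341 = n8074 := d9_2 (iv F26970) D10341 (iv D8074)
theorem F34223 : act 6 n10341 = n8086 := d11_2 (iv F26972) D10341 (iv D8086)
def n10342 : Q := act 3 n8072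
theorem D10342 : act 3 n8072 = n10342 := rfl
theorem F34225 : act 6 n10342 = n8087 := d20_2 (iv F26972) D10342 (iv D8087)
def n10343 : Q := act 7 n8072
theorem D10343 : act 7 n8072 = n10343 := rfl
theorem F34226 : act 2 n10343 = n8073 := d17_1 D10343 (iv D8073) D8072
def n10344 : Q := act 0 n8074
theorem D10344 : act 0 n8074 = n10344 := rfl
theorem F34231 : act 6 n10344 = n8089 := d5_2 (iv F26979) D10344 (iv D8089)
def n10345 : Q := act 7 n8074
theorem D10345 : act 7 n8074 = n10345 := rfl
theorem F34232 : act 1 n10345 = n8075 := d12_1 D10345 (iv D8075) D8074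
def n10346 : Q := act 6 n8075
theorem D10346 : act 6 n8075 = n10346 := rfl
theorem F34235 : act 2 n10346 = n8679 := d16_1 D10346 (iv D8679) F22805 (iv F21317) (iv F26980)
def n10353 : Q := act 7 n8081
theorem D10353 : act 7 n8081 = n10353 := rfl
theorem F34258 : act 5 n10353 = n8084 := d26_1 D10353 (iv D8084) (iv F27000)
def n10354 : Q := act 6 n8082
theorem D10354 : act 6 n8082 = n10354 := rfl
theorem F34260 : act 2 n10354 = n8687 := d16_1 D10354 (iv D8687) F22830 (iv F21333) (iv F27002)
def n10356 : Q := act 6 n8084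
theorem D10356 : act 6 n8084 = n10356 := rfl
def n10357 : Q := act 0 n8086
theorem D10357 : act 0 n8086 = n10357 := rfl
theorem F34268 : act 2 n10357 = n8094 := d1_2 (iv F27013) D10357 (iv D8094)
theorem F34269 : act 4 n10357 = n8089 := d3_2 (iv F27014) D10357 (iv D8089)
def n10359 : Q := act 7 n8086
theorem D10359 : act 7 n8086 = n10359 := rfl
theorem F34275 : act 4 n10359 = n8090 := d24_1 D10359 (iv D8090) (iv F27014)
def n10360 : Q := act 7 n8087
theorem D10360 : act 7 n8087 = n10360 := rfl
theorem F34277 : act 3 n10360 = n8088 := d21_1 D10360 (iv D8088) D8087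
def n10361 : Q := act 6 n8088
theorem D10361 : act 6 n8088 = n10361 := rfl
theorem F34279 : act 2 n10361 = n8694 := d16_1 D10361 (iv D8694) F22849 (iv F21344) (iv F27017)
def n10362 : Q := act 7 n8089
theorem D10362 : act 7 n8089 = n10362 := rfl
theorem F34284 : act 5 n10362 = n8092 := d26_1 D10362 (iv D8092) (iv F27021)
def n10363 : Q := act 6 n8090
theorem D10363 : act 6 n8090 = n10363 := rfl
theorem F34285 : act 1 n10363 = n8091 := d11_1 D10363 (iv D8091) (iv F27022)
def n10364 : Q := act 6 n8092
theorem D10364 : act 6 n8092 = n10364 := rfl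
def n10365 : Q := act 2 n8093
theorem D10365 : act 2 n8093 = n10365 := rfl
theorem F34289 : act 1 n10365 = n8698 := d7_1 D10365 (iv D8698) F22865 (iv F21354) (iv F27030)
def n10367 : Q := act 7 n8094
theorem D10367 : act 7 n8094 = n10367 := rfl
theorem F34299 : act 4 n10367 = n8099 := d24_1 D10367 (iv D8099) (iv F27033)
def n10374 : Q := act 2 n8101
theorem D10374 : act 2 n8101 = n10374 := rfl
def n10376 : Q := act 3 n8103
theorem D10376 : act 3 n8103 = n10376 := rfl
theorem F34330 : act 1 n10376 = n8105 := d8_1 D10376 (iv D8105) (iv F27068)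
def n10381 : Q := act 5 n8105
theorem D10381 : act 5 n8105 = n10381 := rfl
theorem F34345 : act 2 n10381 = n8118 := d15_1 D10381 (iv D8118) (iv F27074)
def n10382 : Q := act 6 n8105
theorem D10382 : act 6 n8105 = n10382 := rfl
def n10387 : Q := act 2 n8110
theorem D10387 : act 2 n8110 = n10387 := rfl
theorem F34367 : act 6 n10387 = n8124 := d16_2 D8110 D10387 (iv D8124) (iv D6337) (iv F21402)
def n10399 : Q := act 6 n8118
theorem D10399 : act 6 n8118 = n10399 := rfl
theorem F34410 : act 3 n10399 = n8120 := d20_1 D10399 (iv D8120) (iv F27120)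
def n10400 : Q := act 2 n8119
theorem D10400 : act 2 n8119 = n10400 := rfl
def n10401 : Q := act 7 n8119
theorem D10401 : act 7 n8119 = n10401 := rfl
theorem F34416 : act 3 n10401 = n8121 := d21_1 D10401 (iv D8121) (iv F27123)
def n10402 : Q := act 7 n8120
theorem D10402 : act 7 n8120 = n10402 := rfl
theorem F34421 : act 4 n10402 = n8139 := d24_1 D10402 (iv D8139) (iv F27127)
def n10405 : Q := act 7 n8123
theorem D10405 : act 7 n8123 = n10405 := rfl
theorem F34431 : act 3 n10405 = n8126 := d21_1 D10405 (iv D8126) (iv F27138)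
def n10407 : Q := act 7 n8124
theorem D10407 : act 7 n8124 = n10407 := rfl
theorem F34437 : act 2 n10407 = n8125 := d17_1 D10407 (iv D8125) D8124
def n10409 : Q := act 6 n8127
theorem D10409 : act 6 n8127 = n10409 := rfl
theorem F34446 : act 4 n10409 = n10409 := d23_1 D10409 (iv D10409) F27153
def n10412 : Q := act 2 n8129
theorem D10412 : act 2 n8129 = n10412 := rfl
theorem F34455 : act 0 n10412 = n8166 := d1_1 D10412 (iv D8166) (iv F27159)
def n10413 : Q := act 7 n8129
theorem D10413 : act 7 n8129 = n10413 := rfl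
theorem F34457 : act 0 n10413 = n8167 := d6_1 D10413 (iv D8167) (iv F27159)
theorem F34458 : act 1 n10413 = n8138 := d12_1 D10413 (iv D8138) (iv F27160)
theorem F34459 : act 3 n10413 = n8132 := d21_1 D10413 (iv D8132) (iv F27161)
def n10414 : Q := act 2 n8130
theorem D10414 : act 2 n8130 = n10414 := rfl
theorem F34464 : act 5 n10414 = n8131 := d15_2 (iv F27165) D10414 (iv D8131)
def n10416 : Q := act 3 n8131
theorem D10416 : act 3 n8131 = n10416 := rfl
def n10417 : Q := act 7 n8131
theorem D10417 : act 7 n8131 = n10417 := rfl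
theorem F34473 : act 2 n10417 = n8132 := d17_1 D10417 (iv D8132) D8131
theorem F34474 : act 4 n10417 = n8134 := d24_1 D10417 (iv D8134) (iv F27168)
def n10419 : Q := act 7 n8133
theorem D10419 : act 7 n8133 = n10419 := rfl
theorem F34481 : act 3 n10419 = n8134 := d21_1 D10419 (iv D8134) D8133
def n10424 : Q := act 1 n8137
theorem D10424 : act 1 n8137 = n10424 := rfl
def n10435 : Q := act 7 n8146
theorem D10435 : act 7 n8146 = n10435 := rfl
theorem F34533 : act 3 n10435 = n8149 := d21_1 D10435 (iv D8149) (iv F27219)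
def n10438 : Q := act 3 n8148
theorem D10438 : act 3 n8148 = n10438 := rfl
def n10439 : Q := act 7 n8148
theorem D10439 : act 7 n8148 = n10439 := rfl
theorem F34546 : act 4 n10439 = n8151 := d24_1 D10439 (iv D8151) (iv F27225)
def n10443 : Q := act 6 n8152
theorem D10443 : act 6 n8152 = n10443 := rfl
theorem F34557 : act 3 n10443 = n8175 := d20_1 D10443 (iv D8175) (iv F27236)
def n10456 : Q := act 6 n8162
theorem D10456 : act 6 n8162 = n10456 := rfl
theorem F34597 : act 1 n10456 = n8179 := d11_1 D10456 (iv D8179) (iv F27267)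
def n10457 : Q := act 2 n8163
theorem D10457 : act 2 n8163 = n10457 := rfl
theorem F34601 : act 6 n10457 = n8166 := d16_2 D8163 D10457 (iv D8166) (iv D6370) D6368
def n10460 : Q := act 2 n8165
theorem D10460 : act 2 n8165 = n10460 := rfl
theorem F34609 : act 5 n10460 = n8166 := d15_2 (iv F27277) D10460 (iv D8166)
def n10461 : Q := act 7 n8165
theorem D10461 : act 7 n8165 = n10461 := rfl
theorem F34612 : act 5 n10461 = n8167 := d26_1 D10461 (iv D8167) (iv F27277)
def n10462 : Q := act 3 n8166
theorem D10462 : act 3 n8166 = n10462 := rfl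
theorem F34615 : act 2 n10462 = n8170 := d13_1 D10462 (iv D8170) (iv D6372) (iv F21548) D8166
def n10463 : Q := act 7 n8166
theorem D10463 : act 7 n8166 = n10463 := rfl
def n10464 : Q := act 3 n8168
theorem D10464 : act 3 n8168 = n10464 := rfl
theorem F34620 : act 5 n10464 = n8170 := d19_2 (iv F27285) D10464 (iv D8170)
def n10467 : Q := act 7 n8170
theorem D10467 : act 7 n8170 = n10467 := rfl
theorem F34626 : act 1 n10467 = n8205 := d12_1 D10467 (iv D8205) (iv F27289)
def n10473 : Q := act 3 n8178
theorem D10473 : act 3 n8178 = n10473 := rfl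
def n10474 : Q := act 6 n8178
theorem D10474 : act 6 n8178 = n10474 := rfl
theorem F34648 : act 4 n10474 = n8179 := d23_1 D10474 (iv D8179) D8178
def n10488 : Q := act 6 n8189
theorem D10488 : act 6 n8189 = n10488 := rfl
def n10490 : Q := act 7 n8190
theorem D10490 : act 7 n8190 = n10490 := rfl
theorem F34697 : act 4 n10490 = n8191 := d24_1 D10490 (iv D8191) D8190
def n10503 : Q := act 7 n8202
theorem D10503 : act 7 n8202 = n10503 := rfl
theorem F34734 : act 5 n10503 = n8205 := d26_1 D10503 (iv D8205) (iv F27390)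
def n10504 : Q := act 6 n8203
theorem D10504 : act 6 n8203 = n10504 := rfl
theorem F34736 : act 2 n10504 = n8737 := d16_1 D10504 (iv D8737) F22980 (iv F21655) (iv F27392)
def n10507 : Q := act 6 n8205
theorem D10507 : act 6 n8205 = n10507 := rfl
def n10525 : Q := act 2 n8220
theorem D10525 : act 2 n8220 = n10525 := rfl
theorem F34806 : act 5 n10525 = n8228 := d15_2 (iv F27449) D10525 (iv D8228)
def n10533 : Q := act 4 n8229
theorem D10533 : act 4 n8229 = n10533 := rfl
theorem F34832 : act 0 n10533 = n10533 := d3_1 D10533 (iv D10533) F27480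
theorem F34833 : act 1 n10533 = n8230 := d9_1 D10533 (iv D8230) D8229
theorem F34834 : act 2 n10533 = n10533 := d14_1 D10533 (iv D10533) F27481
def n10534 : Q := act 6 n8229
theorem D10534 : act 6 n8229 = n10534 := rfl
theorem F34835 : act 0 n10534 = n10534 := d5_1 D10534 (iv D10534) F27480
theorem F34836 : act 1 n10534 = n8231 := d11_1 D10534 (iv D8231) D8229
theorem F34837 : act 3 n10534 = n8296 := d20_1 D10534 (iv D8296) (iv F27482)
theorem F34838 : act 5 n10534 = n8246 := d25_1 D10534 (iv D8246) (iv F27483)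
def n10535 : Q := act 3 n8230
theorem D10535 : act 3 n8230 = n10535 := rfl
theorem F34839 : act 0 n10535 = n8233 := d2_1 D10535 (iv D8233) (iv F27484)
theorem F34841 : act 4 n10535 = n8297 := d18_2 D8230 D10535 (iv D8297) (iv D6471) (iv F21728)
def n10536 : Q := act 5 n8230
theorem D10536 : act 5 n8230 = n10536 := rfl
def n10537 : Q := act 6 n8230
theorem D10537 : act 6 n8230 = n10537 := rfl
theorem F34847 : act 4 n10537 = n8231 := d23_1 D10537 (iv D8231) D8230
def n10540 : Q := act 6 n8233
theorem D10540 : act 6 n8233 = n10540 := rfl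
theorem F34857 : act 4 n10540 = n8302 := d23_1 D10540 (iv D8302) (iv F27497)
def n10543 : Q := act 4 n8237
theorem D10543 : act 4 n8237 = n10543 := rfl
theorem F34866 : act 1 n10543 = n8238 := d9_1 D10543 (iv D8238) D8237
theorem F34868 : act 7 n10543 = n8245 := d24_2 (iv F27511) D10543 (iv D8245)
def n10544 : Q := act 6 n8237
theorem D10544 : act 6 n8237 = n10544 := rfl
theorem F34869 : act 0 n10544 = n10544 := d5_1 D10544 (iv D10544) F27508
theorem F34870 : act 1 n10544 = n8239 := d11_1 D10544 (iv D8239) D8237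
theorem F34871 : act 3 n10544 = n8306 := d20_1 D10544 (iv D8306) (iv F27510)
def n10545 : Q := act 3 n8238
theorem D10545 : act 3 n8238 = n10545 := rfl
theorem F34874 : act 4 n10545 = n8307 := d18_2 D8238 D10545 (iv D8307) (iv D6479) (iv F21745)
def n10547 : Q := act 6 n8238
theorem D10547 : act 6 n8238 = n10547 := rfl
theorem F34880 : act 4 n10547 = n8239 := d23_1 D10547 (iv D8239) D8238
def n10548 : Q := act 7 n8239
theorem D10548 : act 7 n8239 = n10548 := rfl
theorem F34883 : act 6 n10548 = n8250 := d27_1 D10548 (iv D8250) (iv D6436) (iv F21746) D8239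
def n10550 : Q := act 6 n8241
theorem D10550 : act 6 n8241 = n10550 := rfl
theorem F34889 : act 3 n10550 = n8243 := d20_1 D10550 (iv D8243) D8241
theorem F34890 : act 4 n10550 = n8312 := d23_1 D10550 (iv D8312) (iv F27523)
def n10552 : Q := act 7 n8243
theorem D10552 : act 7 n8243 = n10552 := rfl
theorem F34895 : act 6 n10552 = n8254 := d27_1 D10552 (iv D8254) (iv D6440) (iv F21753) D8243
def n10555 : Q := act 6 n8245
theorem D10555 : act 6 n8245 = n10555 := rfl
theorem F34903 : act 1 n10555 = n8249 := d11_1 D10555 (iv D8249) (iv F27534)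
theorem F34904 : act 4 n10555 = n8246 := d23_1 D10555 (iv D8246) D8245
def n10556 : Q := act 2 n8246
theorem D10556 : act 2 n8246 = n10556 := rfl
theorem F34905 : act 0 n10556 = n10556 := d1_1 D10556 (iv D10556) F27536
theorem F34906 : act 1 n10556 = n10556 := d7_1 D10556 (iv D10556) F27537 F21765 (iv F27537)
theorem F34907 : act 6 n10556 = n10556 := d16_2 D8246 D10556 (iv D10556) (iv D8246) F21760
def n10557 : Q := act 7 n8246
theorem D10557 : act 7 n8246 = n10557 := rfl
theorem F34908 : act 0 n10557 = n10557 := d6_1 D10557 (iv D10557) F27536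
theorem F34909 : act 1 n10557 = n8250 := d12_1 D10557 (iv D8250) (iv F27537)
theorem F34910 : act 3 n10557 = n8319 := d21_1 D10557 (iv D8319) (iv F27538)
def n10561 : Q := act 7 n8249
theorem D10561 : act 7 n8249 = n10561 := rfl
theorem F34922 : act 4 n10561 = n8250 := d24_1 D10561 (iv D8250) (iv F27546)
def n10608 : Q := act 4 n8287
theorem D10608 : act 4 n8287 = n10608 := rfl
theorem F35070 : act 0 n10608 = n10608 := d3_1 D10608 (iv D10608) F27664
theorem F35071 : act 1 n10608 = n8288 := d9_1 D10608 (iv D8288) D8287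
theorem F35072 : act 2 n10608 = n8409 := d14_1 D10608 (iv D8409) (iv F27665)
theorem F35073 : act 7 n10608 = n8295 := d24_2 (iv F27667) D10608 (iv D8295)
def n10609 : Q := act 6 n8287
theorem D10609 : act 6 n8287 = n10609 := rfl
theorem F35074 : act 0 n10609 = n10609 := d5_1 D10609 (iv D10609) F27664
theorem F35075 : act 1 n10609 = n8289 := d11_1 D10609 (iv D8289) D8287
theorem F35076 : act 5 n10609 = n8306 := d25_1 D10609 (iv D8306) (iv F27666)
def n10610 : Q := act 3 n8288
theorem D10610 : act 3 n8288 = n10610 := rfl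
theorem F35079 : act 7 n10610 = n8297 := d21_2 (iv F27670) D10610 (iv D8297)
def n10612 : Q := act 6 n8288
theorem D10612 : act 6 n8288 = n10612 := rfl
theorem F35085 : act 4 n10612 = n8289 := d23_1 D10612 (iv D8289) D8288
def n10613 : Q := act 7 n8289
theorem D10613 : act 7 n8289 = n10613 := rfl
theorem F35088 : act 6 n10613 = n8300 := d27_1 D10613 (iv D8300) (iv D6472) (iv F21858) D8289
def n10614 : Q := act 5 n8291
theorem D10614 : act 5 n8291 = n10614 := rfl
theorem F35092 : act 7 n10614 = n8301 := d26_2 (iv F27680) D10614 (iv D8301)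
def n10615 : Q := act 6 n8291
theorem D10615 : act 6 n8291 = n10615 := rfl
def n10617 : Q := act 7 n8293
theorem D10617 : act 7 n8293 = n10617 := rfl
theorem F35100 : act 6 n10617 = n8304 := d27_1 D10617 (iv D8304) (iv D6476) (iv F21865) D8293
def n10618 : Q := act 3 n8295
theorem D10618 : act 3 n8295 = n10618 := rfl
theorem F35101 : act 0 n10618 = n10618 := d2_1 D10618 (iv D10618) F27690
theorem F35102 : act 1 n10618 = n8297 := d8_1 D10618 (iv D8297) (iv F27691)
def n10621 : Q := act 2 n8296
theorem D10621 : act 2 n8296 = n10621 := rfl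
theorem F35111 : act 1 n10621 = n8361 := d7_1 D10621 (iv D8361) F22012 (iv F21878) (iv F27694)
def n10622 : Q := act 7 n8296
theorem D10622 : act 7 n8296 = n10622 := rfl
theorem F35114 : act 0 n10622 = n10622 := d6_1 D10622 (iv D10622) F27693
theorem F35115 : act 1 n10622 = n8300 := d12_1 D10622 (iv D8300) (iv F27694)
theorem F35116 : act 5 n10622 = n8319 := d26_1 D10622 (iv D8319) (iv F27695)
def n10624 : Q := act 6 n8297
theorem D10624 : act 6 n8297 = n10624 := rfl
theorem F35120 : act 0 n10624 = n8302 := d5_1 D10624 (iv D8302) (iv F27696)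
theorem F35121 : act 3 n10624 = n8299 := d20_1 D10624 (iv D8299) D8297
def n10628 : Q := act 6 n8301
theorem D10628 : act 6 n8301 = n10628 := rfl
theorem F35133 : act 3 n10628 = n8303 := d20_1 D10628 (iv D8303) (iv F27709)
theorem F35134 : act 5 n10628 = n8302 := d25_1 D10628 (iv D8302) D8301
def n10629 : Q := act 2 n8302
theorem D10629 : act 2 n8302 = n10629 := rfl
theorem F35135 : act 3 n10629 = n8369 := d13_2 (iv F27711) D10629 (iv D8369) F22030 (iv F21891)
def n10630 : Q := act 7 n8302
theorem D10630 : act 7 n8302 = n10630 := rfl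
def n10631 : Q := act 7 n8303
theorem D10631 : act 7 n8303 = n10631 := rfl
theorem F35140 : act 2 n10631 = n8371 := d17_1 D10631 (iv D8371) (iv F27713)
def n10632 : Q := act 3 n8305
theorem D10632 : act 3 n8305 = n10632 := rfl
theorem F35144 : act 1 n10632 = n8307 := d8_1 D10632 (iv D8307) (iv F27720)
def n10633 : Q := act 5 n8305
theorem D10633 : act 5 n8305 = n10633 := rfl
theorem F35147 : act 1 n10633 = n8308 := d10_1 D10633 (iv D8308) (iv F27720)
theorem F35148 : act 2 n10633 = n8434 := d15_1 D10633 (iv D8434) (iv F27721)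
def n10634 : Q := act 6 n8305
theorem D10634 : act 6 n8305 = n10634 := rfl
theorem F35150 : act 0 n10634 = n10634 := d5_1 D10634 (iv D10634) F27719
theorem F35151 : act 1 n10634 = n8309 := d11_1 D10634 (iv D8309) (iv F27720)
theorem F35152 : act 4 n10634 = n8306 := d23_1 D10634 (iv D8306) D8305
def n10635 : Q := act 2 n8306
theorem D10635 : act 2 n8306 = n10635 := rfl
theorem F35153 : act 0 n10635 = n10635 := d1_1 D10635 (iv D10635) F27723
theorem F35154 : act 6 n10635 = n8436 := d16_2 D8306 D10635 (iv D8436) (iv D6579) (iv F21897)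
def n10636 : Q := act 7 n8306
theorem D10636 : act 7 n8306 = n10636 := rfl
theorem F35155 : act 0 n10636 = n10636 := d6_1 D10636 (iv D10636) F27723
theorem F35156 : act 1 n10636 = n8310 := d12_1 D10636 (iv D8310) (iv F27724)
theorem F35157 : act 6 n10636 = n8319 := d27_1 D10636 (iv D8319) (iv D6487) (iv F21898) D8306
def n10638 : Q := act 6 n8307
theorem D10638 : act 6 n8307 = n10638 := rfl
theorem F35163 : act 3 n10638 = n8309 := d20_1 D10638 (iv D8309) D8307
def n10639 : Q := act 6 n8308
theorem D10639 : act 6 n8308 = n10639 := rfl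
theorem F35165 : act 5 n10639 = n8309 := d25_1 D10639 (iv D8309) D8308
def n10640 : Q := act 7 n8309
theorem D10640 : act 7 n8309 = n10640 := rfl
def n10652 : Q := act 3 n8318
theorem D10652 : act 3 n8318 = n10652 := rfl
def n10653 : Q := act 7 n8318
theorem D10653 : act 7 n8318 = n10653 := rfl
theorem F35205 : act 1 n10653 = n8378 := d12_1 D10653 (iv D8378) (iv F27755)
def n10668 : Q := act 2 n8331
theorem D10668 : act 2 n8331 = n10668 := rfl
theorem F35248 : act 4 n10668 = n8332 := d14_2 (iv F27792) D10668 (iv D8332)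
theorem F35249 : act 6 n10668 = n8465 := d16_2 D8331 D10668 (iv D8465) (iv D6603) (iv F21944)
def n10702 : Q := act 5 n8358
theorem D10702 : act 5 n8358 = n10702 := rfl
theorem F35340 : act 0 n10702 = n8516 := d4_1 D10702 (iv D8516) (iv F27866)
def n10708 : Q := act 7 n8361
theorem D10708 : act 7 n8361 = n10708 := rfl
theorem F35362 : act 2 n10708 = n8362 := d17_1 D10708 (iv D8362) D8361
def n10729 : Q := act 6 n8378
theorem D10729 : act 6 n8378 = n10729 := rfl
def n10766 : Q := act 3 n8409
theorem D10766 : act 3 n8409 = n10766 := rfl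
theorem F35538 : act 4 n10766 = n10766 := d18_2 D8409 D10766 (iv D10766) (iv D8409) F22132
theorem F35539 : act 7 n10766 = n8419 := d21_2 (iv F28023) D10766 (iv D8419)
def n10767 : Q := act 5 n8409
theorem D10767 : act 5 n8409 = n10767 := rfl
theorem F35541 : act 1 n10767 = n8412 := d10_1 D10767 (iv D8412) (iv F28022)
theorem F35542 : act 4 n10767 = n8434 := d22_1 D10767 (iv D8434) (iv D6578) (iv F22133) D8409
def n10768 : Q := act 6 n8409
theorem D10768 : act 6 n8409 = n10768 := rfl
theorem F35545 : act 1 n10768 = n8413 := d11_1 D10768 (iv D8413) (iv F28022)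
theorem F35546 : act 4 n10768 = n8410 := d23_1 D10768 (iv D8410) D8409
def n10769 : Q := act 2 n8410
theorem D10769 : act 2 n8410 = n10769 := rfl
theorem F35547 : act 0 n10769 = n10769 := d1_1 D10769 (iv D10769) F28024
theorem F35548 : act 5 n10769 = n8436 := d15_2 (iv F28027) D10769 (iv D8436)
def n10771 : Q := act 5 n8411
theorem D10771 : act 5 n8411 = n10771 := rfl
theorem F35556 : act 3 n10771 = n8412 := d19_1 D10771 (iv D8412) D8411
theorem F35557 : act 7 n10771 = n8424 := d26_2 (iv F28031) D10771 (iv D8424)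
def n10780 : Q := act 2 n8419
theorem D10780 : act 2 n8419 = n10780 := rfl
theorem F35587 : act 4 n10780 = n10780 := d14_2 F28057 D10780 (iv D10780)
def n10781 : Q := act 5 n8419
theorem D10781 : act 5 n8419 = n10781 := rfl
theorem F35590 : act 3 n10781 = n8420 := d19_1 D10781 (iv D8420) D8419
def n10786 : Q := act 3 n8422
theorem D10786 : act 3 n8422 = n10786 := rfl
theorem F35607 : act 2 n10786 = n10786 := d13_1 D10786 (iv D10786) (iv D8422) F22163 D8422
theorem F35608 : act 5 n10786 = n8453 := d19_2 (iv F28066) D10786 (iv D8453)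
def n10787 : Q := act 7 n8422
theorem D10787 : act 7 n8422 = n10787 := rfl
theorem F35610 : act 1 n10787 = n8483 := d12_1 D10787 (iv D8483) (iv F28065)
theorem F35612 : act 5 n10787 = n8454 := d26_1 D10787 (iv D8454) (iv F28066)
def n10798 : Q := act 2 n8433
theorem D10798 : act 2 n8433 = n10798 := rfl
def n10799 : Q := act 5 n8433
theorem D10799 : act 5 n8433 = n10799 := rfl
theorem F35654 : act 3 n10799 = n8434 := d19_1 D10799 (iv D8434) D8433
theorem F35655 : act 7 n10799 = n8448 := d26_2 (iv F28104) D10799 (iv D8448)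
def n10800 : Q := act 6 n8433
theorem D10800 : act 6 n8433 = n10800 := rfl
theorem F35657 : act 1 n10800 = n8439 := d11_1 D10800 (iv D8439) (iv F28102)
theorem F35658 : act 3 n10800 = n8435 := d20_1 D10800 (iv D8435) D8433
def n10801 : Q := act 6 n8434
theorem D10801 : act 6 n8434 = n10801 := rfl
theorem F35661 : act 1 n10801 = n8440 := d11_1 D10801 (iv D8440) (iv F28106)
theorem F35662 : act 5 n10801 = n8435 := d25_1 D10801 (iv D8435) D8434
def n10802 : Q := act 2 n8435
theorem D10802 : act 2 n8435 = n10802 := rfl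
theorem F35663 : act 0 n10802 = n10802 := d1_1 D10802 (iv D10802) F28108
theorem F35664 : act 4 n10802 = n8436 := d14_2 (iv F28110) D10802 (iv D8436)
def n10803 : Q := act 7 n8435
theorem D10803 : act 7 n8435 = n10803 := rfl
theorem F35665 : act 0 n10803 = n10803 := d6_1 D10803 (iv D10803) F28108
theorem F35666 : act 1 n10803 = n8441 := d12_1 D10803 (iv D8441) (iv F28109)
theorem F35667 : act 4 n10803 = n8437 := d24_1 D10803 (iv D8437) (iv F28110)
theorem F35668 : act 6 n10803 = n8452 := d27_1 D10803 (iv D8452) (iv D6590) (iv F22193) D8435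
def n10804 : Q := act 3 n8436
theorem D10804 : act 3 n8436 = n10804 := rfl
theorem F35669 : act 0 n10804 = n10804 := d2_1 D10804 (iv D10804) F28111
theorem F35670 : act 2 n10804 = n10804 := d13_1 D10804 (iv D10804) (iv D8436) F22196 D8436
def n10805 : Q := act 7 n8436
theorem D10805 : act 7 n8436 = n10805 := rfl
theorem F35671 : act 0 n10805 = n10805 := d6_1 D10805 (iv D10805) F28111
theorem F35672 : act 2 n10805 = n8437 := d17_1 D10805 (iv D8437) D8436
def n10809 : Q := act 7 n8439
theorem D10809 : act 7 n8439 = n10809 := rfl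
theorem F35683 : act 0 n10809 = n8445 := d6_1 D10809 (iv D8445) (iv F28120)
theorem F35684 : act 3 n10809 = n8441 := d21_1 D10809 (iv D8441) (iv F28121)
def n10810 : Q := act 7 n8440
theorem D10810 : act 7 n8440 = n10810 := rfl
theorem F35688 : act 5 n10810 = n8441 := d26_1 D10810 (iv D8441) (iv F28124)
def n10816 : Q := act 5 n8447
theorem D10816 : act 5 n8447 = n10816 := rfl
theorem F35707 : act 2 n10816 = n8448 := d15_1 D10816 (iv D8448) D8447
def n10817 : Q := act 6 n8447
theorem D10817 : act 6 n8447 = n10817 := rfl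
def n10818 : Q := act 4 n8448
theorem D10818 : act 4 n8448 = n10818 := rfl
def n10819 : Q := act 6 n8448
theorem D10819 : act 6 n8448 = n10819 := rfl
theorem F35716 : act 3 n10819 = n8450 := d20_1 D10819 (iv D8450) (iv F28149)
theorem F35717 : act 5 n10819 = n8449 := d25_1 D10819 (iv D8449) D8448
def n10820 : Q := act 2 n8449
theorem D10820 : act 2 n8449 = n10820 := rfl
theorem F35718 : act 0 n10820 = n10820 := d1_1 D10820 (iv D10820) F28150
theorem F35719 : act 1 n10820 = n10820 := d7_1 D10820 (iv D10820) F28151 F22238 (iv F28151)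
theorem F35720 : act 4 n10820 = n10820 := d14_2 F28153 D10820 (iv D10820)
def n10821 : Q := act 7 n8449
theorem D10821 : act 7 n8449 = n10821 := rfl
theorem F35721 : act 0 n10821 = n10821 := d6_1 D10821 (iv D10821) F28150
theorem F35722 : act 1 n10821 = n8457 := d12_1 D10821 (iv D8457) (iv F28151)
theorem F35723 : act 3 n10821 = n8452 := d21_1 D10821 (iv D8452) (iv F28152)
theorem F35724 : act 4 n10821 = n10821 := d24_1 D10821 (iv D10821) F28153
def n10823 : Q := act 7 n8450
theorem D10823 : act 7 n8450 = n10823 := rfl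
theorem F35729 : act 1 n10823 = n8458 := d12_1 D10823 (iv D8458) (iv F28155)
theorem F35730 : act 5 n10823 = n8452 := d26_1 D10823 (iv D8452) (iv F28156)
def n10824 : Q := act 3 n8451
theorem D10824 : act 3 n8451 = n10824 := rfl
def n10826 : Q := act 4 n8453
theorem D10826 : act 4 n8453 = n10826 := rfl
theorem F35738 : act 1 n10826 = n8496 := d9_1 D10826 (iv D8496) (iv F28164)
def n10827 : Q := act 7 n8453
theorem D10827 : act 7 n8453 = n10827 := rfl
theorem F35741 : act 1 n10827 = n8497 := d12_1 D10827 (iv D8497) (iv F28164)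
def n10828 : Q := act 6 n8454
theorem D10828 : act 6 n8454 = n10828 := rfl
theorem F35745 : act 1 n10828 = n8498 := d11_1 D10828 (iv D8498) (iv F28167)
def n10830 : Q := act 7 n8456
theorem D10830 : act 7 n8456 = n10830 := rfl
theorem F35752 : act 3 n10830 = n8458 := d21_1 D10830 (iv D8458) (iv F28174)
theorem F35753 : act 5 n10830 = n8457 := d26_1 D10830 (iv D8457) (iv F28175)
def n10859 : Q := act 7 n8482
theorem D10859 : act 7 n8482 = n10859 := rfl
theorem F35844 : act 0 n10859 = n8590 := d6_1 D10859 (iv D8590) (iv F28266)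
theorem F35846 : act 3 n10859 = n8483 := d21_1 D10859 (iv D8483) D8482
theorem F35847 : act 5 n10859 = n8497 := d26_1 D10859 (iv D8497) (iv F28268)
def n10860 : Q := act 6 n8483
theorem D10860 : act 6 n8483 = n10860 := rfl
theorem F35849 : act 5 n10860 = n8498 := d25_1 D10860 (iv D8498) (iv F28271)
def n10870 : Q := act 3 n8492
theorem D10870 : act 3 n8492 = n10870 := rfl
theorem F35878 : act 0 n10870 = n8601 := d2_1 D10870 (iv D8601) (iv F28297)
def n10888 : Q := act 6 n8505
theorem D10888 : act 6 n8505 = n10888 := rfl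
theorem F35934 : act 0 n10888 = n8619 := d5_1 D10888 (iv D8619) (iv F28336)
def n10899 : Q := act 4 n8516
theorem D10899 : act 4 n8516 = n10899 := rfl
theorem F35975 : act 1 n10899 = n8523 := d9_1 D10899 (iv D8523) (iv F28377)
def n10911 : Q := act 2 n8524
theorem D10911 : act 2 n8524 = n10911 := rfl
theorem F36014 : act 6 n10911 = n8642 := d16_2 D8524 D10911 (iv D8642) (iv D6745) (iv F22427)
def n10912 : Q := act 7 n8524
theorem D10912 : act 7 n8524 = n10912 := rfl
def n10915 : Q := act 2 n8528
theorem D10915 : act 2 n8528 = n10915 := rfl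
theorem F36027 : act 6 n10915 = n8646 := d16_2 D8528 D10915 (iv D8646) (iv D6749) (iv F22439)
def n10917 : Q := act 1 n8529
theorem D10917 : act 1 n8529 = n10917 := rfl
theorem F36033 : act 6 n10917 = n8648 := d11_2 (iv F28420) D10917 (iv D8648)
def n10928 : Q := act 3 n8537
theorem D10928 : act 3 n8537 = n10928 := rfl
theorem F36063 : act 6 n10928 = n8601 := d20_2 (iv F28442) D10928 (iv D8601)
def n10936 : Q := act 2 n8544
theorem D10936 : act 2 n8544 = n10936 := rfl
theorem F36087 : act 6 n10936 = n8556 := d16_2 D8544 D10936 (iv D8556) (iv D6677) (iv F22471)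
def n10944 : Q := act 3 n8549
theorem D10944 : act 3 n8549 = n10944 := rfl
theorem F36114 : act 6 n10944 = n8564 := d20_2 (iv F28477) D10944 (iv D8564)
def n10953 : Q := act 7 n8556
theorem D10953 : act 7 n8556 = n10953 := rfl
theorem F36142 : act 2 n10953 = n8557 := d17_1 D10953 (iv D8557) D8556
def n10962 : Q := act 7 n8564
theorem D10962 : act 7 n8564 = n10962 := rfl
theorem F36175 : act 3 n10962 = n8565 := d21_1 D10962 (iv D8565) D8564
def n10991 : Q := act 5 n8589
theorem D10991 : act 5 n8589 = n10991 := rfl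
theorem F36254 : act 4 n10991 = n8606 := d22_1 D10991 (iv D8606) (iv D6717) (iv F22582) D8589
def n10993 : Q := act 6 n8590
theorem D10993 : act 6 n8590 = n10993 := rfl
theorem F36259 : act 3 n10993 = n8591 := d20_1 D10993 (iv D8591) (iv F28602)
def n11004 : Q := act 4 n8601
theorem D11004 : act 4 n8601 = n11004 := rfl
def n11007 : Q := act 5 n8603
theorem D11007 : act 5 n8603 = n11007 := rfl
theorem F36310 : act 3 n11007 = n8606 := d19_1 D11007 (iv D8606) (iv F28647)
def n11060 : Q := act 1 n8646
theorem D11060 : act 1 n8646 = n11060 := rfl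
theorem F36473 : act 4 n11060 = n8648 := d9_2 (iv F28781) D11060 (iv D8648)
def n11061 : Q := act 3 n8646
theorem D11061 : act 3 n8646 = n11061 := rfl
theorem F36475 : act 2 n11061 = n8675 := d13_1 D11061 (iv D8675) (iv D6770) (iv F22724) D8646
def n11063 : Q := act 0 n8648
theorem D11063 : act 0 n8648 = n11063 := rfl
def n11070 : Q := act 1 n8654
theorem D11070 : act 1 n8654 = n11070 := rfl
theorem F36505 : act 2 n11070 = n8669 := d7_2 D8654 D11070 (iv D8669) (iv D6766) (iv F22743)
def n11071 : Q := act 3 n8654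
theorem D11071 : act 3 n8654 = n11071 := rfl
theorem F36509 : act 2 n11071 = n8659 := d13_1 D11071 (iv D8659) (iv D6758) (iv F22744) D8654
def n11072 : Q := act 7 n8654
theorem D11072 : act 7 n8654 = n11072 := rfl
def n11080 : Q := act 7 n8659
theorem D11080 : act 7 n8659 = n11080 := rfl
def n11088 : Q := act 1 n8667
theorem D11088 : act 1 n8667 = n11088 := rfl
theorem F36569 : act 4 n11088 = n8669 := d9_2 (iv F28854) D11088 (iv D8669)
theorem F36571 : act 6 n11088 = n8682 := d11_2 (iv F28856) D11088 (iv D8682)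
def n11091 : Q := act 0 n8669
theorem D11091 : act 0 n8669 = n11091 := rfl
theorem F36583 : act 6 n11091 = n8685 := d5_2 (iv F28862) D11091 (iv D8685)
def n11092 : Q := act 7 n8669
theorem D11092 : act 7 n8669 = n11092 := rfl
def n11098 : Q := act 7 n8674
theorem D11098 : act 7 n8674 = n11098 := rfl
theorem F36607 : act 1 n11098 = n8676 := d12_1 D11098 (iv D8676) D8674
def n11100 : Q := act 6 n8676
theorem D11100 : act 6 n8676 = n11100 := rfl
theorem F36616 : act 7 n11100 = n8694 := d27_2 D8676 D11100 (iv D8694) (iv D6786) (iv F22797)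
def n11101 : Q := act 7 n8677
theorem D11101 : act 7 n8677 = n11101 := rfl
theorem F36620 : act 5 n11101 = n8680 := d26_1 D11101 (iv D8680) (iv F28890)
def n11102 : Q := act 6 n8678
theorem D11102 : act 6 n8678 = n11102 := rfl
theorem F36621 : act 1 n11102 = n8679 := d11_1 D11102 (iv D8679) (iv F28892)
theorem F36624 : act 7 n11102 = n8696 := d27_2 D8678 D11102 (iv D8696) (iv D6788) (iv F22804)
def n11103 : Q := act 6 n8680
theorem D11103 : act 6 n8680 = n11103 := rfl
theorem F36628 : act 7 n11103 = n8697 := d27_2 D8680 D11103 (iv D8697) (iv D6790) (iv F22811)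
def n11105 : Q := act 0 n8682
theorem D11105 : act 0 n8682 = n11105 := rfl
def n11107 : Q := act 7 n8682
theorem D11107 : act 7 n8682 = n11107 := rfl
theorem F36639 : act 1 n11107 = n8684 := d12_1 D11107 (iv D8684) D8682
def n11110 : Q := act 7 n8685
theorem D11110 : act 7 n8685 = n11110 := rfl
theorem F36650 : act 0 n11110 = n8686 := d6_1 D11110 (iv D8686) D8685
def n11111 : Q := act 6 n8686
theorem D11111 : act 6 n8686 = n11111 := rfl
theorem F36655 : act 1 n11111 = n8687 := d11_1 D11111 (iv D8687) (iv F28921)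
def n11114 : Q := act 3 n8690
theorem D11114 : act 3 n8690 = n11114 := rfl
def n11115 : Q := act 7 n8690
theorem D11115 : act 7 n8690 = n11115 := rfl
theorem F36667 : act 0 n11115 = n8692 := d6_1 D11115 (iv D8692) D8690
def n11118 : Q := act 6 n8692
theorem D11118 : act 6 n8692 = n11118 := rfl
theorem F36678 : act 1 n11118 = n8694 := d11_1 D11118 (iv D8694) (iv F28942)
def n11120 : Q := act 6 n8695
theorem D11120 : act 6 n8695 = n11120 := rfl
theorem F36684 : act 0 n11120 = n8696 := d5_1 D11120 (iv D8696) (iv F28951)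
def n11121 : Q := act 2 n8696
theorem D11121 : act 2 n8696 = n11121 := rfl
theorem F36687 : act 5 n11121 = n8698 := d15_2 (iv F28957) D11121 (iv D8698)
def n11171 : Q := act 6 n8736
theorem D11171 : act 6 n8736 = n11171 := rfl
theorem F36855 : act 3 n11171 = n8737 := d20_1 D11171 (iv D8737) (iv F29093)
def n11747 : Q := act 4 n9198
theorem D11747 : act 4 n9198 = n11747 := rfl
theorem F38785 : act 0 n11747 = n9634 := d3_1 D11747 (iv D9634) (iv F30651)
theorem F38786 : act 1 n11747 = n9199 := d9_1 D11747 (iv D9199) D9198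
theorem F38787 : act 2 n11747 = n9434 := d14_1 D11747 (iv D9434) (iv F30652)
def n11748 : Q := act 6 n9198
theorem D11748 : act 6 n9198 = n11748 := rfl
theorem F38789 : act 0 n11748 = n9635 := d5_1 D11748 (iv D9635) (iv F30651)
theorem F38790 : act 1 n11748 = n9200 := d11_1 D11748 (iv D9200) D9198
theorem F38791 : act 3 n11748 = n9249 := d20_1 D11748 (iv D9249) (iv F30653)
theorem F38792 : act 5 n11748 = n9611 := d25_1 D11748 (iv D9611) (iv F30654)
def n11749 : Q := act 3 n9199
theorem D11749 : act 3 n9199 = n11749 := rfl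
theorem F38793 : act 0 n11749 = n9202 := d2_1 D11749 (iv D9202) (iv F30656)
theorem F38794 : act 2 n11749 = n9216 := d13_1 D11749 (iv D9216) F24277 (iv F24236) (iv F30657)
theorem F38795 : act 4 n11749 = n9250 := d18_2 D9199 D11749 (iv D9250) (iv D7227) (iv F24231)
def n11750 : Q := act 5 n9199
theorem D11750 : act 5 n9199 = n11750 := rfl
theorem F38797 : act 0 n11750 = n9203 := d4_1 D11750 (iv D9203) (iv F30656)
theorem F38798 : act 2 n11750 = n9201 := d15_1 D11750 (iv D9201) (iv F30657)
theorem F38799 : act 4 n11750 = n9613 := d22_1 D11750 (iv D9613) (iv D7510) (iv F24232) D9199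
def n11751 : Q := act 6 n9199
theorem D11751 : act 6 n9199 = n11751 := rfl
theorem F38801 : act 0 n11751 = n9204 := d5_1 D11751 (iv D9204) (iv F30656)
theorem F38802 : act 2 n11751 = n11751 := d16_1 D11751 (iv D11751) F30657 F24237 (iv F30657)
theorem F38803 : act 4 n11751 = n9200 := d23_1 D11751 (iv D9200) D9199
def n11752 : Q := act 7 n9200
theorem D11752 : act 7 n9200 = n11752 := rfl
theorem F38804 : act 0 n11752 = n9205 := d6_1 D11752 (iv D9205) (iv F30659)
theorem F38805 : act 2 n11752 = n11752 := d17_1 D11752 (iv D11752) F30660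
theorem F38806 : act 3 n11752 = n9253 := d21_1 D11752 (iv D9253) (iv F30661)
theorem F38807 : act 5 n11752 = n9615 := d26_1 D11752 (iv D9615) (iv F30662)
theorem F38808 : act 6 n11752 = n9605 := d27_1 D11752 (iv D9605) (iv D7503) (iv F24233) D9200
def n11753 : Q := act 5 n9202
theorem D11753 : act 5 n9202 = n11753 := rfl
theorem F38810 : act 2 n11753 = n9220 := d15_1 D11753 (iv D9220) (iv F30670)
theorem F38811 : act 3 n11753 = n9203 := d19_1 D11753 (iv D9203) D9202
def n11754 : Q := act 6 n9202
theorem D11754 : act 6 n9202 = n11754 := rfl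
theorem F38814 : act 3 n11754 = n9204 := d20_1 D11754 (iv D9204) D9202
def n11755 : Q := act 6 n9203
theorem D11755 : act 6 n9203 = n11755 := rfl
def n11757 : Q := act 4 n9206
theorem D11757 : act 4 n9206 = n11757 := rfl
theorem F38824 : act 0 n11757 = n11757 := d3_1 D11757 (iv D11757) F30685
theorem F38825 : act 1 n11757 = n9207 := d9_1 D11757 (iv D9207) D9206
theorem F38826 : act 2 n11757 = n9452 := d14_1 D11757 (iv D9452) (iv F30686)
theorem F38827 : act 7 n11757 = n9214 := d24_2 (iv F30689) D11757 (iv D9214)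
def n11758 : Q := act 6 n9206
theorem D11758 : act 6 n9206 = n11758 := rfl
theorem F38828 : act 0 n11758 = n11758 := d5_1 D11758 (iv D11758) F30685
theorem F38829 : act 1 n11758 = n9208 := d11_1 D11758 (iv D9208) D9206
theorem F38830 : act 3 n11758 = n9259 := d20_1 D11758 (iv D9259) (iv F30687)
theorem F38831 : act 5 n11758 = n11758 := d25_1 D11758 (iv D11758) F30688
def n11759 : Q := act 3 n9207
theorem D11759 : act 3 n9207 = n11759 := rfl
theorem F38834 : act 4 n11759 = n9260 := d18_2 D9207 D11759 (iv D9260) (iv D7235) (iv F24252)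
theorem F38835 : act 7 n11759 = n9216 := d21_2 (iv F30692) D11759 (iv D9216)
def n11760 : Q := act 5 n9207
theorem D11760 : act 5 n9207 = n11760 := rfl
theorem F38837 : act 2 n11760 = n9209 := d15_1 D11760 (iv D9209) (iv F30691)
theorem F38839 : act 7 n11760 = n9217 := d26_2 (iv F30692) D11760 (iv D9217)
def n11761 : Q := act 6 n9207
theorem D11761 : act 6 n9207 = n11761 := rfl
theorem F38841 : act 2 n11761 = n9951 := d16_1 D11761 (iv D9951) F26031 (iv F24258) (iv F30691)
theorem F38842 : act 4 n11761 = n9208 := d23_1 D11761 (iv D9208) D9207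
def n11762 : Q := act 7 n9208
theorem D11762 : act 7 n9208 = n11762 := rfl
theorem F38847 : act 6 n11762 = n9219 := d27_1 D11762 (iv D9219) (iv D7205) (iv F24254) D9208
def n11766 : Q := act 7 n9212
theorem D11766 : act 7 n9212 = n11766 := rfl
theorem F38862 : act 6 n11766 = n9223 := d27_1 D11766 (iv D9223) (iv D7209) (iv F24262) D9212
def n11767 : Q := act 3 n9214
theorem D11767 : act 3 n9214 = n11767 := rfl
theorem F38863 : act 0 n11767 = n11767 := d2_1 D11767 (iv D11767) F30719
theorem F38864 : act 1 n11767 = n9216 := d8_1 D11767 (iv D9216) (iv F30720)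
theorem F38865 : act 4 n11767 = n9268 := d18_2 D9214 D11767 (iv D9268) (iv D7242) (iv F24274)
def n11768 : Q := act 5 n9214
theorem D11768 : act 5 n9214 = n11768 := rfl
theorem F38866 : act 0 n11768 = n11768 := d4_1 D11768 (iv D11768) F30719
theorem F38867 : act 1 n11768 = n9217 := d10_1 D11768 (iv D9217) (iv F30720)
theorem F38868 : act 2 n11768 = n9463 := d15_1 D11768 (iv D9463) (iv F30721)
theorem F38869 : act 4 n11768 = n11768 := d22_1 D11768 (iv D11768) (iv D9214) F24275 D9214
def n11769 : Q := act 6 n9214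
theorem D11769 : act 6 n9214 = n11769 := rfl
theorem F38870 : act 0 n11769 = n11769 := d5_1 D11769 (iv D11769) F30719
theorem F38871 : act 1 n11769 = n9218 := d11_1 D11769 (iv D9218) (iv F30720)
theorem F38872 : act 4 n11769 = n9215 := d23_1 D11769 (iv D9215) D9214
def n11770 : Q := act 2 n9215
theorem D11770 : act 2 n9215 = n11770 := rfl
theorem F38873 : act 0 n11770 = n11770 := d1_1 D11770 (iv D11770) F30722
theorem F38874 : act 1 n11770 = n11770 := d7_1 D11770 (iv D11770) F30723 F24279 (iv F30723)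
theorem F38875 : act 3 n11770 = n11770 := d13_2 (iv F30724) D11770 (iv D11770) F30724 F24408
theorem F38876 : act 5 n11770 = n11770 := d15_2 F30725 D11770 (iv D11770)
theorem F38877 : act 6 n11770 = n9465 := d16_2 D9215 D11770 (iv D9465) (iv D7394) (iv F24273)
def n11771 : Q := act 7 n9215
theorem D11771 : act 7 n9215 = n11771 := rfl
theorem F38878 : act 0 n11771 = n11771 := d6_1 D11771 (iv D11771) F30722
theorem F38879 : act 1 n11771 = n9219 := d12_1 D11771 (iv D9219) (iv F30723)
theorem F38880 : act 3 n11771 = n9271 := d21_1 D11771 (iv D9271) (iv F30724)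
theorem F38881 : act 5 n11771 = n11771 := d26_1 D11771 (iv D11771) F30725
def n11772 : Q := act 5 n9216
theorem D11772 : act 5 n9216 = n11772 := rfl
theorem F38883 : act 3 n11772 = n9217 := d19_1 D11772 (iv D9217) D9216
def n11773 : Q := act 6 n9216
theorem D11773 : act 6 n9216 = n11773 := rfl
def n11774 : Q := act 6 n9217
theorem D11774 : act 6 n9217 = n11774 := rfl
theorem F38890 : act 5 n11774 = n9218 := d25_1 D11774 (iv D9218) D9217
def n11775 : Q := act 7 n9218
theorem D11775 : act 7 n9218 = n11775 := rfl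
def n11781 : Q := act 4 n9224
theorem D11781 : act 4 n9224 = n11781 := rfl
theorem F38909 : act 0 n11781 = n9248 := d3_1 D11781 (iv D9248) (iv F30750)
theorem F38910 : act 1 n11781 = n9225 := d9_1 D11781 (iv D9225) D9224
theorem F38911 : act 2 n11781 = n9322 := d14_1 D11781 (iv D9322) (iv F30751)
theorem F38912 : act 7 n11781 = n9332 := d24_2 (iv F30754) D11781 (iv D9332)
def n11782 : Q := act 6 n9224
theorem D11782 : act 6 n9224 = n11782 := rfl
theorem F38913 : act 0 n11782 = n9249 := d5_1 D11782 (iv D9249) (iv F30750)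
theorem F38914 : act 1 n11782 = n9226 := d11_1 D11782 (iv D9226) D9224
theorem F38915 : act 3 n11782 = n9635 := d20_1 D11782 (iv D9635) (iv F30752)
theorem F38916 : act 5 n11782 = n9343 := d25_1 D11782 (iv D9343) (iv F30753)
def n11783 : Q := act 3 n9225
theorem D11783 : act 3 n9225 = n11783 := rfl
theorem F38917 : act 0 n11783 = n9228 := d2_1 D11783 (iv D9228) (iv F30755)
theorem F38918 : act 2 n11783 = n11783 := d13_1 D11783 (iv D11783) F30756 F24304 (iv F30756)
theorem F38920 : act 7 n11783 = n9334 := d21_2 (iv F30757) D11783 (iv D9334)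
def n11784 : Q := act 5 n9225
theorem D11784 : act 5 n9225 = n11784 := rfl
theorem F38921 : act 0 n11784 = n9229 := d4_1 D11784 (iv D9229) (iv F30755)
theorem F38922 : act 2 n11784 = n9227 := d15_1 D11784 (iv D9227) (iv F30756)
theorem F38923 : act 4 n11784 = n9345 := d22_1 D11784 (iv D9345) (iv D7301) (iv F24300) D9225
theorem F38924 : act 7 n11784 = n9335 := d26_2 (iv F30757) D11784 (iv D9335)
def n11785 : Q := act 6 n9225
theorem D11785 : act 6 n9225 = n11785 := rfl
theorem F38925 : act 0 n11785 = n9230 := d5_1 D11785 (iv D9230) (iv F30755)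
theorem F38926 : act 2 n11785 = n11785 := d16_1 D11785 (iv D11785) F30756 F24305 (iv F30756)
theorem F38927 : act 4 n11785 = n9226 := d23_1 D11785 (iv D9226) D9225
def n11786 : Q := act 7 n9226
theorem D11786 : act 7 n9226 = n11786 := rfl
theorem F38928 : act 0 n11786 = n9231 := d6_1 D11786 (iv D9231) (iv F30758)
theorem F38929 : act 2 n11786 = n11786 := d17_1 D11786 (iv D11786) F30759
theorem F38931 : act 5 n11786 = n9347 := d26_1 D11786 (iv D9347) (iv F30761)
theorem F38932 : act 6 n11786 = n9337 := d27_1 D11786 (iv D9337) (iv D7294) (iv F24301) D9226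
def n11787 : Q := act 5 n9228
theorem D11787 : act 5 n9228 = n11787 := rfl
theorem F38935 : act 3 n11787 = n9229 := d19_1 D11787 (iv D9229) D9228
theorem F38936 : act 7 n11787 = n9338 := d26_2 (iv F30771) D11787 (iv D9338)
def n11788 : Q := act 6 n9228
theorem D11788 : act 6 n9228 = n11788 := rfl
theorem F38938 : act 3 n11788 = n9230 := d20_1 D11788 (iv D9230) D9228
def n11789 : Q := act 6 n9229
theorem D11789 : act 6 n9229 = n11789 := rfl
theorem F38943 : act 5 n11789 = n9230 := d25_1 D11789 (iv D9230) D9229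
def n11790 : Q := act 7 n9230
theorem D11790 : act 7 n9230 = n11790 := rfl
theorem F38944 : act 1 n11790 = n9257 := d12_1 D11790 (iv D9257) (iv F30776)
theorem F38946 : act 4 n11790 = n9231 := d24_1 D11790 (iv D9231) (iv F30778)
theorem F38947 : act 6 n11790 = n9341 := d27_1 D11790 (iv D9341) (iv D7298) (iv F24309) D9230
def n11791 : Q := act 4 n9232
theorem D11791 : act 4 n9232 = n11791 := rfl
theorem F38948 : act 0 n11791 = n9342 := d3_1 D11791 (iv D9342) (iv F30784)
theorem F38949 : act 1 n11791 = n9233 := d9_1 D11791 (iv D9233) D9232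
theorem F38950 : act 2 n11791 = n9332 := d14_1 D11791 (iv D9332) (iv F30785)
theorem F38951 : act 7 n11791 = n9322 := d24_2 (iv F30788) D11791 (iv D9322)
def n11792 : Q := act 6 n9232
theorem D11792 : act 6 n9232 = n11792 := rfl
theorem F38952 : act 0 n11792 = n9343 := d5_1 D11792 (iv D9343) (iv F30784)
theorem F38953 : act 1 n11792 = n9234 := d11_1 D11792 (iv D9234) D9232
theorem F38954 : act 3 n11792 = n9611 := d20_1 D11792 (iv D9611) (iv F30786)
theorem F38955 : act 5 n11792 = n9249 := d25_1 D11792 (iv D9249) (iv F30787)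
def n11793 : Q := act 3 n9233
theorem D11793 : act 3 n9233 = n11793 := rfl
theorem F38956 : act 0 n11793 = n9236 := d2_1 D11793 (iv D9236) (iv F30789)
theorem F38957 : act 2 n11793 = n11793 := d13_1 D11793 (iv D11793) F30790 F24325 (iv F30790)
theorem F38958 : act 4 n11793 = n9612 := d18_2 D9233 D11793 (iv D9612) (iv D7510) (iv F24320)
theorem F38959 : act 7 n11793 = n9324 := d21_2 (iv F30791) D11793 (iv D9324)
def n11794 : Q := act 5 n9233
theorem D11794 : act 5 n9233 = n11794 := rfl
theorem F38960 : act 0 n11794 = n9237 := d4_1 D11794 (iv D9237) (iv F30789)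
theorem F38961 : act 2 n11794 = n9235 := d15_1 D11794 (iv D9235) (iv F30790)
theorem F38962 : act 4 n11794 = n9251 := d22_1 D11794 (iv D9251) (iv D7227) (iv F24321) D9233
theorem F38963 : act 7 n11794 = n9325 := d26_2 (iv F30791) D11794 (iv D9325)
def n11795 : Q := act 6 n9233
theorem D11795 : act 6 n9233 = n11795 := rfl
theorem F38964 : act 0 n11795 = n9238 := d5_1 D11795 (iv D9238) (iv F30789)
theorem F38965 : act 2 n11795 = n9285 := d16_1 D11795 (iv D9285) F24437 (iv F24326) (iv F30790)
theorem F38966 : act 4 n11795 = n9234 := d23_1 D11795 (iv D9234) D9233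
def n11796 : Q := act 7 n9234
theorem D11796 : act 7 n9234 = n11796 := rfl
theorem F38967 : act 0 n11796 = n9239 := d6_1 D11796 (iv D9239) (iv F30792)
theorem F38968 : act 2 n11796 = n9286 := d17_1 D11796 (iv D9286) (iv F30793)
theorem F38969 : act 3 n11796 = n9615 := d21_1 D11796 (iv D9615) (iv F30794)
theorem F38970 : act 5 n11796 = n9253 := d26_1 D11796 (iv D9253) (iv F30795)
theorem F38971 : act 6 n11796 = n9327 := d27_1 D11796 (iv D9327) (iv D7286) (iv F24322) D9234
def n11797 : Q := act 5 n9236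
theorem D11797 : act 5 n9236 = n11797 := rfl
theorem F38974 : act 3 n11797 = n9237 := d19_1 D11797 (iv D9237) D9236
theorem F38975 : act 7 n11797 = n9328 := d26_2 (iv F30805) D11797 (iv D9328)
def n11798 : Q := act 6 n9236
theorem D11798 : act 6 n9236 = n11798 := rfl
theorem F38976 : act 1 n11798 = n9349 := d11_1 D11798 (iv D9349) (iv F30802)
theorem F38977 : act 3 n11798 = n9238 := d20_1 D11798 (iv D9238) D9236
def n11799 : Q := act 6 n9237
theorem D11799 : act 6 n9237 = n11799 := rfl
theorem F38982 : act 5 n11799 = n9238 := d25_1 D11799 (iv D9238) D9237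
def n11800 : Q := act 7 n9238
theorem D11800 : act 7 n9238 = n11800 := rfl
theorem F38986 : act 6 n11800 = n9331 := d27_1 D11800 (iv D9331) (iv D7290) (iv F24330) D9238
def n11801 : Q := act 4 n9240
theorem D11801 : act 4 n9240 = n11801 := rfl
theorem F38987 : act 0 n11801 = n9332 := d3_1 D11801 (iv D9332) (iv F30818)
theorem F38988 : act 1 n11801 = n9241 := d9_1 D11801 (iv D9241) D9240
theorem F38989 : act 2 n11801 = n9342 := d14_1 D11801 (iv D9342) (iv F30819)
theorem F38990 : act 7 n11801 = n9248 := d24_2 (iv F30822) D11801 (iv D9248)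
def n11802 : Q := act 6 n9240
theorem D11802 : act 6 n9240 = n11802 := rfl
theorem F38991 : act 0 n11802 = n9333 := d5_1 D11802 (iv D9333) (iv F30818)
theorem F38992 : act 1 n11802 = n9242 := d11_1 D11802 (iv D9242) D9240
theorem F38993 : act 3 n11802 = n9601 := d20_1 D11802 (iv D9601) (iv F30820)
theorem F38994 : act 5 n11802 = n9323 := d25_1 D11802 (iv D9323) (iv F30821)
def n11803 : Q := act 3 n9241
theorem D11803 : act 3 n9241 = n11803 := rfl
theorem F38995 : act 0 n11803 = n9244 := d2_1 D11803 (iv D9244) (iv F30823)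
theorem F38996 : act 2 n11803 = n9260 := d13_1 D11803 (iv D9260) F24380 (iv F24346) (iv F30824)
theorem F38998 : act 7 n11803 = n9250 := d21_2 (iv F30825) D11803 (iv D9250)
def n11804 : Q := act 5 n9241
theorem D11804 : act 5 n9241 = n11804 := rfl
theorem F38999 : act 0 n11804 = n9245 := d4_1 D11804 (iv D9245) (iv F30823)
theorem F39000 : act 2 n11804 = n9243 := d15_1 D11804 (iv D9243) (iv F30824)
theorem F39001 : act 4 n11804 = n9325 := d22_1 D11804 (iv D9325) (iv D7285) (iv F24342) D9241
theorem F39002 : act 7 n11804 = n9251 := d26_2 (iv F30825) D11804 (iv D9251)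
def n11805 : Q := act 6 n9241
theorem D11805 : act 6 n9241 = n11805 := rfl
theorem F39003 : act 0 n11805 = n9246 := d5_1 D11805 (iv D9246) (iv F30823)
theorem F39004 : act 2 n11805 = n11805 := d16_1 D11805 (iv D11805) F30824 F24347 (iv F30824)
theorem F39005 : act 4 n11805 = n9242 := d23_1 D11805 (iv D9242) D9241
def n11806 : Q := act 7 n9242
theorem D11806 : act 7 n9242 = n11806 := rfl
theorem F39006 : act 0 n11806 = n9247 := d6_1 D11806 (iv D9247) (iv F30826)
theorem F39007 : act 2 n11806 = n11806 := d17_1 D11806 (iv D11806) F30827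
theorem F39009 : act 5 n11806 = n9327 := d26_1 D11806 (iv D9327) (iv F30829)
theorem F39010 : act 6 n11806 = n9253 := d27_1 D11806 (iv D9253) (iv D7228) (iv F24343) D9242
def n11807 : Q := act 5 n9244
theorem D11807 : act 5 n9244 = n11807 := rfl
theorem F39013 : act 3 n11807 = n9245 := d19_1 D11807 (iv D9245) D9244
theorem F39014 : act 7 n11807 = n9254 := d26_2 (iv F30839) D11807 (iv D9254)
def n11809 : Q := act 6 n9245
theorem D11809 : act 6 n9245 = n11809 := rfl
theorem F39018 : act 1 n11809 = n9340 := d11_1 D11809 (iv D9340) (iv F30840)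
theorem F39020 : act 4 n11809 = n9330 := d23_1 D11809 (iv D9330) (iv F30842)
theorem F39021 : act 5 n11809 = n9246 := d25_1 D11809 (iv D9246) D9245
def n11810 : Q := act 7 n9246
theorem D11810 : act 7 n9246 = n11810 := rfl
theorem F39022 : act 1 n11810 = n9341 := d12_1 D11810 (iv D9341) (iv F30844)
theorem F39024 : act 4 n11810 = n9247 := d24_1 D11810 (iv D9247) (iv F30846)
def n11811 : Q := act 3 n9248
theorem D11811 : act 3 n9248 = n11811 := rfl
theorem F39026 : act 1 n11811 = n9250 := d8_1 D11811 (iv D9250) (iv F30852)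
def n11812 : Q := act 5 n9248
theorem D11812 : act 5 n9248 = n11812 := rfl
theorem F39027 : act 1 n11812 = n9251 := d10_1 D11812 (iv D9251) (iv F30852)
theorem F39028 : act 2 n11812 = n9353 := d15_1 D11812 (iv D9353) (iv F30853)
def n11813 : Q := act 6 n9248
theorem D11813 : act 6 n9248 = n11813 := rfl
theorem F39029 : act 1 n11813 = n9252 := d11_1 D11813 (iv D9252) (iv F30852)
theorem F39030 : act 4 n11813 = n9249 := d23_1 D11813 (iv D9249) D9248
def n11814 : Q := act 2 n9249
theorem D11814 : act 2 n9249 = n11814 := rfl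
theorem F39031 : act 1 n11814 = n9294 := d7_1 D11814 (iv D9294) F24466 (iv F24365) (iv F30854)
theorem F39032 : act 6 n11814 = n9355 := d16_2 D9249 D11814 (iv D9355) (iv D7309) (iv F24361)
def n11815 : Q := act 7 n9249
theorem D11815 : act 7 n9249 = n11815 := rfl
theorem F39033 : act 1 n11815 = n9253 := d12_1 D11815 (iv D9253) (iv F30854)
def n11816 : Q := act 5 n9250
theorem D11816 : act 5 n9250 = n11816 := rfl
theorem F39036 : act 3 n11816 = n9251 := d19_1 D11816 (iv D9251) D9250
def n11817 : Q := act 6 n9250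
theorem D11817 : act 6 n9250 = n11817 := rfl
theorem F39038 : act 3 n11817 = n9252 := d20_1 D11817 (iv D9252) D9250
def n11818 : Q := act 6 n9251
theorem D11818 : act 6 n9251 = n11818 := rfl
theorem F39040 : act 2 n11818 = n9298 := d16_1 D11818 (iv D9298) F24473 (iv F24369) (iv F30858)
theorem F39041 : act 5 n11818 = n9252 := d25_1 D11818 (iv D9252) D9251
def n11819 : Q := act 7 n9252
theorem D11819 : act 7 n9252 = n11819 := rfl
theorem F39042 : act 0 n11819 = n9257 := d6_1 D11819 (iv D9257) (iv F30859)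
theorem F39043 : act 2 n11819 = n9299 := d17_1 D11819 (iv D9299) (iv F30860)
theorem F39044 : act 4 n11819 = n9253 := d24_1 D11819 (iv D9253) (iv F30861)
def n11825 : Q := act 3 n9258
theorem D11825 : act 3 n9258 = n11825 := rfl
theorem F39053 : act 0 n11825 = n11825 := d2_1 D11825 (iv D11825) F30871
theorem F39054 : act 1 n11825 = n9260 := d8_1 D11825 (iv D9260) (iv F30872)
theorem F39055 : act 7 n11825 = n9268 := d21_2 (iv F30874) D11825 (iv D9268)
def n11826 : Q := act 5 n9258
theorem D11826 : act 5 n9258 = n11826 := rfl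
theorem F39056 : act 0 n11826 = n11826 := d4_1 D11826 (iv D11826) F30871
theorem F39057 : act 1 n11826 = n9261 := d10_1 D11826 (iv D9261) (iv F30872)
theorem F39058 : act 2 n11826 = n9366 := d15_1 D11826 (iv D9366) (iv F30873)
theorem F39059 : act 4 n11826 = n11826 := d22_1 D11826 (iv D11826) (iv D9258) F24377 D9258
theorem F39060 : act 7 n11826 = n9269 := d26_2 (iv F30874) D11826 (iv D9269)
def n11827 : Q := act 6 n9258
theorem D11827 : act 6 n9258 = n11827 := rfl
theorem F39061 : act 0 n11827 = n11827 := d5_1 D11827 (iv D11827) F30871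
theorem F39062 : act 1 n11827 = n9262 := d11_1 D11827 (iv D9262) (iv F30872)
theorem F39063 : act 4 n11827 = n9259 := d23_1 D11827 (iv D9259) D9258
def n11828 : Q := act 2 n9259
theorem D11828 : act 2 n9259 = n11828 := rfl
theorem F39064 : act 0 n11828 = n11828 := d1_1 D11828 (iv D11828) F30875
theorem F39065 : act 1 n11828 = n11828 := d7_1 D11828 (iv D11828) F30876 F24383 (iv F30876)
theorem F39066 : act 5 n11828 = n11828 := d15_2 F30877 D11828 (iv D11828)
theorem F39067 : act 6 n11828 = n9368 := d16_2 D9259 D11828 (iv D9368) (iv D7319) (iv F24376)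
def n11829 : Q := act 7 n9259
theorem D11829 : act 7 n9259 = n11829 := rfl
theorem F39068 : act 0 n11829 = n11829 := d6_1 D11829 (iv D11829) F30875
theorem F39069 : act 1 n11829 = n9263 := d12_1 D11829 (iv D9263) (iv F30876)
theorem F39070 : act 5 n11829 = n11829 := d26_1 D11829 (iv D11829) F30877
theorem F39071 : act 6 n11829 = n9271 := d27_1 D11829 (iv D9271) (iv D7243) (iv F24378) D9259
def n11832 : Q := act 6 n9261
theorem D11832 : act 6 n9261 = n11832 := rfl
theorem F39080 : act 5 n11832 = n9262 := d25_1 D11832 (iv D9262) D9261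
def n11833 : Q := act 7 n9262
theorem D11833 : act 7 n9262 = n11833 := rfl
theorem F39083 : act 4 n11833 = n9263 := d24_1 D11833 (iv D9263) (iv F30886)
def n11839 : Q := act 2 n9268
theorem D11839 : act 2 n9268 = n11839 := rfl
theorem F39100 : act 0 n11839 = n11839 := d1_1 D11839 (iv D11839) F30904
theorem F39101 : act 3 n11839 = n9375 := d13_2 D9268 D11839 (iv D9375) (iv D7326) (iv F24405)
def n11840 : Q := act 5 n9268
theorem D11840 : act 5 n9268 = n11840 := rfl
def n11841 : Q := act 6 n9268
theorem D11841 : act 6 n9268 = n11841 := rfl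
theorem F39107 : act 3 n11841 = n9270 := d20_1 D11841 (iv D9270) D9268
def n11842 : Q := act 6 n9269
theorem D11842 : act 6 n9269 = n11842 := rfl
theorem F39112 : act 5 n11842 = n9270 := d25_1 D11842 (iv D9270) D9269
def n11843 : Q := act 7 n9270
theorem D11843 : act 7 n9270 = n11843 := rfl
theorem F39116 : act 4 n11843 = n9271 := d24_1 D11843 (iv D9271) (iv F30913)
def n11854 : Q := act 3 n9281
theorem D11854 : act 3 n9281 = n11854 := rfl
theorem F39142 : act 0 n11854 = n11854 := d2_1 D11854 (iv D11854) F30941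
theorem F39143 : act 1 n11854 = n9283 := d8_1 D11854 (iv D9283) (iv F30942)
theorem F39144 : act 4 n11854 = n11854 := d18_2 D9281 D11854 (iv D11854) (iv D9281) F24433
theorem F39145 : act 7 n11854 = n11854 := d21_2 F30944 D11854 (iv D11854)
def n11855 : Q := act 5 n9281
theorem D11855 : act 5 n9281 = n11855 := rfl
theorem F39146 : act 0 n11855 = n11855 := d4_1 D11855 (iv D11855) F30941
theorem F39147 : act 1 n11855 = n9284 := d10_1 D11855 (iv D9284) (iv F30942)
theorem F39148 : act 2 n11855 = n9379 := d15_1 D11855 (iv D9379) (iv F30943)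
theorem F39149 : act 4 n11855 = n9292 := d22_1 D11855 (iv D9292) (iv D7260) (iv F24434) D9281
theorem F39150 : act 7 n11855 = n11855 := d26_2 F30944 D11855 (iv D11855)
def n11856 : Q := act 6 n9281
theorem D11856 : act 6 n9281 = n11856 := rfl
theorem F39151 : act 0 n11856 = n11856 := d5_1 D11856 (iv D11856) F30941
theorem F39152 : act 1 n11856 = n9285 := d11_1 D11856 (iv D9285) (iv F30942)
theorem F39153 : act 4 n11856 = n9282 := d23_1 D11856 (iv D9282) D9281
def n11857 : Q := act 2 n9282
theorem D11857 : act 2 n9282 = n11857 := rfl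
theorem F39154 : act 0 n11857 = n11857 := d1_1 D11857 (iv D11857) F30945
theorem F39155 : act 5 n11857 = n9294 := d15_2 (iv F30948) D11857 (iv D9294)
theorem F39156 : act 6 n11857 = n9381 := d16_2 D9282 D11857 (iv D9381) (iv D7331) (iv F24432)
def n11858 : Q := act 7 n9282
theorem D11858 : act 7 n9282 = n11858 := rfl
theorem F39157 : act 0 n11858 = n11858 := d6_1 D11858 (iv D11858) F30945
theorem F39158 : act 1 n11858 = n9286 := d12_1 D11858 (iv D9286) (iv F30946)
theorem F39159 : act 3 n11858 = n11858 := d21_1 D11858 (iv D11858) F30947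
theorem F39160 : act 5 n11858 = n9295 := d26_1 D11858 (iv D9295) (iv F30948)
theorem F39161 : act 6 n11858 = n11858 := d27_1 D11858 (iv D11858) (iv D9282) F24435 D9282
def n11859 : Q := act 5 n9283
theorem D11859 : act 5 n9283 = n11859 := rfl
theorem F39164 : act 3 n11859 = n9284 := d19_1 D11859 (iv D9284) D9283
def n11860 : Q := act 6 n9283
theorem D11860 : act 6 n9283 = n11860 := rfl
theorem F39167 : act 3 n11860 = n9285 := d20_1 D11860 (iv D9285) D9283
def n11861 : Q := act 6 n9284
theorem D11861 : act 6 n9284 = n11861 := rfl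
theorem F39171 : act 5 n11861 = n9285 := d25_1 D11861 (iv D9285) D9284
def n11868 : Q := act 5 n9291
theorem D11868 : act 5 n9291 = n11868 := rfl
theorem F39194 : act 1 n11868 = n9296 := d10_1 D11868 (iv D9296) (iv F30977)
theorem F39196 : act 3 n11868 = n9292 := d19_1 D11868 (iv D9292) D9291
def n11869 : Q := act 6 n9291
theorem D11869 : act 6 n9291 = n11869 := rfl
theorem F39200 : act 3 n11869 = n9293 := d20_1 D11869 (iv D9293) D9291
def n11870 : Q := act 6 n9292
theorem D11870 : act 6 n9292 = n11870 := rfl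
theorem F39203 : act 1 n11870 = n9298 := d11_1 D11870 (iv D9298) (iv F30982)
theorem F39204 : act 5 n11870 = n9293 := d25_1 D11870 (iv D9293) D9292
def n11871 : Q := act 2 n9293
theorem D11871 : act 2 n9293 = n11871 := rfl
theorem F39205 : act 0 n11871 = n11871 := d1_1 D11871 (iv D11871) F30985
theorem F39206 : act 4 n11871 = n9294 := d14_2 (iv F30987) D11871 (iv D9294)
theorem F39207 : act 6 n11871 = n9392 := d16_2 D9293 D11871 (iv D9392) (iv D7341) (iv F24463)
def n11872 : Q := act 7 n9293
theorem D11872 : act 7 n9293 = n11872 := rfl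
theorem F39210 : act 4 n11872 = n9295 := d24_1 D11872 (iv D9295) (iv F30987)
def n11873 : Q := act 3 n9294
theorem D11873 : act 3 n9294 = n11873 := rfl
theorem F39212 : act 0 n11873 = n11873 := d2_1 D11873 (iv D11873) F30988
theorem F39213 : act 2 n11873 = n11873 := d13_1 D11873 (iv D11873) (iv D9294) F24467 D9294
theorem F39214 : act 6 n11873 = n9394 := d20_2 (iv F30989) D11873 (iv D9394)
def n11874 : Q := act 7 n9294
theorem D11874 : act 7 n9294 = n11874 := rfl
theorem F39215 : act 0 n11874 = n11874 := d6_1 D11874 (iv D11874) F30988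
theorem F39216 : act 2 n11874 = n9295 := d17_1 D11874 (iv D9295) D9294
def n11905 : Q := act 3 n9322
theorem D11905 : act 3 n9322 = n11905 := rfl
theorem F39315 : act 0 n11905 = n9352 := d2_1 D11905 (iv D9352) (iv F31084)
theorem F39316 : act 1 n11905 = n9324 := d8_1 D11905 (iv D9324) (iv F31085)
theorem F39317 : act 4 n11905 = n9620 := d18_2 D9322 D11905 (iv D9620) (iv D7517) (iv F24544)
def n11906 : Q := act 5 n9322
theorem D11906 : act 5 n9322 = n11906 := rfl
theorem F39318 : act 0 n11906 = n9353 := d4_1 D11906 (iv D9353) (iv F31084)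
theorem F39319 : act 1 n11906 = n9325 := d10_1 D11906 (iv D9325) (iv F31085)
def n11907 : Q := act 6 n9322
theorem D11907 : act 6 n9322 = n11907 := rfl
theorem F39320 : act 0 n11907 = n9354 := d5_1 D11907 (iv D9354) (iv F31084)
theorem F39321 : act 1 n11907 = n9326 := d11_1 D11907 (iv D9326) (iv F31085)
theorem F39322 : act 4 n11907 = n9323 := d23_1 D11907 (iv D9323) D9322
def n11908 : Q := act 2 n9323
theorem D11908 : act 2 n9323 = n11908 := rfl
theorem F39323 : act 0 n11908 = n9355 := d1_1 D11908 (iv D9355) (iv F31086)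
theorem F39324 : act 1 n11908 = n11908 := d7_1 D11908 (iv D11908) F31087 F24548 (iv F31087)
def n11909 : Q := act 7 n9323
theorem D11909 : act 7 n9323 = n11909 := rfl
theorem F39325 : act 0 n11909 = n9356 := d6_1 D11909 (iv D9356) (iv F31086)
theorem F39326 : act 1 n11909 = n9327 := d12_1 D11909 (iv D9327) (iv F31087)
theorem F39327 : act 3 n11909 = n9624 := d21_1 D11909 (iv D9624) (iv F31088)
def n11910 : Q := act 5 n9324
theorem D11910 : act 5 n9324 = n11910 := rfl
theorem F39328 : act 0 n11910 = n9328 := d4_1 D11910 (iv D9328) (iv F31089)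
theorem F39329 : act 2 n11910 = n11910 := d15_1 D11910 (iv D11910) F31090
theorem F39330 : act 3 n11910 = n9325 := d19_1 D11910 (iv D9325) D9324
def n11911 : Q := act 6 n9324
theorem D11911 : act 6 n9324 = n11911 := rfl
theorem F39331 : act 0 n11911 = n9329 := d5_1 D11911 (iv D9329) (iv F31089)
theorem F39332 : act 3 n11911 = n9326 := d20_1 D11911 (iv D9326) D9324
theorem F39333 : act 4 n11911 = n9626 := d23_1 D11911 (iv D9626) (iv F31091)
def n11912 : Q := act 6 n9325
theorem D11912 : act 6 n9325 = n11912 := rfl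
theorem F39334 : act 0 n11912 = n9330 := d5_1 D11912 (iv D9330) (iv F31092)
theorem F39335 : act 2 n11912 = n11912 := d16_1 D11912 (iv D11912) F31093 F24552 (iv F31093)
theorem F39336 : act 5 n11912 = n9326 := d25_1 D11912 (iv D9326) D9325
def n11913 : Q := act 7 n9326
theorem D11913 : act 7 n9326 = n11913 := rfl
theorem F39337 : act 0 n11913 = n9331 := d6_1 D11913 (iv D9331) (iv F31094)
theorem F39338 : act 2 n11913 = n11913 := d17_1 D11913 (iv D11913) F31095
theorem F39339 : act 4 n11913 = n9327 := d24_1 D11913 (iv D9327) (iv F31096)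
def n11915 : Q := act 6 n9328
theorem D11915 : act 6 n9328 = n11915 := rfl
theorem F39344 : act 3 n11915 = n9330 := d20_1 D11915 (iv D9330) (iv F31102)
theorem F39345 : act 5 n11915 = n9329 := d25_1 D11915 (iv D9329) D9328
def n11916 : Q := act 2 n9329
theorem D11916 : act 2 n9329 = n11916 := rfl
theorem F39348 : act 4 n11916 = n9631 := d14_2 (iv F31105) D11916 (iv D9631)
def n11917 : Q := act 7 n9329
theorem D11917 : act 7 n9329 = n11917 := rfl
theorem F39351 : act 3 n11917 = n9331 := d21_1 D11917 (iv D9331) (iv F31104)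
def n11918 : Q := act 7 n9330
theorem D11918 : act 7 n9330 = n11918 := rfl
theorem F39355 : act 5 n11918 = n9331 := d26_1 D11918 (iv D9331) (iv F31108)
def n11919 : Q := act 3 n9332
theorem D11919 : act 3 n9332 = n11919 := rfl
theorem F39356 : act 1 n11919 = n9334 := d8_1 D11919 (iv D9334) (iv F31112)
theorem F39357 : act 4 n11919 = n9644 := d18_2 D9332 D11919 (iv D9644) (iv D7535) (iv F24564)
def n11920 : Q := act 5 n9332
theorem D11920 : act 5 n9332 = n11920 := rfl
theorem F39358 : act 1 n11920 = n9335 := d10_1 D11920 (iv D9335) (iv F31112)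
theorem F39359 : act 4 n11920 = n9353 := d22_1 D11920 (iv D9353) (iv D7308) (iv F24565) D9332
def n11921 : Q := act 6 n9332
theorem D11921 : act 6 n9332 = n11921 := rfl
theorem F39360 : act 1 n11921 = n9336 := d11_1 D11921 (iv D9336) (iv F31112)
theorem F39361 : act 4 n11921 = n9333 := d23_1 D11921 (iv D9333) D9332
def n11922 : Q := act 2 n9333
theorem D11922 : act 2 n9333 = n11922 := rfl
theorem F39362 : act 1 n11922 = n9381 := d7_1 D11922 (iv D9381) F24680 (iv F24569) (iv F31113)
theorem F39363 : act 5 n11922 = n9355 := d15_2 (iv F31115) D11922 (iv D9355)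
def n11923 : Q := act 7 n9333
theorem D11923 : act 7 n9333 = n11923 := rfl
theorem F39364 : act 1 n11923 = n9337 := d12_1 D11923 (iv D9337) (iv F31113)
theorem F39366 : act 5 n11923 = n9356 := d26_1 D11923 (iv D9356) (iv F31115)
def n11924 : Q := act 5 n9334
theorem D11924 : act 5 n9334 = n11924 := rfl
theorem F39367 : act 0 n11924 = n9338 := d4_1 D11924 (iv D9338) (iv F31116)
theorem F39368 : act 2 n11924 = n11924 := d15_1 D11924 (iv D11924) F31117
theorem F39369 : act 3 n11924 = n9335 := d19_1 D11924 (iv D9335) D9334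
def n11925 : Q := act 6 n9334
theorem D11925 : act 6 n9334 = n11925 := rfl
theorem F39371 : act 3 n11925 = n9336 := d20_1 D11925 (iv D9336) D9334
theorem F39372 : act 4 n11925 = n9650 := d23_1 D11925 (iv D9650) (iv F31118)
def n11926 : Q := act 6 n9335
theorem D11926 : act 6 n9335 = n11926 := rfl
theorem F39373 : act 0 n11926 = n9340 := d5_1 D11926 (iv D9340) (iv F31119)
theorem F39374 : act 2 n11926 = n9385 := d16_1 D11926 (iv D9385) F24688 (iv F24575) (iv F31120)
theorem F39375 : act 4 n11926 = n9359 := d23_1 D11926 (iv D9359) (iv F31121)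
theorem F39376 : act 5 n11926 = n9336 := d25_1 D11926 (iv D9336) D9335
def n11927 : Q := act 7 n9336
theorem D11927 : act 7 n9336 = n11927 := rfl
theorem F39377 : act 0 n11927 = n9341 := d6_1 D11927 (iv D9341) (iv F31122)
theorem F39378 : act 2 n11927 = n9386 := d17_1 D11927 (iv D9386) (iv F31123)
theorem F39379 : act 4 n11927 = n9337 := d24_1 D11927 (iv D9337) (iv F31124)
def n11929 : Q := act 6 n9338
theorem D11929 : act 6 n9338 = n11929 := rfl
theorem F39383 : act 3 n11929 = n9340 := d20_1 D11929 (iv D9340) (iv F31130)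
theorem F39384 : act 5 n11929 = n9339 := d25_1 D11929 (iv D9339) D9338
def n11931 : Q := act 7 n9339
theorem D11931 : act 7 n9339 = n11931 := rfl
theorem F39388 : act 3 n11931 = n9341 := d21_1 D11931 (iv D9341) (iv F31131)
def n11932 : Q := act 7 n9340
theorem D11932 : act 7 n9340 = n11932 := rfl
theorem F39390 : act 2 n11932 = n9390 := d17_1 D11932 (iv D9390) (iv F31133)
theorem F39391 : act 4 n11932 = n9364 := d24_1 D11932 (iv D9364) (iv F31134)
theorem F39392 : act 5 n11932 = n9341 := d26_1 D11932 (iv D9341) (iv F31135)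
def n11933 : Q := act 3 n9342
theorem D11933 : act 3 n9342 = n11933 := rfl
theorem F39393 : act 1 n11933 = n9344 := d8_1 D11933 (iv D9344) (iv F31138)
theorem F39394 : act 4 n11933 = n9658 := d18_2 D9342 D11933 (iv D9658) (iv D7545) (iv F24585)
theorem F39395 : act 7 n11933 = n9352 := d21_2 (iv F31139) D11933 (iv D9352)
def n11934 : Q := act 5 n9342
theorem D11934 : act 5 n9342 = n11934 := rfl
theorem F39396 : act 1 n11934 = n9345 := d10_1 D11934 (iv D9345) (iv F31138)
theorem F39397 : act 7 n11934 = n9353 := d26_2 (iv F31139) D11934 (iv D9353)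
def n11935 : Q := act 6 n9342
theorem D11935 : act 6 n9342 = n11935 := rfl
theorem F39398 : act 1 n11935 = n9346 := d11_1 D11935 (iv D9346) (iv F31138)
theorem F39399 : act 4 n11935 = n9343 := d23_1 D11935 (iv D9343) D9342
def n11936 : Q := act 2 n9343
theorem D11936 : act 2 n9343 = n11936 := rfl
theorem F39400 : act 1 n11936 = n11936 := d7_1 D11936 (iv D11936) F31140 F24591 (iv F31140)
def n11937 : Q := act 7 n9343
theorem D11937 : act 7 n9343 = n11937 := rfl
theorem F39401 : act 1 n11937 = n9347 := d12_1 D11937 (iv D9347) (iv F31140)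
theorem F39402 : act 3 n11937 = n9662 := d21_1 D11937 (iv D9662) (iv F31141)
theorem F39403 : act 6 n11937 = n9356 := d27_1 D11937 (iv D9356) (iv D7309) (iv F24586) D9343
def n11938 : Q := act 5 n9344
theorem D11938 : act 5 n9344 = n11938 := rfl
theorem F39407 : act 7 n11938 = n9357 := d26_2 (iv F31145) D11938 (iv D9357)
def n11939 : Q := act 6 n9344
theorem D11939 : act 6 n9344 = n11939 := rfl
theorem F39409 : act 3 n11939 = n9346 := d20_1 D11939 (iv D9346) D9344
theorem F39410 : act 4 n11939 = n9664 := d23_1 D11939 (iv D9664) (iv F31144)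
def n11940 : Q := act 6 n9345
theorem D11940 : act 6 n9345 = n11940 := rfl
theorem F39413 : act 5 n11940 = n9346 := d25_1 D11940 (iv D9346) D9345
def n11941 : Q := act 7 n9346
theorem D11941 : act 7 n9346 = n11941 := rfl
theorem F39416 : act 4 n11941 = n9347 := d24_1 D11941 (iv D9347) (iv F31151)
theorem F39417 : act 6 n11941 = n9360 := d27_1 D11941 (iv D9360) (iv D7312) (iv F24589) D9346
def n11946 : Q := act 7 n9350
theorem D11946 : act 7 n9350 = n11946 := rfl
theorem F39431 : act 6 n11946 = n9364 := d27_1 D11946 (iv D9364) (iv D7316) (iv F24601) D9350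
def n11947 : Q := act 2 n9352
theorem D11947 : act 2 n9352 = n11947 := rfl
theorem F39432 : act 1 n11947 = n9375 := d7_1 D11947 (iv D9375) F24662 (iv F24611) (iv F31166)
theorem F39433 : act 4 n11947 = n9672 := d14_2 (iv F31167) D11947 (iv D9672)
def n11948 : Q := act 5 n9352
theorem D11948 : act 5 n9352 = n11948 := rfl
theorem F39434 : act 1 n11948 = n9357 := d10_1 D11948 (iv D9357) (iv F31166)
theorem F39435 : act 3 n11948 = n9353 := d19_1 D11948 (iv D9353) D9352
def n11949 : Q := act 6 n9352
theorem D11949 : act 6 n9352 = n11949 := rfl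
theorem F39436 : act 1 n11949 = n9358 := d11_1 D11949 (iv D9358) (iv F31166)
theorem F39437 : act 3 n11949 = n9354 := d20_1 D11949 (iv D9354) D9352
theorem F39438 : act 4 n11949 = n9674 := d23_1 D11949 (iv D9674) (iv F31167)
def n11950 : Q := act 6 n9353
theorem D11950 : act 6 n9353 = n11950 := rfl
theorem F39439 : act 1 n11950 = n9359 := d11_1 D11950 (iv D9359) (iv F31168)
theorem F39440 : act 5 n11950 = n9354 := d25_1 D11950 (iv D9354) D9353
def n11951 : Q := act 2 n9354
theorem D11951 : act 2 n9354 = n11951 := rfl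
theorem F39441 : act 1 n11951 = n9392 := d7_1 D11951 (iv D9392) F24716 (iv F24616) (iv F31169)
theorem F39442 : act 4 n11951 = n9355 := d14_2 (iv F31170) D11951 (iv D9355)
def n11952 : Q := act 7 n9354
theorem D11952 : act 7 n9354 = n11952 := rfl
theorem F39443 : act 1 n11952 = n9360 := d12_1 D11952 (iv D9360) (iv F31169)
theorem F39444 : act 4 n11952 = n9356 := d24_1 D11952 (iv D9356) (iv F31170)
def n11953 : Q := act 3 n9355
theorem D11953 : act 3 n9355 = n11953 := rfl
theorem F39445 : act 1 n11953 = n9394 := d8_1 D11953 (iv D9394) (iv F31171)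
theorem F39446 : act 2 n11953 = n9678 := d13_1 D11953 (iv D9678) (iv D7558) (iv F24609) D9355
def n11954 : Q := act 7 n9355
theorem D11954 : act 7 n9355 = n11954 := rfl
theorem F39447 : act 1 n11954 = n9395 := d12_1 D11954 (iv D9395) (iv F31171)
theorem F39448 : act 2 n11954 = n9356 := d17_1 D11954 (iv D9356) D9355
def n11955 : Q := act 4 n9357
theorem D11955 : act 4 n9357 = n11955 := rfl
theorem F39450 : act 2 n11955 = n9377 := d14_1 D11955 (iv D9377) (iv F31175)
theorem F39451 : act 5 n11955 = n9680 := d22_2 D9357 D11955 (iv D9680) (iv D7560) (iv F24612)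
def n11956 : Q := act 6 n9357
theorem D11956 : act 6 n9357 = n11956 := rfl
theorem F39452 : act 0 n11956 = n9362 := d5_1 D11956 (iv D9362) (iv F31174)
def n11957 : Q := act 7 n9358
theorem D11957 : act 7 n9358 = n11957 := rfl
theorem F39456 : act 0 n11957 = n9363 := d6_1 D11957 (iv D9363) (iv F31177)
def n11958 : Q := act 7 n9359
theorem D11958 : act 7 n9359 = n11958 := rfl
def n11959 : Q := act 6 n9361
theorem D11959 : act 6 n9361 = n11959 := rfl
theorem F39465 : act 5 n11959 = n9684 := d25_1 D11959 (iv D9684) (iv F31188)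
def n11961 : Q := act 2 n9365
theorem D11961 : act 2 n9365 = n11961 := rfl
theorem F39469 : act 0 n11961 = n11961 := d1_1 D11961 (iv D11961) F31197
theorem F39470 : act 4 n11961 = n9686 := d14_2 (iv F31199) D11961 (iv D9686)
theorem F39471 : act 7 n11961 = n9375 := d17_2 (iv F31200) D11961 (iv D9375)
def n11962 : Q := act 5 n9365
theorem D11962 : act 5 n9365 = n11962 := rfl
theorem F39473 : act 1 n11962 = n9369 := d10_1 D11962 (iv D9369) (iv F31198)
theorem F39474 : act 3 n11962 = n9366 := d19_1 D11962 (iv D9366) D9365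
theorem F39475 : act 7 n11962 = n9376 := d26_2 (iv F31200) D11962 (iv D9376)
def n11963 : Q := act 6 n9365
theorem D11963 : act 6 n9365 = n11963 := rfl
def n11964 : Q := act 6 n9366
theorem D11964 : act 6 n9366 = n11964 := rfl
theorem F39484 : act 5 n11964 = n9367 := d25_1 D11964 (iv D9367) D9366
def n11965 : Q := act 2 n9367
theorem D11965 : act 2 n9367 = n11965 := rfl
theorem F39486 : act 0 n11965 = n11965 := d1_1 D11965 (iv D11965) F31205
theorem F39487 : act 1 n11965 = n11965 := d7_1 D11965 (iv D11965) F31206 F24646 (iv F31206)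
theorem F39488 : act 4 n11965 = n9368 := d14_2 (iv F31207) D11965 (iv D9368)
theorem F39489 : act 7 n11965 = n11965 := d17_2 F31208 D11965 (iv D11965)
def n11966 : Q := act 3 n9368
theorem D11966 : act 3 n9368 = n11966 := rfl
theorem F39492 : act 2 n11966 = n9691 := d13_1 D11966 (iv D9691) (iv D7571) (iv F24635) D9368
def n11973 : Q := act 5 n9375
theorem D11973 : act 5 n9375 = n11973 := rfl
theorem F39519 : act 0 n11973 = n11973 := d4_1 D11973 (iv D11973) F31236
theorem F39520 : act 2 n11973 = n9376 := d15_1 D11973 (iv D9376) D9375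
def n11974 : Q := act 6 n9375
theorem D11974 : act 6 n9375 = n11974 := rfl
theorem F39521 : act 0 n11974 = n11974 := d5_1 D11974 (iv D11974) F31236
theorem F39522 : act 2 n11974 = n11974 := d16_1 D11974 (iv D11974) (iv D9375) F24664 D9375
theorem F39523 : act 4 n11974 = n9699 := d23_1 D11974 (iv D9699) (iv F31237)
def n11975 : Q := act 4 n9376
theorem D11975 : act 4 n9376 = n11975 := rfl
theorem F39527 : act 5 n11975 = n9700 := d22_2 D9376 D11975 (iv D9700) (iv D7579) (iv F24663)
def n11976 : Q := act 2 n9378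
theorem D11976 : act 2 n9378 = n11976 := rfl
theorem F39529 : act 0 n11976 = n11976 := d1_1 D11976 (iv D11976) F31246
theorem F39530 : act 1 n11976 = n11976 := d7_1 D11976 (iv D11976) F31247 F24684 (iv F31247)
theorem F39531 : act 4 n11976 = n9397 := d14_2 (iv F31248) D11976 (iv D9397)
theorem F39532 : act 7 n11976 = n11976 := d17_2 F31249 D11976 (iv D11976)
def n11977 : Q := act 5 n9378
theorem D11977 : act 5 n9378 = n11977 := rfl
theorem F39533 : act 0 n11977 = n11977 := d4_1 D11977 (iv D11977) F31246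
theorem F39534 : act 1 n11977 = n9383 := d10_1 D11977 (iv D9383) (iv F31247)
theorem F39535 : act 3 n11977 = n9379 := d19_1 D11977 (iv D9379) D9378
theorem F39536 : act 4 n11977 = n11977 := d22_1 D11977 (iv D11977) F31248 F24737 (iv F31248)
theorem F39537 : act 7 n11977 = n11977 := d26_2 F31249 D11977 (iv D11977)
def n11978 : Q := act 6 n9378
theorem D11978 : act 6 n9378 = n11978 := rfl
theorem F39540 : act 3 n11978 = n9380 := d20_1 D11978 (iv D9380) D9378
theorem F39541 : act 4 n11978 = n9398 := d23_1 D11978 (iv D9398) (iv F31248)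
def n11979 : Q := act 6 n9379
theorem D11979 : act 6 n9379 = n11979 := rfl
theorem F39542 : act 0 n11979 = n11979 := d5_1 D11979 (iv D11979) F31250
theorem F39543 : act 1 n11979 = n9385 := d11_1 D11979 (iv D9385) (iv F31251)
theorem F39544 : act 4 n11979 = n9391 := d23_1 D11979 (iv D9391) (iv F31252)
theorem F39545 : act 5 n11979 = n9380 := d25_1 D11979 (iv D9380) D9379
def n11980 : Q := act 2 n9380
theorem D11980 : act 2 n9380 = n11980 := rfl
theorem F39546 : act 0 n11980 = n11980 := d1_1 D11980 (iv D11980) F31254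
theorem F39547 : act 4 n11980 = n9381 := d14_2 (iv F31256) D11980 (iv D9381)
def n11981 : Q := act 7 n9380
theorem D11981 : act 7 n9380 = n11981 := rfl
theorem F39548 : act 0 n11981 = n11981 := d6_1 D11981 (iv D11981) F31254
theorem F39549 : act 1 n11981 = n9386 := d12_1 D11981 (iv D9386) (iv F31255)
theorem F39550 : act 4 n11981 = n9382 := d24_1 D11981 (iv D9382) (iv F31256)
theorem F39551 : act 6 n11981 = n11981 := d27_1 D11981 (iv D11981) (iv D9380) F24678 D9380
def n11982 : Q := act 3 n9381
theorem D11982 : act 3 n9381 = n11982 := rfl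
theorem F39553 : act 2 n11982 = n9401 := d13_1 D11982 (iv D9401) (iv D7349) (iv F24681) D9381
theorem F39554 : act 5 n11982 = n9394 := d19_2 (iv F31258) D11982 (iv D9394)
def n11983 : Q := act 7 n9381
theorem D11983 : act 7 n9381 = n11983 := rfl
theorem F39555 : act 0 n11983 = n11983 := d6_1 D11983 (iv D11983) F31257
theorem F39556 : act 2 n11983 = n9382 := d17_1 D11983 (iv D9382) D9381
theorem F39557 : act 5 n11983 = n9395 := d26_1 D11983 (iv D9395) (iv F31258)
def n11984 : Q := act 6 n9383
theorem D11984 : act 6 n9383 = n11984 := rfl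
theorem F39559 : act 3 n11984 = n9385 := d20_1 D11984 (iv D9385) (iv F31266)
theorem F39561 : act 5 n11984 = n9384 := d25_1 D11984 (iv D9384) D9383
def n11986 : Q := act 7 n9384
theorem D11986 : act 7 n9384 = n11986 := rfl
theorem F39566 : act 3 n11986 = n9386 := d21_1 D11986 (iv D9386) (iv F31270)
theorem F39567 : act 4 n11986 = n9404 := d24_1 D11986 (iv D9404) (iv F31271)
def n11987 : Q := act 7 n9385
theorem D11987 : act 7 n9385 = n11987 := rfl
theorem F39569 : act 0 n11987 = n9390 := d6_1 D11987 (iv D9390) (iv F31272)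
theorem F39570 : act 4 n11987 = n9396 := d24_1 D11987 (iv D9396) (iv F31273)
theorem F39571 : act 5 n11987 = n9386 := d26_1 D11987 (iv D9386) (iv F31274)
theorem F39572 : act 6 n11987 = n11987 := d27_1 D11987 (iv D11987) (iv D9385) F24690 D9385
def n11989 : Q := act 7 n9387
theorem D11989 : act 7 n9387 = n11989 := rfl
theorem F39577 : act 3 n11989 = n9390 := d21_1 D11989 (iv D9390) (iv F31279)
def n11992 : Q := act 2 n9391
theorem D11992 : act 2 n9391 = n11992 := rfl
theorem F39586 : act 0 n11992 = n11992 := d1_1 D11992 (iv D11992) F31292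
theorem F39587 : act 5 n11992 = n9392 := d15_2 (iv F31295) D11992 (iv D9392)
def n11993 : Q := act 7 n9391
theorem D11993 : act 7 n9391 = n11993 := rfl
theorem F39588 : act 0 n11993 = n11993 := d6_1 D11993 (iv D11993) F31292
theorem F39589 : act 1 n11993 = n9396 := d12_1 D11993 (iv D9396) (iv F31293)
theorem F39590 : act 3 n11993 = n11993 := d21_1 D11993 (iv D11993) F31294
theorem F39591 : act 5 n11993 = n9393 := d26_1 D11993 (iv D9393) (iv F31295)
theorem F39592 : act 6 n11993 = n11993 := d27_1 D11993 (iv D11993) (iv D9391) F24714 D9391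
def n11994 : Q := act 3 n9392
theorem D11994 : act 3 n9392 = n11994 := rfl
theorem F39593 : act 0 n11994 = n11994 := d2_1 D11994 (iv D11994) F31296
theorem F39594 : act 2 n11994 = n11994 := d13_1 D11994 (iv D11994) (iv D9392) F24717 D9392
def n11995 : Q := act 7 n9392
theorem D11995 : act 7 n9392 = n11995 := rfl
theorem F39595 : act 0 n11995 = n11995 := d6_1 D11995 (iv D11995) F31296
theorem F39596 : act 2 n11995 = n9393 := d17_1 D11995 (iv D9393) D9392
theorem F39597 : act 4 n11995 = n9395 := d24_1 D11995 (iv D9395) (iv F31297)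
def n11996 : Q := act 4 n9394
theorem D11996 : act 4 n9394 = n11996 := rfl
def n11997 : Q := act 7 n9394
theorem D11997 : act 7 n9394 = n11997 := rfl
theorem F39602 : act 3 n11997 = n9395 := d21_1 D11997 (iv D9395) D9394
def n11998 : Q := act 6 n9395
theorem D11998 : act 6 n9395 = n11998 := rfl
def n11999 : Q := act 6 n9397
theorem D11999 : act 6 n9397 = n11999 := rfl
def n12001 : Q := act 7 n9398
theorem D12001 : act 7 n9398 = n12001 := rfl
theorem F39612 : act 1 n12001 = n9404 := d12_1 D12001 (iv D9404) (iv F31317)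
def n12008 : Q := act 7 n9403
theorem D12008 : act 7 n9403 = n12008 := rfl
theorem F39641 : act 2 n12008 = n9404 := d17_1 D12008 (iv D9404) D9403
theorem F39642 : act 3 n12008 = n9733 := d21_1 D12008 (iv D9733) (iv F31339)
def n12013 : Q := act 7 n9407
theorem D12013 : act 7 n9407 = n12013 := rfl
theorem F39663 : act 4 n12013 = n9408 := d24_1 D12013 (iv D9408) D9407
def n12015 : Q := act 4 n9410
theorem D12015 : act 4 n9410 = n12015 := rfl
theorem F39668 : act 0 n12015 = n9434 := d3_1 D12015 (iv D9434) (iv F31365)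
theorem F39669 : act 1 n12015 = n9411 := d9_1 D12015 (iv D9411) D9410
theorem F39670 : act 2 n12015 = n9634 := d14_1 D12015 (iv D9634) (iv F31366)
theorem F39671 : act 7 n12015 = n9486 := d24_2 (iv F31369) D12015 (iv D9486)
def n12016 : Q := act 6 n9410
theorem D12016 : act 6 n9410 = n12016 := rfl
theorem F39672 : act 0 n12016 = n9435 := d5_1 D12016 (iv D9435) (iv F31365)
theorem F39673 : act 1 n12016 = n9412 := d11_1 D12016 (iv D9412) D9410
theorem F39674 : act 3 n12016 = n9477 := d20_1 D12016 (iv D9477) (iv F31367)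
theorem F39675 : act 5 n12016 = n9497 := d25_1 D12016 (iv D9497) (iv F31368)
def n12017 : Q := act 3 n9411
theorem D12017 : act 3 n9411 = n12017 := rfl
theorem F39679 : act 7 n12017 = n9488 := d21_2 (iv F31372) D12017 (iv D9488)
def n12019 : Q := act 6 n9411
theorem D12019 : act 6 n9411 = n12019 := rfl
theorem F39686 : act 4 n12019 = n9412 := d23_1 D12019 (iv D9412) D9411
def n12020 : Q := act 7 n9412
theorem D12020 : act 7 n9412 = n12020 := rfl
theorem F39690 : act 5 n12020 = n9501 := d26_1 D12020 (iv D9501) (iv F31376)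
theorem F39691 : act 6 n12020 = n9491 := d27_1 D12020 (iv D9491) (iv D7413) (iv F24776) D9412
def n12021 : Q := act 5 n9414
theorem D12021 : act 5 n9414 = n12021 := rfl
theorem F39695 : act 7 n12021 = n9492 := d26_2 (iv F31386) D12021 (iv D9492)
def n12022 : Q := act 6 n9414
theorem D12022 : act 6 n9414 = n12022 := rfl
theorem F39698 : act 4 n12022 = n9483 := d23_1 D12022 (iv D9483) (iv F31385)
def n12024 : Q := act 7 n9416
theorem D12024 : act 7 n9416 = n12024 := rfl
theorem F39703 : act 1 n12024 = n9443 := d12_1 D12024 (iv D9443) (iv F31391)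
theorem F39706 : act 6 n12024 = n9495 := d27_1 D12024 (iv D9495) (iv D7417) (iv F24784) D9416
def n12025 : Q := act 4 n9418
theorem D12025 : act 4 n9418 = n12025 := rfl
theorem F39707 : act 0 n12025 = n9496 := d3_1 D12025 (iv D9496) (iv F31399)
theorem F39708 : act 1 n12025 = n9419 := d9_1 D12025 (iv D9419) D9418
theorem F39709 : act 2 n12025 = n9610 := d14_1 D12025 (iv D9610) (iv F31400)
theorem F39710 : act 7 n12025 = n9476 := d24_2 (iv F31403) D12025 (iv D9476)
def n12026 : Q := act 6 n9418
theorem D12026 : act 6 n9418 = n12026 := rfl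
theorem F39711 : act 0 n12026 = n9497 := d5_1 D12026 (iv D9497) (iv F31399)
theorem F39712 : act 1 n12026 = n9420 := d11_1 D12026 (iv D9420) D9418
theorem F39713 : act 3 n12026 = n9487 := d20_1 D12026 (iv D9487) (iv F31401)
theorem F39714 : act 5 n12026 = n9435 := d25_1 D12026 (iv D9435) (iv F31402)
def n12027 : Q := act 3 n9419
theorem D12027 : act 3 n9419 = n12027 := rfl
theorem F39717 : act 4 n12027 = n9488 := d18_2 D9419 D12027 (iv D9488) (iv D7412) (iv F24795)
def n12029 : Q := act 6 n9419
theorem D12029 : act 6 n9419 = n12029 := rfl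
theorem F39725 : act 4 n12029 = n9420 := d23_1 D12029 (iv D9420) D9419
def n12030 : Q := act 7 n9420
theorem D12030 : act 7 n9420 = n12030 := rfl
theorem F39728 : act 3 n12030 = n9491 := d21_1 D12030 (iv D9491) (iv F31409)
theorem F39729 : act 5 n12030 = n9439 := d26_1 D12030 (iv D9439) (iv F31410)
def n12031 : Q := act 5 n9422
theorem D12031 : act 5 n9422 = n12031 := rfl
theorem F39734 : act 7 n12031 = n9482 := d26_2 (iv F31420) D12031 (iv D9482)
def n12035 : Q := act 4 n9426
theorem D12035 : act 4 n9426 = n12035 := rfl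
theorem F39746 : act 0 n12035 = n9486 := d3_1 D12035 (iv D9486) (iv F31433)
theorem F39747 : act 1 n12035 = n9427 := d9_1 D12035 (iv D9427) D9426
theorem F39748 : act 2 n12035 = n9600 := d14_1 D12035 (iv D9600) (iv F31434)
theorem F39749 : act 7 n12035 = n9434 := d24_2 (iv F31437) D12035 (iv D9434)
def n12036 : Q := act 6 n9426
theorem D12036 : act 6 n9426 = n12036 := rfl
theorem F39750 : act 0 n12036 = n9487 := d5_1 D12036 (iv D9487) (iv F31433)
theorem F39751 : act 1 n12036 = n9428 := d11_1 D12036 (iv D9428) D9426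
theorem F39752 : act 3 n12036 = n9497 := d20_1 D12036 (iv D9497) (iv F31435)
theorem F39753 : act 5 n12036 = n9477 := d25_1 D12036 (iv D9477) (iv F31436)
def n12037 : Q := act 3 n9427
theorem D12037 : act 3 n9427 = n12037 := rfl
theorem F39755 : act 2 n12037 = n9454 := d13_1 D12037 (iv D9454) F24878 (iv F24821) (iv F31439)
theorem F39757 : act 7 n12037 = n9436 := d21_2 (iv F31440) D12037 (iv D9436)
def n12038 : Q := act 5 n9427
theorem D12038 : act 5 n9427 = n12038 := rfl
theorem F39758 : act 0 n12038 = n9431 := d4_1 D12038 (iv D9431) (iv F31438)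
theorem F39761 : act 7 n12038 = n9437 := d26_2 (iv F31440) D12038 (iv D9437)
def n12039 : Q := act 6 n9427
theorem D12039 : act 6 n9427 = n12039 := rfl
theorem F39764 : act 4 n12039 = n9428 := d23_1 D12039 (iv D9428) D9427
def n12040 : Q := act 7 n9428
theorem D12040 : act 7 n9428 = n12040 := rfl
theorem F39768 : act 5 n12040 = n9481 := d26_1 D12040 (iv D9481) (iv F31444)
theorem F39769 : act 6 n12040 = n9439 := d27_1 D12040 (iv D9439) (iv D7374) (iv F24818) D9428
def n12041 : Q := act 5 n9430
theorem D12041 : act 5 n9430 = n12041 := rfl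
theorem F39771 : act 2 n12041 = n9458 := d15_1 D12041 (iv D9458) (iv F31452)
theorem F39772 : act 3 n12041 = n9431 := d19_1 D12041 (iv D9431) D9430
theorem F39773 : act 7 n12041 = n9440 := d26_2 (iv F31454) D12041 (iv D9440)
def n12042 : Q := act 6 n9430
theorem D12042 : act 6 n9430 = n12042 := rfl
theorem F39774 : act 1 n12042 = n9493 := d11_1 D12042 (iv D9493) (iv F31451)
theorem F39775 : act 3 n12042 = n9432 := d20_1 D12042 (iv D9432) D9430
def n12043 : Q := act 6 n9431
theorem D12043 : act 6 n9431 = n12043 := rfl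
theorem F39778 : act 2 n12043 = n9815 := d16_1 D12043 (iv D9815) F25729 (iv F24834) (iv F31456)
def n12044 : Q := act 7 n9432
theorem D12044 : act 7 n9432 = n12044 := rfl
theorem F39784 : act 6 n12044 = n9443 := d27_1 D12044 (iv D9443) (iv D7378) (iv F24826) D9432
def n12045 : Q := act 3 n9434
theorem D12045 : act 3 n9434 = n12045 := rfl
theorem F39786 : act 4 n12045 = n9506 := d18_2 D9434 D12045 (iv D9506) (iv D7427) (iv F24836)
def n12046 : Q := act 5 n9434
theorem D12046 : act 5 n9434 = n12046 := rfl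
theorem F39787 : act 1 n12046 = n9437 := d10_1 D12046 (iv D9437) (iv F31467)
def n12047 : Q := act 6 n9434
theorem D12047 : act 6 n9434 = n12047 := rfl
theorem F39788 : act 1 n12047 = n9438 := d11_1 D12047 (iv D9438) (iv F31467)
theorem F39789 : act 4 n12047 = n9435 := d23_1 D12047 (iv D9435) D9434
def n12048 : Q := act 2 n9435
theorem D12048 : act 2 n9435 = n12048 := rfl
theorem F39790 : act 1 n12048 = n12048 := d7_1 D12048 (iv D12048) F31468 F24840 (iv F31468)
def n12049 : Q := act 7 n9435
theorem D12049 : act 7 n9435 = n12049 := rfl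
theorem F39791 : act 1 n12049 = n9439 := d12_1 D12049 (iv D9439) (iv F31468)
theorem F39792 : act 3 n12049 = n9510 := d21_1 D12049 (iv D9510) (iv F31469)
def n12050 : Q := act 5 n9436
theorem D12050 : act 5 n9436 = n12050 := rfl
def n12051 : Q := act 6 n9436
theorem D12051 : act 6 n9436 = n12051 := rfl
theorem F39797 : act 3 n12051 = n9438 := d20_1 D12051 (iv D9438) D9436
theorem F39798 : act 4 n12051 = n9512 := d23_1 D12051 (iv D9512) (iv F31472)
def n12052 : Q := act 6 n9437
theorem D12052 : act 6 n9437 = n12052 := rfl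
theorem F39799 : act 0 n12052 = n9442 := d5_1 D12052 (iv D9442) (iv F31473)
theorem F39801 : act 5 n12052 = n9438 := d25_1 D12052 (iv D9438) D9437
def n12053 : Q := act 7 n9438
theorem D12053 : act 7 n9438 = n12053 := rfl
theorem F39802 : act 0 n12053 = n9443 := d6_1 D12053 (iv D9443) (iv F31475)
theorem F39804 : act 4 n12053 = n9439 := d24_1 D12053 (iv D9439) (iv F31477)
def n12054 : Q := act 4 n9440
theorem D12054 : act 4 n9440 = n12054 := rfl
theorem F39806 : act 5 n12054 = n9515 := d22_2 D9440 D12054 (iv D9515) (iv D7433) (iv F24846)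
def n12058 : Q := act 7 n9442
theorem D12058 : act 7 n9442 = n12058 := rfl
theorem F39815 : act 5 n12058 = n9443 := d26_1 D12058 (iv D9443) (iv F31486)
def n12059 : Q := act 4 n9444
theorem D12059 : act 4 n9444 = n12059 := rfl
theorem F39817 : act 1 n12059 = n9445 := d9_1 D12059 (iv D9445) D9444
theorem F39818 : act 2 n12059 = n9947 := d14_1 D12059 (iv D9947) (iv F31490)
def n12062 : Q := act 5 n9445
theorem D12062 : act 5 n9445 = n12062 := rfl
theorem F39829 : act 2 n12062 = n9447 := d15_1 D12062 (iv D9447) (iv F31495)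
def n12063 : Q := act 6 n9445
theorem D12063 : act 6 n9445 = n12063 := rfl
theorem F39833 : act 2 n12063 = n9456 := d16_1 D12063 (iv D9456) F24878 (iv F24859) (iv F31495)
def n12067 : Q := act 6 n9449
theorem D12067 : act 6 n9449 = n12067 := rfl
theorem F39848 : act 2 n12067 = n9460 := d16_1 D12067 (iv D9460) F24890 (iv F24871) (iv F31512)
def n12069 : Q := act 3 n9452
theorem D12069 : act 3 n9452 = n12069 := rfl
theorem F39856 : act 1 n12069 = n9454 := d8_1 D12069 (iv D9454) (iv F31524)
def n12070 : Q := act 5 n9452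
theorem D12070 : act 5 n9452 = n12070 := rfl
theorem F39859 : act 0 n12070 = n12070 := d4_1 D12070 (iv D12070) F31523
theorem F39860 : act 1 n12070 = n9455 := d10_1 D12070 (iv D9455) (iv F31524)
theorem F39861 : act 4 n12070 = n12070 := d22_1 D12070 (iv D12070) (iv D9452) F24875 D9452
theorem F39862 : act 7 n12070 = n9463 := d26_2 (iv F31525) D12070 (iv D9463)
def n12071 : Q := act 6 n9452
theorem D12071 : act 6 n9452 = n12071 := rfl
theorem F39864 : act 1 n12071 = n9456 := d11_1 D12071 (iv D9456) (iv F31524)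
def n12072 : Q := act 2 n9453
theorem D12072 : act 2 n9453 = n12072 := rfl
def n12074 : Q := act 5 n9454
theorem D12074 : act 5 n9454 = n12074 := rfl
theorem F39874 : act 3 n12074 = n9455 := d19_1 D12074 (iv D9455) D9454
def n12076 : Q := act 6 n9455
theorem D12076 : act 6 n9455 = n12076 := rfl
def n12078 : Q := act 4 n9458
theorem D12078 : act 4 n9458 = n12078 := rfl
theorem F39887 : act 5 n12078 = n9529 := d22_2 D9458 D12078 (iv D9529) (iv D7443) (iv F24887)
def n12083 : Q := act 2 n9462
theorem D12083 : act 2 n9462 = n12083 := rfl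
theorem F39902 : act 4 n12083 = n9534 := d14_2 (iv F31557) D12083 (iv D9534)
def n12086 : Q := act 6 n9463
theorem D12086 : act 6 n9463 = n12086 := rfl
theorem F39913 : act 5 n12086 = n9464 := d25_1 D12086 (iv D9464) D9463
def n12087 : Q := act 2 n9464
theorem D12087 : act 2 n9464 = n12087 := rfl
theorem F39916 : act 4 n12087 = n9465 := d14_2 (iv F31563) D12087 (iv D9465)
def n12100 : Q := act 3 n9476
theorem D12100 : act 3 n9476 = n12100 := rfl
def n12104 : Q := act 7 n9477
theorem D12104 : act 7 n9477 = n12104 := rfl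
def n12109 : Q := act 4 n9482
theorem D12109 : act 4 n9482 = n12109 := rfl
def n12114 : Q := act 3 n9486
theorem D12114 : act 3 n9486 = n12114 := rfl
theorem F39992 : act 1 n12114 = n9488 := d8_1 D12114 (iv D9488) (iv F31624)
def n12115 : Q := act 5 n9486
theorem D12115 : act 5 n9486 = n12115 := rfl
theorem F39993 : act 1 n12115 = n9489 := d10_1 D12115 (iv D9489) (iv F31624)
def n12117 : Q := act 2 n9487
theorem D12117 : act 2 n9487 = n12117 := rfl
theorem F39998 : act 1 n12117 = n9552 := d7_1 D12117 (iv D9552) F25081 (iv F24953) (iv F31626)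
def n12118 : Q := act 7 n9487
theorem D12118 : act 7 n9487 = n12118 := rfl
theorem F40001 : act 1 n12118 = n9491 := d12_1 D12118 (iv D9491) (iv F31626)
theorem F40002 : act 5 n12118 = n9510 := d26_1 D12118 (iv D9510) (iv F31627)
def n12123 : Q := act 4 n9492
theorem D12123 : act 4 n9492 = n12123 := rfl
def n12126 : Q := act 7 n9493
theorem D12126 : act 7 n9493 = n12126 := rfl
def n12128 : Q := act 3 n9496
theorem D12128 : act 3 n9496 = n12128 := rfl
theorem F40026 : act 7 n12128 = n9506 := d21_2 (iv F31649) D12128 (iv D9506)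
def n12129 : Q := act 5 n9496
theorem D12129 : act 5 n9496 = n12129 := rfl
theorem F40028 : act 2 n12129 = n9659 := d15_1 D12129 (iv D9659) (iv F31648)
theorem F40029 : act 7 n12129 = n9507 := d26_2 (iv F31649) D12129 (iv D9507)
def n12130 : Q := act 6 n9496
theorem D12130 : act 6 n9496 = n12130 := rfl
theorem F40030 : act 1 n12130 = n9500 := d11_1 D12130 (iv D9500) (iv F31647)
theorem F40031 : act 4 n12130 = n9497 := d23_1 D12130 (iv D9497) D9496
def n12131 : Q := act 2 n9497
theorem D12131 : act 2 n9497 = n12131 := rfl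
theorem F40032 : act 1 n12131 = n10635 := d7_1 D12131 (iv D10635) F27724 (iv F24973) (iv F31650)
theorem F40033 : act 6 n12131 = n9661 := d16_2 D9497 D12131 (iv D9661) (iv D7546) (iv F24967)
def n12132 : Q := act 7 n9497
theorem D12132 : act 7 n9497 = n12132 := rfl
theorem F40034 : act 1 n12132 = n9501 := d12_1 D12132 (iv D9501) (iv F31650)
theorem F40035 : act 6 n12132 = n9510 := d27_1 D12132 (iv D9510) (iv D7428) (iv F24968) D9497
def n12134 : Q := act 6 n9498
theorem D12134 : act 6 n9498 = n12134 := rfl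
theorem F40041 : act 3 n12134 = n9500 := d20_1 D12134 (iv D9500) D9498
def n12135 : Q := act 6 n9499
theorem D12135 : act 6 n9499 = n12135 := rfl
theorem F40043 : act 2 n12135 = n10639 := d16_1 D12135 (iv D10639) F27729 (iv F24977) (iv F31655)
theorem F40044 : act 5 n12135 = n9500 := d25_1 D12135 (iv D9500) D9499
def n12136 : Q := act 7 n9500
theorem D12136 : act 7 n9500 = n12136 := rfl
theorem F40046 : act 2 n12136 = n10640 := d17_1 D12136 (iv D10640) (iv F31658)
theorem F40048 : act 6 n12136 = n9514 := d27_1 D12136 (iv D9514) (iv D7431) (iv F24971) D9500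
def n12137 : Q := act 4 n9502
theorem D12137 : act 4 n9502 = n12137 := rfl
theorem F40050 : act 7 n12137 = n9515 := d24_2 (iv F31665) D12137 (iv D9515)
def n12142 : Q := act 2 n9506
theorem D12142 : act 2 n9506 = n12142 := rfl
theorem F40061 : act 3 n12142 = n9672 := d13_2 D9506 D12142 (iv D9672) (iv D7555) (iv F24988)
def n12144 : Q := act 6 n9506
theorem D12144 : act 6 n9506 = n12144 := rfl
theorem F40065 : act 3 n12144 = n9508 := d20_1 D12144 (iv D9508) D9506
def n12145 : Q := act 6 n9507
theorem D12145 : act 6 n9507 = n12145 := rfl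
theorem F40066 : act 1 n12145 = n9513 := d11_1 D12145 (iv D9513) (iv F31673)
theorem F40067 : act 5 n12145 = n9508 := d25_1 D12145 (iv D9508) D9507
def n12147 : Q := act 7 n9508
theorem D12147 : act 7 n9508 = n12147 := rfl
def n12148 : Q := act 3 n9509
theorem D12148 : act 3 n9509 = n12148 := rfl
def n12151 : Q := act 6 n9511
theorem D12151 : act 6 n9511 = n12151 := rfl
theorem F40080 : act 3 n12151 = n9513 := d20_1 D12151 (iv D9513) (iv F31682)
theorem F40081 : act 5 n12151 = n9512 := d25_1 D12151 (iv D9512) D9511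
def n12160 : Q := act 2 n9520
theorem D12160 : act 2 n9520 = n12160 := rfl
theorem F40101 : act 3 n12160 = n9686 := d13_2 D9520 D12160 (iv D9686) (iv D7568) (iv F25008)
theorem F40102 : act 7 n12160 = n9534 := d17_2 (iv F31701) D12160 (iv D9534)
def n12164 : Q := act 2 n9522
theorem D12164 : act 2 n9522 = n12164 := rfl
theorem F40116 : act 4 n12164 = n9523 := d14_2 (iv F31709) D12164 (iv D9523)
theorem F40117 : act 6 n12164 = n9690 := d16_2 D9522 D12164 (iv D9690) (iv D7570) (iv F25008)
def n12166 : Q := act 3 n9523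
theorem D12166 : act 3 n9523 = n12166 := rfl
theorem F40125 : act 6 n12166 = n9691 := d20_2 (iv F31713) D12166 (iv D9691)
def n12179 : Q := act 6 n9534
theorem D12179 : act 6 n9534 = n12179 := rfl
theorem F40164 : act 3 n12179 = n9699 := d20_1 D12179 (iv D9699) (iv F31747)
def n12198 : Q := act 5 n9549
theorem D12198 : act 5 n9549 = n12198 := rfl
theorem F40216 : act 0 n12198 = n9883 := d4_1 D12198 (iv D9883) (iv F31788)
def n12225 : Q := act 6 n9569
theorem D12225 : act 6 n9569 = n12225 := rfl
theorem F40312 : act 2 n12225 = n10729 := d16_1 D12225 (iv D10729) F27930 (iv F25128) (iv F31862)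
def n12263 : Q := act 5 n9600
theorem D12263 : act 5 n9600 = n12263 := rfl
theorem F40432 : act 0 n12263 = n9645 := d4_1 D12263 (iv D9645) (iv F31961)
def n12266 : Q := act 7 n9601
theorem D12266 : act 7 n9601 = n12266 := rfl
theorem F40443 : act 5 n12266 = n9624 := d26_1 D12266 (iv D9624) (iv F31965)
def n12276 : Q := act 3 n9610
theorem D12276 : act 3 n9610 = n12276 := rfl
theorem F40467 : act 0 n12276 = n9658 := d2_1 D12276 (iv D9658) (iv F31987)
theorem F40468 : act 1 n12276 = n9612 := d8_1 D12276 (iv D9612) (iv F31988)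
theorem F40469 : act 7 n12276 = n9620 := d21_2 (iv F31989) D12276 (iv D9620)
def n12277 : Q := act 5 n9610
theorem D12277 : act 5 n9610 = n12277 := rfl
theorem F40470 : act 0 n12277 = n9659 := d4_1 D12277 (iv D9659) (iv F31987)
theorem F40471 : act 1 n12277 = n9613 := d10_1 D12277 (iv D9613) (iv F31988)
theorem F40472 : act 7 n12277 = n9621 := d26_2 (iv F31989) D12277 (iv D9621)
def n12278 : Q := act 6 n9610
theorem D12278 : act 6 n9610 = n12278 := rfl
theorem F40473 : act 0 n12278 = n9660 := d5_1 D12278 (iv D9660) (iv F31987)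
theorem F40474 : act 1 n12278 = n9614 := d11_1 D12278 (iv D9614) (iv F31988)
theorem F40475 : act 4 n12278 = n9611 := d23_1 D12278 (iv D9611) D9610
def n12279 : Q := act 2 n9611
theorem D12279 : act 2 n9611 = n12279 := rfl
theorem F40476 : act 0 n12279 = n9661 := d1_1 D12279 (iv D9661) (iv F31990)
theorem F40477 : act 1 n12279 = n12279 := d7_1 D12279 (iv D12279) F31991 F25245 (iv F31991)
def n12280 : Q := act 7 n9611
theorem D12280 : act 7 n9611 = n12280 := rfl
theorem F40478 : act 0 n12280 = n9662 := d6_1 D12280 (iv D9662) (iv F31990)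
theorem F40479 : act 1 n12280 = n9615 := d12_1 D12280 (iv D9615) (iv F31991)
theorem F40480 : act 6 n12280 = n9624 := d27_1 D12280 (iv D9624) (iv D7518) (iv F25240) D9611
def n12281 : Q := act 5 n9612
theorem D12281 : act 5 n9612 = n12281 := rfl
theorem F40483 : act 3 n12281 = n9613 := d19_1 D12281 (iv D9613) D9612
theorem F40484 : act 7 n12281 = n9625 := d26_2 (iv F31994) D12281 (iv D9625)
def n12283 : Q := act 6 n9613
theorem D12283 : act 6 n9613 = n12283 := rfl
def n12284 : Q := act 7 n9614
theorem D12284 : act 7 n9614 = n12284 := rfl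
theorem F40492 : act 4 n12284 = n9615 := d24_1 D12284 (iv D9615) (iv F32000)
theorem F40493 : act 6 n12284 = n9628 := d27_1 D12284 (iv D9628) (iv D7521) (iv F25243) D9614
def n12290 : Q := act 2 n9620
theorem D12290 : act 2 n9620 = n12290 := rfl
theorem F40509 : act 0 n12290 = n9672 := d1_1 D12290 (iv D9672) (iv F32017)
theorem F40510 : act 1 n12290 = n12290 := d7_1 D12290 (iv D12290) F32018 F25267 (iv F32018)
def n12291 : Q := act 5 n9620
theorem D12291 : act 5 n9620 = n12291 := rfl
theorem F40511 : act 0 n12291 = n9673 := d4_1 D12291 (iv D9673) (iv F32017)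
theorem F40512 : act 1 n12291 = n9625 := d10_1 D12291 (iv D9625) (iv F32018)
theorem F40513 : act 3 n12291 = n9621 := d19_1 D12291 (iv D9621) D9620
def n12292 : Q := act 6 n9620
theorem D12292 : act 6 n9620 = n12292 := rfl
theorem F40514 : act 0 n12292 = n9674 := d5_1 D12292 (iv D9674) (iv F32017)
theorem F40515 : act 1 n12292 = n9626 := d11_1 D12292 (iv D9626) (iv F32018)
theorem F40516 : act 3 n12292 = n9622 := d20_1 D12292 (iv D9622) D9620
def n12293 : Q := act 6 n9621
theorem D12293 : act 6 n9621 = n12293 := rfl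
theorem F40518 : act 1 n12293 = n9627 := d11_1 D12293 (iv D9627) (iv F32020)
def n12294 : Q := act 2 n9622
theorem D12294 : act 2 n9622 = n12294 := rfl
theorem F40520 : act 0 n12294 = n9676 := d1_1 D12294 (iv D9676) (iv F32021)
theorem F40521 : act 1 n12294 = n9975 := d7_1 D12294 (iv D9975) F26094 (iv F25271) (iv F32022)
theorem F40522 : act 4 n12294 = n9623 := d14_2 (iv F32023) D12294 (iv D9623)
def n12295 : Q := act 7 n9622
theorem D12295 : act 7 n9622 = n12295 := rfl
theorem F40523 : act 0 n12295 = n9677 := d6_1 D12295 (iv D9677) (iv F32021)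
theorem F40525 : act 4 n12295 = n9624 := d24_1 D12295 (iv D9624) (iv F32023)
def n12296 : Q := act 3 n9623
theorem D12296 : act 3 n9623 = n12296 := rfl
theorem F40527 : act 1 n12296 = n9977 := d8_1 D12296 (iv D9977) (iv F32025)
def n12297 : Q := act 7 n9623
theorem D12297 : act 7 n9623 = n12297 := rfl
theorem F40529 : act 1 n12297 = n9978 := d12_1 D12297 (iv D9978) (iv F32025)
theorem F40530 : act 2 n12297 = n9624 := d17_1 D12297 (iv D9624) D9623
def n12298 : Q := act 4 n9625
theorem D12298 : act 4 n9625 = n12298 := rfl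
def n12301 : Q := act 7 n9626
theorem D12301 : act 7 n9626 = n12301 := rfl
def n12307 : Q := act 3 n9634
theorem D12307 : act 3 n9634 = n12307 := rfl
theorem F40556 : act 1 n12307 = n9636 := d8_1 D12307 (iv D9636) (iv F32052)
theorem F40557 : act 7 n12307 = n9644 := d21_2 (iv F32053) D12307 (iv D9644)
def n12308 : Q := act 5 n9634
theorem D12308 : act 5 n9634 = n12308 := rfl
theorem F40558 : act 1 n12308 = n9637 := d10_1 D12308 (iv D9637) (iv F32052)
theorem F40559 : act 4 n12308 = n9659 := d22_1 D12308 (iv D9659) (iv D7545) (iv F25286) D9634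
theorem F40560 : act 7 n12308 = n9645 := d26_2 (iv F32053) D12308 (iv D9645)
def n12309 : Q := act 6 n9634
theorem D12309 : act 6 n9634 = n12309 := rfl
theorem F40561 : act 1 n12309 = n9638 := d11_1 D12309 (iv D9638) (iv F32052)
theorem F40562 : act 4 n12309 = n9635 := d23_1 D12309 (iv D9635) D9634
def n12310 : Q := act 2 n9635
theorem D12310 : act 2 n9635 = n12310 := rfl
theorem F40563 : act 1 n12310 = n10769 := d7_1 D12310 (iv D10769) F28025 (iv F25292) (iv F32054)
theorem F40564 : act 5 n12310 = n9661 := d15_2 (iv F32055) D12310 (iv D9661)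
def n12311 : Q := act 7 n9635
theorem D12311 : act 7 n9635 = n12311 := rfl
theorem F40567 : act 6 n12311 = n9648 := d27_1 D12311 (iv D9648) (iv D7536) (iv F25287) D9635
def n12312 : Q := act 5 n9636
theorem D12312 : act 5 n9636 = n12312 := rfl
theorem F40568 : act 0 n12312 = n9640 := d4_1 D12312 (iv D9640) (iv F32056)
theorem F40571 : act 7 n12312 = n9649 := d26_2 (iv F32058) D12312 (iv D9649)
def n12314 : Q := act 6 n9637
theorem D12314 : act 6 n9637 = n12314 := rfl
theorem F40574 : act 0 n12314 = n9642 := d5_1 D12314 (iv D9642) (iv F32059)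
def n12321 : Q := act 2 n9644
theorem D12321 : act 2 n9644 = n12321 := rfl
def n12322 : Q := act 5 n9644
theorem D12322 : act 5 n9644 = n12322 := rfl
theorem F40597 : act 3 n12322 = n9645 := d19_1 D12322 (iv D9645) D9644
def n12323 : Q := act 6 n9644
theorem D12323 : act 6 n9644 = n12323 := rfl
theorem F40599 : act 3 n12323 = n9646 := d20_1 D12323 (iv D9646) D9644
def n12324 : Q := act 6 n9645
theorem D12324 : act 6 n9645 = n12324 := rfl
theorem F40600 : act 1 n12324 = n9651 := d11_1 D12324 (iv D9651) (iv F32081)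
theorem F40602 : act 5 n12324 = n9646 := d25_1 D12324 (iv D9646) D9645
def n12325 : Q := act 2 n9646
theorem D12325 : act 2 n9646 = n12325 := rfl
theorem F40603 : act 1 n12325 = n9705 := d7_1 D12325 (iv D9705) F25433 (iv F25318) (iv F32083)
def n12327 : Q := act 3 n9647
theorem D12327 : act 3 n9647 = n12327 := rfl
def n12339 : Q := act 2 n9658
theorem D12339 : act 2 n9658 = n12339 := rfl
theorem F40638 : act 1 n12339 = n9686 := d7_1 D12339 (iv D9686) F25382 (iv F25335) (iv F32111)
theorem F40639 : act 7 n12339 = n9672 := d17_2 (iv F32112) D12339 (iv D9672)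
def n12340 : Q := act 5 n9658
theorem D12340 : act 5 n9658 = n12340 := rfl
theorem F40640 : act 1 n12340 = n9663 := d10_1 D12340 (iv D9663) (iv F32111)
theorem F40642 : act 7 n12340 = n9673 := d26_2 (iv F32112) D12340 (iv D9673)
def n12341 : Q := act 6 n9658
theorem D12341 : act 6 n9658 = n12341 := rfl
theorem F40643 : act 1 n12341 = n9664 := d11_1 D12341 (iv D9664) (iv F32111)
theorem F40644 : act 3 n12341 = n9660 := d20_1 D12341 (iv D9660) D9658
def n12342 : Q := act 6 n9659
theorem D12342 : act 6 n9659 = n12342 := rfl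
theorem F40645 : act 1 n12342 = n9665 := d11_1 D12342 (iv D9665) (iv F32113)
theorem F40646 : act 5 n12342 = n9660 := d25_1 D12342 (iv D9660) D9659
def n12343 : Q := act 2 n9660
theorem D12343 : act 2 n9660 = n12343 := rfl
theorem F40647 : act 1 n12343 = n10802 := d7_1 D12343 (iv D10802) F28109 (iv F25341) (iv F32115)
theorem F40648 : act 4 n12343 = n9661 := d14_2 (iv F32116) D12343 (iv D9661)
def n12344 : Q := act 7 n9660
theorem D12344 : act 7 n9660 = n12344 := rfl
theorem F40649 : act 1 n12344 = n9666 := d12_1 D12344 (iv D9666) (iv F32115)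
theorem F40650 : act 4 n12344 = n9662 := d24_1 D12344 (iv D9662) (iv F32116)
theorem F40651 : act 6 n12344 = n9677 := d27_1 D12344 (iv D9677) (iv D7557) (iv F25332) D9660
def n12345 : Q := act 3 n9661
theorem D12345 : act 3 n9661 = n12345 := rfl
theorem F40652 : act 1 n12345 = n10804 := d8_1 D12345 (iv D10804) (iv F32117)
def n12346 : Q := act 7 n9661
theorem D12346 : act 7 n9661 = n12346 := rfl
theorem F40653 : act 1 n12346 = n10805 := d12_1 D12346 (iv D10805) (iv F32117)
theorem F40654 : act 2 n12346 = n9662 := d17_1 D12346 (iv D9662) D9661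
def n12350 : Q := act 7 n9664
theorem D12350 : act 7 n9664 = n12350 := rfl
theorem F40664 : act 0 n12350 = n9670 := d6_1 D12350 (iv D9670) (iv F32124)
def n12351 : Q := act 7 n9665
theorem D12351 : act 7 n9665 = n12351 := rfl
theorem F40667 : act 0 n12351 = n9671 := d6_1 D12351 (iv D9671) (iv F32126)
theorem F40668 : act 2 n12351 = n10810 := d17_1 D12351 (iv D10810) (iv F32127)
theorem F40669 : act 5 n12351 = n9666 := d26_1 D12351 (iv D9666) (iv F32128)
theorem F40670 : act 6 n12351 = n9683 := d27_1 D12351 (iv D9683) (iv D7562) (iv F25339) D9665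
def n12357 : Q := act 5 n9672
theorem D12357 : act 5 n9672 = n12357 := rfl
theorem F40684 : act 2 n12357 = n9673 := d15_1 D12357 (iv D9673) D9672
def n12358 : Q := act 6 n9672
theorem D12358 : act 6 n9672 = n12358 := rfl
theorem F40685 : act 1 n12358 = n9699 := d11_1 D12358 (iv D9699) (iv F32144)
def n12359 : Q := act 4 n9673
theorem D12359 : act 4 n9673 = n12359 := rfl
theorem F40686 : act 1 n12359 = n9680 := d9_1 D12359 (iv D9680) (iv F32145)
def n12360 : Q := act 6 n9673
theorem D12360 : act 6 n9673 = n12360 := rfl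
theorem F40687 : act 1 n12360 = n9681 := d11_1 D12360 (iv D9681) (iv F32145)
theorem F40688 : act 3 n12360 = n9675 := d20_1 D12360 (iv D9675) (iv F32146)
theorem F40689 : act 5 n12360 = n9674 := d25_1 D12360 (iv D9674) D9673
def n12361 : Q := act 2 n9674
theorem D12361 : act 2 n9674 = n12361 := rfl
theorem F40690 : act 1 n12361 = n12361 := d7_1 D12361 (iv D12361) F32147 F25365 (iv F32147)
def n12362 : Q := act 7 n9674
theorem D12362 : act 7 n9674 = n12362 := rfl
theorem F40691 : act 1 n12362 = n9682 := d12_1 D12362 (iv D9682) (iv F32147)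
theorem F40692 : act 3 n12362 = n9677 := d21_1 D12362 (iv D9677) (iv F32148)
def n12364 : Q := act 7 n9675
theorem D12364 : act 7 n9675 = n12364 := rfl
theorem F40696 : act 5 n12364 = n9677 := d26_1 D12364 (iv D9677) (iv F32150)
def n12365 : Q := act 3 n9676
theorem D12365 : act 3 n9676 = n12365 := rfl
def n12366 : Q := act 7 n9676
theorem D12366 : act 7 n9676 = n12366 := rfl
def n12369 : Q := act 6 n9679
theorem D12369 : act 6 n9679 = n12369 := rfl
def n12370 : Q := act 6 n9680
theorem D12370 : act 6 n9680 = n12370 := rfl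
theorem F40705 : act 0 n12370 = n9684 := d5_1 D12370 (iv D9684) (iv F32158)
theorem F40707 : act 4 n12370 = n9681 := d23_1 D12370 (iv D9681) D9680
def n12371 : Q := act 7 n9681
theorem D12371 : act 7 n9681 = n12371 := rfl
theorem F40708 : act 0 n12371 = n9685 := d6_1 D12371 (iv D9685) (iv F32160)
theorem F40711 : act 5 n12371 = n9682 := d26_1 D12371 (iv D9682) (iv F32163)
def n12373 : Q := act 5 n9686
theorem D12373 : act 5 n9686 = n12373 := rfl
theorem F40716 : act 7 n12373 = n9698 := d26_2 (iv F32176) D12373 (iv D9698)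
def n12374 : Q := act 6 n9686
theorem D12374 : act 6 n9686 = n12374 := rfl
def n12375 : Q := act 4 n9687
theorem D12375 : act 4 n9687 = n12375 := rfl
theorem F40721 : act 7 n12375 = n9700 := d24_2 (iv F32180) D12375 (iv D9700)
def n12387 : Q := act 4 n9698
theorem D12387 : act 4 n9698 = n12387 := rfl
theorem F40760 : act 2 n12387 = n9700 := d14_1 D12387 (iv D9700) (iv F32219)
def n12388 : Q := act 6 n9698
theorem D12388 : act 6 n9698 = n12388 := rfl
theorem F40763 : act 5 n12388 = n9699 := d25_1 D12388 (iv D9699) D9698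
def n12389 : Q := act 7 n9699
theorem D12389 : act 7 n9699 = n12389 := rfl
theorem F40764 : act 0 n12389 = n12389 := d6_1 D12389 (iv D12389) F32220
theorem F40765 : act 2 n12389 = n12389 := d17_1 D12389 (iv D12389) F32221
def n12395 : Q := act 2 n9704
theorem D12395 : act 2 n9704 = n12395 := rfl
theorem F40788 : act 5 n12395 = n9705 := d15_2 (iv F32242) D12395 (iv D9705)
def n12397 : Q := act 3 n9705
theorem D12397 : act 3 n9705 = n12397 := rfl
def n12400 : Q := act 7 n9707
theorem D12400 : act 7 n9707 = n12400 := rfl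
theorem F40800 : act 0 n12400 = n10035 := d6_1 D12400 (iv D10035) (iv F32249)
def n12401 : Q := act 6 n9708
theorem D12401 : act 6 n9708 = n12401 := rfl
theorem F40805 : act 2 n12401 = n10860 := d16_1 D12401 (iv D10860) F28270 (iv F25441) (iv F32253)
def n12427 : Q := act 5 n9729
theorem D12427 : act 5 n9729 = n12427 := rfl
theorem F40886 : act 0 n12427 = n10062 := d4_1 D12427 (iv D10062) (iv F32320)
def n12429 : Q := act 6 n9730
theorem D12429 : act 6 n9730 = n12429 := rfl
theorem F40891 : act 0 n12429 = n10064 := d5_1 D12429 (iv D10064) (iv F32322)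
def n12438 : Q := act 4 n9740
theorem D12438 : act 4 n9740 = n12438 := rfl
theorem F40921 : act 1 n12438 = n9741 := d9_1 D12438 (iv D9741) D9740
theorem F40923 : act 7 n12438 = n10533 := d24_2 (iv F32356) D12438 (iv D10533)
def n12439 : Q := act 6 n9740
theorem D12439 : act 6 n9740 = n12439 := rfl
theorem F40925 : act 1 n12439 = n9742 := d11_1 D12439 (iv D9742) D9740
theorem F40926 : act 3 n12439 = n10609 := d20_1 D12439 (iv D10609) (iv F32354)
def n12440 : Q := act 3 n9741
theorem D12440 : act 3 n9741 = n12440 := rfl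
theorem F40930 : act 4 n12440 = n10610 := d18_2 D9741 D12440 (iv D10610) (iv D8288) (iv F25535)
theorem F40931 : act 7 n12440 = n10535 := d21_2 (iv F32359) D12440 (iv D10535)
def n12441 : Q := act 5 n9741
theorem D12441 : act 5 n9741 = n12441 := rfl
theorem F40933 : act 2 n12441 = n9743 := d15_1 D12441 (iv D9743) (iv F32358)
theorem F40935 : act 7 n12441 = n10536 := d26_2 (iv F32359) D12441 (iv D10536)
def n12442 : Q := act 6 n9741
theorem D12442 : act 6 n9741 = n12442 := rfl
theorem F40937 : act 2 n12442 = n9760 := d16_1 D12442 (iv D9760) F25581 (iv F25541) (iv F32358)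
def n12445 : Q := act 6 n9744
theorem D12445 : act 6 n9744 = n12445 := rfl
theorem F40949 : act 3 n12445 = n9746 := d20_1 D12445 (iv D9746) D9744
theorem F40950 : act 4 n12445 = n10615 := d23_1 D12445 (iv D10615) (iv F32372)
def n12446 : Q := act 6 n9745
theorem D12446 : act 6 n9745 = n12446 := rfl
theorem F40952 : act 2 n12446 = n9764 := d16_1 D12446 (iv D9764) F25594 (iv F25553) (iv F32375)
def n12450 : Q := act 3 n9749
theorem D12450 : act 3 n9749 = n12450 := rfl
theorem F40969 : act 4 n12450 = n9809 := d18_2 D9749 D12450 (iv D9809) (iv D7664) (iv F25556)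
def n12452 : Q := act 6 n9749
theorem D12452 : act 6 n9749 = n12452 := rfl
theorem F40976 : act 2 n12452 = n10547 := d16_1 D12452 (iv D10547) F27513 (iv F25562) (iv F32392)
def n12463 : Q := act 5 n9758
theorem D12463 : act 5 n9758 = n12463 := rfl
theorem F41015 : act 0 n12463 = n9762 := d4_1 D12463 (iv D9762) (iv F32427)
theorem F41017 : act 3 n12463 = n9759 := d19_1 D12463 (iv D9759) D9758
def n12464 : Q := act 6 n9758
theorem D12464 : act 6 n9758 = n12464 := rfl
theorem F41019 : act 0 n12464 = n9763 := d5_1 D12464 (iv D9763) (iv F32427)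
theorem F41020 : act 3 n12464 = n9760 := d20_1 D12464 (iv D9760) D9758
def n12465 : Q := act 6 n9759
theorem D12465 : act 6 n9759 = n12465 := rfl
def n12468 : Q := act 6 n9762
theorem D12468 : act 6 n9762 = n12468 := rfl
theorem F41031 : act 1 n12468 = n9786 := d11_1 D12468 (iv D9786) (iv F32439)
theorem F41032 : act 3 n12468 = n9764 := d20_1 D12468 (iv D9764) (iv F32441)
def n12469 : Q := act 2 n9763
theorem D12469 : act 2 n9763 = n12469 := rfl
def n12483 : Q := act 2 n9773
theorem D12483 : act 2 n9773 = n12483 := rfl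
theorem F41082 : act 6 n12483 = n10142 := d16_2 D9773 D12483 (iv D10142) (iv D7921) (iv F25618)
def n12500 : Q := act 2 n9786
theorem D12500 : act 2 n9786 = n12500 := rfl
theorem F41136 : act 6 n12500 = n9803 := d16_2 D9786 D12500 (iv D9803) (iv D7659) (iv F25649)
def n12523 : Q := act 7 n9803
theorem D12523 : act 7 n9803 = n12523 := rfl
theorem F41220 : act 2 n12523 = n9804 := d17_1 D12523 (iv D9804) D9803
def n12527 : Q := act 3 n9807
theorem D12527 : act 3 n9807 = n12527 := rfl
theorem F41234 : act 1 n12527 = n9809 := d8_1 D12527 (iv D9809) (iv F32590)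
def n12628 : Q := act 4 n9883
theorem D12628 : act 4 n9883 = n12628 := rfl
theorem F41518 : act 1 n12628 = n9890 := d9_1 D12628 (iv D9890) (iv F32807)
def n12657 : Q := act 3 n9904
theorem D12657 : act 3 n9904 = n12657 := rfl
theorem F41598 : act 5 n12657 = n9906 := d19_2 (iv F32870) D12657 (iv D9906)
def n12665 : Q := act 2 n9911
theorem D12665 : act 2 n9911 = n12665 := rfl
theorem F41617 : act 6 n12665 = n9923 := d16_2 D9911 D12665 (iv D9923) (iv D7751) (iv F25937)
def n12666 : Q := act 7 n9911
theorem D12666 : act 7 n9911 = n12666 := rfl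
def n12682 : Q := act 7 n9923
theorem D12682 : act 7 n9923 = n12682 := rfl
theorem F41663 : act 2 n12682 = n9924 := d17_1 D12682 (iv D9924) D9923
def n12707 : Q := act 3 n9947
theorem D12707 : act 3 n9947 = n12707 := rfl
theorem F41738 : act 0 n12707 = n10376 := d2_1 D12707 (iv D10376) (iv F32990)
def n12708 : Q := act 5 n9947
theorem D12708 : act 5 n9947 = n12708 := rfl
def n12709 : Q := act 6 n9947
theorem D12709 : act 6 n9947 = n12709 := rfl
theorem F41748 : act 4 n12709 = n9948 := d23_1 D12709 (iv D9948) D9947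
def n12710 : Q := act 2 n9948
theorem D12710 : act 2 n9948 = n12710 := rfl
def n12712 : Q := act 5 n9949
theorem D12712 : act 5 n9949 = n12712 := rfl
theorem F41756 : act 0 n12712 = n9953 := d4_1 D12712 (iv D9953) (iv F32997)
theorem F41758 : act 3 n12712 = n9950 := d19_1 D12712 (iv D9950) D9949
def n12713 : Q := act 6 n9949
theorem D12713 : act 6 n9949 = n12713 := rfl
theorem F41760 : act 0 n12713 = n9954 := d5_1 D12713 (iv D9954) (iv F32997)
theorem F41761 : act 3 n12713 = n9951 := d20_1 D12713 (iv D9951) D9949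
def n12721 : Q := act 2 n9957
theorem D12721 : act 2 n9957 = n12721 := rfl
theorem F41787 : act 0 n12721 = n9988 := d1_1 D12721 (iv D9988) (iv F33024)
def n12728 : Q := act 7 n9960
theorem D12728 : act 7 n9960 = n12728 := rfl
theorem F41811 : act 0 n12728 = n9995 := d6_1 D12728 (iv D9995) (iv F33035)
def n12747 : Q := act 3 n9975
theorem D12747 : act 3 n9975 = n12747 := rfl
def n12748 : Q := act 7 n9975
theorem D12748 : act 7 n9975 = n12748 := rfl
theorem F41873 : act 0 n12748 = n10015 := d6_1 D12748 (iv D10015) (iv F33085)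
def n12749 : Q := act 4 n9977
theorem D12749 : act 4 n9977 = n12749 := rfl
theorem F41876 : act 0 n12749 = n10016 := d3_1 D12749 (iv D10016) (iv F33091)
def n12751 : Q := act 6 n9978
theorem D12751 : act 6 n9978 = n12751 := rfl
theorem F41881 : act 0 n12751 = n10018 := d5_1 D12751 (iv D10018) (iv F33093)
def n12773 : Q := act 6 n9995
theorem D12773 : act 6 n9995 = n12773 := rfl
def n12774 : Q := act 6 n9996
theorem D12774 : act 6 n9996 = n12774 := rfl
def n12797 : Q := act 4 n10014
theorem D12797 : act 4 n10014 = n12797 := rfl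
theorem F42026 : act 3 n12797 = n10016 := d18_1 D12797 (iv D10016) (iv D7823) (iv F26187) D10014
def n12798 : Q := act 7 n10014
theorem D12798 : act 7 n10014 = n12798 := rfl
theorem F42028 : act 3 n12798 = n10015 := d21_1 D12798 (iv D10015) D10014
def n12815 : Q := act 3 n10030
theorem D12815 : act 3 n10030 = n12815 := rfl
theorem F42076 : act 5 n12815 = n10032 := d19_2 (iv F33257) D12815 (iv D10032)
def n12820 : Q := act 5 n10034
theorem D12820 : act 5 n10034 = n12820 := rfl
theorem F42084 : act 2 n12820 = n10062 := d15_1 D12820 (iv D10062) (iv F33264)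
def n12821 : Q := act 7 n10034
theorem D12821 : act 7 n10034 = n12821 := rfl
theorem F42087 : act 4 n12821 = n10035 := d24_1 D12821 (iv D10035) D10034
def n12822 : Q := act 6 n10035
theorem D12822 : act 6 n10035 = n12822 := rfl
def n12854 : Q := act 7 n10062
theorem D12854 : act 7 n10062 = n12854 := rfl
theorem F42173 : act 5 n12854 = n10063 := d26_1 D12854 (iv D10063) D10062
def n12855 : Q := act 6 n10063
theorem D12855 : act 6 n10063 = n12855 := rfl
def n12856 : Q := act 2 n10064
theorem D12856 : act 2 n10064 = n12856 := rfl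
def n12926 : Q := act 2 n10119
theorem D12926 : act 2 n10119 = n12926 := rfl
theorem F42427 : act 0 n12926 = n10149 := d1_1 D12926 (iv D10149) (iv F33543)
theorem F42428 : act 4 n12926 = n10120 := d14_2 (iv F33545) D12926 (iv D10120)
def n12928 : Q := act 3 n10120
theorem D12928 : act 3 n10120 = n12928 := rfl
theorem F42435 : act 2 n12928 = n10216 := d13_1 D12928 (iv D10216) (iv D7976) (iv F26460) D10120
def n12948 : Q := act 4 n10136
theorem D12948 : act 4 n10136 = n12948 := rfl
theorem F42496 : act 3 n12948 = n10153 := d18_1 D12948 (iv D10153) F26531 (iv F26496) (iv F33597)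
def n12949 : Q := act 6 n10136
theorem D12949 : act 6 n10136 = n12949 := rfl
theorem F42501 : act 5 n12949 = n10137 := d25_1 D12949 (iv D10137) D10136
def n12950 : Q := act 2 n10137
theorem D12950 : act 2 n10137 = n12950 := rfl
theorem F42504 : act 4 n12950 = n10238 := d14_2 (iv F33601) D12950 (iv D10238)
def n12951 : Q := act 7 n10137
theorem D12951 : act 7 n10137 = n12951 := rfl
theorem F42507 : act 4 n12951 = n10239 := d24_1 D12951 (iv D10239) (iv F33601)
def n12953 : Q := act 6 n10140
theorem D12953 : act 6 n10140 = n12953 := rfl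
theorem F42514 : act 3 n12953 = n10158 := d20_1 D12953 (iv D10158) (iv F33610)
theorem F42515 : act 4 n12953 = n10141 := d23_1 D12953 (iv D10141) D10140
def n12954 : Q := act 2 n10141
theorem D12954 : act 2 n10141 = n12954 := rfl
theorem F42518 : act 5 n12954 = n10142 := d15_2 (iv F33614) D12954 (iv D10142)
def n12956 : Q := act 1 n10142
theorem D12956 : act 1 n10142 = n12956 := rfl
def n12962 : Q := act 2 n10147
theorem D12962 : act 2 n10147 = n12962 := rfl
theorem F42540 : act 4 n12962 = n10250 := d14_2 (iv F33633) D12962 (iv D10250)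
def n12966 : Q := act 3 n10149
theorem D12966 : act 3 n10149 = n12966 := rfl
def n12971 : Q := act 6 n10153
theorem D12971 : act 6 n10153 = n12971 := rfl
def n12974 : Q := act 1 n10155
theorem D12974 : act 1 n10155 = n12974 := rfl
theorem F42578 : act 6 n12974 = n10177 := d11_2 (iv F33657) D12974 (iv D10177)
def n12976 : Q := act 2 n10158
theorem D12976 : act 2 n10158 = n12976 := rfl
theorem F42585 : act 6 n12976 = n10179 := d16_2 D10158 D12976 (iv D10179) (iv D7950) (iv F26543)
def n12979 : Q := act 7 n10159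
theorem D12979 : act 7 n10159 = n12979 := rfl
theorem F42592 : act 2 n12979 = n10160 := d17_1 D12979 (iv D10160) D10159
def n12982 : Q := act 6 n10162
theorem D12982 : act 6 n10162 = n12982 := rfl
theorem F42604 : act 7 n12982 = n10185 := d27_2 D10162 D12982 (iv D10185) (iv D7954) (iv F26550)
def n12983 : Q := act 4 n10163
theorem D12983 : act 4 n10163 = n12983 := rfl
theorem F42607 : act 5 n12983 = n10271 := d22_2 D10163 D12983 (iv D10271) (iv D8019) (iv F26559)
def n12984 : Q := act 6 n10163
theorem D12984 : act 6 n10163 = n12984 := rfl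
def n12985 : Q := act 2 n10164
theorem D12985 : act 2 n10164 = n12985 := rfl
theorem F42614 : act 6 n12985 = n10167 := d16_2 D10164 D12985 (iv D10167) (iv D7940) D7938
def n12988 : Q := act 2 n10166
theorem D12988 : act 2 n10166 = n12988 := rfl
theorem F42624 : act 5 n12988 = n10167 := d15_2 (iv F33694) D12988 (iv D10167)
def n12990 : Q := act 1 n10167
theorem D12990 : act 1 n10167 = n12990 := rfl
theorem F42630 : act 2 n12990 = n10177 := d7_2 D10167 D12990 (iv D10177) (iv D7947) (iv F26566)
theorem F42631 : act 4 n12990 = n10278 := d9_2 (iv F33696) D12990 (iv D10278)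
def n12991 : Q := act 3 n10167
theorem D12991 : act 3 n10167 = n12991 := rfl
def n12992 : Q := act 7 n10167
theorem D12992 : act 7 n10167 = n12992 := rfl
theorem F42636 : act 2 n12992 = n10168 := d17_1 D12992 (iv D10168) D10167
theorem F42637 : act 4 n12992 = n10279 := d24_1 D12992 (iv D10279) (iv F33696)
def n12997 : Q := act 2 n10174
theorem D12997 : act 2 n10174 = n12997 := rfl
theorem F42656 : act 4 n12997 = n10175 := d14_2 (iv F33724) D12997 (iv D10175)
def n13000 : Q := act 7 n10175
theorem D13000 : act 7 n10175 = n13000 := rfl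
theorem F42667 : act 5 n13000 = n10178 := d26_1 D13000 (iv D10178) (iv F33728)
def n13002 : Q := act 7 n10177
theorem D13002 : act 7 n10177 = n13002 := rfl
theorem F42671 : act 1 n13002 = n10178 := d12_1 D13002 (iv D10178) D10177
def n13006 : Q := act 7 n10179
theorem D13006 : act 7 n10179 = n13006 := rfl
theorem F42684 : act 4 n13006 = n10182 := d24_1 D13006 (iv D10182) (iv F33739)
def n13009 : Q := act 6 n10182
theorem D13009 : act 6 n10182 = n13009 := rfl
def n13045 : Q := act 6 n10210
theorem D13045 : act 6 n10210 = n13045 := rfl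
theorem F42808 : act 0 n13045 = n10247 := d5_1 D13045 (iv D10247) (iv F33837)
theorem F42810 : act 3 n13045 = n10409 := d20_1 D13045 (iv D10409) (iv F33839)
def n13048 : Q := act 2 n10212
theorem D13048 : act 2 n10212 = n13048 := rfl
def n13050 : Q := act 2 n10213
theorem D13050 : act 2 n10213 = n13050 := rfl
theorem F42826 : act 6 n13050 = n10414 := d16_2 D10213 D13050 (iv D10414) (iv D8130) (iv F26679)
def n13052 : Q := act 3 n10214
theorem D13052 : act 3 n10214 = n13052 := rfl
theorem F42833 : act 6 n13052 = n10416 := d20_2 (iv F33854) D13052 (iv D10416)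
def n13060 : Q := act 1 n10220
theorem D13060 : act 1 n10220 = n13060 := rfl
def n13062 : Q := act 2 n10223
theorem D13062 : act 2 n10223 = n13062 := rfl
theorem F42863 : act 4 n13062 = n10224 := d14_2 (iv F33882) D13062 (iv D10224)
def n13064 : Q := act 1 n10224
theorem D13064 : act 1 n10224 = n13064 := rfl
theorem F42868 : act 2 n13064 = n10266 := d7_2 D10224 D13064 (iv D10266) (iv D8015) (iv F26706)
theorem F42870 : act 5 n13064 = n10226 := d10_2 (iv F33884) D13064 (iv D10226)
def n13066 : Q := act 0 n10226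
theorem D13066 : act 0 n10226 = n13066 := rfl
theorem F42875 : act 2 n13066 = n10268 := d1_2 (iv F33890) D13066 (iv D10268)
def n13073 : Q := act 2 n10230
theorem D13073 : act 2 n10230 = n13073 := rfl
def n13077 : Q := act 3 n10232
theorem D13077 : act 3 n10232 = n13077 := rfl
theorem F42906 : act 6 n13077 = n10438 := d20_2 (iv F33907) D13077 (iv D10438)
def n13078 : Q := act 7 n10232
theorem D13078 : act 7 n10232 = n13078 := rfl
theorem F42908 : act 2 n13078 = n10233 := d17_1 D13078 (iv D10233) D10232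
def n13085 : Q := act 1 n10238
theorem D13085 : act 1 n10238 = n13085 := rfl
def n13086 : Q := act 7 n10238
theorem D13086 : act 7 n10238 = n13086 := rfl
theorem F42930 : act 0 n13086 = n10245 := d6_1 D13086 (iv D10245) (iv F33923)
theorem F42931 : act 2 n13086 = n10239 := d17_1 D13086 (iv D10239) D10238
def n13087 : Q := act 2 n10241
theorem D13087 : act 2 n10241 = n13087 := rfl
theorem F42933 : act 4 n13087 = n10242 := d14_2 (iv F33934) D13087 (iv D10242)
def n13094 : Q := act 4 n10246
theorem D13094 : act 4 n10246 = n13094 := rfl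
theorem F42947 : act 1 n13094 = n10271 := d9_1 D13094 (iv D10271) (iv F33943)
def n13095 : Q := act 6 n10246
theorem D13095 : act 6 n10246 = n13095 := rfl
theorem F42951 : act 3 n13095 = n10456 := d20_1 D13095 (iv D10456) (iv F33945)
def n13096 : Q := act 2 n10247
theorem D13096 : act 2 n10247 = n13096 := rfl
def n13099 : Q := act 2 n10249
theorem D13099 : act 2 n10249 = n13099 := rfl
def n13101 : Q := act 1 n10250
theorem D13101 : act 1 n10250 = n13101 := rfl
theorem F42964 : act 2 n13101 = n10262 := d7_2 D10250 D13101 (iv D10262) (iv D8011) (iv F26762)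
def n13102 : Q := act 3 n10250
theorem D13102 : act 3 n10250 = n13102 := rfl
theorem F42965 : act 2 n13102 = n10254 := d13_1 D13102 (iv D10254) (iv D8005) (iv F26763) D10250
def n13103 : Q := act 7 n10250
theorem D13103 : act 7 n10250 = n13103 := rfl
def n13104 : Q := act 3 n10252
theorem D13104 : act 3 n10252 = n13104 := rfl
theorem F42969 : act 6 n13104 = n10464 := d20_2 (iv F33959) D13104 (iv D10464)
def n13107 : Q := act 7 n10254
theorem D13107 : act 7 n10254 = n13107 := rfl
def n13114 : Q := act 1 n10260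
theorem D13114 : act 1 n10260 = n13114 := rfl
theorem F42997 : act 6 n13114 = n10282 := d11_2 (iv F33980) D13114 (iv D10282)
def n13117 : Q := act 7 n10262
theorem D13117 : act 7 n10262 = n13117 := rfl
def n13120 : Q := act 3 n10264
theorem D13120 : act 3 n10264 = n13120 := rfl
theorem F43014 : act 6 n13120 = n10288 := d20_2 (iv F33991) D13120 (iv D10288)
def n13122 : Q := act 0 n10266
theorem D13122 : act 0 n10266 = n13122 := rfl
theorem F43019 : act 6 n13122 = n10290 := d5_2 (iv F33996) D13122 (iv D10290)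
def n13123 : Q := act 7 n10266
theorem D13123 : act 7 n10266 = n13123 := rfl
theorem F43021 : act 3 n13123 = n10345 := d21_1 D13123 (iv D10345) (iv F33994)
def n13125 : Q := act 7 n10268
theorem D13125 : act 7 n10268 = n13125 := rfl
def n13127 : Q := act 3 n10271
theorem D13127 : act 3 n10271 = n13127 := rfl
theorem F43033 : act 4 n13127 = n10473 := d18_2 D10271 D13127 (iv D10473) (iv D8178) (iv F26805)
def n13128 : Q := act 6 n10271
theorem D13128 : act 6 n10271 = n13128 := rfl
theorem F43036 : act 4 n13128 = n10272 := d23_1 D13128 (iv D10272) D10271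
def n13131 : Q := act 1 n10273
theorem D13131 : act 1 n10273 = n13131 := rfl
theorem F43046 : act 6 n13131 = n10278 := d11_2 (iv F34015) D13131 (iv D10278)
def n13132 : Q := act 7 n10273
theorem D13132 : act 7 n10273 = n13132 := rfl
theorem F43048 : act 2 n13132 = n10274 := d17_1 D13132 (iv D10274) D10273
def n13136 : Q := act 7 n10276
theorem D13136 : act 7 n10276 = n13136 := rfl
theorem F43060 : act 2 n13136 = n10277 := d17_1 D13136 (iv D10277) D10276
theorem F43062 : act 5 n13136 = n10279 := d26_1 D13136 (iv D10279) (iv F34024)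
def n13137 : Q := act 0 n10278
theorem D13137 : act 0 n10278 = n13137 := rfl
theorem F43064 : act 2 n13137 = n10284 := d1_2 (iv F34030) D13137 (iv D10284)
def n13138 : Q := act 7 n10278
theorem D13138 : act 7 n10278 = n13138 := rfl
theorem F43066 : act 1 n13138 = n10279 := d12_1 D13138 (iv D10279) D10278
theorem F43067 : act 2 n13138 = n10285 := d17_1 D13138 (iv D10285) (iv F34030)
def n13139 : Q := act 6 n10279
theorem D13139 : act 6 n10279 = n13139 := rfl
def n13144 : Q := act 7 n10282
theorem D13144 : act 7 n10282 = n13144 := rfl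
theorem F43083 : act 5 n13144 = n10285 := d26_1 D13144 (iv D10285) (iv F34041)
def n13146 : Q := act 7 n10284
theorem D13146 : act 7 n10284 = n13146 := rfl
theorem F43089 : act 1 n13146 = n10293 := d12_1 D13146 (iv D10293) (iv F34046)
def n13147 : Q := act 6 n10285
theorem D13147 : act 6 n10285 = n13147 := rfl
def n13151 : Q := act 7 n10288
theorem D13151 : act 7 n10288 = n13151 := rfl
theorem F43100 : act 3 n13151 = n10289 := d21_1 D13151 (iv D10289) D10288
def n13153 : Q := act 7 n10290
theorem D13153 : act 7 n10290 = n13153 := rfl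
theorem F43107 : act 5 n13153 = n10293 := d26_1 D13153 (iv D10293) (iv F34060)
def n13154 : Q := act 6 n10291
theorem D13154 : act 6 n10291 = n13154 := rfl
def n13155 : Q := act 6 n10293
theorem D13155 : act 6 n10293 = n13155 := rfl
def n13171 : Q := act 6 n10304
theorem D13171 : act 6 n10304 = n13171 := rfl
theorem F43164 : act 7 n13171 = n10488 := d27_2 D10304 D13171 (iv D10488) (iv D8189) (iv F26875)
def n13183 : Q := act 3 n10313
theorem D13183 : act 3 n10313 = n13183 := rfl
theorem F43198 : act 2 n13183 = n10342 := d13_1 D13183 (iv D10342) (iv D8072) (iv F26905) D10313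
def n13192 : Q := act 1 n10321
theorem D13192 : act 1 n10321 = n13192 := rfl
theorem F43224 : act 2 n13192 = n10336 := d7_2 D10321 D13192 (iv D10336) (iv D8068) (iv F26923)
def n13193 : Q := act 3 n10321
theorem D13193 : act 3 n10321 = n13193 := rfl
theorem F43228 : act 2 n13193 = n10326 := d13_1 D13193 (iv D10326) (iv D8060) (iv F26924) D10321
def n13194 : Q := act 7 n10321
theorem D13194 : act 7 n10321 = n13194 := rfl
def n13196 : Q := act 3 n10323
theorem D13196 : act 3 n10323 = n13196 := rfl
theorem F43238 : act 1 n13196 = n10324 := d8_1 D13196 (iv D10324) D10323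
def n13197 : Q := act 7 n10323
theorem D13197 : act 7 n10323 = n13197 := rfl
theorem F43241 : act 2 n13197 = n10339 := d17_1 D13197 (iv D10339) (iv F34165)
def n13199 : Q := act 7 n10324
theorem D13199 : act 7 n10324 = n13199 := rfl
theorem F43248 : act 2 n13199 = n10329 := d17_1 D13199 (iv D10329) (iv F34169)
def n13202 : Q := act 7 n10326
theorem D13202 : act 7 n10326 = n13202 := rfl
def n13206 : Q := act 6 n10329
theorem D13206 : act 6 n10329 = n13206 := rfl
theorem F43271 : act 7 n13206 = n10507 := d27_2 D10329 D13206 (iv D10507) (iv D8205) (iv F26942)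
def n13214 : Q := act 7 n10336
theorem D13214 : act 7 n10336 = n13214 := rfl
def n13217 : Q := act 6 n10339
theorem D13217 : act 6 n10339 = n13217 := rfl
theorem F43306 : act 7 n13217 = n10356 := d27_2 D10339 D13217 (iv D10356) (iv D8084) (iv F26966)
def n13218 : Q := act 0 n10341
theorem D13218 : act 0 n10341 = n13218 := rfl
theorem F43308 : act 4 n13218 = n10344 := d3_2 (iv F34221) D13218 (iv D10344)
theorem F43310 : act 6 n13218 = n10357 := d5_2 (iv F34223) D13218 (iv D10357)
def n13221 : Q := act 7 n10342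
theorem D13221 : act 7 n10342 = n13221 := rfl
def n13222 : Q := act 6 n10343
theorem D13222 : act 6 n10343 = n13222 := rfl
theorem F43323 : act 7 n13222 = n10361 := d27_2 D10343 D13222 (iv D10361) (iv D8088) (iv F26972)
def n13223 : Q := act 7 n10344
theorem D13223 : act 7 n10344 = n13223 := rfl
def n13224 : Q := act 6 n10345
theorem D13224 : act 6 n10345 = n13224 := rfl
theorem F43327 : act 1 n13224 = n10346 := d11_1 D13224 (iv D10346) (iv F34232)
theorem F43329 : act 7 n13224 = n10363 := d27_2 D10345 D13224 (iv D10363) (iv D8090) (iv F26979)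
def n13233 : Q := act 6 n10353
theorem D13233 : act 6 n10353 = n13233 := rfl
def n13237 : Q := act 7 n10357
theorem D13237 : act 7 n10357 = n13237 := rfl
theorem F43369 : act 2 n13237 = n10367 := d17_1 D13237 (iv D10367) (iv F34268)
theorem F43370 : act 4 n13237 = n10362 := d24_1 D13237 (iv D10362) (iv F34269)
def n13241 : Q := act 6 n10360
theorem D13241 : act 6 n10360 = n13241 := rfl
def n13242 : Q := act 6 n10362
theorem D13242 : act 6 n10362 = n13242 := rfl
def n13243 : Q := act 2 n10363
theorem D13243 : act 2 n10363 = n13243 := rfl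
theorem F43384 : act 1 n13243 = n11121 := d7_1 D13243 (iv D11121) F28955 (iv F27025) (iv F34285)
def n13244 : Q := act 2 n10364
theorem D13244 : act 2 n10364 = n13244 := rfl
theorem F43389 : act 6 n13244 = n10374 := d16_2 D10364 D13244 (iv D10374) (iv D8101) (iv F27028)
def n13260 : Q := act 5 n10376
theorem D13260 : act 5 n10376 = n13260 := rfl
theorem F43446 : act 1 n13260 = n10381 := d10_1 D13260 (iv D10381) (iv F34330)
def n13261 : Q := act 6 n10376
theorem D13261 : act 6 n10376 = n13261 := rfl
theorem F43449 : act 1 n13261 = n10382 := d11_1 D13261 (iv D10382) (iv F34330)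
def n13269 : Q := act 2 n10382
theorem D13269 : act 2 n10382 = n13269 := rfl
theorem F43477 : act 6 n13269 = n10400 := d16_2 D10382 D13269 (iv D10400) (iv D8119) (iv F27074)
def n13292 : Q := act 7 n10399
theorem D13292 : act 7 n10399 = n13292 := rfl
theorem F43558 : act 3 n13292 = n10402 := d21_1 D13292 (iv D10402) (iv F34410)
def n13294 : Q := act 7 n10400
theorem D13294 : act 7 n10400 = n13294 := rfl
theorem F43564 : act 2 n13294 = n10401 := d17_1 D13294 (iv D10401) D10400
def n13304 : Q := act 2 n10409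
theorem D13304 : act 2 n10409 = n13304 := rfl
theorem F43600 : act 6 n13304 = n10412 := d16_2 D10409 D13304 (iv D10412) (iv D8129) D8127
def n13309 : Q := act 1 n10412
theorem D13309 : act 1 n10412 = n13309 := rfl
theorem F43616 : act 0 n13309 = n13309 := d0_1 D13309 (iv D13309) F34455 F27278 (iv F34455)
theorem F43617 : act 2 n13309 = n10424 := d7_2 D10412 D13309 (iv D10424) (iv D8137) (iv F27160)
def n13310 : Q := act 3 n10412
theorem D13310 : act 3 n10412 = n13310 := rfl
theorem F43620 : act 2 n13310 = n10416 := d13_1 D13310 (iv D10416) (iv D8131) (iv F27161) D10412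
def n13311 : Q := act 7 n10412
theorem D13311 : act 7 n10412 = n13311 := rfl
theorem F43621 : act 0 n13311 = n10463 := d6_1 D13311 (iv D10463) (iv F34455)
theorem F43622 : act 2 n13311 = n10413 := d17_1 D13311 (iv D10413) D10412
def n13313 : Q := act 7 n10414
theorem D13313 : act 7 n10414 = n13313 := rfl
theorem F43630 : act 5 n13313 = n10417 := d26_1 D13313 (iv D10417) (iv F34464)
def n13314 : Q := act 4 n10416
theorem D13314 : act 4 n10416 = n13314 := rfl
def n13315 : Q := act 7 n10416
theorem D13315 : act 7 n10416 = n13315 := rfl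
theorem F43636 : act 3 n13315 = n10417 := d21_1 D13315 (iv D10417) D10416
def n13342 : Q := act 7 n10438
theorem D13342 : act 7 n10438 = n13342 := rfl
theorem F43720 : act 3 n13342 = n10439 := d21_1 D13342 (iv D10439) D10438
def n13343 : Q := act 6 n10439
theorem D13343 : act 6 n10439 = n13343 := rfl
def n13347 : Q := act 2 n10443
theorem D13347 : act 2 n10443 = n13347 := rfl
def n13363 : Q := act 2 n10456
theorem D13363 : act 2 n10456 = n13363 := rfl
theorem F43787 : act 6 n13363 = n10460 := d16_2 D10456 D13363 (iv D10460) (iv D8165) (iv F27268)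
def n13365 : Q := act 3 n10457
theorem D13365 : act 3 n10457 = n13365 := rfl
theorem F43792 : act 6 n13365 = n10462 := d20_2 (iv F34601) D13365 (iv D10462)
def n13370 : Q := act 7 n10460
theorem D13370 : act 7 n10460 = n13370 := rfl
theorem F43808 : act 5 n13370 = n10463 := d26_1 D13370 (iv D10463) (iv F34609)
def n13372 : Q := act 7 n10462
theorem D13372 : act 7 n10462 = n13372 := rfl
theorem F43813 : act 2 n13372 = n10467 := d17_1 D13372 (iv D10467) (iv F34615)
theorem F43814 : act 3 n13372 = n10463 := d21_1 D13372 (iv D10463) D10462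
def n13375 : Q := act 7 n10464
theorem D13375 : act 7 n10464 = n13375 := rfl
theorem F43821 : act 5 n13375 = n10467 := d26_1 D13375 (iv D10467) (iv F34620)
def n13379 : Q := act 6 n10467
theorem D13379 : act 6 n10467 = n13379 := rfl
def n13383 : Q := act 6 n10473
theorem D13383 : act 6 n10473 = n13383 := rfl
theorem F43840 : act 3 n13383 = n10474 := d20_1 D13383 (iv D10474) D10473
def n13419 : Q := act 6 n10503
theorem D13419 : act 6 n10503 = n13419 := rfl
def n13454 : Q := act 3 n10533
theorem D13454 : act 3 n10533 = n13454 := rfl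
def n13455 : Q := act 5 n10533
theorem D13455 : act 5 n10533 = n13455 := rfl
def n13456 : Q := act 6 n10533
theorem D13456 : act 6 n10533 = n13456 := rfl
theorem F44073 : act 4 n13456 = n10534 := d23_1 D13456 (iv D10534) D10533
def n13457 : Q := act 2 n10534
theorem D13457 : act 2 n10534 = n13457 := rfl
theorem F44074 : act 0 n13457 = n13457 := d1_1 D13457 (iv D13457) F34835
theorem F44075 : act 1 n13457 = n13457 := d7_1 D13457 (iv D13457) F34836 F27487 (iv F34836)
theorem F44076 : act 5 n13457 = n10556 := d15_2 (iv F34838) D13457 (iv D10556)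
theorem F44077 : act 6 n13457 = n13457 := d16_2 D10534 D13457 (iv D13457) (iv D10534) F27481
def n13460 : Q := act 6 n10535
theorem D13460 : act 6 n10535 = n13460 := rfl
theorem F44085 : act 0 n13460 = n10540 := d5_1 D13460 (iv D10540) (iv F34839)
theorem F44087 : act 4 n13460 = n10624 := d23_1 D13460 (iv D10624) (iv F34841)
def n13465 : Q := act 2 n10540
theorem D13465 : act 2 n10540 = n13465 := rfl
theorem F44103 : act 4 n13465 = n10629 := d14_2 (iv F34857) D13465 (iv D10629)
def n13470 : Q := act 6 n10543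
theorem D13470 : act 6 n10543 = n13470 := rfl
theorem F44121 : act 1 n13470 = n10547 := d11_1 D13470 (iv D10547) (iv F34866)
theorem F44122 : act 4 n13470 = n10544 := d23_1 D13470 (iv D10544) D10543
def n13472 : Q := act 7 n10544
theorem D13472 : act 7 n10544 = n13472 := rfl
theorem F44128 : act 6 n13472 = n10557 := d27_1 D13472 (iv D10557) (iv D8246) (iv F27511) D10544
def n13474 : Q := act 6 n10545
theorem D13474 : act 6 n10545 = n13474 := rfl
theorem F44134 : act 3 n13474 = n10547 := d20_1 D13474 (iv D10547) D10545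
theorem F44135 : act 4 n13474 = n10638 := d23_1 D13474 (iv D10638) (iv F34874)
def n13476 : Q := act 7 n10547
theorem D13476 : act 7 n10547 = n13476 := rfl
theorem F44140 : act 6 n13476 = n10561 := d27_1 D13476 (iv D10561) (iv D8249) (iv F27514) D10547
def n13486 : Q := act 2 n10555
theorem D13486 : act 2 n10555 = n13486 := rfl
theorem F44173 : act 4 n13486 = n10556 := d14_2 (iv F34904) D13486 (iv D10556)
def n13487 : Q := act 7 n10555
theorem D13487 : act 7 n10555 = n13487 := rfl
theorem F44176 : act 1 n13487 = n10561 := d12_1 D13487 (iv D10561) (iv F34903)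
theorem F44177 : act 4 n13487 = n10557 := d24_1 D13487 (iv D10557) (iv F34904)
def n13488 : Q := act 3 n10556
theorem D13488 : act 3 n10556 = n13488 := rfl
theorem F44178 : act 0 n13488 = n13488 := d2_1 D13488 (iv D13488) F34905
theorem F44179 : act 1 n13488 = n13488 := d8_1 D13488 (iv D13488) F34906
theorem F44180 : act 2 n13488 = n10652 := d13_1 D13488 (iv D10652) (iv D8318) (iv F27538) D10556
theorem F44181 : act 6 n13488 = n13488 := d20_2 F34907 D13488 (iv D13488)
def n13489 : Q := act 7 n10556
theorem D13489 : act 7 n10556 = n13489 := rfl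
theorem F44182 : act 0 n13489 = n13489 := d6_1 D13489 (iv D13489) F34905
theorem F44183 : act 1 n13489 = n13489 := d12_1 D13489 (iv D13489) F34906
theorem F44184 : act 2 n13489 = n10557 := d17_1 D13489 (iv D10557) D10556
def n13555 : Q := act 3 n10608
theorem D13555 : act 3 n10608 = n13555 := rfl
theorem F44396 : act 7 n13555 = n10618 := d21_2 (iv F35073) D13555 (iv D10618)
def n13557 : Q := act 6 n10608
theorem D13557 : act 6 n10608 = n13557 := rfl
theorem F44404 : act 4 n13557 = n10609 := d23_1 D13557 (iv D10609) D10608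
def n13558 : Q := act 2 n10609
theorem D13558 : act 2 n10609 = n13558 := rfl
theorem F44405 : act 0 n13558 = n13558 := d1_1 D13558 (iv D13558) F35074
theorem F44406 : act 5 n13558 = n10635 := d15_2 (iv F35076) D13558 (iv D10635)
theorem F44407 : act 6 n13558 = n10769 := d16_2 D10609 D13558 (iv D10769) (iv D8410) (iv F27665)
def n13559 : Q := act 7 n10609
theorem D13559 : act 7 n10609 = n13559 := rfl
theorem F44411 : act 6 n13559 = n10622 := d27_1 D13559 (iv D10622) (iv D8296) (iv F27667) D10609
def n13561 : Q := act 6 n10610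
theorem D13561 : act 6 n10610 = n13561 := rfl
def n13565 : Q := act 6 n10614
theorem D13565 : act 6 n10614 = n13565 := rfl
theorem F44430 : act 5 n13565 = n10615 := d25_1 D13565 (iv D10615) D10614
def n13567 : Q := act 7 n10615
theorem D13567 : act 7 n10615 = n13567 := rfl
theorem F44434 : act 6 n13567 = n10630 := d27_1 D13567 (iv D10630) (iv D8302) (iv F27680) D10615
def n13569 : Q := act 2 n10618
theorem D13569 : act 2 n10618 = n13569 := rfl
def n13576 : Q := act 7 n10621
theorem D13576 : act 7 n10621 = n13576 := rfl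
theorem F44464 : act 1 n13576 = n10708 := d12_1 D13576 (iv D10708) (iv F35111)
theorem F44465 : act 2 n13576 = n10622 := d17_1 D13576 (iv D10622) D10621
def n13580 : Q := act 7 n10624
theorem D13580 : act 7 n10624 = n13580 := rfl
theorem F44476 : act 0 n13580 = n10630 := d6_1 D13580 (iv D10630) (iv F35120)
def n13584 : Q := act 7 n10628
theorem D13584 : act 7 n10628 = n13584 := rfl
theorem F44489 : act 3 n13584 = n10631 := d21_1 D13584 (iv D10631) (iv F35133)
theorem F44490 : act 5 n13584 = n10630 := d26_1 D13584 (iv D10630) (iv F35134)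
def n13586 : Q := act 7 n10629
theorem D13586 : act 7 n10629 = n13586 := rfl
theorem F44494 : act 2 n13586 = n10630 := d17_1 D13586 (iv D10630) D10629
def n13589 : Q := act 6 n10632
theorem D13589 : act 6 n10632 = n13589 := rfl
theorem F44505 : act 1 n13589 = n10638 := d11_1 D13589 (iv D10638) (iv F35144)
theorem F44506 : act 3 n13589 = n10634 := d20_1 D13589 (iv D10634) D10632
def n13590 : Q := act 6 n10633
theorem D13590 : act 6 n10633 = n13590 := rfl
theorem F44508 : act 1 n13590 = n10639 := d11_1 D13590 (iv D10639) (iv F35147)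
theorem F44509 : act 5 n13590 = n10634 := d25_1 D13590 (iv D10634) D10633
def n13591 : Q := act 2 n10634
theorem D13591 : act 2 n10634 = n13591 := rfl
theorem F44510 : act 0 n13591 = n13591 := d1_1 D13591 (iv D13591) F35150
theorem F44511 : act 4 n13591 = n10635 := d14_2 (iv F35152) D13591 (iv D10635)
theorem F44512 : act 6 n13591 = n10802 := d16_2 D10634 D13591 (iv D10802) (iv D8435) (iv F27721)
def n13592 : Q := act 7 n10634
theorem D13592 : act 7 n10634 = n13592 := rfl
theorem F44514 : act 1 n13592 = n10640 := d12_1 D13592 (iv D10640) (iv F35151)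
def n13593 : Q := act 3 n10635
theorem D13593 : act 3 n10635 = n13593 := rfl
theorem F44517 : act 0 n13593 = n13593 := d2_1 D13593 (iv D13593) F35153
theorem F44518 : act 6 n13593 = n10804 := d20_2 (iv F35154) D13593 (iv D10804)
def n13594 : Q := act 7 n10635
theorem D13594 : act 7 n10635 = n13594 := rfl
theorem F44519 : act 0 n13594 = n13594 := d6_1 D13594 (iv D13594) F35153
theorem F44520 : act 2 n13594 = n10636 := d17_1 D13594 (iv D10636) D10635
def n13617 : Q := act 6 n10653
theorem D13617 : act 6 n10653 = n13617 := rfl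
theorem F44584 : act 1 n13617 = n10729 := d11_1 D13617 (iv D10729) (iv F35205)
def n13680 : Q := act 4 n10702
theorem D13680 : act 4 n10702 = n13680 := rfl
theorem F44754 : act 0 n13680 = n10899 := d3_1 D13680 (iv D10899) (iv F35340)
def n13759 : Q := act 2 n10766
theorem D13759 : act 2 n10766 = n13759 := rfl
theorem F44998 : act 4 n13759 = n13759 := d14_2 F35538 D13759 (iv D13759)
theorem F44999 : act 7 n13759 = n10780 := d17_2 (iv F35539) D13759 (iv D10780)
def n13760 : Q := act 5 n10766
theorem D13760 : act 5 n10766 = n13760 := rfl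
theorem F45002 : act 3 n13760 = n10767 := d19_1 D13760 (iv D10767) D10766
theorem F45003 : act 7 n13760 = n10781 := d26_2 (iv F35539) D13760 (iv D10781)
def n13763 : Q := act 2 n10768
theorem D13763 : act 2 n10768 = n13763 := rfl
theorem F45013 : act 4 n13763 = n10769 := d14_2 (iv F35546) D13763 (iv D10769)
def n13765 : Q := act 3 n10769
theorem D13765 : act 3 n10769 = n13765 := rfl
theorem F45018 : act 0 n13765 = n13765 := d2_1 D13765 (iv D13765) F35547
theorem F45019 : act 2 n13765 = n13765 := d13_1 D13765 (iv D13765) (iv D10769) F28026 D10769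
theorem F45020 : act 5 n13765 = n10804 := d19_2 (iv F35548) D13765 (iv D10804)
def n13766 : Q := act 7 n10769
theorem D13766 : act 7 n10769 = n13766 := rfl
theorem F45023 : act 5 n13766 = n10805 := d26_1 D13766 (iv D10805) (iv F35548)
def n13777 : Q := act 5 n10780
theorem D13777 : act 5 n10780 = n13777 := rfl
theorem F45060 : act 2 n13777 = n10781 := d15_1 D13777 (iv D10781) D10780
def n13788 : Q := act 7 n10786
theorem D13788 : act 7 n10786 = n13788 := rfl
theorem F45097 : act 2 n13788 = n13788 := d17_1 D13788 (iv D13788) F35607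
theorem F45098 : act 3 n13788 = n10787 := d21_1 D13788 (iv D10787) D10786
theorem F45099 : act 5 n13788 = n10827 := d26_1 D13788 (iv D10827) (iv F35608)
def n13789 : Q := act 6 n10787
theorem D13789 : act 6 n10787 = n13789 := rfl
theorem F45101 : act 1 n13789 = n10860 := d11_1 D13789 (iv D10860) (iv F35610)
theorem F45102 : act 5 n13789 = n10828 := d25_1 D13789 (iv D10828) (iv F35612)
def n13807 : Q := act 7 n10800
theorem D13807 : act 7 n10800 = n13807 := rfl
theorem F45165 : act 1 n13807 = n10809 := d12_1 D13807 (iv D10809) (iv F35657)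
theorem F45166 : act 3 n13807 = n10803 := d21_1 D13807 (iv D10803) (iv F35658)
def n13809 : Q := act 7 n10801
theorem D13809 : act 7 n10801 = n13809 := rfl
theorem F45172 : act 1 n13809 = n10810 := d12_1 D13809 (iv D10810) (iv F35661)
theorem F45173 : act 5 n13809 = n10803 := d26_1 D13809 (iv D10803) (iv F35662)
def n13810 : Q := act 3 n10802
theorem D13810 : act 3 n10802 = n13810 := rfl
def n13811 : Q := act 7 n10802
theorem D13811 : act 7 n10802 = n13811 := rfl
theorem F45176 : act 0 n13811 = n13811 := d6_1 D13811 (iv D13811) F35663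
theorem F45177 : act 2 n13811 = n10803 := d17_1 D13811 (iv D10803) D10802
theorem F45178 : act 4 n13811 = n10805 := d24_1 D13811 (iv D10805) (iv F35664)
def n13812 : Q := act 4 n10804
theorem D13812 : act 4 n10804 = n13812 := rfl
def n13813 : Q := act 7 n10804
theorem D13813 : act 7 n10804 = n13813 := rfl
theorem F45183 : act 3 n13813 = n10805 := d21_1 D13813 (iv D10805) D10804
def n13814 : Q := act 6 n10805
theorem D13814 : act 6 n10805 = n13814 := rfl
theorem F45185 : act 2 n13814 = n10828 := d16_1 D13814 (iv D10828) F28168 (iv F28115) (iv F35672)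
def n13828 : Q := act 2 n10817
theorem D13828 : act 2 n10817 = n13828 := rfl
theorem F45232 : act 6 n13828 = n10820 := d16_2 D10817 D13828 (iv D10820) (iv D8449) D8447
def n13831 : Q := act 2 n10819
theorem D13831 : act 2 n10819 = n13831 := rfl
theorem F45242 : act 5 n13831 = n10820 := d15_2 (iv F35717) D13831 (iv D10820)
def n13832 : Q := act 7 n10819
theorem D13832 : act 7 n10819 = n13832 := rfl
theorem F45245 : act 3 n13832 = n10823 := d21_1 D13832 (iv D10823) (iv F35716)
theorem F45246 : act 5 n13832 = n10821 := d26_1 D13832 (iv D10821) (iv F35717)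
def n13833 : Q := act 3 n10820
theorem D13833 : act 3 n10820 = n13833 := rfl
theorem F45249 : act 2 n13833 = n10824 := d13_1 D13833 (iv D10824) (iv D8451) (iv F28152) D10820
def n13834 : Q := act 7 n10820
theorem D13834 : act 7 n10820 = n13834 := rfl
theorem F45250 : act 0 n13834 = n13834 := d6_1 D13834 (iv D13834) F35718
theorem F45251 : act 1 n13834 = n13834 := d12_1 D13834 (iv D13834) F35719
theorem F45252 : act 2 n13834 = n10821 := d17_1 D13834 (iv D10821) D10820
theorem F45253 : act 4 n13834 = n13834 := d24_1 D13834 (iv D13834) F35720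
def n13879 : Q := act 6 n10859
theorem D13879 : act 6 n10859 = n13879 := rfl
theorem F45393 : act 0 n13879 = n10993 := d5_1 D13879 (iv D10993) (iv F35844)
theorem F45394 : act 3 n13879 = n10860 := d20_1 D13879 (iv D10860) (iv F35846)
def n13890 : Q := act 4 n10870
theorem D13890 : act 4 n10870 = n13890 := rfl
theorem F45428 : act 0 n13890 = n11004 := d3_1 D13890 (iv D11004) (iv F35878)
def n13942 : Q := act 7 n10911
theorem D13942 : act 7 n10911 = n13942 := rfl
theorem F45592 : act 2 n13942 = n10912 := d17_1 D13942 (iv D10912) D10911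
def n13947 : Q := act 3 n10915
theorem D13947 : act 3 n10915 = n13947 := rfl
theorem F45609 : act 2 n13947 = n10944 := d13_1 D13947 (iv D10944) (iv D8549) (iv F28415) D10915
theorem F45612 : act 6 n13947 = n11061 := d20_2 (iv F36027) D13947 (iv D11061)
def n13949 : Q := act 0 n10917
theorem D13949 : act 0 n10917 = n13949 := rfl
theorem F45618 : act 6 n13949 = n11063 := d5_2 (iv F36033) D13949 (iv D11063)
def n13965 : Q := act 4 n10928
theorem D13965 : act 4 n10928 = n13965 := rfl
theorem F45663 : act 6 n13965 = n11004 := d23_2 (iv F36063) D13965 (iv D11004)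
def n14126 : Q := act 0 n11060
theorem D14126 : act 0 n11060 = n14126 := rfl
theorem F46156 : act 4 n14126 = n11063 := d3_2 (iv F36473) D14126 (iv D11063)
def n14138 : Q := act 0 n11070
theorem D14138 : act 0 n11070 = n14138 := rfl
theorem F46195 : act 2 n14138 = n11091 := d1_2 (iv F36505) D14138 (iv D11091)
def n14140 : Q := act 7 n11070
theorem D14140 : act 7 n11070 = n14140 := rfl
theorem F46202 : act 1 n14140 = n11072 := d12_1 D14140 (iv D11072) D11070
theorem F46203 : act 2 n14140 = n11092 := d17_1 D14140 (iv D11092) (iv F36505)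
def n14142 : Q := act 7 n11071
theorem D14142 : act 7 n11071 = n14142 := rfl
theorem F46209 : act 2 n14142 = n11080 := d17_1 D14142 (iv D11080) (iv F36509)
theorem F46210 : act 3 n14142 = n11072 := d21_1 D14142 (iv D11072) D11071
def n14154 : Q := act 6 n11080
theorem D14154 : act 6 n11080 = n14154 := rfl
theorem F46255 : act 7 n14154 = n11171 := d27_2 D11080 D14154 (iv D11171) (iv D8736) (iv F28825)
def n14161 : Q := act 0 n11088
theorem D14161 : act 0 n11088 = n14161 := rfl
theorem F46279 : act 4 n14161 = n11091 := d3_2 (iv F36569) D14161 (iv D11091)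
theorem F46281 : act 6 n14161 = n11105 := d5_2 (iv F36571) D14161 (iv D11105)
def n14167 : Q := act 6 n11092
theorem D14167 : act 6 n11092 = n14167 := rfl
theorem F46304 : act 7 n14167 = n11111 := d27_2 D11092 D14167 (iv D11111) (iv D8686) (iv F28862)
def n14174 : Q := act 6 n11098
theorem D14174 : act 6 n11098 = n14174 := rfl
theorem F46330 : act 7 n14174 = n11118 := d27_2 D11098 D14174 (iv D11118) (iv D8692) (iv F28881)
def n14176 : Q := act 6 n11101
theorem D14176 : act 6 n11101 = n14176 := rfl
theorem F46338 : act 7 n14176 = n11120 := d27_2 D11101 D14176 (iv D11120) (iv D8695) (iv F28891)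
def n14177 : Q := act 2 n11102
theorem D14177 : act 2 n11102 = n14177 := rfl
theorem F46341 : act 7 n14177 = n11121 := d17_2 (iv F36624) D14177 (iv D11121)
def n14181 : Q := act 7 n11105
theorem D14181 : act 7 n11105 = n14181 := rfl
theorem F46353 : act 0 n14181 = n11107 := d6_1 D14181 (iv D11107) D11105
def n14191 : Q := act 7 n11114
theorem D14191 : act 7 n11114 = n14191 := rfl
theorem F46388 : act 3 n14191 = n11115 := d21_1 D14191 (iv D11115) D11114
def n14979 : Q := act 3 n11747
theorem D14979 : act 3 n11747 = n14979 := rfl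
theorem F48990 : act 0 n14979 = n12307 := d2_1 D14979 (iv D12307) (iv F38785)
theorem F48991 : act 1 n14979 = n11749 := d8_1 D14979 (iv D11749) (iv F38786)
theorem F48992 : act 4 n14979 = n11811 := d18_2 D11747 D14979 (iv D11811) (iv D9248) (iv F30653)
def n14980 : Q := act 5 n11747
theorem D14980 : act 5 n11747 = n14980 := rfl
theorem F48994 : act 0 n14980 = n12308 := d4_1 D14980 (iv D12308) (iv F38785)
theorem F48995 : act 1 n14980 = n11750 := d10_1 D14980 (iv D11750) (iv F38786)
theorem F48996 : act 2 n14980 = n12046 := d15_1 D14980 (iv D12046) (iv F38787)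
theorem F48997 : act 4 n14980 = n12277 := d22_1 D14980 (iv D12277) (iv D9610) (iv F30654) D11747
def n14981 : Q := act 6 n11747
theorem D14981 : act 6 n11747 = n14981 := rfl
theorem F48999 : act 0 n14981 = n12309 := d5_1 D14981 (iv D12309) (iv F38785)
theorem F49000 : act 1 n14981 = n11751 := d11_1 D14981 (iv D11751) (iv F38786)
theorem F49001 : act 4 n14981 = n11748 := d23_1 D14981 (iv D11748) D11747
def n14982 : Q := act 2 n11748
theorem D14982 : act 2 n11748 = n14982 := rfl
theorem F49002 : act 0 n14982 = n12310 := d1_1 D14982 (iv D12310) (iv F38789)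
theorem F49003 : act 1 n14982 = n14982 := d7_1 D14982 (iv D14982) F38790 F30660 (iv F38790)
theorem F49004 : act 5 n14982 = n12279 := d15_2 (iv F38792) D14982 (iv D12279)
theorem F49005 : act 6 n14982 = n12048 := d16_2 D11748 D14982 (iv D12048) (iv D9435) (iv F30652)
def n14983 : Q := act 7 n11748
theorem D14983 : act 7 n11748 = n14983 := rfl
theorem F49007 : act 1 n14983 = n11752 := d12_1 D14983 (iv D11752) (iv F38790)
theorem F49008 : act 3 n14983 = n11815 := d21_1 D14983 (iv D11815) (iv F38791)
theorem F49009 : act 5 n14983 = n12280 := d26_1 D14983 (iv D12280) (iv F38792)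
theorem F49010 : act 6 n14983 = n12266 := d27_1 D14983 (iv D12266) (iv D9601) (iv F30655) D11748
def n14984 : Q := act 5 n11749
theorem D14984 : act 5 n11749 = n14984 := rfl
theorem F49012 : act 2 n14984 = n11772 := d15_1 D14984 (iv D11772) (iv F38794)
theorem F49013 : act 3 n14984 = n11750 := d19_1 D14984 (iv D11750) D11749
def n14985 : Q := act 6 n11749
theorem D14985 : act 6 n11749 = n14985 := rfl
theorem F49016 : act 3 n14985 = n11751 := d20_1 D14985 (iv D11751) D11749
def n14986 : Q := act 6 n11750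
theorem D14986 : act 6 n11750 = n14986 := rfl
def n14993 : Q := act 3 n11757
theorem D14993 : act 3 n11757 = n14993 := rfl
theorem F49048 : act 4 n14993 = n11825 := d18_2 D11757 D14993 (iv D11825) (iv D9258) (iv F30687)
theorem F49049 : act 7 n14993 = n11767 := d21_2 (iv F38827) D14993 (iv D11767)
def n14994 : Q := act 5 n11757
theorem D14994 : act 5 n11757 = n14994 := rfl
theorem F49051 : act 1 n14994 = n11760 := d10_1 D14994 (iv D11760) (iv F38825)
theorem F49052 : act 2 n14994 = n12070 := d15_1 D14994 (iv D12070) (iv F38826)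
theorem F49054 : act 7 n14994 = n11768 := d26_2 (iv F38827) D14994 (iv D11768)
def n14995 : Q := act 6 n11757
theorem D14995 : act 6 n11757 = n14995 := rfl
theorem F49056 : act 1 n14995 = n11761 := d11_1 D14995 (iv D11761) (iv F38825)
def n14996 : Q := act 2 n11758
theorem D14996 : act 2 n11758 = n14996 := rfl
theorem F49059 : act 1 n14996 = n12710 := d7_1 D14996 (iv D12710) F32994 (iv F30694) (iv F38829)
theorem F49061 : act 6 n14996 = n12072 := d16_2 D11758 D14996 (iv D12072) (iv D9453) (iv F30686)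
def n14997 : Q := act 7 n11758
theorem D14997 : act 7 n11758 = n14997 := rfl
theorem F49066 : act 6 n14997 = n11771 := d27_1 D14997 (iv D11771) (iv D9215) (iv F30689) D11758
def n15001 : Q := act 7 n11761
theorem D15001 : act 7 n11761 = n15001 := rfl
theorem F49081 : act 6 n15001 = n11775 := d27_1 D15001 (iv D11775) (iv D9218) (iv F30692) D11761
def n15007 : Q := act 2 n11767
theorem D15007 : act 2 n11767 = n15007 := rfl
theorem F49102 : act 0 n15007 = n15007 := d1_1 D15007 (iv D15007) F38863
theorem F49103 : act 3 n15007 = n12083 := d13_2 D11767 D15007 (iv D12083) (iv D9462) (iv F30721)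
theorem F49104 : act 4 n15007 = n11839 := d14_2 (iv F38865) D15007 (iv D11839)
def n15008 : Q := act 5 n11767
theorem D15008 : act 5 n11767 = n15008 := rfl
theorem F49106 : act 1 n15008 = n11772 := d10_1 D15008 (iv D11772) (iv F38864)
theorem F49107 : act 3 n15008 = n11768 := d19_1 D15008 (iv D11768) D11767
def n15009 : Q := act 6 n11767
theorem D15009 : act 6 n11767 = n15009 := rfl
def n15010 : Q := act 6 n11768
theorem D15010 : act 6 n11768 = n15010 := rfl
theorem F49115 : act 5 n15010 = n11769 := d25_1 D15010 (iv D11769) D11768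
def n15011 : Q := act 2 n11769
theorem D15011 : act 2 n11769 = n15011 := rfl
theorem F49116 : act 0 n15011 = n15011 := d1_1 D15011 (iv D15011) F38870
theorem F49117 : act 1 n15011 = n15011 := d7_1 D15011 (iv D15011) F38871 F30732 (iv F38871)
theorem F49118 : act 4 n15011 = n11770 := d14_2 (iv F38872) D15011 (iv D11770)
theorem F49119 : act 6 n15011 = n12087 := d16_2 D11769 D15011 (iv D12087) (iv D9464) (iv F30721)
def n15012 : Q := act 7 n11769
theorem D15012 : act 7 n11769 = n15012 := rfl
theorem F49121 : act 1 n15012 = n11775 := d12_1 D15012 (iv D11775) (iv F38871)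
def n15013 : Q := act 7 n11770
theorem D15013 : act 7 n11770 = n15013 := rfl
theorem F49123 : act 0 n15013 = n15013 := d6_1 D15013 (iv D15013) F38873
theorem F49124 : act 1 n15013 = n15013 := d12_1 D15013 (iv D15013) F38874
theorem F49125 : act 2 n15013 = n11771 := d17_1 D15013 (iv D11771) D11770
theorem F49126 : act 3 n15013 = n15013 := d21_1 D15013 (iv D15013) F38875
theorem F49127 : act 5 n15013 = n15013 := d26_1 D15013 (iv D15013) F38876
def n15024 : Q := act 3 n11781
theorem D15024 : act 3 n11781 = n15024 := rfl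
theorem F49159 : act 0 n15024 = n11811 := d2_1 D15024 (iv D11811) (iv F38909)
theorem F49160 : act 1 n15024 = n11783 := d8_1 D15024 (iv D11783) (iv F38910)
theorem F49162 : act 7 n15024 = n11919 := d21_2 (iv F38912) D15024 (iv D11919)
def n15025 : Q := act 5 n11781
theorem D15025 : act 5 n11781 = n15025 := rfl
theorem F49163 : act 0 n15025 = n11812 := d4_1 D15025 (iv D11812) (iv F38909)
theorem F49164 : act 1 n15025 = n11784 := d10_1 D15025 (iv D11784) (iv F38910)
theorem F49165 : act 2 n15025 = n11906 := d15_1 D15025 (iv D11906) (iv F38911)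
theorem F49166 : act 4 n15025 = n11934 := d22_1 D15025 (iv D11934) (iv D9342) (iv F30753) D11781
theorem F49167 : act 7 n15025 = n11920 := d26_2 (iv F38912) D15025 (iv D11920)
def n15026 : Q := act 6 n11781
theorem D15026 : act 6 n11781 = n15026 := rfl
theorem F49168 : act 0 n15026 = n11813 := d5_1 D15026 (iv D11813) (iv F38909)
theorem F49169 : act 1 n15026 = n11785 := d11_1 D15026 (iv D11785) (iv F38910)
theorem F49170 : act 4 n15026 = n11782 := d23_1 D15026 (iv D11782) D11781
def n15027 : Q := act 2 n11782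
theorem D15027 : act 2 n11782 = n15027 := rfl
theorem F49171 : act 0 n15027 = n11814 := d1_1 D15027 (iv D11814) (iv F38913)
theorem F49172 : act 1 n15027 = n15027 := d7_1 D15027 (iv D15027) F38914 F30759 (iv F38914)
theorem F49173 : act 5 n15027 = n11936 := d15_2 (iv F38916) D15027 (iv D11936)
theorem F49174 : act 6 n15027 = n11908 := d16_2 D11782 D15027 (iv D11908) (iv D9323) (iv F30751)
def n15028 : Q := act 7 n11782
theorem D15028 : act 7 n11782 = n15028 := rfl
theorem F49175 : act 0 n15028 = n11815 := d6_1 D15028 (iv D11815) (iv F38913)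
theorem F49176 : act 1 n15028 = n11786 := d12_1 D15028 (iv D11786) (iv F38914)
theorem F49178 : act 5 n15028 = n11937 := d26_1 D15028 (iv D11937) (iv F38916)
theorem F49179 : act 6 n15028 = n11923 := d27_1 D15028 (iv D11923) (iv D9333) (iv F30754) D11782
def n15029 : Q := act 5 n11783
theorem D15029 : act 5 n11783 = n15029 := rfl
theorem F49182 : act 3 n15029 = n11784 := d19_1 D15029 (iv D11784) D11783
theorem F49183 : act 7 n15029 = n11924 := d26_2 (iv F38920) D15029 (iv D11924)
def n15030 : Q := act 6 n11783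
theorem D15030 : act 6 n11783 = n15030 := rfl
theorem F49185 : act 3 n15030 = n11785 := d20_1 D15030 (iv D11785) D11783
def n15031 : Q := act 6 n11784
theorem D15031 : act 6 n11784 = n15031 := rfl
theorem F49187 : act 0 n15031 = n11789 := d5_1 D15031 (iv D11789) (iv F38921)
theorem F49190 : act 5 n15031 = n11785 := d25_1 D15031 (iv D11785) D11784
def n15032 : Q := act 7 n11785
theorem D15032 : act 7 n11785 = n15032 := rfl
theorem F49193 : act 4 n15032 = n11786 := d24_1 D15032 (iv D11786) (iv F38927)
theorem F49194 : act 6 n15032 = n11927 := d27_1 D15032 (iv D11927) (iv D9336) (iv F30757) D11785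
def n15036 : Q := act 7 n11788
theorem D15036 : act 7 n11788 = n15036 := rfl
theorem F49207 : act 3 n15036 = n11790 := d21_1 D15036 (iv D11790) (iv F38938)
def n15037 : Q := act 7 n11789
theorem D15037 : act 7 n11789 = n15037 := rfl
theorem F49214 : act 6 n15037 = n11932 := d27_1 D15037 (iv D11932) (iv D9340) (iv F30775) D11789
def n15038 : Q := act 3 n11791
theorem D15038 : act 3 n11791 = n15038 := rfl
theorem F49215 : act 0 n15038 = n11933 := d2_1 D15038 (iv D11933) (iv F38948)
theorem F49216 : act 1 n15038 = n11793 := d8_1 D15038 (iv D11793) (iv F38949)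
theorem F49217 : act 4 n15038 = n12276 := d18_2 D11791 D15038 (iv D12276) (iv D9610) (iv F30786)
theorem F49218 : act 7 n15038 = n11905 := d21_2 (iv F38951) D15038 (iv D11905)
def n15039 : Q := act 5 n11791
theorem D15039 : act 5 n11791 = n15039 := rfl
theorem F49219 : act 0 n15039 = n11934 := d4_1 D15039 (iv D11934) (iv F38948)
theorem F49220 : act 1 n15039 = n11794 := d10_1 D15039 (iv D11794) (iv F38949)
theorem F49221 : act 2 n15039 = n11920 := d15_1 D15039 (iv D11920) (iv F38950)
theorem F49222 : act 4 n15039 = n11812 := d22_1 D15039 (iv D11812) (iv D9248) (iv F30787) D11791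
theorem F49223 : act 7 n15039 = n11906 := d26_2 (iv F38951) D15039 (iv D11906)
def n15040 : Q := act 6 n11791
theorem D15040 : act 6 n11791 = n15040 := rfl
theorem F49224 : act 0 n15040 = n11935 := d5_1 D15040 (iv D11935) (iv F38948)
theorem F49225 : act 1 n15040 = n11795 := d11_1 D15040 (iv D11795) (iv F38949)
theorem F49226 : act 4 n15040 = n11792 := d23_1 D15040 (iv D11792) D11791
def n15041 : Q := act 2 n11792
theorem D15041 : act 2 n11792 = n15041 := rfl
theorem F49227 : act 0 n15041 = n11936 := d1_1 D15041 (iv D11936) (iv F38952)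
theorem F49228 : act 1 n15041 = n11857 := d7_1 D15041 (iv D11857) F30946 (iv F30793) (iv F38953)
theorem F49229 : act 5 n15041 = n11814 := d15_2 (iv F38955) D15041 (iv D11814)
theorem F49230 : act 6 n15041 = n11922 := d16_2 D11792 D15041 (iv D11922) (iv D9333) (iv F30785)
def n15042 : Q := act 7 n11792
theorem D15042 : act 7 n11792 = n15042 := rfl
theorem F49231 : act 0 n15042 = n11937 := d6_1 D15042 (iv D11937) (iv F38952)
theorem F49232 : act 1 n15042 = n11796 := d12_1 D15042 (iv D11796) (iv F38953)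
theorem F49233 : act 3 n15042 = n12280 := d21_1 D15042 (iv D12280) (iv F38954)
theorem F49234 : act 5 n15042 = n11815 := d26_1 D15042 (iv D11815) (iv F38955)
theorem F49235 : act 6 n15042 = n11909 := d27_1 D15042 (iv D11909) (iv D9323) (iv F30788) D11792
def n15043 : Q := act 5 n11793
theorem D15043 : act 5 n11793 = n15043 := rfl
theorem F49238 : act 3 n15043 = n11794 := d19_1 D15043 (iv D11794) D11793
theorem F49239 : act 7 n15043 = n11910 := d26_2 (iv F38959) D15043 (iv D11910)
def n15044 : Q := act 6 n11793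
theorem D15044 : act 6 n11793 = n15044 := rfl
theorem F49240 : act 0 n15044 = n11798 := d5_1 D15044 (iv D11798) (iv F38956)
theorem F49241 : act 3 n15044 = n11795 := d20_1 D15044 (iv D11795) D11793
def n15045 : Q := act 6 n11794
theorem D15045 : act 6 n11794 = n15045 := rfl
theorem F49246 : act 5 n15045 = n11795 := d25_1 D15045 (iv D11795) D11794
def n15046 : Q := act 7 n11795
theorem D15046 : act 7 n11795 = n15046 := rfl
theorem F49250 : act 6 n15046 = n11913 := d27_1 D15046 (iv D11913) (iv D9326) (iv F30791) D11795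
def n15052 : Q := act 3 n11801
theorem D15052 : act 3 n11801 = n15052 := rfl
theorem F49271 : act 0 n15052 = n11919 := d2_1 D15052 (iv D11919) (iv F38987)
theorem F49272 : act 1 n15052 = n11803 := d8_1 D15052 (iv D11803) (iv F38988)
theorem F49274 : act 7 n15052 = n11811 := d21_2 (iv F38990) D15052 (iv D11811)
def n15053 : Q := act 5 n11801
theorem D15053 : act 5 n11801 = n15053 := rfl
theorem F49275 : act 0 n15053 = n11920 := d4_1 D15053 (iv D11920) (iv F38987)
theorem F49276 : act 1 n15053 = n11804 := d10_1 D15053 (iv D11804) (iv F38988)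
theorem F49277 : act 2 n15053 = n11934 := d15_1 D15053 (iv D11934) (iv F38989)
theorem F49278 : act 4 n15053 = n11906 := d22_1 D15053 (iv D11906) (iv D9322) (iv F30821) D11801
theorem F49279 : act 7 n15053 = n11812 := d26_2 (iv F38990) D15053 (iv D11812)
def n15054 : Q := act 6 n11801
theorem D15054 : act 6 n11801 = n15054 := rfl
theorem F49280 : act 0 n15054 = n11921 := d5_1 D15054 (iv D11921) (iv F38987)
theorem F49281 : act 1 n15054 = n11805 := d11_1 D15054 (iv D11805) (iv F38988)
theorem F49282 : act 4 n15054 = n11802 := d23_1 D15054 (iv D11802) D11801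
def n15055 : Q := act 2 n11802
theorem D15055 : act 2 n11802 = n15055 := rfl
theorem F49283 : act 0 n15055 = n11922 := d1_1 D15055 (iv D11922) (iv F38991)
theorem F49284 : act 1 n15055 = n15055 := d7_1 D15055 (iv D15055) F38992 F30827 (iv F38992)
theorem F49285 : act 5 n15055 = n11908 := d15_2 (iv F38994) D15055 (iv D11908)
theorem F49286 : act 6 n15055 = n11936 := d16_2 D11802 D15055 (iv D11936) (iv D9343) (iv F30819)
def n15056 : Q := act 7 n11802
theorem D15056 : act 7 n11802 = n15056 := rfl
theorem F49287 : act 0 n15056 = n11923 := d6_1 D15056 (iv D11923) (iv F38991)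
theorem F49288 : act 1 n15056 = n11806 := d12_1 D15056 (iv D11806) (iv F38992)
theorem F49290 : act 5 n15056 = n11909 := d26_1 D15056 (iv D11909) (iv F38994)
theorem F49291 : act 6 n15056 = n11815 := d27_1 D15056 (iv D11815) (iv D9249) (iv F30822) D11802
def n15057 : Q := act 5 n11803
theorem D15057 : act 5 n11803 = n15057 := rfl
theorem F49294 : act 3 n15057 = n11804 := d19_1 D15057 (iv D11804) D11803
def n15059 : Q := act 6 n11804
theorem D15059 : act 6 n11804 = n15059 := rfl
theorem F49301 : act 4 n15059 = n11912 := d23_1 D15059 (iv D11912) (iv F39001)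
theorem F49302 : act 5 n15059 = n11805 := d25_1 D15059 (iv D11805) D11804
def n15060 : Q := act 7 n11805
theorem D15060 : act 7 n11805 = n15060 := rfl
theorem F49305 : act 4 n15060 = n11806 := d24_1 D15060 (iv D11806) (iv F39005)
def n15066 : Q := act 2 n11811
theorem D15066 : act 2 n11811 = n15066 := rfl
theorem F49327 : act 1 n15066 = n11839 := d7_1 D15066 (iv D11839) F30905 (iv F30856) (iv F39026)
theorem F49328 : act 3 n15066 = n11947 := d13_2 D11811 D15066 (iv D11947) (iv D9352) (iv F30853)
def n15067 : Q := act 5 n11811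
theorem D15067 : act 5 n11811 = n15067 := rfl
theorem F49330 : act 3 n15067 = n11812 := d19_1 D15067 (iv D11812) D11811
def n15068 : Q := act 6 n11811
theorem D15068 : act 6 n11811 = n15068 := rfl
theorem F49332 : act 3 n15068 = n11813 := d20_1 D15068 (iv D11813) D11811
def n15069 : Q := act 6 n11812
theorem D15069 : act 6 n11812 = n15069 := rfl
theorem F49334 : act 5 n15069 = n11813 := d25_1 D15069 (iv D11813) D11812
def n15070 : Q := act 2 n11813
theorem D15070 : act 2 n11813 = n15070 := rfl
theorem F49335 : act 1 n15070 = n11871 := d7_1 D15070 (iv D11871) F30986 (iv F30860) (iv F39029)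
theorem F49336 : act 4 n15070 = n11814 := d14_2 (iv F39030) D15070 (iv D11814)
theorem F49337 : act 6 n15070 = n11951 := d16_2 D11813 D15070 (iv D11951) (iv D9354) (iv F30853)
def n15071 : Q := act 7 n11813
theorem D15071 : act 7 n11813 = n15071 := rfl
theorem F49338 : act 1 n15071 = n11819 := d12_1 D15071 (iv D11819) (iv F39029)
theorem F49339 : act 4 n15071 = n11815 := d24_1 D15071 (iv D11815) (iv F39030)
def n15072 : Q := act 3 n11814
theorem D15072 : act 3 n11814 = n15072 := rfl
theorem F49340 : act 1 n15072 = n11873 := d8_1 D15072 (iv D11873) (iv F39031)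
theorem F49341 : act 6 n15072 = n11953 := d20_2 (iv F39032) D15072 (iv D11953)
def n15073 : Q := act 7 n11814
theorem D15073 : act 7 n11814 = n15073 := rfl
theorem F49342 : act 1 n15073 = n11874 := d12_1 D15073 (iv D11874) (iv F39031)
theorem F49343 : act 2 n15073 = n11815 := d17_1 D15073 (iv D11815) D11814
def n15084 : Q := act 2 n11825
theorem D15084 : act 2 n11825 = n15084 := rfl
theorem F49367 : act 0 n15084 = n15084 := d1_1 D15084 (iv D15084) F39053
theorem F49368 : act 3 n15084 = n11961 := d13_2 D11825 D15084 (iv D11961) (iv D9365) (iv F30873)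
theorem F49369 : act 7 n15084 = n11839 := d17_2 (iv F39055) D15084 (iv D11839)
def n15087 : Q := act 6 n11826
theorem D15087 : act 6 n11826 = n15087 := rfl
theorem F49380 : act 5 n15087 = n11827 := d25_1 D15087 (iv D11827) D11826
def n15088 : Q := act 2 n11827
theorem D15088 : act 2 n11827 = n15088 := rfl
theorem F49381 : act 0 n15088 = n15088 := d1_1 D15088 (iv D15088) F39061
theorem F49382 : act 1 n15088 = n15088 := d7_1 D15088 (iv D15088) F39062 F30885 (iv F39062)
theorem F49383 : act 4 n15088 = n11828 := d14_2 (iv F39063) D15088 (iv D11828)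
theorem F49384 : act 6 n15088 = n11965 := d16_2 D11827 D15088 (iv D11965) (iv D9367) (iv F30873)
def n15089 : Q := act 7 n11827
theorem D15089 : act 7 n11827 = n15089 := rfl
theorem F49387 : act 4 n15089 = n11829 := d24_1 D15089 (iv D11829) (iv F39063)
def n15090 : Q := act 3 n11828
theorem D15090 : act 3 n11828 = n15090 := rfl
theorem F49392 : act 6 n15090 = n11966 := d20_2 (iv F39067) D15090 (iv D11966)
def n15091 : Q := act 7 n11828
theorem D15091 : act 7 n11828 = n15091 := rfl
theorem F49393 : act 0 n15091 = n15091 := d6_1 D15091 (iv D15091) F39064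
theorem F49394 : act 1 n15091 = n15091 := d12_1 D15091 (iv D15091) F39065
theorem F49395 : act 2 n15091 = n11829 := d17_1 D15091 (iv D11829) D11828
theorem F49396 : act 5 n15091 = n15091 := d26_1 D15091 (iv D15091) F39066
theorem F49397 : act 6 n15091 = n15091 := d27_1 D15091 (iv D15091) F39067 F31212 (iv F39067)
def n15102 : Q := act 5 n11839
theorem D15102 : act 5 n11839 = n15102 := rfl
theorem F49428 : act 2 n15102 = n11840 := d15_1 D15102 (iv D11840) D11839
theorem F49429 : act 3 n15102 = n11973 := d19_1 D15102 (iv D11973) (iv F39101)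
def n15103 : Q := act 6 n11839
theorem D15103 : act 6 n11839 = n15103 := rfl
theorem F49431 : act 3 n15103 = n11974 := d20_1 D15103 (iv D11974) (iv F39101)
def n15121 : Q := act 2 n11854
theorem D15121 : act 2 n11854 = n15121 := rfl
theorem F49478 : act 0 n15121 = n15121 := d1_1 D15121 (iv D15121) F39142
theorem F49479 : act 1 n15121 = n15121 := d7_1 D15121 (iv D15121) F39143 F30950 (iv F39143)
theorem F49480 : act 3 n15121 = n11976 := d13_2 D11854 D15121 (iv D11976) (iv D9378) (iv F30943)
theorem F49481 : act 4 n15121 = n15121 := d14_2 F39144 D15121 (iv D15121)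
theorem F49482 : act 7 n15121 = n15121 := d17_2 F39145 D15121 (iv D15121)
def n15122 : Q := act 5 n11854
theorem D15122 : act 5 n11854 = n15122 := rfl
theorem F49485 : act 3 n15122 = n11855 := d19_1 D15122 (iv D11855) D11854
def n15123 : Q := act 6 n11854
theorem D15123 : act 6 n11854 = n15123 := rfl
theorem F49489 : act 3 n15123 = n11856 := d20_1 D15123 (iv D11856) D11854
def n15124 : Q := act 6 n11855
theorem D15124 : act 6 n11855 = n15124 := rfl
theorem F49494 : act 5 n15124 = n11856 := d25_1 D15124 (iv D11856) D11855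
def n15125 : Q := act 2 n11856
theorem D15125 : act 2 n11856 = n15125 := rfl
theorem F49495 : act 0 n15125 = n15125 := d1_1 D15125 (iv D15125) F39151
theorem F49496 : act 4 n15125 = n11857 := d14_2 (iv F39153) D15125 (iv D11857)
theorem F49497 : act 6 n15125 = n11980 := d16_2 D11856 D15125 (iv D11980) (iv D9380) (iv F30943)
def n15126 : Q := act 7 n11856
theorem D15126 : act 7 n11856 = n15126 := rfl
theorem F49500 : act 4 n15126 = n11858 := d24_1 D15126 (iv D11858) (iv F39153)
def n15127 : Q := act 3 n11857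
theorem D15127 : act 3 n11857 = n15127 := rfl
theorem F49504 : act 5 n15127 = n11873 := d19_2 (iv F39155) D15127 (iv D11873)
theorem F49505 : act 6 n15127 = n11982 := d20_2 (iv F39156) D15127 (iv D11982)
def n15128 : Q := act 7 n11857
theorem D15128 : act 7 n11857 = n15128 := rfl
theorem F49506 : act 0 n15128 = n15128 := d6_1 D15128 (iv D15128) F39154
theorem F49507 : act 2 n15128 = n11858 := d17_1 D15128 (iv D11858) D11857
theorem F49508 : act 5 n15128 = n11874 := d26_1 D15128 (iv D11874) (iv F39155)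
def n15130 : Q := act 6 n11859
theorem D15130 : act 6 n11859 = n15130 := rfl
theorem F49516 : act 5 n15130 = n11860 := d25_1 D15130 (iv D11860) D11859
def n15143 : Q := act 2 n11870
theorem D15143 : act 2 n11870 = n15143 := rfl
theorem F49561 : act 5 n15143 = n11871 := d15_2 (iv F39204) D15143 (iv D11871)
theorem F49562 : act 6 n15143 = n11992 := d16_2 D11870 D15143 (iv D11992) (iv D9391) (iv F30983)
def n15145 : Q := act 3 n11871
theorem D15145 : act 3 n11871 = n15145 := rfl
theorem F49568 : act 6 n15145 = n11994 := d20_2 (iv F39207) D15145 (iv D11994)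
def n15146 : Q := act 7 n11871
theorem D15146 : act 7 n11871 = n15146 := rfl
theorem F49571 : act 4 n15146 = n11874 := d24_1 D15146 (iv D11874) (iv F39206)
def n15147 : Q := act 4 n11873
theorem D15147 : act 4 n11873 = n15147 := rfl
theorem F49572 : act 0 n15147 = n15147 := d3_1 D15147 (iv D15147) F39212
theorem F49573 : act 2 n15147 = n15147 := d14_1 D15147 (iv D15147) F39213
def n15148 : Q := act 7 n11873
theorem D15148 : act 7 n11873 = n15148 := rfl
theorem F49575 : act 0 n15148 = n15148 := d6_1 D15148 (iv D15148) F39212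
theorem F49576 : act 2 n15148 = n15148 := d17_1 D15148 (iv D15148) F39213
theorem F49577 : act 3 n15148 = n11874 := d21_1 D15148 (iv D11874) D11873
def n15149 : Q := act 6 n11874
theorem D15149 : act 6 n11874 = n15149 := rfl
theorem F49580 : act 7 n15149 = n11998 := d27_2 D11874 D15149 (iv D11998) (iv D9395) (iv F30989)
def n15186 : Q := act 2 n11905
theorem D15186 : act 2 n11905 = n15186 := rfl
theorem F49697 : act 0 n15186 = n11947 := d1_1 D15186 (iv D11947) (iv F39315)
theorem F49698 : act 1 n15186 = n15186 := d7_1 D15186 (iv D15186) F39316 F31090 (iv F39316)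
theorem F49699 : act 4 n15186 = n12290 := d14_2 (iv F39317) D15186 (iv D12290)
def n15187 : Q := act 5 n11905
theorem D15187 : act 5 n11905 = n15187 := rfl
theorem F49700 : act 0 n15187 = n11948 := d4_1 D15187 (iv D11948) (iv F39315)
theorem F49701 : act 1 n15187 = n11910 := d10_1 D15187 (iv D11910) (iv F39316)
theorem F49702 : act 3 n15187 = n11906 := d19_1 D15187 (iv D11906) D11905
def n15188 : Q := act 6 n11905
theorem D15188 : act 6 n11905 = n15188 := rfl
theorem F49703 : act 0 n15188 = n11949 := d5_1 D15188 (iv D11949) (iv F39315)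
theorem F49704 : act 1 n15188 = n11911 := d11_1 D15188 (iv D11911) (iv F39316)
theorem F49705 : act 3 n15188 = n11907 := d20_1 D15188 (iv D11907) D11905
theorem F49706 : act 4 n15188 = n12292 := d23_1 D15188 (iv D12292) (iv F39317)
def n15189 : Q := act 6 n11906
theorem D15189 : act 6 n11906 = n15189 := rfl
theorem F49707 : act 0 n15189 = n11950 := d5_1 D15189 (iv D11950) (iv F39318)
theorem F49708 : act 1 n15189 = n11912 := d11_1 D15189 (iv D11912) (iv F39319)
theorem F49709 : act 5 n15189 = n11907 := d25_1 D15189 (iv D11907) D11906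
def n15190 : Q := act 2 n11907
theorem D15190 : act 2 n11907 = n15190 := rfl
theorem F49710 : act 0 n15190 = n11951 := d1_1 D15190 (iv D11951) (iv F39320)
theorem F49711 : act 1 n15190 = n15190 := d7_1 D15190 (iv D15190) F39321 F31095 (iv F39321)
theorem F49712 : act 4 n15190 = n11908 := d14_2 (iv F39322) D15190 (iv D11908)
def n15191 : Q := act 7 n11907
theorem D15191 : act 7 n11907 = n15191 := rfl
theorem F49713 : act 0 n15191 = n11952 := d6_1 D15191 (iv D11952) (iv F39320)
theorem F49714 : act 1 n15191 = n11913 := d12_1 D15191 (iv D11913) (iv F39321)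
theorem F49715 : act 4 n15191 = n11909 := d24_1 D15191 (iv D11909) (iv F39322)
def n15192 : Q := act 3 n11908
theorem D15192 : act 3 n11908 = n15192 := rfl
theorem F49716 : act 0 n15192 = n11953 := d2_1 D15192 (iv D11953) (iv F39323)
theorem F49717 : act 1 n15192 = n15192 := d8_1 D15192 (iv D15192) F39324
theorem F49718 : act 2 n15192 = n12296 := d13_1 D15192 (iv D12296) (iv D9623) (iv F31088) D11908
def n15193 : Q := act 7 n11908
theorem D15193 : act 7 n11908 = n15193 := rfl
theorem F49719 : act 0 n15193 = n11954 := d6_1 D15193 (iv D11954) (iv F39323)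
theorem F49720 : act 1 n15193 = n15193 := d12_1 D15193 (iv D15193) F39324
theorem F49721 : act 2 n15193 = n11909 := d17_1 D15193 (iv D11909) D11908
def n15195 : Q := act 6 n11910
theorem D15195 : act 6 n11910 = n15195 := rfl
theorem F49725 : act 0 n15195 = n11915 := d5_1 D15195 (iv D11915) (iv F39328)
theorem F49726 : act 3 n15195 = n11912 := d20_1 D15195 (iv D11912) (iv F39330)
theorem F49727 : act 5 n15195 = n11911 := d25_1 D15195 (iv D11911) D11910
def n15196 : Q := act 2 n11911
theorem D15196 : act 2 n11911 = n15196 := rfl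
theorem F49728 : act 0 n15196 = n11916 := d1_1 D15196 (iv D11916) (iv F39331)
def n15197 : Q := act 7 n11911
theorem D15197 : act 7 n11911 = n15197 := rfl
theorem F49733 : act 3 n15197 = n11913 := d21_1 D15197 (iv D11913) (iv F39332)
theorem F49734 : act 4 n15197 = n12301 := d24_1 D15197 (iv D12301) (iv F39333)
def n15198 : Q := act 7 n11912
theorem D15198 : act 7 n11912 = n15198 := rfl
theorem F49737 : act 5 n15198 = n11913 := d26_1 D15198 (iv D11913) (iv F39336)
def n15200 : Q := act 2 n11915
theorem D15200 : act 2 n11915 = n15200 := rfl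
theorem F49743 : act 5 n15200 = n11916 := d15_2 (iv F39345) D15200 (iv D11916)
def n15203 : Q := act 2 n11919
theorem D15203 : act 2 n11919 = n15203 := rfl
theorem F49752 : act 1 n15203 = n15203 := d7_1 D15203 (iv D15203) F39356 F31117 (iv F39356)
def n15204 : Q := act 5 n11919
theorem D15204 : act 5 n11919 = n15204 := rfl
theorem F49754 : act 1 n15204 = n11924 := d10_1 D15204 (iv D11924) (iv F39356)
theorem F49755 : act 3 n15204 = n11920 := d19_1 D15204 (iv D11920) D11919
def n15205 : Q := act 6 n11919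
theorem D15205 : act 6 n11919 = n15205 := rfl
theorem F49757 : act 3 n15205 = n11921 := d20_1 D15205 (iv D11921) D11919
theorem F49758 : act 4 n15205 = n12323 := d23_1 D15205 (iv D12323) (iv F39357)
def n15206 : Q := act 6 n11920
theorem D15206 : act 6 n11920 = n15206 := rfl
theorem F49759 : act 1 n15206 = n11926 := d11_1 D15206 (iv D11926) (iv F39358)
theorem F49760 : act 4 n15206 = n11950 := d23_1 D15206 (iv D11950) (iv F39359)
theorem F49761 : act 5 n15206 = n11921 := d25_1 D15206 (iv D11921) D11920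
def n15207 : Q := act 2 n11921
theorem D15207 : act 2 n11921 = n15207 := rfl
theorem F49762 : act 1 n15207 = n11980 := d7_1 D15207 (iv D11980) F31255 (iv F31123) (iv F39360)
theorem F49763 : act 4 n15207 = n11922 := d14_2 (iv F39361) D15207 (iv D11922)
def n15208 : Q := act 7 n11921
theorem D15208 : act 7 n11921 = n15208 := rfl
theorem F49764 : act 1 n15208 = n11927 := d12_1 D15208 (iv D11927) (iv F39360)
theorem F49765 : act 4 n15208 = n11923 := d24_1 D15208 (iv D11923) (iv F39361)
def n15209 : Q := act 3 n11922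
theorem D15209 : act 3 n11922 = n15209 := rfl
theorem F49767 : act 2 n15209 = n12327 := d13_1 D15209 (iv D12327) (iv D9647) (iv F31114) D11922
theorem F49768 : act 5 n15209 = n11953 := d19_2 (iv F39363) D15209 (iv D11953)
def n15210 : Q := act 7 n11922
theorem D15210 : act 7 n11922 = n15210 := rfl
theorem F49769 : act 1 n15210 = n11983 := d12_1 D15210 (iv D11983) (iv F39362)
theorem F49770 : act 2 n15210 = n11923 := d17_1 D15210 (iv D11923) D11922
theorem F49771 : act 5 n15210 = n11954 := d26_1 D15210 (iv D11954) (iv F39363)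
def n15212 : Q := act 6 n11924
theorem D15212 : act 6 n11924 = n15212 := rfl
theorem F49777 : act 3 n15212 = n11926 := d20_1 D15212 (iv D11926) (iv F39369)
theorem F49778 : act 5 n15212 = n11925 := d25_1 D15212 (iv D11925) D11924
def n15214 : Q := act 7 n11925
theorem D15214 : act 7 n11925 = n15214 := rfl
theorem F49784 : act 3 n15214 = n11927 := d21_1 D15214 (iv D11927) (iv F39371)
def n15215 : Q := act 7 n11926
theorem D15215 : act 7 n11926 = n15215 := rfl
theorem F49787 : act 2 n15215 = n11987 := d17_1 D15215 (iv D11987) (iv F39374)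
theorem F49788 : act 4 n15215 = n11958 := d24_1 D15215 (iv D11958) (iv F39375)
theorem F49789 : act 5 n15215 = n11927 := d26_1 D15215 (iv D11927) (iv F39376)
def n15221 : Q := act 2 n11933
theorem D15221 : act 2 n11933 = n15221 := rfl
theorem F49804 : act 1 n15221 = n11961 := d7_1 D15221 (iv D11961) F31198 (iv F31143) (iv F39393)
theorem F49805 : act 4 n15221 = n12339 := d14_2 (iv F39394) D15221 (iv D12339)
theorem F49806 : act 7 n15221 = n11947 := d17_2 (iv F39395) D15221 (iv D11947)
def n15222 : Q := act 5 n11933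
theorem D15222 : act 5 n11933 = n15222 := rfl
theorem F49807 : act 1 n15222 = n11938 := d10_1 D15222 (iv D11938) (iv F39393)
theorem F49808 : act 3 n15222 = n11934 := d19_1 D15222 (iv D11934) D11933
theorem F49809 : act 7 n15222 = n11948 := d26_2 (iv F39395) D15222 (iv D11948)
def n15223 : Q := act 6 n11933
theorem D15223 : act 6 n11933 = n15223 := rfl
theorem F49811 : act 3 n15223 = n11935 := d20_1 D15223 (iv D11935) D11933
theorem F49812 : act 4 n15223 = n12341 := d23_1 D15223 (iv D12341) (iv F39394)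
def n15224 : Q := act 6 n11934
theorem D15224 : act 6 n11934 = n15224 := rfl
theorem F49813 : act 1 n15224 = n11940 := d11_1 D15224 (iv D11940) (iv F39396)
theorem F49814 : act 5 n15224 = n11935 := d25_1 D15224 (iv D11935) D11934
def n15225 : Q := act 2 n11935
theorem D15225 : act 2 n11935 = n15225 := rfl
theorem F49815 : act 1 n15225 = n15225 := d7_1 D15225 (iv D15225) F39398 F31150 (iv F39398)
theorem F49816 : act 4 n15225 = n11936 := d14_2 (iv F39399) D15225 (iv D11936)
def n15226 : Q := act 7 n11935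
theorem D15226 : act 7 n11935 = n15226 := rfl
theorem F49817 : act 1 n15226 = n11941 := d12_1 D15226 (iv D11941) (iv F39398)
theorem F49818 : act 4 n15226 = n11937 := d24_1 D15226 (iv D11937) (iv F39399)
theorem F49819 : act 6 n15226 = n11952 := d27_1 D15226 (iv D11952) (iv D9354) (iv F31139) D11935
def n15227 : Q := act 3 n11936
theorem D15227 : act 3 n11936 = n15227 := rfl
theorem F49820 : act 1 n15227 = n15227 := d8_1 D15227 (iv D15227) F39400
theorem F49821 : act 2 n15227 = n12345 := d13_1 D15227 (iv D12345) (iv D9661) (iv F31141) D11936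
def n15228 : Q := act 7 n11936
theorem D15228 : act 7 n11936 = n15228 := rfl
theorem F49822 : act 1 n15228 = n15228 := d12_1 D15228 (iv D15228) F39400
theorem F49823 : act 2 n15228 = n11937 := d17_1 D15228 (iv D11937) D11936
def n15233 : Q := act 7 n11940
theorem D15233 : act 7 n11940 = n15233 := rfl
theorem F49842 : act 6 n15233 = n11958 := d27_1 D15233 (iv D11958) (iv D9359) (iv F31148) D11940
def n15239 : Q := act 5 n11947
theorem D15239 : act 5 n11947 = n15239 := rfl
theorem F49858 : act 1 n15239 = n11973 := d10_1 D15239 (iv D11973) (iv F39432)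
theorem F49859 : act 2 n15239 = n11948 := d15_1 D15239 (iv D11948) D11947
def n15240 : Q := act 6 n11947
theorem D15240 : act 6 n11947 = n15240 := rfl
theorem F49860 : act 1 n15240 = n11974 := d11_1 D15240 (iv D11974) (iv F39432)
theorem F49861 : act 4 n15240 = n12358 := d23_1 D15240 (iv D12358) (iv F39433)
def n15241 : Q := act 4 n11948
theorem D15241 : act 4 n11948 = n15241 := rfl
theorem F49863 : act 5 n15241 = n12359 := d22_2 D11948 D15241 (iv D12359) (iv D9673) (iv F31167)
def n15242 : Q := act 6 n11948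
theorem D15242 : act 6 n11948 = n15242 := rfl
theorem F49864 : act 1 n15242 = n11956 := d11_1 D15242 (iv D11956) (iv F39434)
theorem F49865 : act 3 n15242 = n11950 := d20_1 D15242 (iv D11950) (iv F39435)
theorem F49866 : act 5 n15242 = n11949 := d25_1 D15242 (iv D11949) D11948
def n15243 : Q := act 2 n11949
theorem D15243 : act 2 n11949 = n15243 := rfl
theorem F49867 : act 1 n15243 = n15243 := d7_1 D15243 (iv D15243) F39436 F31178 (iv F39436)
theorem F49868 : act 4 n15243 = n12361 := d14_2 (iv F39438) D15243 (iv D12361)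
def n15244 : Q := act 7 n11949
theorem D15244 : act 7 n11949 = n15244 := rfl
theorem F49869 : act 1 n15244 = n11957 := d12_1 D15244 (iv D11957) (iv F39436)
theorem F49870 : act 3 n15244 = n11952 := d21_1 D15244 (iv D11952) (iv F39437)
theorem F49871 : act 4 n15244 = n12362 := d24_1 D15244 (iv D12362) (iv F39438)
def n15245 : Q := act 2 n11950
theorem D15245 : act 2 n11950 = n15245 := rfl
theorem F49872 : act 1 n15245 = n11992 := d7_1 D15245 (iv D11992) F31293 (iv F31182) (iv F39439)
theorem F49873 : act 5 n15245 = n11951 := d15_2 (iv F39440) D15245 (iv D11951)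
def n15246 : Q := act 7 n11950
theorem D15246 : act 7 n11950 = n15246 := rfl
theorem F49874 : act 1 n15246 = n11958 := d12_1 D15246 (iv D11958) (iv F39439)
theorem F49875 : act 5 n15246 = n11952 := d26_1 D15246 (iv D11952) (iv F39440)
def n15247 : Q := act 3 n11951
theorem D15247 : act 3 n11951 = n15247 := rfl
theorem F49876 : act 1 n15247 = n11994 := d8_1 D15247 (iv D11994) (iv F39441)
def n15248 : Q := act 7 n11951
theorem D15248 : act 7 n11951 = n15248 := rfl
theorem F49877 : act 1 n15248 = n11995 := d12_1 D15248 (iv D11995) (iv F39441)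
theorem F49878 : act 2 n15248 = n11952 := d17_1 D15248 (iv D11952) D11951
theorem F49879 : act 4 n15248 = n11954 := d24_1 D15248 (iv D11954) (iv F39442)
def n15249 : Q := act 4 n11953
theorem D15249 : act 4 n11953 = n15249 := rfl
def n15250 : Q := act 7 n11953
theorem D15250 : act 7 n11953 = n15250 := rfl
theorem F49884 : act 3 n15250 = n11954 := d21_1 D15250 (iv D11954) D11953
def n15251 : Q := act 6 n11954
theorem D15251 : act 6 n11954 = n15251 := rfl
theorem F49885 : act 1 n15251 = n11998 := d11_1 D15251 (iv D11998) (iv F39447)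
def n15252 : Q := act 6 n11955
theorem D15252 : act 6 n11955 = n15252 := rfl
theorem F49889 : act 5 n15252 = n12370 := d25_1 D15252 (iv D12370) (iv F39451)
def n15255 : Q := act 5 n11961
theorem D15255 : act 5 n11961 = n15255 := rfl
theorem F49898 : act 2 n15255 = n11962 := d15_1 D15255 (iv D11962) D11961
theorem F49899 : act 7 n15255 = n11973 := d26_2 (iv F39471) D15255 (iv D11973)
def n15256 : Q := act 6 n11961
theorem D15256 : act 6 n11961 = n15256 := rfl
theorem F49900 : act 0 n15256 = n15256 := d5_1 D15256 (iv D15256) F39469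
theorem F49901 : act 4 n15256 = n12374 := d23_1 D15256 (iv D12374) (iv F39470)
def n15260 : Q := act 2 n11964
theorem D15260 : act 2 n11964 = n15260 := rfl
theorem F49918 : act 5 n15260 = n11965 := d15_2 (iv F39484) D15260 (iv D11965)
def n15261 : Q := act 3 n11965
theorem D15261 : act 3 n11965 = n15261 := rfl
theorem F49920 : act 0 n15261 = n15261 := d2_1 D15261 (iv D15261) F39486
theorem F49921 : act 1 n15261 = n15261 := d8_1 D15261 (iv D15261) F39487
theorem F49922 : act 7 n15261 = n15261 := d21_2 F39489 D15261 (iv D15261)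
def n15269 : Q := act 4 n11973
theorem D15269 : act 4 n11973 = n15269 := rfl
theorem F49952 : act 5 n15269 = n12387 := d22_2 D11973 D15269 (iv D12387) (iv D9698) (iv F31237)
def n15270 : Q := act 6 n11973
theorem D15270 : act 6 n11973 = n15270 := rfl
theorem F49953 : act 0 n15270 = n15270 := d5_1 D15270 (iv D15270) F39519
theorem F49954 : act 2 n15270 = n15270 := d16_1 D15270 (iv D15270) F39520 F31241 (iv F39520)
theorem F49955 : act 5 n15270 = n11974 := d25_1 D15270 (iv D11974) D11973
def n15271 : Q := act 7 n11974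
theorem D15271 : act 7 n11974 = n15271 := rfl
theorem F49958 : act 4 n15271 = n12389 := d24_1 D15271 (iv D12389) (iv F39523)
def n15272 : Q := act 5 n11976
theorem D15272 : act 5 n11976 = n15272 := rfl
theorem F49961 : act 2 n15272 = n11977 := d15_1 D15272 (iv D11977) D11976
theorem F49962 : act 4 n15272 = n15272 := d22_1 D15272 (iv D15272) F39531 F31314 (iv F39531)
def n15273 : Q := act 6 n11976
theorem D15273 : act 6 n11976 = n15273 := rfl
def n15274 : Q := act 6 n11977
theorem D15274 : act 6 n11977 = n15274 := rfl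
theorem F49969 : act 3 n15274 = n11979 := d20_1 D15274 (iv D11979) (iv F39535)
theorem F49971 : act 5 n15274 = n11978 := d25_1 D15274 (iv D11978) D11977
def n15276 : Q := act 7 n11978
theorem D15276 : act 7 n11978 = n15276 := rfl
theorem F49976 : act 3 n15276 = n11981 := d21_1 D15276 (iv D11981) (iv F39540)
theorem F49977 : act 4 n15276 = n12001 := d24_1 D15276 (iv D12001) (iv F39541)
def n15277 : Q := act 2 n11979
theorem D15277 : act 2 n11979 = n15277 := rfl
theorem F49980 : act 4 n15277 = n11992 := d14_2 (iv F39544) D15277 (iv D11992)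
theorem F49981 : act 5 n15277 = n11980 := d15_2 (iv F39545) D15277 (iv D11980)
def n15278 : Q := act 7 n11979
theorem D15278 : act 7 n11979 = n15278 := rfl
theorem F49982 : act 0 n15278 = n15278 := d6_1 D15278 (iv D15278) F39542
theorem F49983 : act 1 n15278 = n11987 := d12_1 D15278 (iv D11987) (iv F39543)
theorem F49984 : act 4 n15278 = n11993 := d24_1 D15278 (iv D11993) (iv F39544)
theorem F49985 : act 5 n15278 = n11981 := d26_1 D15278 (iv D11981) (iv F39545)
theorem F49986 : act 6 n15278 = n15278 := d27_1 D15278 (iv D15278) (iv D11979) F31253 D11979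
def n15279 : Q := act 3 n11980
theorem D15279 : act 3 n11980 = n15279 := rfl
def n15280 : Q := act 7 n11980
theorem D15280 : act 7 n11980 = n15280 := rfl
theorem F49988 : act 0 n15280 = n15280 := d6_1 D15280 (iv D15280) F39546
theorem F49989 : act 2 n15280 = n11981 := d17_1 D15280 (iv D11981) D11980
theorem F49990 : act 4 n15280 = n11983 := d24_1 D15280 (iv D11983) (iv F39547)
def n15282 : Q := act 7 n11982
theorem D15282 : act 7 n11982 = n15282 := rfl
theorem F49995 : act 3 n15282 = n11983 := d21_1 D15282 (iv D11983) D11982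
def n15283 : Q := act 6 n11983
theorem D15283 : act 6 n11983 = n15283 := rfl
theorem F49997 : act 0 n15283 = n15283 := d5_1 D15283 (iv D15283) F39555
theorem F49998 : act 2 n15283 = n15283 := d16_1 D15283 (iv D15283) F39556 F31263 (iv F39556)
def n15285 : Q := act 7 n11984
theorem D15285 : act 7 n11984 = n15285 := rfl
theorem F50005 : act 3 n15285 = n11987 := d21_1 D15285 (iv D11987) (iv F39559)
def n15293 : Q := act 3 n11992
theorem D15293 : act 3 n11992 = n15293 := rfl
theorem F50032 : act 5 n15293 = n11994 := d19_2 (iv F39587) D15293 (iv D11994)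
def n15294 : Q := act 7 n11992
theorem D15294 : act 7 n11992 = n15294 := rfl
theorem F50033 : act 0 n15294 = n15294 := d6_1 D15294 (iv D15294) F39586
theorem F50034 : act 2 n15294 = n11993 := d17_1 D15294 (iv D11993) D11992
theorem F50035 : act 5 n15294 = n11995 := d26_1 D15294 (iv D11995) (iv F39587)
def n15295 : Q := act 4 n11994
theorem D15295 : act 4 n11994 = n15295 := rfl
theorem F50038 : act 3 n15295 = n11996 := d18_1 D15295 (iv D11996) (iv D9394) (iv F31297) D11994
def n15296 : Q := act 7 n11994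
theorem D15296 : act 7 n11994 = n15296 := rfl
theorem F50041 : act 3 n15296 = n11995 := d21_1 D15296 (iv D11995) D11994
def n15297 : Q := act 6 n11995
theorem D15297 : act 6 n11995 = n15297 := rfl
theorem F50044 : act 4 n15297 = n11998 := d23_1 D15297 (iv D11998) (iv F39597)
def n15299 : Q := act 7 n11996
theorem D15299 : act 7 n11996 = n15299 := rfl
theorem F50049 : act 4 n15299 = n11997 := d24_1 D15299 (iv D11997) D11996
def n15302 : Q := act 7 n11999
theorem D15302 : act 7 n11999 = n15302 := rfl
theorem F50059 : act 6 n15302 = n15302 := d27_1 D15302 (iv D15302) (iv D11999) F31315 D11999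
def n15320 : Q := act 3 n12015
theorem D15320 : act 3 n12015 = n15320 := rfl
theorem F50129 : act 7 n15320 = n12114 := d21_2 (iv F39671) D15320 (iv D12114)
def n15322 : Q := act 6 n12015
theorem D15322 : act 6 n12015 = n15322 := rfl
theorem F50137 : act 4 n15322 = n12016 := d23_1 D15322 (iv D12016) D12015
def n15323 : Q := act 2 n12016
theorem D15323 : act 2 n12016 = n15323 := rfl
theorem F50138 : act 0 n15323 = n12048 := d1_1 D15323 (iv D12048) (iv F39672)
theorem F50139 : act 1 n15323 = n13558 := d7_1 D15323 (iv D13558) F35075 (iv F31374) (iv F39673)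
theorem F50140 : act 5 n15323 = n12131 := d15_2 (iv F39675) D15323 (iv D12131)
theorem F50141 : act 6 n15323 = n12310 := d16_2 D12016 D15323 (iv D12310) (iv D9635) (iv F31366)
def n15324 : Q := act 7 n12016
theorem D15324 : act 7 n12016 = n15324 := rfl
theorem F50145 : act 5 n15324 = n12132 := d26_1 D15324 (iv D12132) (iv F39675)
theorem F50146 : act 6 n15324 = n12118 := d27_1 D15324 (iv D12118) (iv D9487) (iv F31369) D12016
def n15329 : Q := act 4 n12021
theorem D15329 : act 4 n12021 = n15329 := rfl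
theorem F50165 : act 5 n15329 = n12109 := d22_2 D12021 D15329 (iv D12109) (iv D9482) (iv F31385)
theorem F50166 : act 7 n15329 = n12123 := d24_2 (iv F39695) D15329 (iv D12123)
def n15330 : Q := act 6 n12021
theorem D15330 : act 6 n12021 = n15330 := rfl
theorem F50169 : act 5 n15330 = n12022 := d25_1 D15330 (iv D12022) D12021
def n15334 : Q := act 3 n12025
theorem D15334 : act 3 n12025 = n15334 := rfl
theorem F50184 : act 4 n15334 = n12114 := d18_2 D12025 D15334 (iv D12114) (iv D9486) (iv F31401)
def n15336 : Q := act 6 n12025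
theorem D15336 : act 6 n12025 = n15336 := rfl
theorem F50191 : act 0 n15336 = n12130 := d5_1 D15336 (iv D12130) (iv F39707)
theorem F50193 : act 4 n15336 = n12026 := d23_1 D15336 (iv D12026) D12025
def n15337 : Q := act 2 n12026
theorem D15337 : act 2 n12026 = n15337 := rfl
theorem F50194 : act 0 n15337 = n12131 := d1_1 D15337 (iv D12131) (iv F39711)
theorem F50195 : act 1 n15337 = n15337 := d7_1 D15337 (iv D15337) F39712 F31408 (iv F39712)
theorem F50196 : act 5 n15337 = n12048 := d15_2 (iv F39714) D15337 (iv D12048)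
theorem F50197 : act 6 n15337 = n12279 := d16_2 D12026 D15337 (iv D12279) (iv D9611) (iv F31400)
def n15338 : Q := act 7 n12026
theorem D15338 : act 7 n12026 = n15338 := rfl
theorem F50200 : act 3 n15338 = n12118 := d21_1 D15338 (iv D12118) (iv F39713)
theorem F50201 : act 5 n15338 = n12049 := d26_1 D15338 (iv D12049) (iv F39714)
def n15343 : Q := act 4 n12031
theorem D15343 : act 4 n12031 = n15343 := rfl
theorem F50221 : act 5 n15343 = n12123 := d22_2 D12031 D15343 (iv D12123) (iv D9492) (iv F31419)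
theorem F50222 : act 7 n15343 = n12109 := d24_2 (iv F39734) D15343 (iv D12109)
def n15348 : Q := act 3 n12035
theorem D15348 : act 3 n12035 = n15348 := rfl
theorem F50238 : act 0 n15348 = n12114 := d2_1 D15348 (iv D12114) (iv F39746)
theorem F50241 : act 7 n15348 = n12045 := d21_2 (iv F39749) D15348 (iv D12045)
def n15349 : Q := act 5 n12035
theorem D15349 : act 5 n12035 = n15349 := rfl
theorem F50242 : act 0 n15349 = n12115 := d4_1 D15349 (iv D12115) (iv F39746)
theorem F50246 : act 7 n15349 = n12046 := d26_2 (iv F39749) D15349 (iv D12046)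
def n15350 : Q := act 6 n12035
theorem D15350 : act 6 n12035 = n15350 := rfl
theorem F50249 : act 4 n15350 = n12036 := d23_1 D15350 (iv D12036) D12035
def n15351 : Q := act 2 n12036
theorem D15351 : act 2 n12036 = n15351 := rfl
def n15352 : Q := act 7 n12036
theorem D15352 : act 7 n12036 = n15352 := rfl
theorem F50256 : act 3 n15352 = n12132 := d21_1 D15352 (iv D12132) (iv F39752)
theorem F50257 : act 5 n15352 = n12104 := d26_1 D15352 (iv D12104) (iv F39753)
theorem F50258 : act 6 n15352 = n12049 := d27_1 D15352 (iv D12049) (iv D9435) (iv F31437) D12036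
def n15353 : Q := act 5 n12037
theorem D15353 : act 5 n12037 = n15353 := rfl
theorem F50260 : act 2 n15353 = n12074 := d15_1 D15353 (iv D12074) (iv F39755)
theorem F50261 : act 3 n15353 = n12038 := d19_1 D15353 (iv D12038) D12037
theorem F50262 : act 7 n15353 = n12050 := d26_2 (iv F39757) D15353 (iv D12050)
def n15354 : Q := act 6 n12037
theorem D15354 : act 6 n12037 = n15354 := rfl
theorem F50264 : act 3 n15354 = n12039 := d20_1 D15354 (iv D12039) D12037
def n15357 : Q := act 4 n12041
theorem D15357 : act 4 n12041 = n15357 := rfl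
theorem F50277 : act 5 n15357 = n12137 := d22_2 D12041 D15357 (iv D12137) (iv D9502) (iv F31453)
theorem F50278 : act 7 n15357 = n12054 := d24_2 (iv F39773) D15357 (iv D12054)
def n15360 : Q := act 7 n12042
theorem D15360 : act 7 n12042 = n15360 := rfl
theorem F50285 : act 1 n15360 = n12126 := d12_1 D15360 (iv D12126) (iv F39774)
def n15361 : Q := act 7 n12043
theorem D15361 : act 7 n12043 = n15361 := rfl
theorem F50293 : act 6 n15361 = n12058 := d27_1 D15361 (iv D12058) (iv D9442) (iv F31458) D12043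
def n15363 : Q := act 5 n12045
theorem D15363 : act 5 n12045 = n15363 := rfl
theorem F50297 : act 3 n15363 = n12046 := d19_1 D15363 (iv D12046) D12045
def n15364 : Q := act 6 n12045
theorem D15364 : act 6 n12045 = n15364 := rfl
theorem F50299 : act 3 n15364 = n12047 := d20_1 D15364 (iv D12047) D12045
theorem F50300 : act 4 n15364 = n12144 := d23_1 D15364 (iv D12144) (iv F39786)
def n15365 : Q := act 6 n12046
theorem D15365 : act 6 n12046 = n15365 := rfl
theorem F50302 : act 5 n15365 = n12047 := d25_1 D15365 (iv D12047) D12046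
def n15366 : Q := act 2 n12047
theorem D15366 : act 2 n12047 = n15366 := rfl
theorem F50304 : act 4 n15366 = n12048 := d14_2 (iv F39789) D15366 (iv D12048)
def n15367 : Q := act 7 n12047
theorem D15367 : act 7 n12047 = n15367 := rfl
theorem F50305 : act 1 n15367 = n12053 := d12_1 D15367 (iv D12053) (iv F39788)
theorem F50306 : act 4 n15367 = n12049 := d24_1 D15367 (iv D12049) (iv F39789)
def n15368 : Q := act 3 n12048
theorem D15368 : act 3 n12048 = n15368 := rfl
theorem F50307 : act 1 n15368 = n15368 := d8_1 D15368 (iv D15368) F39790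
theorem F50308 : act 2 n15368 = n12148 := d13_1 D15368 (iv D12148) (iv D9509) (iv F31469) D12048
def n15369 : Q := act 7 n12048
theorem D15369 : act 7 n12048 = n15369 := rfl
theorem F50309 : act 1 n15369 = n15369 := d12_1 D15369 (iv D15369) F39790
theorem F50310 : act 2 n15369 = n12049 := d17_1 D15369 (iv D12049) D12048
def n15374 : Q := act 7 n12052
theorem D15374 : act 7 n12052 = n15374 := rfl
theorem F50324 : act 0 n15374 = n12058 := d6_1 D15374 (iv D12058) (iv F39799)
theorem F50326 : act 5 n15374 = n12053 := d26_1 D15374 (iv D12053) (iv F39801)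
def n15381 : Q := act 5 n12059
theorem D15381 : act 5 n12059 = n15381 := rfl
theorem F50345 : act 1 n15381 = n12062 := d10_1 D15381 (iv D12062) (iv F39817)
theorem F50346 : act 2 n15381 = n12708 := d15_1 D15381 (iv D12708) (iv F39818)
def n15387 : Q := act 6 n12062
theorem D15387 : act 6 n12062 = n15387 := rfl
theorem F50369 : act 2 n15387 = n12076 := d16_1 D15387 (iv D12076) F31534 (iv F31505) (iv F39829)
def n15395 : Q := act 5 n12069
theorem D15395 : act 5 n12069 = n15395 := rfl
theorem F50400 : act 1 n15395 = n12074 := d10_1 D15395 (iv D12074) (iv F39856)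
theorem F50401 : act 3 n15395 = n12070 := d19_1 D15395 (iv D12070) D12069
def n15397 : Q := act 6 n12070
theorem D15397 : act 6 n12070 = n15397 := rfl
theorem F50408 : act 1 n15397 = n12076 := d11_1 D15397 (iv D12076) (iv F39860)
def n15400 : Q := act 3 n12072
theorem D15400 : act 3 n12072 = n15400 := rfl
theorem F50418 : act 2 n15400 = n12166 := d13_1 D15400 (iv D12166) (iv D9523) (iv F31528) D12072
def n15435 : Q := act 2 n12100
theorem D15435 : act 2 n12100 = n15435 := rfl
theorem F50529 : act 3 n15435 = n12290 := d13_2 D12100 D15435 (iv D12290) (iv D9620) (iv F31601)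
def n15453 : Q := act 2 n12114
theorem D15453 : act 2 n12114 = n15453 := rfl
def n15460 : Q := act 7 n12117
theorem D15460 : act 7 n12117 = n15460 := rfl
theorem F50596 : act 2 n15460 = n12118 := d17_1 D15460 (iv D12118) D12117
def n15471 : Q := act 2 n12128
theorem D15471 : act 2 n12128 = n15471 := rfl
theorem F50625 : act 3 n15471 = n12339 := d13_2 D12128 D15471 (iv D12339) (iv D9658) (iv F31648)
theorem F50626 : act 7 n15471 = n12142 := d17_2 (iv F40026) D15471 (iv D12142)
def n15473 : Q := act 6 n12128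
theorem D15473 : act 6 n12128 = n15473 := rfl
theorem F50631 : act 3 n15473 = n12130 := d20_1 D15473 (iv D12130) D12128
def n15474 : Q := act 6 n12129
theorem D15474 : act 6 n12129 = n15474 := rfl
theorem F50633 : act 5 n15474 = n12130 := d25_1 D15474 (iv D12130) D12129
def n15475 : Q := act 2 n12130
theorem D15475 : act 2 n12130 = n15475 := rfl
theorem F50634 : act 1 n15475 = n13591 := d7_1 D15475 (iv D13591) F35151 (iv F31658) (iv F40030)
theorem F50635 : act 4 n15475 = n12131 := d14_2 (iv F40031) D15475 (iv D12131)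
theorem F50636 : act 6 n15475 = n12343 := d16_2 D12130 D15475 (iv D12343) (iv D9660) (iv F31648)
def n15476 : Q := act 7 n12130
theorem D15476 : act 7 n12130 = n15476 := rfl
theorem F50639 : act 6 n15476 = n12147 := d27_1 D15476 (iv D12147) (iv D9508) (iv F31649) D12130
def n15477 : Q := act 3 n12131
theorem D15477 : act 3 n12131 = n15477 := rfl
theorem F50640 : act 1 n15477 = n13593 := d8_1 D15477 (iv D13593) (iv F40032)
theorem F50641 : act 6 n15477 = n12345 := d20_2 (iv F40033) D15477 (iv D12345)
def n15478 : Q := act 7 n12131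
theorem D15478 : act 7 n12131 = n15478 := rfl
theorem F50642 : act 1 n15478 = n13594 := d12_1 D15478 (iv D13594) (iv F40032)
theorem F50643 : act 2 n15478 = n12132 := d17_1 D15478 (iv D12132) D12131
def n15490 : Q := act 6 n12142
theorem D15490 : act 6 n12142 = n15490 := rfl
theorem F50675 : act 3 n15490 = n12358 := d20_1 D15490 (iv D12358) (iv F40061)
def n15515 : Q := act 6 n12160
theorem D15515 : act 6 n12160 = n15515 := rfl
theorem F50732 : act 3 n15515 = n12374 := d20_1 D15515 (iv D12374) (iv F40101)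
def n15541 : Q := act 7 n12179
theorem D15541 : act 7 n12179 = n15541 := rfl
theorem F50813 : act 3 n15541 = n12389 := d21_1 D15541 (iv D12389) (iv F40164)
def n15564 : Q := act 4 n12198
theorem D15564 : act 4 n12198 = n15564 := rfl
theorem F50876 : act 0 n15564 = n12628 := d3_1 D15564 (iv D12628) (iv F40216)
def n15661 : Q := act 2 n12276
theorem D15661 : act 2 n12276 = n15661 := rfl
theorem F51184 : act 0 n15661 = n12339 := d1_1 D15661 (iv D12339) (iv F40467)
theorem F51185 : act 1 n15661 = n15661 := d7_1 D15661 (iv D15661) F40468 F31993 (iv F40468)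
theorem F51186 : act 7 n15661 = n12290 := d17_2 (iv F40469) D15661 (iv D12290)
def n15662 : Q := act 5 n12276
theorem D15662 : act 5 n12276 = n15662 := rfl
theorem F51188 : act 1 n15662 = n12281 := d10_1 D15662 (iv D12281) (iv F40468)
theorem F51189 : act 3 n15662 = n12277 := d19_1 D15662 (iv D12277) D12276
theorem F51190 : act 7 n15662 = n12291 := d26_2 (iv F40469) D15662 (iv D12291)
def n15663 : Q := act 6 n12276
theorem D15663 : act 6 n12276 = n15663 := rfl
theorem F51191 : act 0 n15663 = n12341 := d5_1 D15663 (iv D12341) (iv F40467)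
theorem F51193 : act 3 n15663 = n12278 := d20_1 D15663 (iv D12278) D12276
def n15664 : Q := act 6 n12277
theorem D15664 : act 6 n12277 = n15664 := rfl
theorem F51194 : act 0 n15664 = n12342 := d5_1 D15664 (iv D12342) (iv F40470)
theorem F51196 : act 5 n15664 = n12278 := d25_1 D15664 (iv D12278) D12277
def n15665 : Q := act 2 n12278
theorem D15665 : act 2 n12278 = n15665 := rfl
theorem F51197 : act 0 n15665 = n12343 := d1_1 D15665 (iv D12343) (iv F40473)
theorem F51198 : act 1 n15665 = n15665 := d7_1 D15665 (iv D15665) F40474 F31999 (iv F40474)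
theorem F51199 : act 4 n15665 = n12279 := d14_2 (iv F40475) D15665 (iv D12279)
def n15666 : Q := act 7 n12278
theorem D15666 : act 7 n12278 = n15666 := rfl
theorem F51200 : act 0 n15666 = n12344 := d6_1 D15666 (iv D12344) (iv F40473)
theorem F51202 : act 4 n15666 = n12280 := d24_1 D15666 (iv D12280) (iv F40475)
theorem F51203 : act 6 n15666 = n12295 := d27_1 D15666 (iv D12295) (iv D9622) (iv F31989) D12278
def n15667 : Q := act 3 n12279
theorem D15667 : act 3 n12279 = n15667 := rfl
theorem F51204 : act 0 n15667 = n12345 := d2_1 D15667 (iv D12345) (iv F40476)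
theorem F51205 : act 1 n15667 = n15667 := d8_1 D15667 (iv D15667) F40477
def n15668 : Q := act 7 n12279
theorem D15668 : act 7 n12279 = n15668 := rfl
theorem F51206 : act 0 n15668 = n12346 := d6_1 D15668 (iv D12346) (iv F40476)
theorem F51207 : act 1 n15668 = n15668 := d12_1 D15668 (iv D15668) F40477
theorem F51208 : act 2 n15668 = n12280 := d17_1 D15668 (iv D12280) D12279
def n15679 : Q := act 5 n12290
theorem D15679 : act 5 n12290 = n15679 := rfl
theorem F51241 : act 2 n15679 = n12291 := d15_1 D15679 (iv D12291) D12290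
def n15680 : Q := act 6 n12290
theorem D15680 : act 6 n12290 = n15680 := rfl
theorem F51242 : act 0 n15680 = n12358 := d5_1 D15680 (iv D12358) (iv F40509)
def n15681 : Q := act 4 n12291
theorem D15681 : act 4 n12291 = n15681 := rfl
def n15682 : Q := act 6 n12291
theorem D15682 : act 6 n12291 = n15682 := rfl
theorem F51248 : act 3 n15682 = n12293 := d20_1 D15682 (iv D12293) (iv F40513)
theorem F51249 : act 5 n15682 = n12292 := d25_1 D15682 (iv D12292) D12291
def n15683 : Q := act 2 n12292
theorem D15683 : act 2 n12292 = n15683 := rfl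
theorem F51250 : act 0 n15683 = n12361 := d1_1 D15683 (iv D12361) (iv F40514)
def n15684 : Q := act 7 n12292
theorem D15684 : act 7 n12292 = n15684 := rfl
theorem F51251 : act 0 n15684 = n12362 := d6_1 D15684 (iv D12362) (iv F40514)
theorem F51253 : act 3 n15684 = n12295 := d21_1 D15684 (iv D12295) (iv F40516)
def n15688 : Q := act 7 n12294
theorem D15688 : act 7 n12294 = n15688 := rfl
theorem F51262 : act 0 n15688 = n12366 := d6_1 D15688 (iv D12366) (iv F40520)
def n15689 : Q := act 4 n12296
theorem D15689 : act 4 n12296 = n15689 := rfl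
theorem F51267 : act 1 n15689 = n12749 := d9_1 D15689 (iv D12749) (iv F40527)
def n15691 : Q := act 6 n12297
theorem D15691 : act 6 n12297 = n15691 := rfl
theorem F51272 : act 1 n15691 = n12751 := d11_1 D15691 (iv D12751) (iv F40529)
def n15702 : Q := act 5 n12307
theorem D15702 : act 5 n12307 = n15702 := rfl
theorem F51302 : act 1 n15702 = n12312 := d10_1 D15702 (iv D12312) (iv F40556)
theorem F51304 : act 7 n15702 = n12322 := d26_2 (iv F40557) D15702 (iv D12322)
def n15704 : Q := act 6 n12308
theorem D15704 : act 6 n12308 = n15704 := rfl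
theorem F51307 : act 1 n15704 = n12314 := d11_1 D15704 (iv D12314) (iv F40558)
def n15705 : Q := act 2 n12309
theorem D15705 : act 2 n12309 = n15705 := rfl
theorem F51310 : act 1 n15705 = n13763 := d7_1 D15705 (iv D13763) F35545 (iv F32064) (iv F40561)
theorem F51311 : act 4 n15705 = n12310 := d14_2 (iv F40562) D15705 (iv D12310)
def n15707 : Q := act 3 n12310
theorem D15707 : act 3 n12310 = n15707 := rfl
theorem F51315 : act 1 n15707 = n13765 := d8_1 D15707 (iv D13765) (iv F40563)
theorem F51316 : act 5 n15707 = n12345 := d19_2 (iv F40564) D15707 (iv D12345)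
def n15708 : Q := act 7 n12310
theorem D15708 : act 7 n12310 = n15708 := rfl
theorem F51317 : act 1 n15708 = n13766 := d12_1 D15708 (iv D13766) (iv F40563)
theorem F51318 : act 2 n15708 = n12311 := d17_1 D15708 (iv D12311) D12310
theorem F51319 : act 5 n15708 = n12346 := d26_1 D15708 (iv D12346) (iv F40564)
def n15719 : Q := act 5 n12321
theorem D15719 : act 5 n12321 = n15719 := rfl
theorem F51351 : act 2 n15719 = n12322 := d15_1 D15719 (iv D12322) D12321
def n15725 : Q := act 2 n12324
theorem D15725 : act 2 n12324 = n15725 := rfl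
theorem F51360 : act 1 n15725 = n12395 := d7_1 D15725 (iv D12395) F32240 (iv F32095) (iv F40600)
theorem F51362 : act 5 n15725 = n12325 := d15_2 (iv F40602) D15725 (iv D12325)
def n15744 : Q := act 5 n12339
theorem D15744 : act 5 n12339 = n15744 := rfl
theorem F51409 : act 2 n15744 = n12340 := d15_1 D15744 (iv D12340) D12339
theorem F51410 : act 7 n15744 = n12357 := d26_2 (iv F40639) D15744 (iv D12357)
def n15745 : Q := act 6 n12339
theorem D15745 : act 6 n12339 = n15745 := rfl
theorem F51411 : act 1 n15745 = n12374 := d11_1 D15745 (iv D12374) (iv F40638)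
def n15749 : Q := act 7 n12341
theorem D15749 : act 7 n12341 = n15749 := rfl
theorem F51417 : act 1 n15749 = n12350 := d12_1 D15749 (iv D12350) (iv F40643)
theorem F51418 : act 3 n15749 = n12344 := d21_1 D15749 (iv D12344) (iv F40644)
theorem F51419 : act 6 n15749 = n12362 := d27_1 D15749 (iv D12362) (iv D9674) (iv F32112) D12341
def n15750 : Q := act 2 n12342
theorem D15750 : act 2 n12342 = n15750 := rfl
theorem F51421 : act 5 n15750 = n12343 := d15_2 (iv F40646) D15750 (iv D12343)
def n15751 : Q := act 7 n12342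
theorem D15751 : act 7 n12342 = n15751 := rfl
theorem F51422 : act 1 n15751 = n12351 := d12_1 D15751 (iv D12351) (iv F40645)
theorem F51423 : act 5 n15751 = n12344 := d26_1 D15751 (iv D12344) (iv F40646)
theorem F51424 : act 6 n15751 = n12364 := d27_1 D15751 (iv D12364) (iv D9675) (iv F32114) D12342
def n15752 : Q := act 3 n12343
theorem D15752 : act 3 n12343 = n15752 := rfl
theorem F51425 : act 1 n15752 = n13810 := d8_1 D15752 (iv D13810) (iv F40647)
def n15753 : Q := act 7 n12343
theorem D15753 : act 7 n12343 = n15753 := rfl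
theorem F51426 : act 1 n15753 = n13811 := d12_1 D15753 (iv D13811) (iv F40647)
theorem F51427 : act 2 n15753 = n12344 := d17_1 D15753 (iv D12344) D12343
theorem F51428 : act 4 n15753 = n12346 := d24_1 D15753 (iv D12346) (iv F40648)
def n15754 : Q := act 4 n12345
theorem D15754 : act 4 n12345 = n15754 := rfl
theorem F51429 : act 1 n15754 = n13812 := d9_1 D15754 (iv D13812) (iv F40652)
def n15755 : Q := act 7 n12345
theorem D15755 : act 7 n12345 = n15755 := rfl
theorem F51430 : act 1 n15755 = n13813 := d12_1 D15755 (iv D13813) (iv F40652)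
theorem F51431 : act 3 n15755 = n12346 := d21_1 D15755 (iv D12346) D12345
def n15756 : Q := act 6 n12346
theorem D15756 : act 6 n12346 = n15756 := rfl
theorem F51433 : act 2 n15756 = n12369 := d16_1 D15756 (iv D12369) F32157 (iv F32119) (iv F40654)
def n15768 : Q := act 4 n12357
theorem D15768 : act 4 n12357 = n15768 := rfl
theorem F51467 : act 2 n15768 = n12359 := d14_1 D15768 (iv D12359) (iv F40684)
def n15769 : Q := act 6 n12357
theorem D15769 : act 6 n12357 = n15769 := rfl
theorem F51469 : act 5 n15769 = n12358 := d25_1 D15769 (iv D12358) D12357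
def n15770 : Q := act 2 n12358
theorem D15770 : act 2 n12358 = n15770 := rfl
theorem F51471 : act 6 n15770 = n12361 := d16_2 D12358 D15770 (iv D12361) (iv D9674) D9672
def n15771 : Q := act 7 n12358
theorem D15771 : act 7 n12358 = n15771 := rfl
theorem F51472 : act 1 n15771 = n12389 := d12_1 D15771 (iv D12389) (iv F40685)
def n15772 : Q := act 6 n12359
theorem D15772 : act 6 n12359 = n15772 := rfl
theorem F51473 : act 1 n15772 = n12370 := d11_1 D15772 (iv D12370) (iv F40686)
theorem F51474 : act 4 n15772 = n12360 := d23_1 D15772 (iv D12360) D12359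
def n15773 : Q := act 2 n12360
theorem D15773 : act 2 n12360 = n15773 := rfl
theorem F51476 : act 5 n15773 = n12361 := d15_2 (iv F40689) D15773 (iv D12361)
def n15774 : Q := act 7 n12360
theorem D15774 : act 7 n12360 = n15774 := rfl
theorem F51477 : act 1 n15774 = n12371 := d12_1 D15774 (iv D12371) (iv F40687)
theorem F51479 : act 5 n15774 = n12362 := d26_1 D15774 (iv D12362) (iv F40689)
def n15775 : Q := act 3 n12361
theorem D15775 : act 3 n12361 = n15775 := rfl
theorem F51481 : act 2 n15775 = n12365 := d13_1 D15775 (iv D12365) (iv D9676) (iv F32148) D12361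
def n15776 : Q := act 7 n12361
theorem D15776 : act 7 n12361 = n15776 := rfl
theorem F51482 : act 1 n15776 = n15776 := d12_1 D15776 (iv D15776) F40690
theorem F51483 : act 2 n15776 = n12362 := d17_1 D15776 (iv D12362) D12361
def n15786 : Q := act 4 n12373
theorem D15786 : act 4 n12373 = n15786 := rfl
theorem F51505 : act 7 n15786 = n12387 := d24_2 (iv F40716) D15786 (iv D12387)
def n15789 : Q := act 7 n12374
theorem D15789 : act 7 n12374 = n15789 := rfl
theorem F51511 : act 6 n15789 = n12389 := d27_1 D15789 (iv D12389) (iv D9699) (iv F32176) D12374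
def n15804 : Q := act 6 n12387
theorem D15804 : act 6 n12387 = n15804 := rfl
theorem F51560 : act 4 n15804 = n12388 := d23_1 D15804 (iv D12388) D12387
def n15805 : Q := act 7 n12388
theorem D15805 : act 7 n12388 = n15805 := rfl
theorem F51563 : act 5 n15805 = n12389 := d26_1 D15805 (iv D12389) (iv F40763)
def n15814 : Q := act 3 n12395
theorem D15814 : act 3 n12395 = n15814 := rfl
theorem F51592 : act 5 n15814 = n12397 := d19_2 (iv F40788) D15814 (iv D12397)
def n15821 : Q := act 6 n12400
theorem D15821 : act 6 n12400 = n15821 := rfl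
theorem F51610 : act 0 n15821 = n12822 := d5_1 D15821 (iv D12822) (iv F40800)
def n15853 : Q := act 7 n12427
theorem D15853 : act 7 n12427 = n15853 := rfl
theorem F51711 : act 0 n15853 = n12854 := d6_1 D15853 (iv D12854) (iv F40886)
def n15855 : Q := act 2 n12429
theorem D15855 : act 2 n12429 = n15855 := rfl
theorem F51717 : act 0 n15855 = n12856 := d1_1 D15855 (iv D12856) (iv F40891)
def n15863 : Q := act 3 n12438
theorem D15863 : act 3 n12438 = n15863 := rfl
theorem F51745 : act 4 n15863 = n13555 := d18_2 D12438 D15863 (iv D13555) (iv D10608) (iv F32354)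
theorem F51746 : act 7 n15863 = n13454 := d21_2 (iv F40923) D15863 (iv D13454)
def n15864 : Q := act 5 n12438
theorem D15864 : act 5 n12438 = n15864 := rfl
theorem F51748 : act 1 n15864 = n12441 := d10_1 D15864 (iv D12441) (iv F40921)
theorem F51751 : act 7 n15864 = n13455 := d26_2 (iv F40923) D15864 (iv D13455)
def n15865 : Q := act 6 n12438
theorem D15865 : act 6 n12438 = n15865 := rfl
theorem F51753 : act 1 n15865 = n12442 := d11_1 D15865 (iv D12442) (iv F40921)
def n15869 : Q := act 6 n12440
theorem D15869 : act 6 n12440 = n15869 := rfl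
theorem F51769 : act 3 n15869 = n12442 := d20_1 D15869 (iv D12442) D12440
theorem F51770 : act 4 n15869 = n13561 := d23_1 D15869 (iv D13561) (iv F40930)
def n15870 : Q := act 6 n12441
theorem D15870 : act 6 n12441 = n15870 := rfl
theorem F51772 : act 2 n15870 = n12465 := d16_1 D15870 (iv D12465) F32432 (iv F32368) (iv F40933)
def n15874 : Q := act 2 n12445
theorem D15874 : act 2 n12445 = n15874 := rfl
theorem F51787 : act 3 n15874 = n12469 := d13_2 (iv F40949) D15874 (iv D12469) F32444 (iv F32379)
def n15900 : Q := act 6 n12463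
theorem D15900 : act 6 n12463 = n15900 := rfl
theorem F51887 : act 0 n15900 = n12468 := d5_1 D15900 (iv D12468) (iv F41015)
theorem F51888 : act 3 n15900 = n12465 := d20_1 D15900 (iv D12465) (iv F41017)
def n15925 : Q := act 1 n12483
theorem D15925 : act 1 n12483 = n15925 := rfl
theorem F51972 : act 6 n15925 = n12956 := d11_2 (iv F41082) D15925 (iv D12956)
def n15981 : Q := act 2 n12527
theorem D15981 : act 2 n12527 = n15981 := rfl
theorem F52157 : act 3 n15981 = n12721 := d13_2 D12527 D15981 (iv D12721) (iv D9957) (iv F32591)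
def n16167 : Q := act 7 n12665
theorem D16167 : act 7 n12665 = n16167 := rfl
theorem F52665 : act 2 n16167 = n12666 := d17_1 D16167 (iv D12666) D12665
def n16215 : Q := act 5 n12707
theorem D16215 : act 5 n12707 = n16215 := rfl
theorem F52814 : act 0 n16215 = n13260 := d4_1 D16215 (iv D13260) (iv F41738)
theorem F52816 : act 3 n16215 = n12708 := d19_1 D16215 (iv D12708) D12707
def n16216 : Q := act 6 n12707
theorem D16216 : act 6 n12707 = n16216 := rfl
theorem F52818 : act 0 n16216 = n13261 := d5_1 D16216 (iv D13261) (iv F41738)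
theorem F52820 : act 3 n16216 = n12709 := d20_1 D16216 (iv D12709) D12707
def n16218 : Q := act 2 n12709
theorem D16218 : act 2 n12709 = n16218 := rfl
theorem F52827 : act 4 n16218 = n12710 := d14_2 (iv F41748) D16218 (iv D12710)
def n16244 : Q := act 6 n12728
theorem D16244 : act 6 n12728 = n16244 := rfl
theorem F52911 : act 0 n16244 = n12773 := d5_1 D16244 (iv D12773) (iv F41811)
def n16270 : Q := act 7 n12747
theorem D16270 : act 7 n12747 = n16270 := rfl
theorem F52988 : act 3 n16270 = n12748 := d21_1 D16270 (iv D12748) D12747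
def n16302 : Q := act 2 n12774
theorem D16302 : act 2 n12774 = n16302 := rfl
theorem F53082 : act 6 n16302 = n13347 := d16_2 D12774 D16302 (iv D13347) (iv D10443) (iv F33149)
def n16360 : Q := act 7 n12820
theorem D16360 : act 7 n12820 = n16360 := rfl
theorem F53243 : act 2 n16360 = n12854 := d17_1 D16360 (iv D12854) (iv F42084)
def n16361 : Q := act 6 n12821
theorem D16361 : act 6 n12821 = n16361 := rfl
theorem F53246 : act 4 n16361 = n12822 := d23_1 D16361 (iv D12822) (iv F42087)
def n16362 : Q := act 2 n12822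
theorem D16362 : act 2 n12822 = n16362 := rfl
theorem F53249 : act 6 n16362 = n12856 := d16_2 D12822 D16362 (iv D12856) (iv D10064) (iv F33265)
def n16398 : Q := act 6 n12854
theorem D16398 : act 6 n12854 = n16398 := rfl
theorem F53349 : act 5 n16398 = n12855 := d25_1 D16398 (iv D12855) (iv F42173)
def n16495 : Q := act 3 n12926
theorem D16495 : act 3 n12926 = n16495 := rfl
theorem F53702 : act 0 n16495 = n12966 := d2_1 D16495 (iv D12966) (iv F42427)
def n16525 : Q := act 6 n12948
theorem D16525 : act 6 n12948 = n16525 := rfl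
theorem F53794 : act 3 n16525 = n12971 := d20_1 D16525 (iv D12971) (iv F42496)
theorem F53795 : act 4 n16525 = n12949 := d23_1 D16525 (iv D12949) D12948
def n16526 : Q := act 2 n12949
theorem D16526 : act 2 n12949 = n16526 := rfl
theorem F53799 : act 5 n16526 = n12950 := d15_2 (iv F42501) D16526 (iv D12950)
def n16528 : Q := act 1 n12950
theorem D16528 : act 1 n12950 = n16528 := rfl
theorem F53805 : act 4 n16528 = n13085 := d9_2 (iv F42504) D16528 (iv D13085)
def n16530 : Q := act 2 n12953
theorem D16530 : act 2 n12953 = n16530 := rfl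
theorem F53810 : act 4 n16530 = n12954 := d14_2 (iv F42515) D16530 (iv D12954)
def n16532 : Q := act 1 n12954
theorem D16532 : act 1 n12954 = n16532 := rfl
theorem F53817 : act 5 n16532 = n12956 := d10_2 (iv F42518) D16532 (iv D12956)
def n16544 : Q := act 1 n12962
theorem D16544 : act 1 n12962 = n16544 := rfl
theorem F53850 : act 2 n16544 = n12974 := d7_2 D12962 D16544 (iv D12974) (iv D10155) (iv F33631)
def n16545 : Q := act 3 n12962
theorem D16545 : act 3 n12962 = n16545 := rfl
theorem F53852 : act 2 n16545 = n12966 := d13_1 D16545 (iv D12966) (iv D10149) (iv F33632) D12962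
def n16546 : Q := act 7 n12962
theorem D16546 : act 7 n12962 = n16546 := rfl
theorem F53854 : act 4 n16546 = n13103 := d24_1 D16546 (iv D13103) (iv F42540)
def n16555 : Q := act 2 n12971
theorem D16555 : act 2 n12971 = n16555 := rfl
theorem F53882 : act 6 n16555 = n12997 := d16_2 D12971 D16555 (iv D12997) (iv D10174) (iv F33648)
def n16567 : Q := act 6 n12979
theorem D16567 : act 6 n12979 = n16567 := rfl
theorem F53924 : act 7 n16567 = n13009 := d27_2 D12979 D16567 (iv D13009) (iv D10182) (iv F33670)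
def n16571 : Q := act 6 n12983
theorem D16571 : act 6 n12983 = n16571 := rfl
theorem F53937 : act 4 n16571 = n12984 := d23_1 D16571 (iv D12984) D12983
theorem F53938 : act 5 n16571 = n13128 := d25_1 D16571 (iv D13128) (iv F42607)
def n16572 : Q := act 2 n12984
theorem D16572 : act 2 n12984 = n16572 := rfl
theorem F53941 : act 6 n16572 = n12988 := d16_2 D12984 D16572 (iv D12988) (iv D10166) (iv F33681)
def n16575 : Q := act 3 n12985
theorem D16575 : act 3 n12985 = n16575 := rfl
theorem F53951 : act 6 n16575 = n12991 := d20_2 (iv F42614) D16575 (iv D12991)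
def n16580 : Q := act 3 n12988
theorem D16580 : act 3 n12988 = n16580 := rfl
theorem F53967 : act 5 n16580 = n12991 := d19_2 (iv F42624) D16580 (iv D12991)
def n16581 : Q := act 7 n12988
theorem D16581 : act 7 n12988 = n16581 := rfl
theorem F53970 : act 5 n16581 = n12992 := d26_1 D16581 (iv D12992) (iv F42624)
def n16584 : Q := act 7 n12990
theorem D16584 : act 7 n12990 = n16584 := rfl
theorem F53978 : act 2 n16584 = n13002 := d17_1 D16584 (iv D13002) (iv F42630)
theorem F53979 : act 4 n16584 = n13138 := d24_1 D16584 (iv D13138) (iv F42631)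
def n16585 : Q := act 7 n12991
theorem D16585 : act 7 n12991 = n16585 := rfl
theorem F53982 : act 3 n16585 = n12992 := d21_1 D16585 (iv D12992) D12991
def n16586 : Q := act 6 n12992
theorem D16586 : act 6 n12992 = n16586 := rfl
theorem F53986 : act 4 n16586 = n13139 := d23_1 D16586 (iv D13139) (iv F42637)
def n16593 : Q := act 7 n12997
theorem D16593 : act 7 n12997 = n16593 := rfl
theorem F54012 : act 4 n16593 = n13000 := d24_1 D16593 (iv D13000) (iv F42656)
def n16653 : Q := act 2 n13045
theorem D16653 : act 2 n13045 = n16653 := rfl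
theorem F54201 : act 0 n16653 = n13096 := d1_1 D16653 (iv D13096) (iv F42808)
def n16658 : Q := act 1 n13048
theorem D16658 : act 1 n13048 = n16658 := rfl
theorem F54217 : act 2 n16658 = n13060 := d7_2 D13048 D16658 (iv D13060) (iv D10220) (iv F33846)
def n16659 : Q := act 3 n13048
theorem D16659 : act 3 n13048 = n16659 := rfl
theorem F54219 : act 2 n16659 = n13052 := d13_1 D16659 (iv D13052) (iv D10214) (iv F33847) D13048
def n16673 : Q := act 0 n13060
theorem D16673 : act 0 n13060 = n16673 := rfl
theorem F54265 : act 1 n16673 = n13066 := d0_2 D13060 D16673 (iv D13066) (iv D10226) (iv F33871)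
def n16679 : Q := act 0 n13064
theorem D16679 : act 0 n13064 = n16679 := rfl
theorem F54281 : act 2 n16679 = n13122 := d1_2 (iv F42868) D16679 (iv D13122)
theorem F54283 : act 5 n16679 = n13066 := d4_2 (iv F42870) D16679 (iv D13066)
def n16682 : Q := act 7 n13066
theorem D16682 : act 7 n13066 = n16682 := rfl
theorem F54294 : act 2 n16682 = n13125 := d17_1 D16682 (iv D13125) (iv F42875)
def n16691 : Q := act 1 n13073
theorem D16691 : act 1 n13073 = n16691 := rfl
theorem F54314 : act 2 n16691 = n13085 := d7_2 D13073 D16691 (iv D13085) (iv D10238) (iv F33900)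
def n16692 : Q := act 3 n13073
theorem D16692 : act 3 n13073 = n16692 := rfl
theorem F54315 : act 2 n16692 = n13077 := d13_1 D16692 (iv D13077) (iv D10232) (iv F33901) D13073
def n16698 : Q := act 6 n13078
theorem D16698 : act 6 n13078 = n16698 := rfl
theorem F54332 : act 7 n16698 = n13343 := d27_2 D13078 D16698 (iv D13343) (iv D10439) (iv F33907)
def n16710 : Q := act 3 n13087
theorem D16710 : act 3 n13087 = n16710 := rfl
theorem F54362 : act 2 n16710 = n13120 := d13_1 D16710 (iv D13120) (iv D10264) (iv F33933) D13087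
theorem F54363 : act 4 n16710 = n13183 := d18_2 (iv F42933) D16710 (iv D13183) F34135 (iv F33935)
def n16718 : Q := act 6 n13094
theorem D16718 : act 6 n13094 = n16718 := rfl
theorem F54381 : act 1 n16718 = n13128 := d11_1 D16718 (iv D13128) (iv F42947)
theorem F54382 : act 4 n16718 = n13095 := d23_1 D16718 (iv D13095) D13094
def n16721 : Q := act 1 n13096
theorem D16721 : act 1 n13096 = n16721 := rfl
theorem F54389 : act 2 n16721 = n13131 := d7_2 D13096 D16721 (iv D13131) (iv D10273) (iv F33947)
def n16722 : Q := act 3 n13096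
theorem D16722 : act 3 n13096 = n16722 := rfl
theorem F54391 : act 2 n16722 = n13365 := d13_1 D16722 (iv D13365) (iv D10457) (iv F33948) D13096
def n16726 : Q := act 1 n13099
theorem D16726 : act 1 n13099 = n16726 := rfl
theorem F54398 : act 2 n16726 = n13114 := d7_2 D13099 D16726 (iv D13114) (iv D10260) (iv F33951)
def n16727 : Q := act 3 n13099
theorem D16727 : act 3 n13099 = n16727 := rfl
theorem F54400 : act 2 n16727 = n13104 := d13_1 D16727 (iv D13104) (iv D10252) (iv F33952) D13099
def n16730 : Q := act 3 n13101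
theorem D16730 : act 3 n13101 = n16730 := rfl
theorem F54405 : act 1 n16730 = n13102 := d8_1 D16730 (iv D13102) D13101
def n16731 : Q := act 7 n13101
theorem D16731 : act 7 n13101 = n16731 := rfl
theorem F54407 : act 1 n16731 = n13103 := d12_1 D16731 (iv D13103) D13101
theorem F54408 : act 2 n16731 = n13117 := d17_1 D16731 (iv D13117) (iv F42964)
def n16733 : Q := act 7 n13102
theorem D16733 : act 7 n13102 = n16733 := rfl
theorem F54410 : act 2 n16733 = n13107 := d17_1 D16733 (iv D13107) (iv F42965)
theorem F54411 : act 3 n16733 = n13103 := d21_1 D16733 (iv D13103) D13102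
def n16740 : Q := act 6 n13107
theorem D16740 : act 6 n13107 = n16740 := rfl
theorem F54430 : act 7 n16740 = n13379 := d27_2 D13107 D16740 (iv D13379) (iv D10467) (iv F33964)
def n16751 : Q := act 6 n13117
theorem D16751 : act 6 n13117 = n16751 := rfl
theorem F54463 : act 7 n16751 = n13147 := d27_2 D13117 D16751 (iv D13147) (iv D10285) (iv F33986)
def n16758 : Q := act 6 n13123
theorem D16758 : act 6 n13123 = n16758 := rfl
theorem F54482 : act 7 n16758 = n13154 := d27_2 D13123 D16758 (iv D13154) (iv D10291) (iv F33996)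
def n16759 : Q := act 6 n13125
theorem D16759 : act 6 n13125 = n16759 := rfl
theorem F54485 : act 7 n16759 = n13155 := d27_2 D13125 D16759 (iv D13155) (iv D10293) (iv F34001)
def n16761 : Q := act 6 n13127
theorem D16761 : act 6 n13127 = n16761 := rfl
theorem F54489 : act 3 n16761 = n13128 := d20_1 D16761 (iv D13128) D13127
theorem F54490 : act 4 n16761 = n13383 := d23_1 D16761 (iv D13383) (iv F43033)
def n16767 : Q := act 7 n13131
theorem D16767 : act 7 n13131 = n16767 := rfl
def n16768 : Q := act 6 n13132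
theorem D16768 : act 6 n13132 = n16768 := rfl
theorem F54512 : act 7 n16768 = n13139 := d27_2 D13132 D16768 (iv D13139) (iv D10279) (iv F34015)
def n16774 : Q := act 6 n13136
theorem D16774 : act 6 n13136 = n16774 := rfl
theorem F54531 : act 5 n16774 = n13139 := d25_1 D16774 (iv D13139) (iv F43062)
def n16775 : Q := act 7 n13137
theorem D16775 : act 7 n13137 = n16775 := rfl
theorem F54532 : act 0 n16775 = n13138 := d6_1 D16775 (iv D13138) D13137
theorem F54534 : act 2 n16775 = n13146 := d17_1 D16775 (iv D13146) (iv F43064)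
def n16776 : Q := act 6 n13138
theorem D16776 : act 6 n13138 = n16776 := rfl
theorem F54536 : act 1 n16776 = n13139 := d11_1 D16776 (iv D13139) (iv F43066)
def n16843 : Q := act 3 n13192
theorem D16843 : act 3 n13192 = n16843 := rfl
theorem F54731 : act 1 n16843 = n13193 := d8_1 D16843 (iv D13193) D13192
def n16844 : Q := act 7 n13192
theorem D16844 : act 7 n13192 = n16844 := rfl
theorem F54734 : act 1 n16844 = n13194 := d12_1 D16844 (iv D13194) D13192
theorem F54735 : act 2 n16844 = n13214 := d17_1 D16844 (iv D13214) (iv F43224)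
def n16846 : Q := act 7 n13193
theorem D16846 : act 7 n13193 = n16846 := rfl
theorem F54741 : act 2 n16846 = n13202 := d17_1 D16846 (iv D13202) (iv F43228)
theorem F54742 : act 3 n16846 = n13194 := d21_1 D16846 (iv D13194) D13193
def n16851 : Q := act 7 n13196
theorem D16851 : act 7 n13196 = n16851 := rfl
theorem F54758 : act 1 n16851 = n13199 := d12_1 D16851 (iv D13199) (iv F43238)
theorem F54759 : act 3 n16851 = n13197 := d21_1 D16851 (iv D13197) D13196
def n16858 : Q := act 6 n13202
theorem D16858 : act 6 n13202 = n16858 := rfl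
theorem F54782 : act 7 n16858 = n13419 := d27_2 D13202 D16858 (iv D13419) (iv D10503) (iv F34176)
def n16871 : Q := act 6 n13214
theorem D16871 : act 6 n13214 = n16871 := rfl
theorem F54826 : act 7 n16871 = n13233 := d27_2 D13214 D16871 (iv D13233) (iv D10353) (iv F34207)
def n16875 : Q := act 7 n13218
theorem D16875 : act 7 n13218 = n16875 := rfl
theorem F54839 : act 4 n16875 = n13223 := d24_1 D16875 (iv D13223) (iv F43308)
def n16879 : Q := act 6 n13221
theorem D16879 : act 6 n13221 = n16879 := rfl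
theorem F54852 : act 7 n16879 = n13241 := d27_2 D13221 D16879 (iv D13241) (iv D10360) (iv F34225)
def n16880 : Q := act 6 n13223
theorem D16880 : act 6 n13223 = n16880 := rfl
theorem F54855 : act 7 n16880 = n13242 := d27_2 D13223 D16880 (iv D13242) (iv D10362) (iv F34231)
def n16881 : Q := act 2 n13224
theorem D16881 : act 2 n13224 = n16881 := rfl
theorem F54856 : act 1 n16881 = n14177 := d7_1 D16881 (iv D14177) F36621 (iv F34235) (iv F43327)
theorem F54859 : act 7 n16881 = n13243 := d17_2 (iv F43329) D16881 (iv D13243)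
def n16994 : Q := act 7 n13309
theorem D16994 : act 7 n13309 = n16994 := rfl
theorem F55226 : act 0 n16994 = n16994 := d6_1 D16994 (iv D16994) F43616
theorem F55227 : act 1 n16994 = n13311 := d12_1 D16994 (iv D13311) D13309
def n16995 : Q := act 4 n13310
theorem D16995 : act 4 n13310 = n16995 := rfl
theorem F55231 : act 2 n16995 = n13314 := d14_1 D16995 (iv D13314) (iv F43620)
def n16996 : Q := act 7 n13310
theorem D16996 : act 7 n13310 = n16996 := rfl
theorem F55234 : act 2 n16996 = n13315 := d17_1 D16996 (iv D13315) (iv F43620)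
theorem F55235 : act 3 n16996 = n13311 := d21_1 D16996 (iv D13311) D13310
def n17002 : Q := act 7 n13314
theorem D17002 : act 7 n13314 = n17002 := rfl
theorem F55255 : act 4 n17002 = n13315 := d24_1 D17002 (iv D13315) D13314
theorem F55256 : act 2 n16776 = n17002 := d28_2 D13138 D16776 F55255 F43636 F34473 F27169 F21554 F17023 (iv D3883) (iv D3006) F8317 (iv D1807) (iv D1393) F3900 (iv D801) (iv D601) (iv D449) F1304 (iv D269) F784 F606 F445 F332 F240 F241 F196 (iv D44) (iv D30) F96 (iv D14) (iv D9) F36 (iv D6) (iv D4) (iv D3) F19 (iv D2) F10 F12 F11 F10 F8 F9 F10 (iv D1) F7 F3 F5 F4 F3 F1 F2 F3 D1 D2 D3 F21 D5 F31 F30 (iv F41) D10 F58 D16 F82 (iv F118) (iv F153) D47 (iv F261) D84 (iv F423) D140 D195 D267 F1044 D361 (iv F1849) (iv F2423) (iv F3168) D1131 (iv F5040) D1779 (iv F8150) (iv F10339) (iv F13172) D4885 (iv F21199) D8029 (iv F34030)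
theorem F55257 : act 4 n16776 = n16996 := d14_2 (iv F55255) (iv F55256) F55234
theorem F55258 : act 1 n16996 = n16586 := d9_1 F55257 F53986 (iv F54536)
theorem F55259 : act 6 n16996 = n16584 := d23_2 D16776 F55257 F53979
theorem F55260 : act 7 n16995 = n16776 := d24_0 F55257 (iv D16996) D16995
theorem F55262 : act 6 n16767 = n16995 := d27_5 F55260 (iv D16776) (iv D13138) (iv F43046) D16767
theorem E1 : n16994 = n6352 := (c28_73 D16767 F55262 F55231 (iv D13314) (iv D10416) (iv D8131) F21457 F17005 F13383 D3883 F13469 F11212 F11214 F8823 F6970 F5508 F4236 F3283 (iv D886) (iv D668) (iv D502) F1447 (iv D375) F1086 D374 F1441 F1442 F1445 F1444 F1442 F1443 F1096 F1095 (iv D280) (iv D207) (iv D152) F464 (iv D110) F340 (iv F459) (iv F605) (iv F784) F783 (iv F1037) F1038 (iv D265) (iv F960) (iv F1279) (iv D326) F956 (iv D240) (iv F948) F949 D322 D435 D584 D778 (iv F3827) D1361 (iv F6391) F6390 (iv F6492) D2305 F8242 D2976 F10467 (iv F13341) (iv F16961) D6351 (iv F27186) D10424 (iv F43617) D16994 F21494 (iv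 F27210) F27212 F27211 F27210 (iv F27190) (iv F34458) (iv F43622) (iv D13311) (iv F43600) (iv D13304) F34446 (iv F42810) D16653 F54201 D16721 F54389)
theorem E2 : n8138 = n6352 := (((iv F27190)).symm.trans (sb E1 (tr F55226 E1)))
theorem E3 : n13311 = n4973 := (((F21491).symm.trans (sb E1 F55227))).symm
theorem E6 : n10413 = n4973 := (((F21491).symm.trans (sb E2 (iv F34458)))).symm
theorem E8 : n6348 = n4951 := (((F21492).symm.trans (sb E2 F27191))).symm
theorem E11 : n10463 = n6378 := ((((iv F21569)).symm.trans (sb E3 F43621))).symm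
theorem E12 : n16996 = n3863 := (((F17033).symm.trans (sb E3 (iv F55235)))).symm
theorem E20 : n8167 = n6378 := ((((iv F21569)).symm.trans (sb E6 F34457))).symm
theorem E21 : n8132 = n3863 := (((F17033).symm.trans (sb E6 F34459))).symm
theorem E27 : n4947 = n3845 := (((F16968).symm.trans (sb E8 F21478))).symm
theorem E28 : n8139 = n6353 := ((((iv F21497)).symm.trans (sb E8 (iv F27196)))).symm
theorem E33 : n13372 = n4970 := (((F21571).symm.trans (sb E11 (iv F43814)))).symm
theorem E34 : n13370 = n8176 := ((((iv F27307)).symm.trans (sb E11 (iv F43808)))).symm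
theorem E36 : n8166 = n4968 := ((((iv D6378)).symm.trans (sb E11 (iv D10463)))).symm
theorem E37 : n16586 = n4951 := ((((iv F16966)).symm.trans (sb E12 F55258))).symm
theorem E38 : n13315 = n3009 := (((F13397).symm.trans (sb E12 F55234))).symm
theorem E39 : n16776 = n2990 := (((F13398).symm.trans (sb E12 (iv F55257)))).symm
theorem E40 : n16584 = n3863 := (((F13399).symm.trans (sb E12 F55259))).symm
theorem E45 : n6373 = n4970 := (((F21571).symm.trans (sb E20 F27281))).symm
theorem E46 : n10461 = n8176 := ((((iv F27307)).symm.trans (sb E20 (iv F34612)))).symm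
theorem E47 : n6370 = n4968 := ((((iv D6378)).symm.trans (sb E20 (iv D8167)))).symm
theorem E48 : n10417 = n3009 := (((F13397).symm.trans (sb E21 (iv F34473)))).symm
theorem E56 : n6335 = n4941 := ((((iv F16934)).symm.trans (sb E27 (iv F21434)))).symm
theorem E57 : n3840 = n2976 := ((((iv D3845)).symm.trans (sb E27 (iv D4947)))).symm
theorem E58 : n10402 = n8126 := ((((iv F27148)).symm.trans (sb E28 (iv F34421)))).symm
theorem E64 : n10467 = n3883 := (((F17023).symm.trans (sb E33 F43813))).symm
theorem E65 : n10462 = n3858 := ((((iv D4970)).symm.trans (sb E33 (iv D13372)))).symm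
theorem E66 : n10460 = n6377 := ((((iv D8176)).symm.trans (sb E34 (iv D13370)))).symm
theorem E67 : n10457 = n3856 := ((((iv D4968)).symm.trans (sb E36 (iv F34601)))).symm
theorem E68 : n13139 = n3845 := (((F16968).symm.trans (sb E37 F53986))).symm
theorem E69 : n12992 = n4951 := (((F16969).symm.trans (sb E37 (iv D16586)))).symm
theorem E72 : n10416 = n2332 := ((((iv D3009)).symm.trans (sb E38 (iv D13315)))).symm
theorem E73 : n13138 = n2990 := (((F10510).symm.trans (sb E39 (iv D16776)))).symm
theorem E75 : n13002 = n3009 := (((F13397).symm.trans (sb E40 F53978))).symm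
theorem E83 : n8171 = n3883 := (((F17023).symm.trans (sb E45 (iv F27291)))).symm
theorem E84 : n4966 = n3859 := (((F17024).symm.trans (sb E45 F21555))).symm
theorem E88 : n8165 = n6377 := ((((iv D8176)).symm.trans (sb E46 (iv D10461)))).symm
theorem E89 : n4962 = n3856 := ((((iv D4968)).symm.trans (sb E47 (iv D6370)))).symm
theorem E90 : n8134 = n2333 := (((F10575).symm.trans (sb E48 F34474))).symm
theorem E91 : n13313 = n3884 := ((((iv F13472)).symm.trans (sb E48 (iv F43630)))).symm
theorem E93 : n8131 = n2332 := ((((iv D3009)).symm.trans (sb E48 (iv D10417)))).symm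
theorem E103 : n8121 = n6339 := ((((iv F21448)).symm.trans (sb E56 (iv F27131)))).symm
theorem E104 : n4936 = n3836 := ((((iv D4941)).symm.trans (sb E56 (iv D6335)))).symm
theorem E105 : n2973 = n2305 := ((((iv D2976)).symm.trans (sb E57 (iv D3840)))).symm
theorem E106 : n13292 = n10405 := ((((iv F34431)).symm.trans (sb E58 (iv F43558)))).symm
theorem E107 : n8120 = n6338 := ((((iv D8126)).symm.trans (sb E58 (iv D10402)))).symm
theorem E112 : n8205 = n4993 := ((((iv F17102)).symm.trans (sb E64 F34626))).symm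
theorem E114 : n13375 = n4996 := ((((iv F17112)).symm.trans (sb E64 (iv F43821)))).symm
theorem E115 : n13379 = n3219 := (((F13469).symm.trans (sb E64 D13379))).symm
theorem E116 : n8170 = n3006 := ((((iv D3883)).symm.trans (sb E64 (iv D10467)))).symm
theorem E119 : n13365 = n2984 := ((((iv D3858)).symm.trans (sb E65 (iv F43792)))).symm
theorem E121 : n13363 = n4967 := ((((iv D6377)).symm.trans (sb E66 (iv F43787)))).symm
theorem E122 : n8163 = n2992 := (((F13376).symm.trans (sb E67 (iv D10457)))).symm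
theorem E124 : n16774 = n4941 := ((((iv F16934)).symm.trans (sb E68 (iv F54531)))).symm
theorem E125 : n10279 = n3845 := (((F13345).symm.trans (sb E68 (iv D13139)))).symm
theorem E126 : n16768 = n2976 := ((((iv D3845)).symm.trans (sb E68 (iv F54512)))).symm
theorem E127 : n10168 = n4951 := (((F16967).symm.trans (sb E69 F42636))).symm
theorem E128 : n16585 = n6352 := ((((iv F21492)).symm.trans (sb E69 (iv F53982)))).symm
theorem E129 : n16581 = n6353 := ((((iv F21497)).symm.trans (sb E69 (iv F53970)))).symm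
theorem E130 : n10167 = n3844 := ((((iv D4951)).symm.trans (sb E69 (iv D12992)))).symm
theorem E134 : n13052 = n1808 := ((((iv D2332)).symm.trans (sb E72 (iv F42833)))).symm
theorem E135 : n16775 = n3859 := ((((iv F13385)).symm.trans (sb E73 (iv F54532)))).symm
theorem E136 : n10285 = n2333 := (((F10508).symm.trans (sb E73 F43067))).symm
theorem E138 : n10278 = n2315 := ((((iv D2990)).symm.trans (sb E73 (iv D13138)))).symm
theorem E141 : n10178 = n3009 := (((F10573).symm.trans (sb E75 F42671))).symm
theorem E144 : n10177 = n2332 := ((((iv D3009)).symm.trans (sb E75 (iv D13002)))).symm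
theorem E152 : n6404 = n4993 := ((((iv F17102)).symm.trans (sb E83 F27290))).symm
theorem E153 : n6375 = n3007 := (((F13468).symm.trans (sb E83 F27292))).symm
theorem E157 : n6358 = n4957 := ((((iv F16988)).symm.trans (sb E84 (iv F21511)))).symm
theorem E158 : n3855 = n2985 := ((((iv D3859)).symm.trans (sb E84 (iv D4966)))).symm
theorem E163 : n6369 = n4967 := ((((iv D6377)).symm.trans (sb E88 (iv D8165)))).symm
theorem E164 : n6368 = n2992 := (((F13376).symm.trans (sb E89 D6368))).symm
theorem E165 : n10419 = n1818 := (((F8333).symm.trans (sb E90 (iv F34481)))).symm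
theorem E171 : n10414 = n3008 := ((((iv D3884)).symm.trans (sb E91 (iv D13313)))).symm
theorem E173 : n10214 = n1808 := ((((iv D2332)).symm.trans (sb E93 (iv F33854)))).symm
theorem E185 : n10401 = n8125 := ((((iv F27143)).symm.trans (sb E103 (iv F34416)))).symm
theorem E186 : n6334 = n4940 := ((((iv D6339)).symm.trans (sb E103 (iv D8121)))).symm
theorem E187 : n3833 = n2970 := ((((iv D3836)).symm.trans (sb E104 (iv D4936)))).symm
theorem E188 : n2304 = n1789 := ((((iv D2305)).symm.trans (sb E105 (iv D2973)))).symm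
theorem E190 : n10399 = n8123 := ((((iv D10405)).symm.trans (sb E106 (iv D13292)))).symm
theorem E191 : n6333 = n4939 := ((((iv D6338)).symm.trans (sb E107 (iv D8120)))).symm
theorem E197 : n10503 = n6402 := ((((iv F21654)).symm.trans (sb E112 (iv F34734)))).symm
theorem E198 : n10507 = n4144 := (((F17105).symm.trans (sb E112 D10507))).symm
theorem E199 : n6403 = n3879 := ((((iv D4993)).symm.trans (sb E112 (iv D8205)))).symm
theorem E202 : n10464 = n3882 := ((((iv D4996)).symm.trans (sb E114 (iv D13375)))).symm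
theorem E203 : n16740 = n2497 := ((((iv D3219)).symm.trans (sb E115 (iv F54430)))).symm
theorem E204 : n10254 = n2328 := ((((iv D3006)).symm.trans (sb E116 (iv F33964)))).symm
theorem E205 : n16722 = n2313 := (((F10492).symm.trans (sb E119 (iv F54391)))).symm
theorem E206 : n10456 = n3866 := (((F17012).symm.trans (sb E121 (iv D13363)))).symm
theorem E207 : n6383 = n3864 := ((((iv F13401)).symm.trans (sb E122 F27270))).symm
theorem E210 : n13136 = n4941 := (((F16935).symm.trans (sb E124 (iv D16774)))).symm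
theorem E211 : n8024 = n3845 := (((F13343).symm.trans (sb E125 F34033))).symm
theorem E213 : n13132 = n2305 := ((((iv D2976)).symm.trans (sb E126 (iv D16768)))).symm
theorem E214 : n7948 = n3863 := (((F16966).symm.trans (sb E127 F33698))).symm
theorem E215 : n7943 = n6352 := ((((iv F21492)).symm.trans (sb E127 F33699))).symm
theorem E217 : n7940 = n3844 := ((((iv D4951)).symm.trans (sb E127 (iv D10168)))).symm
theorem E219 : n12991 = n4949 := ((((iv D6352)).symm.trans (sb E128 (iv D16585)))).symm
theorem E220 : n12988 = n4950 := ((((iv D6353)).symm.trans (sb E129 (iv D16581)))).symm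
theorem E221 : n12985 = n2975 := ((((iv D3844)).symm.trans (sb E130 (iv F42614)))).symm
theorem E227 : n16659 = n1395 := (((F6554).symm.trans (sb E134 (iv F54219)))).symm
theorem E229 : n13146 = n3007 := (((F13386).symm.trans (sb E135 F54534))).symm
theorem E231 : n8030 = n2333 := (((F8332).symm.trans (sb E136 F34048))).symm
theorem E232 : n8084 = n1818 := (((F8333).symm.trans (sb E136 F34049))).symm
theorem E233 : n13144 = n3002 := ((((iv F10551)).symm.trans (sb E136 (iv F43083)))).symm
theorem E234 : n13147 = n1941 := (((F8334).symm.trans (sb E136 D13147))).symm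
theorem E235 : n8029 = n1809 := ((((iv D2333)).symm.trans (sb E136 (iv D10285)))).symm
theorem E237 : n13131 = n1795 := ((((iv D2315)).symm.trans (sb E138 (iv F43046)))).symm
theorem E240 : n7954 = n3883 := ((((iv F13466)).symm.trans (sb E141 F33735))).symm
theorem E241 : n13000 = n3884 := ((((iv F13472)).symm.trans (sb E141 (iv F42667)))).symm
theorem E243 : n7947 = n2332 := ((((iv D3009)).symm.trans (sb E141 (iv D10178)))).symm
theorem E245 : n12974 = n1808 := ((((iv D2332)).symm.trans (sb E144 (iv F42578)))).symm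
theorem E252 : n4995 = n3881 := (((F17104).symm.trans (sb E152 F21660))).symm
theorem E253 : n8203 = n6402 := ((((iv F21654)).symm.trans (sb E152 (iv F27393)))).symm
theorem E257 : n8151 = n3873 := ((((iv F13435)).symm.trans (sb E153 (iv F27234)))).symm
theorem E259 : n4965 = n2329 := ((((iv D3007)).symm.trans (sb E153 (iv D6375)))).symm
theorem E265 : n8149 = n6362 := ((((iv F21525)).symm.trans (sb E157 (iv F27227)))).symm
theorem E266 : n4953 = n3848 := ((((iv D4957)).symm.trans (sb E157 (iv D6358)))).symm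
theorem E267 : n2983 = n2312 := ((((iv D2985)).symm.trans (sb E158 (iv D3855)))).symm
theorem E274 : n8162 = n3866 := (((F17012).symm.trans (sb E163 (iv F27268)))).symm
theorem E275 : n4975 = n3864 := ((((iv F13401)).symm.trans (sb E164 F21541))).symm
theorem E279 : n8133 = n1403 := ((((iv D1818)).symm.trans (sb E165 (iv D10419)))).symm
theorem E286 : n13050 = n2331 := ((((iv D3008)).symm.trans (sb E171 (iv F42826)))).symm
theorem E288 : n7975 = n1395 := (((F6554).symm.trans (sb E173 (iv D10214)))).symm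
theorem E302 : n13294 = n10407 := ((((iv F34437)).symm.trans (sb E185 (iv F43564)))).symm
theorem E303 : n8119 = n6337 := ((((iv D8125)).symm.trans (sb E185 (iv D10401)))).symm
theorem E304 : n4935 = n3835 := ((((iv D4940)).symm.trans (sb E186 (iv D6334)))).symm
theorem E305 : n2969 = n2302 := ((((iv D2970)).symm.trans (sb E187 (iv D3833)))).symm
theorem E306 : n2919 = n1380 := (((F6492).symm.trans (sb E188 (iv F10278)))).symm
theorem E309 : n8118 = n6336 := ((((iv D8123)).symm.trans (sb E190 (iv D10399)))).symm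
theorem E310 : n4937 = n3837 := (((F16925).symm.trans (sb E191 F21425))).symm
theorem E319 : n13419 = n5323 := (((F21655).symm.trans (sb E197 D13419))).symm
theorem E320 : n8202 = n4991 := ((((iv D6402)).symm.trans (sb E197 (iv D10503)))).symm
theorem E322 : n13206 = n3215 := ((((iv D4144)).symm.trans (sb E198 (iv F43271)))).symm
theorem E323 : n8062 = n3003 := ((((iv D3879)).symm.trans (sb E199 (iv F26942)))).symm
theorem E330 : n13104 = n3005 := ((((iv D3882)).symm.trans (sb E202 (iv F42969)))).symm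
theorem E331 : n13107 = n1936 := ((((iv D2497)).symm.trans (sb E203 (iv D16740)))).symm
theorem E332 : n13102 = n1807 := (((F8317).symm.trans (sb E204 (iv F42965)))).symm
theorem E333 : n13096 = n1799 := (((F8268).symm.trans (sb E205 (iv D16722)))).symm
theorem E334 : n8179 = n4976 := ((((iv F17043)).symm.trans (sb E206 F34597))).symm
theorem E335 : n13095 = n2993 := (((F13410).symm.trans (sb E206 (iv F42951)))).symm
theorem E338 : n8020 = n2991 := ((((iv D3864)).symm.trans (sb E207 (iv F26808)))).symm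
theorem E342 : n10277 = n4941 := (((F16932).symm.trans (sb E210 F43060))).symm
theorem E345 : n6264 = n2990 := (((F13342).symm.trans (sb E211 F26819))).symm
theorem E349 : n10274 = n1789 := ((((iv D2305)).symm.trans (sb E213 F43048))).symm
theorem E352 : n6207 = n4970 := ((((iv F17022)).symm.trans (sb E214 F26593))).symm
theorem E353 : n6203 = n4973 := ((((iv F17033)).symm.trans (sb E214 F26594))).symm
theorem E357 : n6352 = n6199 := ((F21493).symm.trans (sb E215 F26578))
theorem E358 : n7943 = n6199 := (E215).trans E357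
theorem E360 : n6197 = n4831 := ((((iv D6199)).symm.trans (sb E358 (iv D7943)))).symm
theorem E364 : n4949 = n4831 := (((iv F16961)).symm.trans (sb E217 (tr F26567 E360)))
theorem E369 : n12991 = n4831 := (E219).trans E364
theorem E371 : n16580 = n5972 := ((((iv F20284)).symm.trans (sb E369 (iv F53967)))).symm
theorem E372 : n16575 = n3754 := ((((iv D4831)).symm.trans (sb E369 (iv F53951)))).symm
theorem E373 : n6350 = n5972 := (((iv F21485)).symm.trans (sb E220 (tr D16580 E371)))
theorem E375 : n16572 = n3843 := ((((iv D4950)).symm.trans (sb E220 (iv F53941)))).symm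
theorem E376 : n10164 = n2306 := (((F10464).symm.trans (sb E221 (iv D12985)))).symm
theorem E377 : n3842 = n3754 := ((D3842).symm.trans (sb E221 (tr D16575 E372)))
theorem E380 : n13048 = n1060 := (((F5115).symm.trans (sb E227 (iv D16659)))).symm
theorem E381 : n10293 = n3881 := ((((iv F13460)).symm.trans (sb E229 F43089))).symm
theorem E388 : n6270 = n3007 := ((((iv F10567)).symm.trans (sb E231 F26837))).symm
theorem E389 : n6306 = n1818 := (((F8333).symm.trans (sb E231 F26839))).symm
theorem E393 : n10353 = n2339 := ((((iv F8355)).symm.trans (sb E232 (iv F34258)))).symm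
theorem E394 : n10356 = n1507 := (((F6590).symm.trans (sb E232 D10356))).symm
theorem E395 : n6305 = n1403 := ((((iv D1818)).symm.trans (sb E232 (iv D8084)))).symm
theorem E398 : n10282 = n2325 := ((((iv D3002)).symm.trans (sb E233 (iv D13144)))).symm
theorem E400 : n16751 = n1498 := ((((iv D1941)).symm.trans (sb E234 (iv F54463)))).symm
theorem E401 : n10262 = n1394 := ((((iv D1809)).symm.trans (sb E235 (iv F33986)))).symm
theorem E404 : n16721 = n1384 := ((((iv D1795)).symm.trans (sb E237 (iv F54389)))).symm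
theorem E411 : n10182 = n4996 := ((((iv F17112)).symm.trans (sb E240 (iv F33750)))).symm
theorem E412 : n10185 = n3219 := (((F13469).symm.trans (sb E240 D10185))).symm
theorem E413 : n6206 = n3006 := ((((iv D3883)).symm.trans (sb E240 (iv D7954)))).symm
theorem E414 : n16593 = n4990 := ((((iv F17092)).symm.trans (sb E241 (iv F54012)))).symm
theorem E418 : n10155 = n1808 := ((((iv D2332)).symm.trans (sb E243 (iv F33657)))).symm
theorem E421 : n16544 = n1395 := (((F6554).symm.trans (sb E245 (iv F53850)))).symm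
theorem E423 : n6406 = n3018 := (((F13461).symm.trans (sb E252 (iv F21665)))).symm
theorem E424 : n6392 = n4982 := ((((iv F17067)).symm.trans (sb E252 (iv F21623)))).symm
theorem E425 : n6407 = n3217 := (((F13462).symm.trans (sb E252 D6407))).symm
theorem E428 : n10504 = n5323 := (((F21655).symm.trans (sb E253 D10504))).symm
theorem E436 : n10439 = n4986 := ((((iv F17080)).symm.trans (sb E257 (iv F34546)))).symm
theorem E440 : n6245 = n1806 := ((((iv D2329)).symm.trans (sb E259 (iv F21148)))).symm
theorem E446 : n10435 = n8155 := ((((iv F27246)).symm.trans (sb E265 (iv F34533)))).symm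
theorem E447 : n6356 = n4956 := ((((iv D6362)).symm.trans (sb E265 (iv D8149)))).symm
theorem E448 : n3846 = n2978 := ((((iv D3848)).symm.trans (sb E266 (iv D4953)))).symm
theorem E449 : n3779 = n1794 := ((((iv D2312)).symm.trans (sb E267 (iv F13130)))).symm
theorem E457 : n6382 = n4976 := ((((iv F17043)).symm.trans (sb E274 F27267))).symm
theorem E459 : n6256 = n2991 := ((((iv D3864)).symm.trans (sb E275 (iv F21176)))).symm
theorem E465 : n10216 = n1066 := ((((iv D1403)).symm.trans (sb E279 (iv F33861)))).symm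
theorem E475 : n10213 = n1810 := (((F8326).symm.trans (sb E286 (iv D13050)))).symm
theorem E478 : n6226 = n1058 := (((F5114).symm.trans (sb E288 F26682))).symm
theorem E500 : n10400 = n8124 := ((((iv D10407)).symm.trans (sb E302 (iv D13294)))).symm
theorem E501 : n6332 = n4938 := ((((iv D6337)).symm.trans (sb E303 (iv D8119)))).symm
theorem E502 : n3834 = n2971 := (((F13309).symm.trans (sb E304 F16911))).symm
theorem E503 : n3765 = n1787 := (((F8230).symm.trans (sb E305 (iv F13084)))).symm
theorem E505 : n2265 = n1759 := ((((iv F6390)).symm.trans (sb E306 F10277))).symm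
theorem E509 : n10381 = n8109 := ((((iv F27089)).symm.trans (sb E309 (iv F34345)))).symm
theorem E510 : n6217 = n2972 := (((F13315).symm.trans (sb E310 (iv F21065)))).symm
theorem E523 : n16858 = n4142 := ((((iv D5323)).symm.trans (sb E319 (iv F54782)))).symm
theorem E524 : n10326 = n3878 := ((((iv D4991)).symm.trans (sb E320 (iv F34176)))).symm
theorem E527 : n10329 = n2494 := ((((iv D3215)).symm.trans (sb E322 (iv D13206)))).symm
theorem E528 : n10324 = n3805 := ((((iv F13210)).symm.trans (sb E323 (iv F34169)))).symm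
theorem E536 : n16727 = n2330 := (((F10561).symm.trans (sb E330 (iv F54400)))).symm
theorem E538 : n16733 = n1496 := (((F6930).symm.trans (sb E331 (iv F54410)))).symm
theorem E539 : n16730 = n2284 := ((((iv F8172)).symm.trans (sb E332 (iv F54405)))).symm
theorem E540 : n10250 = n1397 := (((F6551).symm.trans (sb E332 (iv D13102)))).symm
theorem E541 : n2275 = n1384 := (((iv F8143)).symm.trans (sb E333 (tr D16721 E404)))
theorem E545 : n10272 = n3865 := (((F17044).symm.trans (sb E334 (iv F34011)))).symm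
theorem E546 : n10474 = n6384 := (((D6384).symm.trans (sb E334 (iv F34648)))).symm
theorem E548 : n16718 = n3703 := ((((iv F12869)).symm.trans (sb E335 (iv F54382)))).symm
theorem E551 : n2317 = n2306 := (((iv D2991)).symm.trans (sb E338 (tr (iv F33686) E376)))
theorem E552 : n2991 = n1789 := ((F10514).symm.trans (sb E338 (tr D10274 E349)))
theorem E555 : n8028 = n3853 := (((F16931).symm.trans (sb E342 F34026))).symm
theorem E561 : n4886 = n3859 := ((((iv F13385)).symm.trans (sb E345 F21201))).symm
theorem E569 : n6378 = n4839 := (((iv F21571)).symm.trans (sb E352 F21030))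
theorem E570 : n7952 = n6379 := ((((iv F21576)).symm.trans (sb E352 (iv F26608)))).symm
theorem E571 : n4837 = n3858 := ((((iv D4970)).symm.trans (sb E352 (iv D6207)))).symm
theorem E572 : n4973 = n4835 := ((F17034).symm.trans (sb E353 F21019))
theorem E573 : n6203 = n4835 := (E353).trans E572
theorem E574 : n7949 = n5976 := ((((iv F20298)).symm.trans (sb E573 (iv F26599)))).symm
theorem E575 : n4834 = n3756 := ((((iv D4835)).symm.trans (sb E573 (iv D6203)))).symm
theorem E602 : n4972 = n4659 := (((F20282).symm.trans (sb E373 F21484))).symm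
theorem E606 : n12984 = n2977 := (((F13337).symm.trans (sb E375 (iv D16572)))).symm
theorem E607 : n2987 = n2909 := ((((iv D3754)).symm.trans (sb E377 F13332))).symm
theorem E613 : n16658 = n797 := (((F3911).symm.trans (sb E380 D16658))).symm
theorem E617 : n8036 = n3881 := (((F13459).symm.trans (sb E381 F34068))).symm
theorem E618 : n8092 = n3018 := (((F13461).symm.trans (sb E381 F34070))).symm
theorem E619 : n13153 = n4982 := ((((iv F17067)).symm.trans (sb E381 (iv F43107)))).symm
theorem E620 : n13155 = n3217 := (((F13462).symm.trans (sb E381 D13155))).symm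
theorem E621 : n8035 = n3004 := ((((iv D3881)).symm.trans (sb E381 (iv D10293)))).symm
theorem E627 : n4921 = n2341 := (((F10568).symm.trans (sb E388 F21219))).symm
theorem E628 : n8034 = n3873 := ((((iv F13435)).symm.trans (sb E388 (iv F26849)))).symm
theorem E631 : n4915 = n1818 := (((F6588).symm.trans (sb E389 F21337))).symm
theorem E632 : n8082 = n2339 := ((((iv F8355)).symm.trans (sb E389 (iv F27003)))).symm
theorem E641 : n13233 = n1947 := (((F8356).symm.trans (sb E393 D13233))).symm
theorem E642 : n8081 = n1815 := ((((iv D2339)).symm.trans (sb E393 (iv D10353)))).symm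
theorem E644 : n13217 = n1150 := ((((iv D1507)).symm.trans (sb E394 (iv F43306)))).symm
theorem E645 : n8070 = n1066 := ((((iv D1403)).symm.trans (sb E395 (iv F26966)))).symm
theorem E647 : n13114 = n1803 := ((((iv D2325)).symm.trans (sb E398 (iv F42997)))).symm
theorem E648 : n13117 = n1141 := ((((iv D1498)).symm.trans (sb E400 (iv D16751)))).symm
theorem E649 : n13101 = n1057 := ((((iv D1394)).symm.trans (sb E401 (iv F42964)))).symm
theorem E655 : n13006 = n6396 := ((((iv F21635)).symm.trans (sb E411 (iv F42684)))).symm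
theorem E656 : n13009 = n4147 := (((F17113).symm.trans (sb E411 D13009))).symm
theorem E657 : n7951 = n3882 := ((((iv D4996)).symm.trans (sb E411 (iv D10182)))).symm
theorem E658 : n12982 = n2497 := ((((iv D3219)).symm.trans (sb E412 (iv F42604)))).symm
theorem E659 : n7935 = n2328 := ((((iv D3006)).symm.trans (sb E413 (iv F26550)))).symm
theorem E660 : n12997 = n3876 := ((((iv D4990)).symm.trans (sb E414 (iv D16593)))).symm
theorem E663 : n7930 = n1395 := (((F6554).symm.trans (sb E418 (iv D10155)))).symm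
theorem E664 : n12962 = n1058 := (((F5114).symm.trans (sb E421 (iv D16544)))).symm
theorem E665 : n5008 = n3894 := ((((iv F13509)).symm.trans (sb E423 F21664))).symm
theorem E666 : n8191 = n3888 := ((((iv F13488)).symm.trans (sb E423 (iv F27359)))).symm
theorem E669 : n8189 = n6390 := ((((iv F21616)).symm.trans (sb E424 (iv F27353)))).symm
theorem E670 : n8192 = n4133 := (((F17068).symm.trans (sb E424 D8192))).symm
theorem E671 : n4981 = n3869 := ((((iv D4982)).symm.trans (sb E424 (iv D6392)))).symm
theorem E672 : n5328 = n4146 := ((((iv F14275)).symm.trans (sb E425 F21667))).symm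
theorem E673 : n8066 = n2495 := ((((iv D3217)).symm.trans (sb E425 (iv F26954)))).symm
theorem E678 : n8737 = n6823 := ((((iv F22980)).symm.trans (sb E428 F34736))).symm
theorem E691 : n13342 = n6395 := ((((iv F21631)).symm.trans (sb E436 (iv F43720)))).symm
theorem E692 : n13343 = n4137 := (((F17081).symm.trans (sb E436 D13343))).symm
theorem E697 : n4866 = n1393 := ((((iv D1806)).symm.trans (sb E440 (iv D6245)))).symm
theorem E706 : n8146 = n6360 := ((((iv D8155)).symm.trans (sb E446 (iv D10435)))).symm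
theorem E707 : n4952 = n3847 := ((((iv D4956)).symm.trans (sb E447 (iv D6356)))).symm
theorem E708 : n4857 = n2308 := ((((iv D2978)).symm.trans (sb E448 (iv F16663)))).symm
theorem E709 : n2927 = n2270 := ((((iv F8128)).symm.trans (sb E449 (iv D3779)))).symm
theorem E722 : n8019 = n3865 := (((F17044).symm.trans (sb E457 (iv F26805)))).symm
theorem E724 : n6256 = n1789 := (E459).trans E552
theorem E725 : n3865 = n2302 := ((((iv F8231)).symm.trans (sb E724 (tr D8019 E722)))).symm
theorem E730 : n12928 = n802 := ((((iv D1066)).symm.trans (sb E465 (iv F42435)))).symm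
theorem E739 : n7980 = n1396 := (((F6559).symm.trans (sb E475 F33849))).symm
theorem E744 : n4855 = n1369 := ((((iv F5031)).symm.trans (sb E478 F21094))).symm
theorem E765 : n13269 = n10387 := ((((iv F34367)).symm.trans (sb E500 (iv F43477)))).symm
theorem E766 : n8105 = n6326 := ((((iv F21402)).symm.trans (sb E501 (iv F27074)))).symm
theorem E767 : n4845 = n2303 := (((F10449).symm.trans (sb E502 (iv F16625)))).symm
theorem E769 : n2917 = n2263 := ((((iv F8099)).symm.trans (sb E503 F13083))).symm
theorem E772 : n1758 = n1358 := ((((iv D1759)).symm.trans (sb E505 (iv D2265)))).symm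
theorem E775 : n13260 = n9953 := ((((iv F33011)).symm.trans (sb E509 (iv F43446)))).symm
theorem E777 : n4848 = n3768 := ((((iv F13094)).symm.trans (sb E510 F21064))).symm
theorem E794 : n13202 = n3214 := ((((iv D4142)).symm.trans (sb E523 (iv D16858)))).symm
theorem E795 : n13193 = n4899 := ((((iv F16791)).symm.trans (sb E524 (iv F43228)))).symm
theorem E800 : n13199 = n3180 := ((((iv F11092)).symm.trans (sb E527 (iv F43248)))).symm
theorem E801 : n13196 = n2946 := (((F13209).symm.trans (sb E528 (iv F43238)))).symm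
theorem E807 : n13099 = n1811 := (((F8323).symm.trans (sb E536 (iv D16727)))).symm
theorem E808 : n13103 = n1144 := (((F5418).symm.trans (sb E538 F54411))).symm
theorem E809 : n1777 = n1057 := ((F8173).symm.trans (sb E539 (tr (iv D16730) E649)))
theorem E810 : n1059 = n1058 := (((iv D1397)).symm.trans (sb E540 (tr (iv F42540) E664)))
theorem E811 : n1794 = n1767 := (((iv F6509)).symm.trans (sb E541 F8142))
theorem E812 : n1799 = n1050 := (((F5082).symm.trans (sb E541 F8143))).symm
theorem E814 : n2928 = n1049 := ((((iv D1384)).symm.trans (sb E541 (iv F10310)))).symm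
theorem E815 : n1796 = n1765 := ((D1796).symm.trans (sb E541 (iv D2275)))
theorem E817 : n10272 = n2302 := (E545).trans E725
theorem E818 : n13128 = n2971 := (((D2971).symm.trans (sb E817 (iv F43036)))).symm
theorem E820 : n13383 = n7833 := ((((iv F26227)).symm.trans (sb E546 (iv F43840)))).symm
theorem E822 : n4765 = n2971 := (((iv F16353)).symm.trans (sb E548 (tr F54381 E818)))
theorem E824 : n1798 = n1790 := (((F8243).symm.trans (sb E551 (iv D2317)))).symm
theorem E825 : n2977 = n2867 := ((D2977).symm.trans (sb E551 (iv F10099)))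
theorem E826 : n2318 = n1380 := (((F6492).symm.trans (sb E552 F10512))).symm
theorem E828 : n12984 = n2867 := (E606).trans E825
theorem E830 : n6268 = n4957 := ((((iv F16985)).symm.trans (sb E555 F26832))).symm
theorem E841 : n3859 = n3796 := ((F13387).symm.trans (sb E561 F16745))
theorem E842 : n4886 = n3796 := (E561).trans E841
theorem E843 : n4957 = n4887 := ((((iv F16749)).symm.trans (sb E842 (tr (iv F21214) E830)))).symm
theorem E852 : n4839 = n3761 := (((F16588).symm.trans (iv (sb E569 (tr F21569 E572))))).symm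
theorem E853 : n6378 = n3761 := (E569).trans E852
theorem E855 : n8176 = n4664 := ((((iv F16041)).symm.trans (sb E853 (iv F27307)))).symm
theorem E856 : n4968 = n2912 := ((((iv D3761)).symm.trans (sb E853 (iv D6378)))).symm
theorem E857 : n6208 = n4664 := (((E855).symm.trans (((iv F27306)).symm.trans (sb E570 F26607)))).symm
theorem E860 : n3760 = n2912 := (((E856).symm.trans (((iv F17017)).symm.trans (sb E571 F16596)))).symm
theorem E863 : n6202 = n4659 := ((((iv D5976)).symm.trans (sb E574 (iv D7949)))).symm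
theorem E864 : n3755 = n2909 := ((((iv D3756)).symm.trans (sb E575 (iv D4834)))).symm
theorem E887 : n6377 = n3624 := (((F16019).symm.trans (sb E602 (iv F21565)))).symm
theorem E895 : n16571 = n3701 := (((D3701).symm.trans (sb E828 (iv F53937)))).symm
theorem E896 : n3856 = n2258 := (((F10241).symm.trans (sb E607 (iv F13375)))).symm
theorem E897 : n2320 = n2257 := ((((iv D2909)).symm.trans (sb E607 F10501))).symm
theorem E899 : n13060 = n599 := (((F2987).symm.trans (sb E613 F54217))).symm
theorem E900 : n6312 = n3018 := (((F13461).symm.trans (sb E617 F26854))).symm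
theorem E901 : n10291 = n4982 := ((((iv F17067)).symm.trans (sb E617 (iv F34064)))).symm
theorem E903 : n6269 = n3004 := ((((iv D3881)).symm.trans (sb E617 (iv D8036)))).symm
theorem E904 : n6320 = n3894 := ((((iv F13509)).symm.trans (sb E618 F27028))).symm
theorem E905 : n10362 = n3888 := ((((iv F13488)).symm.trans (sb E618 (iv F34284)))).symm
theorem E906 : n10364 = n2509 := (((F10611).symm.trans (sb E618 D10364))).symm
theorem E910 : n10290 = n3869 := ((((iv D4982)).symm.trans (sb E619 (iv D13153)))).symm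
theorem E912 : n16759 = n2495 := ((((iv D3217)).symm.trans (sb E620 (iv F54485)))).symm
theorem E913 : n10268 = n2327 := ((((iv D3004)).symm.trans (sb E621 (iv F34001)))).symm
theorem E924 : n3822 = n2341 := (((F8361).symm.trans (sb E627 F16859))).symm
theorem E925 : n6310 = n3014 := ((((iv F10594)).symm.trans (sb E627 (iv F21348)))).symm
theorem E926 : n6313 = n1949 := (((F8363).symm.trans (sb E627 D6313))).symm
theorem E929 : n10289 = n4986 := ((((iv F17080)).symm.trans (sb E628 (iv F34057)))).symm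
theorem E934 : n6304 = n2339 := ((((iv F8355)).symm.trans (sb E631 (iv F21332)))).symm
theorem E938 : n10354 = n1947 := (((F8356).symm.trans (sb E632 D10354))).symm
theorem E954 : n16871 = n1504 := ((((iv D1947)).symm.trans (sb E641 (iv F54826)))).symm
theorem E955 : n10336 = n1400 := ((((iv D1815)).symm.trans (sb E642 (iv F34207)))).symm
theorem E959 : n10339 = n869 := ((((iv D1150)).symm.trans (sb E644 (iv D13217)))).symm
theorem E960 : n10323 = n802 := ((((iv D1066)).symm.trans (sb E645 (iv F34165)))).symm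
theorem E963 : n16726 = n1391 := ((((iv D1803)).symm.trans (sb E647 (iv F54398)))).symm
theorem E965 : n16731 = n860 := ((((iv D1141)).symm.trans (sb E648 (iv F54408)))).symm
theorem E978 : n10179 = n4985 := ((((iv D6396)).symm.trans (sb E655 (iv D13006)))).symm
theorem E979 : n16567 = n3218 := ((((iv D4147)).symm.trans (sb E656 (iv F53924)))).symm
theorem E980 : n10159 = n3005 := ((((iv D3882)).symm.trans (sb E657 (iv F33670)))).symm
theorem E981 : n10162 = n1936 := ((((iv D2497)).symm.trans (sb E658 (iv D12982)))).symm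
theorem E982 : n6192 = n1807 := (((F8317).symm.trans (sb E659 (iv D7935)))).symm
theorem E984 : n16555 = n3000 := ((((iv D3876)).symm.trans (sb E660 (iv F53882)))).symm
theorem E989 : n6189 = n1060 := (((F5115).symm.trans (sb E663 F26534))).symm
theorem E990 : n16545 = n797 := (((F3906).symm.trans (sb E664 D16545))).symm
theorem E992 : n16546 = n861 := (((F3907).symm.trans (sb E664 D16546))).symm
theorem E993 : n6414 = n5002 := ((((iv F17139)).symm.trans (sb E665 (iv F21693)))).symm
theorem E994 : n6423 = n5009 := (((D5009).symm.trans (sb E665 D6423))).symm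
theorem E996 : n10490 = n5000 := ((((iv F17129)).symm.trans (sb E666 (iv F34697)))).symm
theorem E1003 : n10488 = n5311 := (((F21617).symm.trans (sb E669 D10488))).symm
theorem E1004 : n6389 = n4980 := ((((iv D6390)).symm.trans (sb E669 (iv D8189)))).symm
theorem E1006 : n10307 = n3205 := ((((iv D4133)).symm.trans (sb E670 (iv F34120)))).symm
theorem E1007 : n6274 = n2995 := ((((iv D3869)).symm.trans (sb E671 (iv F21234)))).symm
theorem E1009 : n6764 = n3216 := ((((iv D4146)).symm.trans (sb E672 (iv F22777)))).symm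
theorem E1010 : n6291 = n1935 := ((((iv D2495)).symm.trans (sb E673 (iv D8066)))).symm
theorem E1016 : n11171 = n8736 := ((((iv F29093)).symm.trans (sb E678 (iv F36855)))).symm
theorem E1032 : n10438 = n4984 := ((((iv D6395)).symm.trans (sb E691 (iv D13342)))).symm
theorem E1033 : n16698 = n3208 := ((((iv D4137)).symm.trans (sb E692 (iv F54332)))).symm
theorem E1038 : n3781 = n1772 := ((((iv F6436)).symm.trans (sb E697 F16689))).symm
theorem E1050 : n6354 = n4954 := ((((iv D6360)).symm.trans (sb E706 (iv D8146)))).symm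
theorem E1051 : n6232 = n2979 := (((F13350).symm.trans (sb E707 (iv F21114)))).symm
theorem E1052 : n3774 = n2923 := ((((iv F10293)).symm.trans (sb E708 (iv D4857)))).symm
theorem E1054 : n2271 = n1763 := (((F8127).symm.trans (sb E709 F10306))).symm
theorem E1055 : n3749 = n1762 := ((((iv D2270)).symm.trans (sb E709 (iv F13028)))).symm
theorem E1070 : n2993 = n1787 := (((F8230).symm.trans (sb E725 F13406))).symm
theorem E1078 : n10120 = n601 := ((((iv D802)).symm.trans (sb E730 (iv D12928)))).symm
theorem E1094 : n6230 = n1775 := ((((iv F6444)).symm.trans (sb E739 F26696))).symm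
theorem E1102 : n6229 = n1041 := (((F5033).symm.trans (sb E744 (iv F21105)))).symm
theorem E1131 : n10382 = n8110 := ((((iv D10387)).symm.trans (sb E765 (iv D13269)))).symm
theorem E1133 : n10376 = n7775 := ((((iv F26040)).symm.trans (sb E766 (iv F34330)))).symm
theorem E1135 : n3767 = n2918 := ((((iv F10273)).symm.trans (sb E767 F16624))).symm
theorem E1138 : n2262 = n1757 := ((((iv D2263)).symm.trans (sb E769 (iv D2917)))).symm
theorem F55404 : act 1 n1358 = n1358 := (sb E772 (iv D1758))
theorem E1141 : n2250 = n1031 := ((((iv D1358)).symm.trans (sb E772 (iv F8051)))).symm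
theorem E1146 : n16215 = n12712 := ((((iv F41756)).symm.trans (sb E775 (iv F52814)))).symm
theorem E1148 : n6213 = n4843 := ((((iv F16617)).symm.trans (sb E777 (iv F21050)))).symm
theorem E1167 : n16846 = n4099 := ((((iv F14123)).symm.trans (sb E794 (iv F54741)))).symm
theorem E1168 : n16843 = n3808 := (((F16790).symm.trans (sb E795 (iv F54731)))).symm
theorem E1170 : n16851 = n2466 := (((F11091).symm.trans (sb E800 (iv F54758)))).symm
theorem E1174 : n3807 = n802 := ((D3807).symm.trans (sb E801 (tr (iv D13196) E960)))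
theorem E1180 : n2290 = n1391 := (((iv F8191)).symm.trans (sb E807 (tr D16726 E963)))
theorem E1183 : n1483 = n860 := (((iv F5384)).symm.trans (sb E808 (tr (iv F54407) E965)))
theorem E1184 : n862 = n861 := (((iv D1144)).symm.trans (sb E808 (tr (iv F53854) E992)))
theorem E1186 : n1393 = n1372 := (((iv F5109)).symm.trans (sb E809 F6452))
theorem E1187 : n1397 = n794 := (((F3903).symm.trans (sb E809 F6453))).symm
theorem E1189 : n2284 = n793 := ((((iv D1057)).symm.trans (sb E809 (iv F8173)))).symm
theorem E1190 : n1395 = n1370 := ((D1395).symm.trans (sb E809 (iv D1777)))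
theorem E1191 : n1369 = n796 := (((iv F5031)).symm.trans (sb E810 F3908))
theorem E1192 : n797 = n795 := ((F3906).symm.trans (sb E810 (iv D1059)))
theorem E1193 : n1396 = n1338 := ((D1396).symm.trans (sb E810 (iv F4910)))
theorem E1195 : n2270 = n1364 := (((F6418).symm.trans (sb E811 (iv F8128)))).symm
theorem E1197 : n2272 = n1383 := (((iv F8133)).symm.trans (sb E811 (iv D1794)))
theorem E1198 : n2313 = n1363 := ((((iv D1767)).symm.trans (sb E811 D2313))).symm
theorem E1199 : n2308 = n2278 := (((D2278).symm.trans (sb E811 (iv F8252)))).symm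
theorem E1200 : n1388 = n1361 := ((((iv F5005)).symm.trans (sb E812 F6525))).symm
theorem E1201 : n1363 = n789 := ((((iv D1050)).symm.trans (sb E812 (tr (iv F8268) E1198)))).symm
theorem E1202 : n2319 = n1382 := ((((iv F5075)).symm.trans (sb E812 D2319))).symm
theorem E1204 : n2313 = n789 := (E1198).trans E1201
theorem E1205 : n1364 = n790 := (((F3880).symm.trans (sb E814 (tr (iv D2928) E1195)))).symm
theorem E1207 : n1362 = n1361 := (((iv D1765)).symm.trans (sb E815 (tr F6515 E1200)))
theorem E1208 : n2316 = n2191 := ((((iv F7850)).symm.trans (sb E815 D2316))).symm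
theorem E1210 : n16761 = n3831 := ((((iv F13294)).symm.trans (sb E818 (iv F54489)))).symm
theorem E1211 : n3837 = n3701 := ((D3837).symm.trans (sb E818 (tr (iv F53938) E895)))
theorem E1212 : n6113 = n3831 := (((iv D7833)).symm.trans (sb E820 (tr (iv F54490) E1210)))
theorem E1213 : n3703 = n2303 := (((F10449).symm.trans (sb E822 F16353))).symm
theorem E1215 : n2266 = n1387 := (((iv F8111)).symm.trans (sb E824 F6521))
theorem E1217 : n1800 = n1759 := ((((iv F6390)).symm.trans (sb E826 F8283))).symm
theorem E1218 : n2992 = n1047 := ((((iv D1380)).symm.trans (sb E826 D2992))).symm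
theorem E1234 : n3873 = n3823 := (((F16748).symm.trans (sb E843 F16986))).symm
theorem E1244 : n7662 = n5980 := ((((iv F20312)).symm.trans (sb E857 (iv F25710)))).symm
theorem E1249 : n2911 = n2258 := ((((iv D2912)).symm.trans (sb E860 (iv D3760)))).symm
theorem E1253 : n4833 = n3621 := ((((iv D4659)).symm.trans (sb E863 (iv D6202)))).symm
theorem E1254 : n2910 = n2257 := ((((iv D2909)).symm.trans (sb E864 F13048))).symm
theorem E1272 : n8175 = n4663 := ((((iv F16037)).symm.trans (sb E887 (iv F27302)))).symm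
theorem E1273 : n4967 = n2809 := ((((iv D3624)).symm.trans (sb E887 (iv D6377)))).symm
theorem E1284 : n1754 = n1047 := (((iv D2258)).symm.trans (sb E896 (tr F13376 E1218)))
theorem E1286 : n1759 = n1753 := ((((iv D2257)).symm.trans (sb E897 (tr (iv D2320) E1217)))).symm
theorem E1287 : n16673 = n784 := ((((iv F2947)).symm.trans (sb E899 D16673))).symm
theorem E1291 : n4927 = n3894 := ((((iv F13509)).symm.trans (sb E900 F21352))).symm
theorem E1292 : n8090 = n3888 := ((((iv F13488)).symm.trans (sb E900 (iv F27024)))).symm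
theorem E1293 : n8093 = n2509 := (((F10611).symm.trans (sb E900 D8093))).symm
theorem E1296 : n13154 = n4133 := (((F17068).symm.trans (sb E901 D13154))).symm
theorem E1300 : n8017 = n2327 := ((((iv D3004)).symm.trans (sb E903 (iv F26800)))).symm
theorem E1301 : n8099 = n5002 := ((((iv F17139)).symm.trans (sb E904 (iv F27055)))).symm
theorem E1302 : n8101 = n5009 := (((D5009).symm.trans (sb E904 D8101))).symm
theorem E1304 : n13237 = n5000 := ((((iv F17129)).symm.trans (sb E905 (iv F43370)))).symm
theorem E1305 : n13242 = n3224 := (((F13489).symm.trans (sb E905 D13242))).symm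
theorem E1307 : n13244 = n3230 := ((((iv F11250)).symm.trans (sb E906 D13244))).symm
theorem E1311 : n13122 = n2995 := ((((iv D3869)).symm.trans (sb E910 (iv F43019)))).symm
theorem E1312 : n13125 = n1935 := ((((iv D2495)).symm.trans (sb E912 (iv D16759)))).symm
theorem E1313 : n13066 = n2945 := ((((iv F10360)).symm.trans (sb E913 (iv F42875)))).symm
theorem E1318 : n3018 = n2964 := (((iv F10609)).symm.trans (sb E924 F13261))
theorem E1319 : n4919 = n3014 := ((((iv F10594)).symm.trans (sb E924 (iv F16855)))).symm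
theorem E1322 : n8088 = n3890 := ((((iv F13495)).symm.trans (sb E925 (iv F27018)))).symm
theorem E1323 : n8091 = n2505 := (((F10595).symm.trans (sb E925 D8091))).symm
theorem E1325 : n5297 = n1522 := (((F6970).symm.trans (sb E926 F21354))).symm
theorem E1328 : n13151 = n6395 := ((((iv F21631)).symm.trans (sb E929 (iv F43100)))).symm
theorem E1335 : n8080 = n3016 := ((((iv F10601)).symm.trans (sb E934 (iv F26996)))).symm
theorem E1336 : n5288 = n1947 := (((F8356).symm.trans (sb E934 F21333))).symm
theorem E1344 : n8687 = n1520 := (((F6964).symm.trans (sb E938 F34260))).symm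
theorem E1359 : n13214 = n1147 := ((((iv D1504)).symm.trans (sb E954 (iv D16871)))).symm
theorem E1360 : n13192 = n1063 := ((((iv D1400)).symm.trans (sb E955 (iv F43224)))).symm
theorem E1364 : n13197 = n654 := ((((iv D869)).symm.trans (sb E959 (iv F43241)))).symm
theorem E1370 : n12976 = n3871 := ((((iv D4985)).symm.trans (sb E978 (iv F42585)))).symm
theorem E1371 : n12979 = n2496 := ((((iv D3218)).symm.trans (sb E979 (iv D16567)))).symm
theorem E1372 : n7934 = n2330 := (((F10561).symm.trans (sb E980 (iv D10159)))).symm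
theorem E1373 : n7936 = n1496 := (((F6930).symm.trans (sb E981 F33677))).symm
theorem E1374 : n7911 = n793 := (((E1189).symm.trans (((iv F8172)).symm.trans (sb E982 (iv F26477))))).symm
theorem E1375 : n4828 = n794 := (((E1187).symm.trans ((F6551).symm.trans (sb E982 F20982)))).symm
theorem E1376 : n12971 = n2326 := (((F10544).symm.trans (sb E984 (iv D16555)))).symm
theorem E1383 : n4824 = n796 := ((((iv D1060)).symm.trans (sb E989 F20974))).symm
theorem E1384 : n16545 = n795 := (E990).trans E1192
theorem E1385 : n12966 = n603 := (((F2982).symm.trans (sb E1384 F53852))).symm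
theorem E1387 : n8219 = n6412 := ((((iv F21685)).symm.trans (sb E993 (iv F27445)))).symm
theorem E1388 : n8220 = n6415 := (((D6415).symm.trans (sb E993 D8220))).symm
theorem E1390 : n8228 = n4160 := (((F17162).symm.trans (sb E994 D8228))).symm
theorem E1393 : n8190 = n3886 := ((((iv D5000)).symm.trans (sb E996 (iv D10490)))).symm
theorem E1405 : n13171 = n4131 := ((((iv D5311)).symm.trans (sb E1003 (iv F43164)))).symm
theorem E1406 : n8042 = n3868 := ((((iv D4980)).symm.trans (sb E1004 (iv F26875)))).symm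
theorem E1409 : n8045 = n2486 := ((((iv D3205)).symm.trans (sb E1006 (iv D10307)))).symm
theorem E1410 : n4889 = n3797 := ((((iv F13181)).symm.trans (sb E1007 (iv D6274)))).symm
theorem E1413 : n5275 = n4101 := ((((iv F14129)).symm.trans (sb E1009 (iv D6764)))).symm
theorem E1414 : n4902 = n2465 := ((((iv F8721)).symm.trans (sb E1010 F21291))).symm
theorem E1423 : n14154 = n6822 := ((((iv D8736)).symm.trans (sb E1016 (iv F46255)))).symm
theorem E1442 : n13077 = n3870 := ((((iv D4984)).symm.trans (sb E1032 (iv F42906)))).symm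
theorem E1443 : n13078 = n2487 := ((((iv D3208)).symm.trans (sb E1033 (iv D16698)))).symm
theorem E1450 : n2930 = n1368 := (((F6435).symm.trans (sb E1038 F13135))).symm
theorem E1462 : n8144 = n6091 := ((((iv F20647)).symm.trans (sb E1050 D8144))).symm
theorem E1463 : n4858 = n3775 := ((((iv F13119)).symm.trans (sb E1051 F21113))).symm
theorem E1465 : n2924 = n2268 := (((F10292).symm.trans (sb E1052 F13115))).symm
theorem E1466 : n4817 = n2267 := ((((iv D2923)).symm.trans (sb E1052 (iv F16532)))).symm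
theorem E1468 : n2906 = n1360 := ((((iv D1763)).symm.trans (sb E1054 (iv F10231)))).symm
theorem E1469 : n2905 = n2254 := ((((iv F8066)).symm.trans (sb E1055 (iv D3749)))).symm
theorem E1482 : n2321 = n2263 := ((((iv F8099)).symm.trans (sb E1070 F10519))).symm
theorem E1483 : n3866 = n1378 := ((((iv D1787)).symm.trans (sb E1070 (iv F13410)))).symm
theorem E1488 : n12926 = n450 := (((F2290).symm.trans (sb E1078 (iv F42428)))).symm
theorem E1507 : n7983 = n1373 := (((F6446).symm.trans (sb E1094 (iv F26707)))).symm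
theorem E1515 : n7984 = n784 := (((F3851).symm.trans (sb E1102 D7984))).symm
theorem E1516 : n793 = n782 := ((((iv D1041)).symm.trans (sb E1102 (tr (iv F26479) E1374)))).symm
theorem E1541 : n13261 = n9954 := ((((iv F33015)).symm.trans (sb E1131 (iv F43449)))).symm
theorem E1544 : n12707 = n9949 := ((((iv F32997)).symm.trans (sb E1133 (iv F41738)))).symm
theorem E1547 : n4842 = n3764 := ((((iv F13080)).symm.trans (sb E1135 (iv F16613)))).symm
theorem F55454 : act 1 n1757 = n1757 := (sb E1138 (iv D2262))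
theorem E1550 : n2897 = n1357 := ((((iv D1757)).symm.trans (sb E1138 (iv F10198)))).symm
theorem E1551 : n2914 = n2261 := ((((iv F8092)).symm.trans (sb E1138 (iv F10257)))).symm
theorem E1554 : n1749 = n1351 := ((((iv F4967)).symm.trans (sb E1141 (iv D2250)))).symm
theorem E1559 : n12708 = n9950 := (((F41758).symm.trans (sb E1146 F52816))).symm
theorem E1561 : n7960 = n5770 := ((((iv F19669)).symm.trans (sb E1148 (iv F26633)))).symm
theorem E1572 : n13194 = n5269 := ((((iv F17951)).symm.trans (sb E1167 F54742))).symm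
theorem E1573 : n4903 = n1063 := (((iv F16804)).symm.trans (sb E1168 (tr (iv D16843) E1360)))
theorem E1575 : n3182 = n654 := ((D3182).symm.trans (sb E1170 (tr F54759 E1364)))
theorem E1578 : n4898 = n602 := (((F3005).symm.trans (sb E1174 (iv F16785)))).symm
theorem E1579 : n2946 = n601 := ((((iv D802)).symm.trans (sb E1174 (iv D3807)))).symm
theorem E1580 : n1802 = n1780 := (((iv F6535)).symm.trans (sb E1180 F8190))
theorem E1581 : n1811 = n1055 := (((F5104).symm.trans (sb E1180 F8191))).symm
theorem E1583 : n2948 = n1054 := ((((iv D1391)).symm.trans (sb E1180 (iv F10370)))).symm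
theorem E1584 : n2840 = n1804 := (((D1804).symm.trans (sb E1180 (iv F10012)))).symm
theorem E1586 : n1140 = n1132 := (((iv F4164)).symm.trans (sb E1183 F5383))
theorem E1587 : n1144 = n646 := (((F3191).symm.trans (sb E1183 F5384))).symm
theorem E1589 : n1915 = n645 := ((((iv D860)).symm.trans (sb E1183 (iv F6871)))).symm
theorem E1591 : n1129 = n648 := (((iv F4133)).symm.trans (sb E1184 F3196))
theorem E1592 : n649 = n647 := ((F3194).symm.trans (sb E1184 (iv D862)))
theorem E1593 : n1143 = n1117 := ((D1143).symm.trans (sb E1184 (iv F4096)))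
theorem E1595 : n1772 = n1041 := (((F5041).symm.trans (sb E1186 (iv F6436)))).symm
theorem E1597 : n1774 = n1056 := (((iv F6442)).symm.trans (sb E1186 (iv D1393)))
theorem E1598 : n1807 = n1040 := ((((iv D1372)).symm.trans (sb E1186 D1807))).symm
theorem E1599 : n1060 = n1038 := ((((iv F3842)).symm.trans (sb E1187 F5120))).symm
theorem E1600 : n1040 = n596 := ((((iv D794)).symm.trans (sb E1187 (tr (iv F6551) E1598)))).symm
theorem E1602 : n2284 = n782 := (E1189).trans E1516
theorem E1603 : n1056 = n598 := (((F2940).symm.trans (sb E1602 (tr F8171 E1597)))).symm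
theorem E1605 : n601 = n589 := (((F2941).symm.trans (sb E1602 (tr (iv F10364) E1579)))).symm
theorem E1606 : n1054 = n1002 := ((((iv F3716)).symm.trans (sb E1602 (tr D2948 E1583)))).symm
theorem E1607 : n645 = n641 := (((F2942).symm.trans (sb E1602 (tr F8174 E1589)))).symm
theorem E1608 : n1039 = n1038 := (((iv D1370)).symm.trans (sb E1190 (tr F5115 E1599)))
theorem F55462 : act 0 n796 = n1058 := (sb E1191 F5031)
theorem E1611 : n1041 = n597 := ((((iv D796)).symm.trans (sb E1191 F5033))).symm
theorem E1612 : n1775 = n1016 := ((((iv F3764)).symm.trans (sb E1191 D1775))).symm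
theorem E1613 : n1764 = n1052 := ((((iv F3889)).symm.trans (sb E1191 (iv F6410)))).symm
theorem E1614 : n603 = n599 := ((F2982).symm.trans (sb E1192 F2987))
theorem E1615 : n1061 = n1015 := ((((iv F3760)).symm.trans (sb E1192 D1061))).symm
theorem E1616 : n1053 = n1051 := ((((iv F3886)).symm.trans (sb E1192 (iv F3892)))).symm
theorem E1617 : n1805 = n1737 := (((D1737).symm.trans (sb E1193 (iv F6545)))).symm
theorem E1618 : n1797 = n1726 := ((((iv F6271)).symm.trans (sb E1193 (iv F6519)))).symm
theorem E1619 : n2270 = n790 := (E1195).trans E1205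
theorem E1620 : n1763 = n1051 := (((D1051).symm.trans (sb E1619 F8127))).symm
theorem E1621 : n1762 = n1052 := (((D1052).symm.trans (sb E1619 (iv D2270)))).symm
theorem E1622 : n2923 = n1010 := ((((iv F3745)).symm.trans (sb E1619 (iv F10294)))).symm
theorem E1623 : n1772 = n597 := (E1595).trans E1611
theorem E1625 : n2931 = n1791 := ((((iv F6500)).symm.trans (sb E1197 D2931))).symm
theorem E1627 : n2986 = n1048 := ((((iv F3876)).symm.trans (sb E1204 D2986))).symm
theorem E1628 : n1768 = n1010 := ((F8151).symm.trans (sb E1199 (tr (iv F10293) E1622)))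
theorem E1629 : n2979 = n2828 := ((((iv F9972)).symm.trans (sb E1199 D2979))).symm
theorem E1630 : n1800 = n1753 := (E1217).trans E1286
theorem E1631 : n1801 = n1761 := ((((iv F6398)).symm.trans (sb E1200 D1801))).symm
theorem E1632 : n1765 = n1033 := ((((iv F3826)).symm.trans (sb E1201 (iv F6412)))).symm
theorem E1633 : n1049 = n1035 := ((D1049).symm.trans (sb E1201 F5011))
theorem E1634 : n1050 = n1034 := ((D1050).symm.trans (sb E1201 (iv D1363)))
theorem E1637 : n2869 = n1793 := (((D1793).symm.trans (sb E1202 (iv F10107)))).symm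
theorem E1640 : n2948 = n1002 := (E1583).trans E1606
theorem E1641 : n1761 = n1702 := (((iv F6398)).symm.trans (sb E1207 (iv F6186)))
theorem E1642 : n1801 = n1702 := (E1631).trans E1641
theorem E1643 : n2982 = n2825 := (((D2825).symm.trans (sb E1208 (iv F10486)))).symm
theorem E1645 : n2972 = n2868 := (((F12860).symm.trans (sb E1211 F13315))).symm
theorem E1647 : n4766 = n2968 := (((F13293).symm.trans (sb E1212 F20716))).symm
theorem E1650 : n2918 = n2871 := (((iv F10273)).symm.trans (sb E1213 F12867))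
theorem F55470 : act 0 n1387 = n1790 := (sb E1215 F8111)
theorem E1653 : n2254 = n1387 := (((iv F8067)).symm.trans (sb E1630 (iv D1800)))
theorem E1654 : n2263 = n2180 := ((((iv F7810)).symm.trans (sb E1630 (tr D2321 E1482)))).symm
theorem E1677 : n4982 = n2965 := (((F13265).symm.trans (sb E1234 (iv F17065)))).symm
theorem E1688 : n9804 = n7661 := ((((iv F25705)).symm.trans (sb E1244 (iv F32580)))).symm
theorem E1689 : n5979 = n4663 := ((((iv D5980)).symm.trans (sb E1244 (iv D7662)))).symm
theorem E1695 : n2259 = n1047 := (((E1284).symm.trans (((iv D2258)).symm.trans (sb E1249 F10249)))).symm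
theorem E1700 : n3757 = n2808 := ((((iv D3621)).symm.trans (sb E1253 F16583))).symm
theorem E1701 : n3750 = n1753 := ((((iv D2257)).symm.trans (sb E1254 (iv F13032)))).symm
theorem E1720 : n10443 = n5978 := ((((iv F20304)).symm.trans (sb E1272 (iv F34557)))).symm
theorem E1721 : n6376 = n3623 := ((((iv D4663)).symm.trans (sb E1272 (iv D8175)))).symm
theorem E1722 : n2181 = n1378 := (((iv D2809)).symm.trans (sb E1273 (tr F17012 E1483)))
theorem E1730 : n2321 = n2180 := (E1482).trans E1654
theorem E1736 : n2257 = n1358 := ((((iv F4994)).symm.trans (sb E1284 (iv F8077)))).symm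
theorem E1737 : n1379 = n1355 := ((D1379).symm.trans (sb E1284 F6372))
theorem E1739 : n1380 = n1354 := ((D1380).symm.trans (sb E1284 (iv D1754)))
theorem F55495 : act 2 n1753 = n1361 := (sb E1286 F6391)
theorem E1741 : n2945 = n1043 := ((((iv F3857)).symm.trans (sb E1287 (tr F54265 E1313)))).symm
theorem E1742 : n3894 = n3828 := ((F13508).symm.trans (sb E1291 F16880))
theorem E1743 : n4927 = n3828 := (E1291).trans E1742
theorem E1744 : n6318 = n4925 := ((((iv F16875)).symm.trans (sb E1743 (iv F21373)))).symm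
theorem E1745 : n6321 = n4928 := (((D4928).symm.trans (sb E1743 D6321))).symm
theorem E1747 : n5002 = n4925 := (((iv F17138)).symm.trans (sb E1292 (tr F27023 E1744)))
theorem E1748 : n10359 = n5000 := ((((iv F17129)).symm.trans (sb E1292 (iv F34275)))).symm
theorem E1749 : n10363 = n3224 := (((F13489).symm.trans (sb E1292 D10363))).symm
theorem E1750 : n6309 = n3011 := ((((iv D3888)).symm.trans (sb E1292 (iv D8090)))).symm
theorem E1751 : n10365 = n3230 := ((((iv F11250)).symm.trans (sb E1293 D10365))).symm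
theorem E1759 : n16758 = n3205 := ((((iv D4133)).symm.trans (sb E1296 (iv F54482)))).symm
theorem E1764 : n10226 = n1043 := (((E1741).symm.trans (((iv F10360)).symm.trans (sb E1300 (iv F33890))))).symm
theorem E1765 : n8099 = n4925 := (E1301).trans E1747
theorem E1766 : n10367 = n6316 := ((((iv F21365)).symm.trans (sb E1765 (iv F34299)))).symm
theorem E1769 : n5009 = n4928 := ((F17160).symm.trans (sb E1302 (tr F27060 E1745)))
theorem E1770 : n8101 = n4928 := (E1302).trans E1769
theorem E1771 : n10374 = n4128 := (((F16884).symm.trans (sb E1770 D10374))).symm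
theorem E1773 : n6412 = n6316 := (((iv F21684)).symm.trans (sb E1304 (tr F43369 E1766)))
theorem E1776 : n10357 = n3886 := ((((iv D5000)).symm.trans (sb E1304 (iv D13237)))).symm
theorem E1778 : n16880 = n2502 := ((((iv D3224)).symm.trans (sb E1305 (iv F54855)))).symm
theorem E1783 : n4160 = n4128 := ((D4160).symm.trans (sb E1307 (tr F43389 E1771)))
theorem E1788 : n16679 = n3797 := ((((iv F13181)).symm.trans (sb E1311 (iv F54281)))).symm
theorem E1790 : n16682 = n2465 := ((((iv F8721)).symm.trans (sb E1312 (iv F54294)))).symm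
theorem E1791 : n13066 = n1043 := (E1313).trans E1741
theorem E1792 : n3797 = n1376 := (((D1376).symm.trans (sb E1791 (tr (iv F54283) E1788)))).symm
theorem E1793 : n2465 = n855 := (((F3860).symm.trans (sb E1791 (tr D16682 E1790)))).symm
theorem E1799 : n3888 = n3826 := ((((iv F13277)).symm.trans (sb E1318 (iv F13488)))).symm
theorem E1802 : n6308 = n3890 := ((((iv F13495)).symm.trans (sb E1319 (iv F21342)))).symm
theorem E1803 : n4119 = n2505 := (((F10595).symm.trans (sb E1319 F16856))).symm
theorem E1808 : n10360 = n5004 := ((((iv F17144)).symm.trans (sb E1322 (iv F34277)))).symm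
theorem E1809 : n10361 = n3226 := (((F13497).symm.trans (sb E1322 D10361))).symm
theorem E1810 : n6307 = n3013 := ((((iv D3890)).symm.trans (sb E1322 (iv D8088)))).symm
theorem E1811 : n6789 = n1962 := (((F8846).symm.trans (sb E1323 F27025))).symm
theorem E1814 : n6791 = n1966 := ((((iv F7036)).symm.trans (sb E1325 (iv F22865)))).symm
theorem E1820 : n10288 = n4984 := ((((iv D6395)).symm.trans (sb E1328 (iv D13151)))).symm
theorem E1826 : n9924 = n3892 := ((((iv F13501)).symm.trans (sb E1335 (iv F32921)))).symm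
theorem E1827 : n6778 = n2507 := (((F10603).symm.trans (sb E1335 F26998))).symm
theorem E1829 : n6780 = n1520 := (((F6964).symm.trans (sb E1336 (iv F22830)))).symm
theorem E1841 : n11111 = n1168 := (((F5500).symm.trans (sb E1344 (iv F36655)))).symm
theorem E1858 : n16844 = n866 := ((((iv D1147)).symm.trans (sb E1359 (iv F54735)))).symm
theorem E1865 : n2946 = n589 := (E1579).trans E1605
theorem E1870 : n10158 = n2998 := (((F13428).symm.trans (sb E1370 (iv D12976)))).symm
theorem E1872 : n10160 = n1938 := (((F8815).symm.trans (sb E1371 F42592))).symm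
theorem E1874 : n6193 = n1055 := (((E1581).symm.trans ((F8323).symm.trans (sb E1372 F26546)))).symm
theorem E1875 : n1915 = n641 := (E1589).trans E1607
theorem E1877 : n6194 = n646 := (((E1587).symm.trans ((F5418).symm.trans (sb E1373 F26551)))).symm
theorem E1880 : n3752 = n1058 := (((D1058).symm.trans (sb E1375 F16568))).symm
theorem E1882 : n16525 = n2876 := ((((iv F10131)).symm.trans (sb E1376 (iv F53794)))).symm
theorem E1891 : n6179 = n1016 := ((((iv F3764)).symm.trans (sb E1383 (iv F20943)))).symm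
theorem E1892 : n12966 = n599 := (E1385).trans E1614
theorem E1893 : n16495 = n784 := ((((iv F2947)).symm.trans (sb E1892 (iv F53702)))).symm
theorem E1896 : n8219 = n6316 := (E1387).trans E1773
theorem E1900 : n6413 = n4922 := ((((iv D6316)).symm.trans (sb E1896 (iv D8219)))).symm
theorem E1901 : n10525 = n5336 := (((F21696).symm.trans (sb E1388 D10525))).symm
theorem E1905 : n8228 = n4128 := (E1390).trans E1783
theorem E1908 : n5336 = n5303 := ((((iv F18063)).symm.trans (sb E1905 (tr (iv F34806) E1901)))).symm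
theorem E1911 : n4999 = n4922 := ((D4999).symm.trans (sb E1393 (tr F27355 E1900)))
theorem E1928 : n10304 = n3204 := ((((iv D4131)).symm.trans (sb E1405 (iv D13171)))).symm
theorem E1929 : n6273 = n4888 := ((((iv F16753)).symm.trans (sb E1406 (iv D8042)))).symm
theorem E1933 : n6275 = n3172 := ((((iv F11065)).symm.trans (sb E1409 F26885))).symm
theorem E1934 : n4889 = n1376 := (E1410).trans E1792
theorem E1936 : n4888 = n1716 := ((((iv F6236)).symm.trans (sb E1934 (tr (iv F21231) E1929)))).symm
theorem E1937 : n3172 = n1136 := (((F5056).symm.trans (sb E1934 (tr D6275 E1933)))).symm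
theorem E1941 : n4102 = n3181 := ((((iv D4101)).symm.trans (sb E1413 F17972))).symm
theorem E1942 : n4902 = n855 := (E1414).trans E1793
theorem E1945 : n3181 = n686 := (((F3178).symm.trans (sb E1942 (tr F16801 E1941)))).symm
theorem E1955 : n6273 = n1716 := (E1929).trans E1936
theorem E1956 : n11080 = n8659 := ((((iv F28825)).symm.trans (sb E1423 (iv D14154)))).symm
theorem E1975 : n16692 = n4770 := ((((iv F16372)).symm.trans (sb E1442 (iv F54315)))).symm
theorem E1977 : n10233 = n1931 := (((F8788).symm.trans (sb E1443 F42908))).symm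
theorem E1987 : n1058 = n1037 := ((((iv D1368)).symm.trans (sb E1450 (tr (iv F13038) E1880)))).symm
theorem E1997 : n9988 = n7803 := ((((iv F26130)).symm.trans (sb E1462 (iv F33125)))).symm
theorem E1999 : n3776 = n2925 := (((F13118).symm.trans (sb E1463 F16666))).symm
theorem E2002 : n3746 = n1760 := ((((iv D2268)).symm.trans (sb E1465 (iv F13017)))).symm
theorem E2003 : n3745 = n2902 := ((((iv F10216)).symm.trans (sb E1466 (iv D4817)))).symm
theorem E2006 : n2255 = n1751 := ((((iv F6361)).symm.trans (sb E1468 (iv D2906)))).symm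
theorem E2007 : n3752 = n1037 := (E1880).trans E1987
theorem E2008 : n2905 = n1387 := (E1469).trans E1653
theorem E2009 : n1790 = n1751 := ((F55470).symm.trans (sb E2008 (tr F10227 E2006)))
theorem E2010 : n2902 = n1727 := ((((iv F6275)).symm.trans (sb E2008 (tr (iv F13014) E2003)))).symm
theorem E2024 : n2871 = n2805 := ((((iv F9890)).symm.trans (sb E1730 (iv F10116)))).symm
theorem E2025 : n4977 = n1785 := ((((iv F6476)).symm.trans (sb E1483 D4977))).symm
theorem E2034 : n784 = n450 := (((F1738).symm.trans (sb E1488 (tr D16495 E1893)))).symm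
theorem E2062 : n10224 = n1044 := (((F5044).symm.trans (sb E1507 D10224))).symm
theorem E2063 : n10223 = n1713 := ((((iv F6225)).symm.trans (sb E1507 (iv F33882)))).symm
theorem E2073 : n7984 = n450 := (E1515).trans E2034
theorem E2074 : n1043 = n334 := ((((iv D450)).symm.trans (sb E2073 (tr D10226 E1764)))).symm
theorem E2075 : n1044 = n578 := ((((iv F2213)).symm.trans (sb E2073 (tr (iv F33884) E2062)))).symm
theorem E2108 : n16216 = n12713 := ((((iv F41760)).symm.trans (sb E1541 (iv F52818)))).symm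
theorem E2114 : n9947 = n7772 := ((((iv D9949)).symm.trans (sb E1544 (iv D12707)))).symm
theorem E2117 : n6211 = n4502 := ((((iv F15522)).symm.trans (sb E1547 (iv F21045)))).symm
theorem E2118 : n3763 = n2915 := ((((iv D3764)).symm.trans (sb E1547 (iv D4842)))).symm
theorem E2121 : n2249 = n1748 := ((((iv F6350)).symm.trans (sb E1550 (iv D2897)))).symm
theorem F55528 : act 1 n2261 = n2261 := (sb E1551 (iv D2914))
theorem F55529 : act 2 n1351 = n1351 := (sb E1554 (iv D1749))
theorem E2127 : n2247 = n1025 := ((((iv D1351)).symm.trans (sb E1554 (iv F8041)))).symm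
theorem E2132 : n15381 = n7774 := (((F33002).symm.trans (sb E1559 (iv F50346)))).symm
theorem E2134 : n9449 = n7384 := ((((iv F24868)).symm.trans (sb E1561 (iv F31511)))).symm
theorem E2150 : n4103 = n866 := ((F17949).symm.trans (sb E1572 (tr (iv F54734) E1858)))
theorem E2153 : n3811 = n1399 := ((((iv F5126)).symm.trans (sb E1573 F16802))).symm
theorem E2154 : n6285 = n800 := (((F3920).symm.trans (sb E1573 (iv F21269)))).symm
theorem E2155 : n3808 = n799 := ((((iv D1063)).symm.trans (sb E1573 F16804))).symm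
theorem E2156 : n6292 = n1401 := (((D1401).symm.trans (sb E1573 D6292))).symm
theorem E2158 : n2469 = n868 := ((((iv F3214)).symm.trans (sb E1575 F11096))).symm
theorem E2160 : n2466 = n487 := ((((iv D654)).symm.trans (sb E1575 (iv D3182)))).symm
theorem E2161 : n4104 = n497 := (((F2460).symm.trans (sb E1575 D4104))).symm
theorem E2164 : n3805 = n449 := ((((iv D602)).symm.trans (sb E1578 (iv D4898)))).symm
theorem E2166 : n783 = n449 := (((iv F2944)).symm.trans (sb E1865 (tr (iv F13209) E2164)))
theorem E2168 : n799 = n755 := ((((iv F2846)).symm.trans (sb E1865 (tr D3808 E2155)))).symm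
theorem E2169 : n487 = n480 := (((F2255).symm.trans (sb E1865 (tr F10365 E2160)))).symm
theorem E2170 : n2279 = n1373 := (((F6460).symm.trans (sb E1580 (iv F8155)))).symm
theorem E2172 : n2287 = n1390 := (((iv F8181)).symm.trans (sb E1580 (iv D1802)))
theorem E2173 : n2323 = n2206 := ((((iv F7901)).symm.trans (sb E1580 D2323))).symm
theorem E2174 : n1491 = n1486 := (((F6461).symm.trans (sb E1580 F6537))).symm
theorem E2175 : n1398 = n1366 := ((((iv F5021)).symm.trans (sb E1581 F6562))).symm
theorem E2176 : n2330 = n792 := ((((iv D1055)).symm.trans (sb E1581 (iv F8323)))).symm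
theorem E2177 : n2237 = n1392 := (((D1392).symm.trans (sb E1581 (iv F8002)))).symm
theorem E2178 : n1500 = n858 := (((F3899).symm.trans (sb E1581 F6564))).symm
theorem E2181 : n1390 = n764 := (((F3714).symm.trans (sb E1640 (tr F10368 E2172)))).symm
theorem E2182 : n1319 = n792 := (((iv F4846)).symm.trans (sb E1640 (tr F10369 E2176)))
theorem E2183 : n3808 = n755 := (E2155).trans E2168
theorem E2184 : n3800 = n1320 := (((D1320).symm.trans (sb E1640 (iv F13193)))).symm
theorem E2186 : n3658 = n2230 := ((((iv F7982)).symm.trans (sb E1584 (iv F12725)))).symm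
theorem E2190 : n1478 = n853 := (((F4142).symm.trans (sb E1586 (iv F5369)))).symm
theorem E2192 : n1480 = n859 := (((iv F5374)).symm.trans (sb E1586 (iv D1140)))
theorem E2193 : n1496 = n852 := ((((iv D1132)).symm.trans (sb E1586 D1496))).symm
theorem E2194 : n863 = n850 := ((((iv F3162)).symm.trans (sb E1587 F4174))).symm
theorem E2195 : n852 = n482 := ((((iv D646)).symm.trans (sb E1587 (tr (iv F5418) E2193)))).symm
theorem E2197 : n859 = n484 := (((F2423).symm.trans (sb E1875 (tr F6869 E2192)))).symm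
theorem E2199 : n2466 = n480 := (E2160).trans E2169
theorem F55536 : act 0 n648 = n861 := (sb E1591 F4133)
theorem E2203 : n853 = n483 := ((((iv D648)).symm.trans (sb E1591 F4135))).symm
theorem E2204 : n1481 = n841 := ((((iv F3137)).symm.trans (sb E1591 D1481))).symm
theorem E2205 : n489 = n485 := ((F2439).symm.trans (sb E1592 F2444))
theorem E2206 : n864 = n840 := ((((iv F3133)).symm.trans (sb E1592 D864))).symm
theorem E2207 : n1494 = n1468 := (((D1468).symm.trans (sb E1593 (iv F5413)))).symm
theorem E2208 : n1368 = n795 := (((D795).symm.trans (sb E1623 F6435))).symm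
theorem E2209 : n1373 = n763 := ((((iv F2872)).symm.trans (sb E1623 (tr (iv F8156) E2170)))).symm
theorem E2210 : n1478 = n483 := (E2190).trans E2203
theorem E2215 : n2287 = n764 := (E2172).trans E2181
theorem F55540 : act 4 n1038 = n796 := (sb E1599 (iv D1060))
theorem F55541 : act 1 n596 = n782 := (sb E1600 F3848)
theorem E2218 : n794 = n781 := ((D794).symm.trans (sb E1600 (iv D1040)))
theorem F55543 : act 4 n598 = n795 := (sb E1603 F3901)
theorem E2220 : n1383 = n791 := ((((iv F2973)).symm.trans (sb E1603 (iv F5080)))).symm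
theorem E2223 : n1333 = n1320 := (((D1320).symm.trans (sb E1606 (iv F4896)))).symm
theorem E2224 : n1381 = n1314 := ((((iv F4831)).symm.trans (sb E1606 (iv F5073)))).symm
theorem E2226 : n1366 = n1318 := (((iv F5023)).symm.trans (sb E1608 (iv F4844)))
theorem E2227 : n1398 = n1318 := (E2175).trans E2226
theorem F55544 : act 4 n597 = n782 := (sb E1611 (iv D1041))
theorem E2228 : n2282 = n1339 := (((D1339).symm.trans (sb E1612 (iv F8166)))).symm
theorem F55545 : act 0 n1052 = n1385 := (sb E1613 F6408)
theorem F55546 : act 4 n1052 = n1361 := (sb E1613 (iv D1764))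
theorem F55547 : act 2 n599 = n795 := (sb E1614 (iv F2982))
theorem E2230 : n798 = n769 := ((D798).symm.trans (sb E1614 (iv F2894)))
theorem E2231 : n1340 = n1335 := ((((iv F4902)).symm.trans (sb E1615 (iv F4916)))).symm
theorem F55548 : act 3 n1051 = n1385 := (sb E1616 (iv F5085))
theorem E2233 : n2233 = n2231 := (((iv F7991)).symm.trans (sb E1617 (iv F7984)))
theorem F55549 : act 5 n1726 = n1385 := (sb E1618 (iv D1797))
theorem F55550 : act 1 n1051 = n1361 := (sb E1620 F6405)
theorem E2235 : n1385 = n1360 := ((F55548).symm.trans (sb E1620 (iv D1763)))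
theorem E2236 : n2268 = n1330 := ((((iv F4885)).symm.trans (sb E1620 (iv F8121)))).symm
theorem E2237 : n2267 = n1331 := ((((iv F4889)).symm.trans (sb E1621 (iv F8117)))).symm
theorem E2239 : n2279 = n763 := (E2170).trans E2209
theorem E2241 : n3778 = n2217 := ((((iv F7936)).symm.trans (sb E1625 (iv F13127)))).symm
theorem E2246 : n3849 = n1327 := ((((iv F4874)).symm.trans (sb E1627 (iv F13357)))).symm
theorem E2248 : n2194 = n1328 := ((((iv F4879)).symm.trans (sb E1628 (iv F7861)))).symm
theorem E2249 : n3689 = n3641 := ((((iv F12668)).symm.trans (sb E1629 (iv F12824)))).symm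
theorem E2251 : n2227 = n2188 := ((((iv F7838)).symm.trans (sb E1642 (iv F7972)))).symm
theorem E2253 : n2191 = n1359 := ((((iv F4999)).symm.trans (sb E1632 (iv F7850)))).symm
theorem F55554 : act 1 n1035 = n789 := (sb E1633 (iv D1049))
theorem F55555 : act 4 n1035 = n790 := (sb E1633 F3880)
theorem F55556 : act 0 n1034 = n1361 := (sb E1634 (iv F5005))
theorem F55557 : act 3 n1034 = n789 := (sb E1634 (iv D1050))
theorem E2254 : n1382 = n1313 := ((((iv F4825)).symm.trans (sb E1634 (iv F5075)))).symm
theorem E2255 : n2269 = n2188 := (((iv F8124)).symm.trans (sb E1637 (tr F10106 E2251)))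
theorem F55558 : act 5 n1702 = n1361 := (sb E1641 F6398)
theorem E2259 : n3692 = n3638 := ((((iv F12661)).symm.trans (sb E1643 (iv F12833)))).symm
theorem E2261 : n3768 = n2226 := (((F10102).symm.trans (sb E1645 (iv F13094)))).symm
theorem E2262 : n3832 = n3702 := (((D3702).symm.trans (sb E1645 (iv F13297)))).symm
theorem F55560 : act 5 n2868 = n2303 := (sb E1645 (iv D2972))
theorem E2264 : n3764 = n3704 := (((iv F13079)).symm.trans (sb E1647 F16357))
theorem E2265 : n6104 = n3678 := ((((iv F12790)).symm.trans (sb E1647 (iv F20685)))).symm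
theorem E2271 : n2918 = n2805 := (E1650).trans E2024
theorem E2272 : n2303 = n2178 := ((((iv D2805)).symm.trans (sb E2271 F10273))).symm
theorem E2273 : n3704 = n3617 := (((D3617).symm.trans (sb E2271 (tr (iv F13080) E2264)))).symm
theorem E2274 : n3614 = n2226 := (((iv F12576)).symm.trans (sb E2271 (tr D3768 E2261)))
theorem F55562 : act 4 n1387 = n1753 := (sb E1653 F8067)
theorem E2275 : n1787 = n1695 := ((((iv D2180)).symm.trans (sb E1654 F8099))).symm
theorem E2276 : n2808 = n1757 := ((D2808).symm.trans (sb E1654 (iv D2263)))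
theorem E2301 : n4133 = n2485 := (((F10428).symm.trans (sb E1677 F17068))).symm
theorem E2309 : n12523 = n9806 := ((((iv F32586)).symm.trans (sb E1688 (iv F41220)))).symm
theorem E2310 : n7659 = n5978 := ((((iv D7661)).symm.trans (sb E1688 (iv D9804)))).symm
theorem E2311 : n4662 = n3623 := ((((iv D4663)).symm.trans (sb E1689 (iv D5979)))).symm
theorem E2320 : n1755 = n1355 := (((E1737).symm.trans ((D1379).symm.trans (sb E1695 F8084)))).symm
theorem E2325 : n3757 = n1757 := (E1700).trans E2276
theorem F55580 : act 3 n1757 = n4825 := (sb E2325 (iv F16559))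
theorem E2327 : n4825 = n2180 := ((((iv F7810)).symm.trans (sb E1701 D4825))).symm
theorem E2344 : n13347 = n7660 := (((D7660).symm.trans (sb E1720 D13347))).symm
theorem E2345 : n8152 = n4661 := ((((iv D5978)).symm.trans (sb E1720 (iv D10443)))).symm
theorem E2346 : n2810 = n1785 := ((F12610).symm.trans (sb E1721 (tr F21562 E2025)))
theorem E2347 : n1786 = n1696 := ((D1786).symm.trans (sb E1722 F7813))
theorem F55592 : act 3 n1358 = n1753 := (sb E1736 (iv D2257))
theorem F55593 : act 1 n1355 = n1047 := (sb E1737 (iv D1379))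
theorem F55594 : act 3 n1354 = n1047 := (sb E1739 (iv D1380))
theorem E2370 : n2945 = n334 := (E1741).trans E2074
theorem E2372 : n1376 = n432 := ((((iv F1677)).symm.trans (sb E2370 (tr (iv F13183) E1792)))).symm
theorem E2373 : n855 = n270 := (((F1308).symm.trans (sb E2370 (tr F10362 E1793)))).symm
theorem E2379 : n8086 = n3886 := ((((iv D5000)).symm.trans (sb E1748 (iv D10359)))).symm
theorem E2380 : n13243 = n4153 := ((((iv F14302)).symm.trans (sb E1749 D13243))).symm
theorem E2381 : n13224 = n2502 := ((((iv D3224)).symm.trans (sb E1749 (iv F43329)))).symm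
theorem E2382 : n8074 = n2334 := ((((iv D3011)).symm.trans (sb E1750 (iv F26979)))).symm
theorem E2383 : n8698 = n2528 := (((F11249).symm.trans (sb E1751 F34289))).symm
theorem E2389 : n13123 = n2486 := ((((iv D3205)).symm.trans (sb E1759 (iv D16758)))).symm
theorem E2390 : n3797 = n432 := (E1792).trans E2372
theorem E2392 : n2465 = n270 := (E1793).trans E2373
theorem E2401 : n5000 = n4923 := (((F21364).symm.trans (sb E1773 F21684))).symm
theorem E2403 : n13218 = n3010 := ((((iv D3886)).symm.trans (sb E1776 (iv F43310)))).symm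
theorem E2404 : n13223 = n1942 := ((((iv D2502)).symm.trans (sb E1778 (iv D16880)))).symm
theorem E2412 : n1716 = n577 := ((((iv F2209)).symm.trans (sb E2390 (tr D4888 E1936)))).symm
theorem E2413 : n1136 = n353 := (((F1679).symm.trans (sb E2390 (tr F13184 E1937)))).symm
theorem E2416 : n3180 = n363 := ((((iv F1401)).symm.trans (sb E2392 D3180))).symm
theorem E2417 : n3172 = n353 := (E1937).trans E2413
theorem E2418 : n686 = n204 := (((F1055).symm.trans (sb E2392 (tr D3181 E1945)))).symm
theorem E2419 : n3224 = n3201 := (((F13278).symm.trans (sb E1799 F13489))).symm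
theorem E2422 : n7757 = n5004 := ((((iv F17144)).symm.trans (sb E1802 (iv F25984)))).symm
theorem E2423 : n5292 = n3226 := (((F13497).symm.trans (sb E1802 F21344))).symm
theorem E2424 : n4917 = n3013 := ((((iv D3890)).symm.trans (sb E1802 (iv D6308)))).symm
theorem E2425 : n5294 = n1962 := (((F8846).symm.trans (sb E1803 (iv F18031)))).symm
theorem E2432 : n13241 = n4155 := (((F17146).symm.trans (sb E1808 D13241))).symm
theorem E2433 : n8087 = n3889 := ((((iv D5004)).symm.trans (sb E1808 (iv D10360)))).symm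
theorem E2434 : n8694 = n2524 := (((F11237).symm.trans (sb E1809 F34279))).symm
theorem E2435 : n13222 = n2504 := ((((iv D3226)).symm.trans (sb E1809 (iv F43323)))).symm
theorem E2436 : n8072 = n2335 := ((((iv D3013)).symm.trans (sb E1810 (iv F26972)))).symm
theorem E2437 : n8696 = n2522 := ((((iv F8912)).symm.trans (sb E1811 (iv F28955)))).symm
theorem E2441 : n8697 = n1531 := (((F7035).symm.trans (sb E1814 (iv F28958)))).symm
theorem E2446 : n13120 = n3870 := ((((iv D4984)).symm.trans (sb E1820 (iv F43014)))).symm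
theorem E2450 : n12682 = n5006 := ((((iv F17150)).symm.trans (sb E1826 (iv F41663)))).symm
theorem E2451 : n8557 = n3228 := (((F13503).symm.trans (sb E1826 F32924))).symm
theorem E2452 : n7751 = n3015 := ((((iv D3892)).symm.trans (sb E1826 (iv D9924)))).symm
theorem E2453 : n8684 = n1964 := (((F8852).symm.trans (sb E1827 (iv F28914)))).symm
theorem E2456 : n8686 = n1168 := (((F5500).symm.trans (sb E1829 (iv F28921)))).symm
theorem E2470 : n14167 = n883 := ((((iv D1168)).symm.trans (sb E1841 (iv F46304)))).symm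
theorem E2483 : n12953 = n3708 := ((((iv F12886)).symm.trans (sb E1870 (iv F42514)))).symm
theorem E2486 : n7937 = n858 := (((E2178).symm.trans ((F6936).symm.trans (sb E1872 F33671)))).symm
theorem E2488 : n7922 = n1392 := (((D1392).symm.trans (sb E1874 (iv F26511)))).symm
theorem E2490 : n4829 = n861 := (((D861).symm.trans (sb E1877 F20987))).symm
theorem E2493 : n4820 = n1365 := ((((iv F5019)).symm.trans (sb E2007 (iv F16543)))).symm
theorem E2494 : n861 = n849 := (((F3841).symm.trans (sb E2007 (tr D4829 E2490)))).symm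
theorem E2495 : n12949 = n2236 := (((F10132).symm.trans (sb E1882 F53795))).symm
theorem E2502 : n4829 = n849 := (E2490).trans E2494
theorem E2504 : n1365 = n1338 := ((((iv F4908)).symm.trans (sb E1891 (tr F20940 E2493)))).symm
theorem E2522 : n4153 = n4125 := ((((iv D5303)).symm.trans (sb E1908 (iv D5336)))).symm
theorem E2526 : n3886 = n3824 := ((((iv D4922)).symm.trans (sb E1911 (iv D4999)))).symm
theorem E2550 : n8043 = n4088 := ((((iv F14088)).symm.trans (sb E1928 F34108))).symm
theorem E2551 : n6273 = n577 := (E1955).trans E2412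
theorem E2555 : n4088 = n474 := (((F2211).symm.trans (sb E2551 (tr D8043 E2550)))).symm
theorem E2571 : n2486 = n260 := ((((iv D353)).symm.trans (sb E2417 F11065))).symm
theorem E2593 : n14142 = n11071 := ((((iv F36509)).symm.trans (sb E1956 (iv F46209)))).symm
theorem E2608 : n13073 = n3706 := ((((iv D4770)).symm.trans (sb E1975 (iv D16692)))).symm
theorem E2609 : n7995 = n2461 := ((((iv F8709)).symm.trans (sb E1977 F33908))).symm
theorem E2617 : n4820 = n1338 := (E2493).trans E2504
theorem F55626 : act 0 n1037 = n796 := (sb E1987 (iv F55462))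
theorem E2626 : n12721 = n9957 := ((((iv F33024)).symm.trans (sb E1997 (iv F41787)))).symm
theorem E2629 : n4861 = n3635 := ((((iv F12649)).symm.trans (sb E1999 D4861))).symm
theorem E2633 : n2903 = n2252 := ((((iv F8057)).symm.trans (sb E2002 (iv D3746)))).symm
theorem E2635 : n3745 = n1727 := (E2003).trans E2010
theorem E2636 : n2252 = n2224 := ((((iv F7959)).symm.trans (sb E2635 (tr F13012 E2633)))).symm
theorem E2638 : n1752 = n1353 := ((((iv D1751)).symm.trans (sb E2006 F8070))).symm
theorem F55629 : act 3 n1751 = n1751 := (sb E2006 (iv D2255))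
theorem E2639 : n2903 = n2224 := (E2633).trans E2636
theorem F55630 : act 0 n1751 = n1387 := (sb E2009 (iv F55470))
theorem F55635 : act 0 n450 = n599 := (sb E2034 F2947)
theorem F55636 : act 4 n450 = n589 := (sb E2034 (iv D784))
theorem E2675 : n10224 = n578 := (E2062).trans E2075
theorem E2676 : n13062 = n767 := ((((iv F2885)).symm.trans (sb E2675 (iv F42863)))).symm
theorem E2678 : n1323 = n767 := ((F6224).symm.trans (sb E2063 (tr D13062 E2676)))
theorem E2709 : n12709 = n9951 := (((F41761).symm.trans (sb E2108 F52820))).symm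
theorem E2714 : n12059 = n6067 := (((F26031).symm.trans (sb E2114 (iv F39818)))).symm
theorem E2718 : n7382 = n5769 := ((((iv F19664)).symm.trans (sb E2117 (iv F24861)))).symm
theorem F55641 : act 1 n2915 = n2915 := (sb E2118 F13075)
theorem F55642 : act 2 n1748 = n1748 := (sb E2121 (iv D2249))
theorem E2724 : n2896 = n2248 := ((((iv F8045)).symm.trans (sb E2121 (iv F10194)))).symm
theorem E2725 : n2892 = n1350 := ((((iv D1748)).symm.trans (sb E2121 (iv F10180)))).symm
theorem E2731 : n1746 = n1348 := ((((iv F4953)).symm.trans (sb E2127 (iv D2247)))).symm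
theorem E2733 : n12062 = n9447 := ((((iv F31502)).symm.trans (sb E2132 F50345))).symm
theorem E2734 : n12067 = n5775 := (((F24871).symm.trans (sb E2134 D12067))).symm
theorem E2741 : n8086 = n3824 := (E2379).trans E2526
theorem E2745 : n3186 = n1146 := ((((iv F4180)).symm.trans (sb E2150 F14133))).symm
theorem E2747 : n3183 = n651 := ((((iv D866)).symm.trans (sb E2150 F14135))).symm
theorem E2748 : n5276 = n1148 := (((D1148).symm.trans (sb E2150 D5276))).symm
theorem E2749 : n5277 = n660 := (((F3209).symm.trans (sb E2150 D5277))).symm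
theorem E2751 : n2950 = n1062 := ((((iv D1399)).symm.trans (sb E2153 F13229))).symm
theorem E2752 : n4907 = n1813 := (((D1813).symm.trans (sb E2153 D4907))).symm
theorem E2753 : n4899 = n600 := ((((iv D800)).symm.trans (sb E2154 F21271))).symm
theorem E2755 : n1062 = n575 := (((F2845).symm.trans (sb E2183 (tr F13219 E2751)))).symm
theorem E2756 : n1003 = n600 := (((iv F3719)).symm.trans (sb E2183 (tr (iv F16790) E2753)))
theorem E2757 : n4891 = n1004 := (((D1004).symm.trans (sb E2183 (iv F16764)))).symm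
theorem E2758 : n651 = n628 := (((F2848).symm.trans (sb E2183 (tr F13221 E2747)))).symm
theorem E2759 : n8046 = n1741 := ((((iv F6318)).symm.trans (sb E2156 (iv F26888)))).symm
theorem E2760 : n1916 = n653 := ((((iv D868)).symm.trans (sb E2158 (iv D2469)))).symm
theorem E2761 : n3187 = n662 := (((F3217).symm.trans (sb E2158 D3187))).symm
theorem E2763 : n653 = n361 := (((F1840).symm.trans (sb E2199 (tr F8723 E2760)))).symm
theorem E2764 : n642 = n363 := (((iv F2427)).symm.trans (sb E2199 (tr (iv F11091) E2416)))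
theorem E2765 : n3183 = n628 := (E2747).trans E2758
theorem E2766 : n3184 = n387 := (((F1841).symm.trans (sb E2199 D3184))).symm
theorem E2767 : n387 = n369 := ((((iv D497)).symm.trans (sb E2161 (tr F14137 E2766)))).symm
theorem E2770 : n2950 = n575 := (E2751).trans E2755
theorem E2771 : n1916 = n361 := (E2760).trans E2763
theorem F55647 : act 1 n449 = n589 := (sb E2166 F2944)
theorem E2775 : n602 = n588 := ((D602).symm.trans (sb E2166 (iv D783)))
theorem E2777 : n1019 = n1004 := (((D1004).symm.trans (sb E2168 (iv F3772)))).symm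
theorem F55648 : act 4 n480 = n364 := (sb E2169 F1857)
theorem E2779 : n1770 = n1015 := (((D1015).symm.trans (sb E2239 F8154))).symm
theorem E2780 : n2941 = n1013 := ((((iv F3756)).symm.trans (sb E2239 D2941))).symm
theorem E2786 : n2944 = n1017 := (((D1017).symm.trans (sb E2215 (iv F10357)))).symm
theorem E2787 : n1918 = n632 := (((F2876).symm.trans (sb E2215 F8182))).symm
theorem E2788 : n1713 = n1013 := ((F7900).symm.trans (sb E2173 (tr (iv F10348) E2780)))
theorem E2789 : n2873 = n2837 := ((((iv F10000)).symm.trans (sb E2173 (iv F10124)))).symm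
theorem E2790 : n2998 = n1712 := ((((iv D2206)).symm.trans (sb E2173 D2998))).symm
theorem E2791 : n1931 = n1888 := (((F7902).symm.trans (sb E2173 F8303))).symm
theorem E2793 : n1137 = n632 := (((E2787).symm.trans (((iv F6879)).symm.trans (sb E2174 (iv D1491))))).symm
theorem E2794 : n1738 = n1707 := ((((iv F6206)).symm.trans (sb E2227 (iv F6308)))).symm
theorem E2795 : n1145 = n1106 := (((F4845).symm.trans (sb E2227 F5125))).symm
theorem E2797 : n1712 = n1012 := ((((iv F3752)).symm.trans (sb E2176 (tr (iv F10538) E2790)))).symm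
theorem E2799 : n1771 = n1707 := (((iv F6432)).symm.trans (sb E2177 (tr F8000 E2794)))
theorem E2800 : n2880 = n1732 := ((((iv F6292)).symm.trans (sb E2177 (iv F10143)))).symm
theorem F55652 : act 5 n1392 = n1737 := (sb E2177 (iv D2237))
theorem E2801 : n1902 = n1139 := (((F5108).symm.trans (sb E2177 F8003))).symm
theorem E2802 : n1126 = n1106 := (((iv F4123)).symm.trans (sb E2178 (tr F5429 E2795)))
theorem E2805 : n1730 = n1017 := (((D1017).symm.trans (sb E2181 (iv F6286)))).symm
theorem E2807 : n1710 = n1036 := ((((iv F3836)).symm.trans (sb E2182 (iv F6213)))).symm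
theorem F55653 : act 1 n792 = n1002 := (sb E2182 F4846)
theorem E2808 : n1055 = n1001 := ((D1055).symm.trans (sb E2182 (iv D1319)))
theorem E2809 : n1107 = n644 := (((F2976).symm.trans (sb E2182 F4848))).symm
theorem E2810 : n2998 = n1012 := (E2790).trans E2797
theorem E2811 : n4700 = n1709 := ((((iv F6211)).symm.trans (sb E2184 (iv F16152)))).symm
theorem E2813 : n4708 = n2874 := ((((iv F10126)).symm.trans (sb E2186 (iv F16175)))).symm
theorem E2814 : n1731 = n1709 := (((iv D2230)).symm.trans (sb E2186 (tr (iv F16153) E2811)))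
theorem E2815 : n2876 = n2834 := ((D2876).symm.trans (sb E2186 (iv D3658)))
theorem E2820 : n1128 = n647 := (((D647).symm.trans (sb E2210 F5368))).symm
theorem F55656 : act 4 n850 = n648 := (sb E2194 (iv D863))
theorem F55657 : act 1 n482 = n641 := (sb E2195 F3168)
theorem E2826 : n646 = n640 := ((D646).symm.trans (sb E2195 (iv D852)))
theorem F55659 : act 4 n484 = n647 := (sb E2197 F3189)
theorem F55660 : act 4 n483 = n641 := (sb E2203 (iv D853))
theorem E2828 : n1913 = n1118 := (((D1118).symm.trans (sb E2204 (iv F6865)))).symm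
theorem F55661 : act 0 n485 = n364 := (sb E2205 (iv D489))
theorem F55662 : act 2 n485 = n647 := (sb E2205 (iv F2439))
theorem E2829 : n650 = n637 := ((D650).symm.trans (sb E2205 (iv F2412)))
theorem E2830 : n388 = n371 := ((F1853).symm.trans (sb E2205 F1865))
theorem E2831 : n1119 = n1114 := ((((iv F4088)).symm.trans (sb E2206 (iv F4102)))).symm
theorem E2832 : n1898 = n1896 := (((iv F6823)).symm.trans (sb E2207 (iv F6817)))
theorem F55663 : act 1 n795 = n1038 := (sb E2208 F5029)
theorem F55664 : act 3 n795 = n1037 := (sb E2208 (iv D1368))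
theorem F55665 : act 0 n781 = n1038 := (sb E2218 (iv F3842))
theorem F55666 : act 3 n781 = n596 := (sb E2218 (iv D794))
theorem F55667 : act 4 n791 = n1051 := (sb E2220 F5079)
theorem E2843 : n1721 = n1704 := ((((iv F6195)).symm.trans (sb E2223 (iv F6254)))).symm
theorem F55668 : act 1 n1314 = n1048 := (sb E2224 (iv D1381))
theorem F55669 : act 5 n1318 = n1038 := (sb E2226 F5023)
theorem E2845 : n2832 = n1735 := ((((iv F6299)).symm.trans (sb E2228 (iv F9986)))).symm
theorem E2847 : n1021 = n1018 := (((iv F3781)).symm.trans (sb E2230 (iv F3769)))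
theorem F55670 : act 5 n769 = n599 := (sb E2230 (iv D798))
theorem E2848 : n1736 = n1733 := (((D1733).symm.trans (sb E2231 (iv F6301)))).symm
theorem E2850 : n2878 = n2785 := ((((iv F9817)).symm.trans (sb E2233 (iv F10137)))).symm
theorem E2851 : n2863 = n2861 := ((((iv F10080)).symm.trans (sb E2233 (iv F10087)))).symm
theorem F55673 : act 0 n1360 = n1052 := (sb E2235 (iv F55545))
theorem F55674 : act 3 n1360 = n1051 := (sb E2235 (iv F55548))
theorem E2852 : n1760 = n1726 := (((iv F6394)).symm.trans (sb E2235 (iv F55549)))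
theorem E2853 : n2925 = n1723 := ((((iv F6260)).symm.trans (sb E2236 D2925))).symm
theorem E2854 : n2817 = n1728 := (((D1728).symm.trans (sb E2237 (iv F9933)))).symm
theorem E2857 : n4678 = n2858 := (((D2858).symm.trans (sb E2241 (iv F16082)))).symm
theorem E2864 : n4749 = n1722 := (((D1722).symm.trans (sb E2246 (iv F16302)))).symm
theorem E2866 : n2823 = n1724 := (((D1724).symm.trans (sb E2248 (iv F9955)))).symm
theorem E2867 : n4747 = n4684 := ((((iv F16100)).symm.trans (sb E2249 (iv F16295)))).symm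
theorem E2868 : n2822 = n1722 := (((iv D3641)).symm.trans (sb E2249 (tr D4749 E2864)))
theorem E2870 : n2866 = n2820 := (((D2820).symm.trans (sb E2251 (iv F10094)))).symm
theorem F55677 : act 3 n1359 = n1702 := (sb E2253 (iv D2191))
theorem F55678 : act 3 n1313 = n1048 := (sb E2254 (iv D1382))
theorem E2872 : n2820 = n2819 := ((D2820).symm.trans (sb E2255 (iv F9942)))
theorem E2873 : n2866 = n2819 := (E2870).trans E2872
theorem E2877 : n4751 = n4680 := ((((iv F16089)).symm.trans (sb E2259 (iv F16309)))).symm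
theorem E2880 : n4843 = n2870 := (((D2870).symm.trans (sb E2261 (iv F16617)))).symm
theorem F55680 : act 5 n3702 = n2968 := (sb E2262 (iv D3832))
theorem E2884 : n3764 = n3617 := (E2264).trans E2273
theorem E2885 : n2968 = n2806 := (((F12587).symm.trans (sb E2884 F13079))).symm
theorem E2886 : n4652 = n4502 := ((D4652).symm.trans (sb E2884 (iv F15522)))
theorem E2887 : n4653 = n2915 := ((D4653).symm.trans (sb E2884 (iv D3764)))
theorem E2888 : n4648 = n2870 := (((iv F15980)).symm.trans (sb E2884 (tr D4843 E2880)))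
theorem E2891 : n7825 = n2850 := ((((iv D3678)).symm.trans (sb E2265 D7825))).symm
theorem E2901 : n2868 = n2803 := ((((iv F9881)).symm.trans (sb E2272 (iv F55560)))).symm
theorem F55682 : act 5 n2226 = n2805 := (sb E2274 F12576)
theorem F55683 : act 3 n1695 = n1378 := (sb E2275 (iv D1787))
theorem E2938 : n3205 = n1928 := ((((iv D2485)).symm.trans (sb E2301 (iv D4133)))).symm
theorem E2945 : n9803 = n7660 := ((((iv D9806)).symm.trans (sb E2309 (iv D12523)))).symm
theorem E2946 : n5977 = n4661 := ((((iv D5978)).symm.trans (sb E2310 (iv D7659)))).symm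
theorem E2947 : n3625 = n1785 := (((E2346).symm.trans ((F12610).symm.trans (sb E2311 F16032)))).symm
theorem F55701 : act 4 n1355 = n1355 := (sb E2320 (iv D1755))
theorem F55704 : act 3 n2180 = n1757 := (sb E2327 (iv F55580))
theorem E2990 : n16302 = n9787 := ((((iv F32518)).symm.trans (sb E2344 (iv F53082)))).symm
theorem E2991 : n9996 = n5967 := ((((iv F20267)).symm.trans (sb E2345 (iv F33149)))).symm
theorem E2993 : n2299 = n2182 := ((D2299).symm.trans (sb E2346 F9909))
theorem E2995 : n3619 = n2300 := (((D2300).symm.trans (sb E2346 (iv F12594)))).symm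
theorem F55711 : act 1 n1696 = n1378 := (sb E2347 (iv D1786))
theorem E3036 : n10341 = n2961 := ((((iv D3824)).symm.trans (sb E2741 (iv F34223)))).symm
theorem E3037 : n13243 = n4125 := (E2380).trans E2522
theorem E3038 : n11121 = n5302 := ((((iv F18058)).symm.trans (sb E3037 F43384))).symm
theorem E3041 : n16881 = n3200 := ((((iv D4125)).symm.trans (sb E3037 (iv F54859)))).symm
theorem E3043 : n10345 = n1942 := ((((iv D2502)).symm.trans (sb E2381 (iv D13224)))).symm
theorem E3044 : n3010 = n2961 := ((D3010).symm.trans (sb E2382 (tr (iv F34221) E3036)))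
theorem E3047 : n5302 = n3246 := ((((iv F11316)).symm.trans (sb E2383 (tr (iv F36687) E3038)))).symm
theorem E3061 : n13123 = n260 := (E2389).trans E2571
theorem E3063 : n1942 = n190 := (((F1021).symm.trans (sb E3061 (tr F43021 E3043)))).symm
theorem E3075 : n4151 = n4123 := (((F16868).symm.trans (sb E2401 F17131))).symm
theorem E3079 : n13218 = n2961 := (E2403).trans E3044
theorem E3080 : n16875 = n2481 := (((F10413).symm.trans (sb E3079 D16875))).symm
theorem E3081 : n13223 = n190 := (E2404).trans E3063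
theorem E3083 : n2481 = n252 := ((((iv F996)).symm.trans (sb E3081 (tr (iv F54839) E3080)))).symm
theorem E3088 : n2140 = n768 := (((D768).symm.trans (sb E2412 (iv F7683)))).symm
theorem E3089 : n1322 = n766 := ((((iv F2882)).symm.trans (sb E2412 (iv D1716)))).symm
theorem E3096 : n4099 = n486 := ((((iv F1855)).symm.trans (sb E2416 D4099))).symm
theorem E3097 : n906 = n149 := ((((iv D204)).symm.trans (sb E2418 (iv F3362)))).symm
theorem E3098 : n516 = n275 := ((((iv F1076)).symm.trans (sb E2418 (iv D686)))).symm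
theorem E3099 : n2502 = n2482 := ((((iv D3201)).symm.trans (sb E2419 (iv D3224)))).symm
theorem E3106 : n6683 = n4155 := (((F17146).symm.trans (sb E2422 F25987))).symm
theorem E3107 : n6054 = n3889 := ((((iv D5004)).symm.trans (sb E2422 (iv D7757)))).symm
theorem E3108 : n6786 = n2524 := (((F11237).symm.trans (sb E2423 (iv F22849)))).symm
theorem E3109 : n4117 = n2504 := ((((iv D3226)).symm.trans (sb E2423 (iv D5292)))).symm
theorem E3110 : n3819 = n2335 := ((((iv D3013)).symm.trans (sb E2424 (iv D4917)))).symm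
theorem E3111 : n6788 = n2522 := ((((iv F8912)).symm.trans (sb E2425 (iv F22855)))).symm
theorem E3121 : n16879 = n3225 := ((((iv D4155)).symm.trans (sb E2432 (iv F54852)))).symm
theorem E3122 : n10342 = n3012 := ((((iv D3889)).symm.trans (sb E2433 (iv F34225)))).symm
theorem E3123 : n11118 = n3244 := ((((iv F11306)).symm.trans (sb E2434 (iv F36678)))).symm
theorem E3125 : n11100 = n1961 := ((((iv D2524)).symm.trans (sb E2434 (iv F36616)))).symm
theorem E3126 : n10343 = n1943 := ((((iv D2504)).symm.trans (sb E2435 (iv D13222)))).symm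
theorem E3127 : n6297 = n1813 := (((F8340).symm.trans (sb E2436 (iv D8072)))).symm
theorem E3128 : n11120 = n1970 := (((F8911).symm.trans (sb E2437 (iv F36684)))).symm
theorem E3129 : n11121 = n3246 := (E3038).trans E3047
theorem E3133 : n11103 = n1169 := ((((iv D1531)).symm.trans (sb E2441 (iv F36628)))).symm
theorem E3139 : n16710 = n4770 := ((((iv F16372)).symm.trans (sb E2446 (iv F54362)))).symm
theorem E3146 : n9923 = n3891 := ((((iv D5006)).symm.trans (sb E2450 (iv D12682)))).symm
theorem E3147 : n10953 = n4157 := ((((iv F14313)).symm.trans (sb E2451 (iv F36142)))).symm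
theorem E3148 : n6677 = n2506 := ((((iv D3228)).symm.trans (sb E2451 (iv D8557)))).symm
theorem E3149 : n6049 = n2337 := ((((iv D3015)).symm.trans (sb E2452 (iv D7751)))).symm
theorem E3150 : n11107 = n1529 := (((F7028).symm.trans (sb E2453 (iv F36639)))).symm
theorem E3154 : n11110 = n1527 := ((((iv F5528)).symm.trans (sb E2456 (iv F36650)))).symm
theorem E3166 : n11092 = n665 := ((((iv D883)).symm.trans (sb E2470 (iv D14167)))).symm
theorem E3180 : n16530 = n4771 := ((((iv F16376)).symm.trans (sb E2483 D16530))).symm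
theorem E3181 : n10141 = n1732 := (((E2800).symm.trans ((F12887).symm.trans (sb E2483 F42515)))).symm
theorem E3184 : n10144 = n1139 := (((D1139).symm.trans (sb E2486 (iv F33621)))).symm
theorem E3187 : n6183 = n1737 := (((F55652).symm.trans (sb E2488 F26512))).symm
theorem E3189 : n6184 = n1125 := ((((iv F4121)).symm.trans (sb E2502 (iv F20958)))).symm
theorem E3192 : n1125 = n1117 := (((F4911).symm.trans (sb E2617 (tr D6184 E3189)))).symm
theorem F55724 : act 0 n849 = n648 := (sb E2494 (iv F55536))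
theorem E3194 : n16526 = n2881 := ((((iv F10145)).symm.trans (sb E2495 D16526))).symm
theorem E3195 : n10137 = n1735 := ((((iv D2236)).symm.trans (sb E2495 F42501))).symm
theorem E3203 : n1737 = n1705 := ((D1737).symm.trans (sb E2504 (iv F6198)))
theorem F55725 : act 5 n1338 = n1037 := (sb E2504 F5019)
theorem E3247 : n3173 = n635 := (((D635).symm.trans (sb E2555 F14087))).symm
theorem E3264 : n1928 = n189 := ((((iv D260)).symm.trans (sb E2571 (tr D3205 E2938)))).symm
theorem E3285 : n11072 = n8654 := ((((iv D11071)).symm.trans (sb E2593 F46210))).symm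
theorem E3292 : n16691 = n4768 := ((((iv F16366)).symm.trans (sb E2608 D16691))).symm
theorem E3296 : n6241 = n1912 := (((F8708).symm.trans (sb E2609 F26741))).symm
theorem E3297 : n10239 = n3123 := ((((iv F10926)).symm.trans (sb E2609 (iv F33926)))).symm
theorem E3314 : n15981 = n7779 := ((((iv D9957)).symm.trans (sb E2626 (iv F52157)))).symm
theorem E3318 : n5998 = n4676 := ((((iv F16077)).symm.trans (sb E2629 (iv F20364)))).symm
theorem E3322 : n2867 = n2253 := ((D2867).symm.trans (sb E2639 F10220))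
theorem E3323 : n3747 = n2803 := (((E2901).symm.trans ((D2868).symm.trans (sb E2639 D3747)))).symm
theorem E3324 : n6183 = n1705 := (E3187).trans E3203
theorem E3325 : n2253 = n1750 := ((E3322).symm.trans ((D2867).symm.trans (sb E2636 (iv D2252))))
theorem F55754 : act 5 n2224 = n1751 := (sb E2636 F8058)
theorem F55755 : act 3 n1353 = n1353 := (sb E2638 (iv D1752))
theorem E3327 : n2867 = n1750 := (E3322).trans E3325
theorem E3383 : n1663 = n1022 := (((D1022).symm.trans (sb E2678 (iv F6051)))).symm
theorem E3419 : n16218 = n11761 := ((((iv F38841)).symm.trans (sb E2709 D16218))).symm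
theorem E3427 : n9445 = n7381 := ((((iv F24857)).symm.trans (sb E2714 F39817))).symm
theorem F55762 : act 2 n5769 = n5769 := (sb E2718 F24862)
theorem E3433 : n5768 = n4501 := ((((iv D5769)).symm.trans (sb E2718 (iv D7382)))).symm
theorem E3434 : n9450 = n4505 := (((F19666).symm.trans (sb E2718 D9450))).symm
theorem F55763 : act 2 n2248 = n2248 := (sb E2724 (iv D2896))
theorem E3440 : n3737 = n1822 := (((F8044).symm.trans (sb E2724 D3737))).symm
theorem E3441 : n2542 = n1747 := ((((iv D2248)).symm.trans (sb E2724 F10196))).symm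
theorem E3442 : n2245 = n1744 := ((((iv F6329)).symm.trans (sb E2725 (iv D2892)))).symm
theorem F55764 : act 6 n1348 = n1348 := (sb E2731 (iv D1746))
theorem E3448 : n2246 = n1023 := ((((iv D1348)).symm.trans (sb E2731 (iv F8038)))).symm
theorem E3449 : n15387 = n7388 := (((F31505).symm.trans (sb E2733 D15387))).symm
theorem E3450 : n9460 = n7390 := ((((iv F24890)).symm.trans (sb E2734 F39848))).symm
theorem E3464 : n2470 = n865 := ((((iv D1146)).symm.trans (sb E2745 F11109))).symm
theorem E3465 : n4107 = n1502 := (((D1502).symm.trans (sb E2745 D4107))).symm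
theorem E3466 : n4108 = n875 := (((F4183).symm.trans (sb E2745 D4108))).symm
theorem E3469 : n865 = n472 := (((F2385).symm.trans (sb E2765 (tr F11099 E3464)))).symm
theorem E3470 : n835 = n486 := (((iv F3120)).symm.trans (sb E2765 (tr (iv F14122) E3096)))
theorem E3471 : n4091 = n836 := (((D836).symm.trans (sb E2765 (iv F14097)))).symm
theorem E3472 : n4105 = n514 := (((F2387).symm.trans (sb E2765 D4105))).symm
theorem E3473 : n6744 = n1472 := ((((iv F5351)).symm.trans (sb E2748 (iv F22708)))).symm
theorem E3475 : n514 = n494 := ((((iv D660)).symm.trans (sb E2749 (tr F17977 E3472)))).symm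
theorem E3476 : n3802 = n765 := (((D765).symm.trans (sb E2770 (iv F13200)))).symm
theorem E3477 : n2470 = n472 := (E3464).trans E3469
theorem E3478 : n6280 = n2239 := ((((iv F8009)).symm.trans (sb E2752 (iv F21253)))).symm
theorem F55768 : act 1 n600 = n755 := (sb E2756 F3719)
theorem E3483 : n800 = n754 := ((D800).symm.trans (sb E2756 (iv D1003)))
theorem E3484 : n6276 = n1281 := ((((iv F4718)).symm.trans (sb E2757 (iv F21241)))).symm
theorem E3486 : n844 = n836 := (((D836).symm.trans (sb E2758 (iv F3144)))).symm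
theorem E3487 : n9890 = n2240 := ((((iv F8013)).symm.trans (sb E2759 (iv F32827)))).symm
theorem E3488 : n1342 = n1281 := (((iv D1741)).symm.trans (sb E2759 (tr (iv D8046) E3484)))
theorem E3489 : n2471 = n290 := (((F1396).symm.trans (sb E2771 D2471))).symm
theorem E3490 : n496 = n290 := (((iv D662)).symm.trans (sb E2761 (tr F11111 E3489)))
theorem F55769 : act 1 n363 = n480 := (sb E2764 F2427)
theorem E3494 : n488 = n479 := ((D488).symm.trans (sb E2764 (iv D642)))
theorem E3495 : n4105 = n494 := (E3472).trans E3475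
theorem E3496 : n497 = n289 := ((D497).symm.trans (sb E2767 (iv D387)))
theorem F55770 : act 6 n369 = n480 := (sb E2767 (iv F1841))
theorem F55771 : act 3 n588 = n449 := (sb E2775 (iv D602))
theorem F55772 : act 5 n1004 = n767 := (sb E2777 F3773)
theorem E3502 : n2281 = n1335 := ((((iv F4902)).symm.trans (sb E2779 D2281))).symm
theorem E3517 : n3654 = n1337 := ((((iv F4906)).symm.trans (sb E2786 (iv F12712)))).symm
theorem E3519 : n2201 = n1336 := (((D1336).symm.trans (sb E2788 (iv F7884)))).symm
theorem F55773 : act 5 n1013 = n1320 := (sb E2788 (iv D1713))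
theorem E3520 : n1457 = n838 := (((F3757).symm.trans (sb E2788 F6226))).symm
theorem E3521 : n3706 = n3660 := ((((iv F12730)).symm.trans (sb E2789 (iv F12880)))).symm
theorem E3522 : n2228 = n1337 := (((E3517).symm.trans (((iv F12713)).symm.trans (sb E2789 (iv D2873))))).symm
theorem E3523 : n3708 = n2200 := ((((iv D2837)).symm.trans (sb E2789 D3708))).symm
theorem E3524 : n2441 = n2428 := (((F10001).symm.trans (sb E2789 F10125))).symm
theorem E3525 : n2200 = n1334 := (((D1334).symm.trans (sb E2810 (tr (iv F12886) E3523)))).symm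
theorem E3526 : n2489 = n837 := (((F3754).symm.trans (sb E2810 F10539))).symm
theorem E3528 : n1456 = n837 := (((iv D1888)).symm.trans (sb E2791 (tr D2489 E3526)))
theorem E3529 : n1461 = n842 := (((D842).symm.trans (sb E2793 (iv F5322)))).symm
theorem E3530 : n2236 = n2198 := (((D2198).symm.trans (sb E2794 (iv F7998)))).symm
theorem F55776 : act 5 n1707 = n1339 := (sb E2794 (iv D1738))
theorem E3531 : n1469 = n1451 := (((F6207).symm.trans (sb E2794 F6309))).symm
theorem F55777 : act 1 n1012 = n1320 := (sb E2797 F6221)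
theorem E3535 : n2198 = n2197 := ((D2198).symm.trans (sb E2799 (iv F7873)))
theorem E3537 : n2236 = n2197 := (E3530).trans E3535
theorem E3538 : n3715 = n2162 := ((((iv F7744)).symm.trans (sb E2800 (iv F12905)))).symm
theorem E3539 : n3708 = n1334 := (E3523).trans E3525
theorem F55778 : act 5 n1139 = n1468 := (sb E2801 (iv D1902))
theorem E3541 : n858 = n833 := ((((iv D1106)).symm.trans (sb E2802 F4123))).symm
theorem E3542 : n1454 = n848 := ((D1454).symm.trans (sb E2802 (iv D1126)))
theorem F55779 : act 5 n1106 = n850 := (sb E2802 F4125)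
theorem F55780 : act 5 n1017 = n1335 := (sb E2805 F6287)
theorem E3546 : n2217 = n1332 := ((((iv F4893)).symm.trans (sb E2805 (iv F7938)))).symm
theorem F55781 : act 1 n1036 = n1338 := (sb E2807 F6214)
theorem F55782 : act 3 n1036 = n1318 := (sb E2807 (iv D1710))
theorem F55783 : act 3 n1001 = n792 := (sb E2808 (iv D1055))
theorem F55784 : act 1 n644 = n834 := (sb E2809 F4066)
theorem E3547 : n6028 = n2133 := ((((iv F7657)).symm.trans (sb E2811 (iv F20455)))).symm
theorem E3549 : n6036 = n3589 := ((((iv F12485)).symm.trans (sb E2813 (iv F20477)))).symm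
theorem E3550 : n2229 = n2133 := (((iv D2874)).symm.trans (sb E2813 (tr (iv F20456) E3547)))
theorem E3551 : n3710 = n3656 := ((D3710).symm.trans (sb E2813 (iv D4708)))
theorem E3552 : n6042 = n3711 := (((D3711).symm.trans (sb E2813 D6042))).symm
theorem E3554 : n2230 = n1317 := ((((iv D1709)).symm.trans (sb E2814 D2230))).symm
theorem E3555 : n2218 = n2190 := ((((iv F7846)).symm.trans (sb E2814 (iv F7942)))).symm
theorem E3557 : n2834 = n1706 := ((((iv F6202)).symm.trans (iv (sb E2815 (tr (iv D2876) E3554))))).symm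
theorem E3558 : n2876 = n1706 := (E2815).trans E3557
theorem E3559 : n2444 = n1450 := (((F6203).symm.trans (sb E3558 F10133))).symm
theorem F55787 : act 1 n647 = n850 := (sb E2820 F4131)
theorem F55788 : act 3 n647 = n849 := (sb E2820 (iv D1128))
theorem F55789 : act 0 n640 = n850 := (sb E2826 (iv F3162))
theorem F55790 : act 3 n640 = n482 := (sb E2826 (iv D646))
theorem E3565 : n2423 = n1466 := ((((iv F5334)).symm.trans (sb E2828 (iv F8603)))).symm
theorem E3566 : n846 = n843 := (((iv F3151)).symm.trans (sb E2829 (iv F3142)))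
theorem F55791 : act 5 n637 = n485 := (sb E2829 (iv D650))
theorem F55792 : act 6 n371 = n485 := (sb E2830 (iv F1853))
theorem E3568 : n1467 = n1464 := (((D1464).symm.trans (sb E2831 (iv F5336)))).symm
theorem E3569 : n2446 = n2406 := ((((iv F8554)).symm.trans (sb E2832 (iv F8670)))).symm
theorem F55794 : act 1 n1704 = n1327 := (sb E2843 (iv D1721))
theorem F55795 : act 5 n1704 = n1328 := (sb E2843 F6253)
theorem F55796 : act 0 n1735 = n2231 := (sb E2845 F9985)
theorem E3579 : n3534 = n2234 := ((((iv F7993)).symm.trans (sb E2845 (iv F12320)))).symm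
theorem E3580 : n3636 = n2222 := ((((iv F7954)).symm.trans (sb E2845 (iv F12655)))).symm
theorem F55797 : act 0 n1018 = n767 := (sb E2847 (iv D1021))
theorem F55798 : act 2 n1018 = n1335 := (sb E2847 (iv F4901))
theorem E3581 : n1344 = n1298 := ((((iv F4764)).symm.trans (sb E2847 D1344))).symm
theorem F55799 : act 4 n1018 = n769 := (sb E2847 F3781)
theorem E3582 : n2232 = n2166 := ((D2232).symm.trans (sb E2848 (iv F7755)))
theorem E3583 : n2223 = n2220 := ((((iv F7948)).symm.trans (sb E2848 (iv F7957)))).symm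
theorem E3584 : n3713 = n3591 := ((((iv F12491)).symm.trans (sb E2850 (iv F12899)))).symm
theorem E3585 : n3716 = n3567 := ((((iv F12425)).symm.trans (sb E2850 D3716))).symm
theorem F55802 : act 3 n2861 = n2225 := (sb E2851 F10086)
theorem F55803 : act 1 n1726 = n1359 := (sb E2852 (iv D1760))
theorem E3587 : n2225 = n2186 := ((D2225).symm.trans (sb E2852 (iv F7829)))
theorem F55804 : act 5 n1726 = n1360 := (sb E2852 F6394)
theorem E3588 : n3635 = n2220 := (((D2220).symm.trans (sb E2853 (iv F12649)))).symm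
theorem F55805 : act 5 n1728 = n2188 := (sb E2854 F9934)
theorem E3592 : n5999 = n3688 := (((D3688).symm.trans (sb E2857 (iv F20366)))).symm
theorem E3598 : n6092 = n2213 := ((((iv F7924)).symm.trans (sb E2864 (iv F20651)))).symm
theorem E3600 : n3632 = n2221 := (((D2221).symm.trans (sb E2866 (iv F12638)))).symm
theorem E3601 : n6089 = n5991 := ((((iv F20342)).symm.trans (sb E2867 (iv F20641)))).symm
theorem E3602 : n3639 = n2213 := (((iv D4684)).symm.trans (sb E2867 (tr D6092 E3598)))
theorem E3605 : n2219 = n2189 := ((D2219).symm.trans (sb E2868 (iv D2822)))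
theorem E3606 : n3698 = n3628 := ((((iv F12627)).symm.trans (sb E2873 (iv F12852)))).symm
theorem F55809 : act 3 n2819 = n2188 := (sb E2872 (iv D2820))
theorem E3614 : n6076 = n6002 := ((((iv F20374)).symm.trans (sb E2877 (iv F20601)))).symm
theorem E3619 : n5770 = n3697 := ((((iv F12849)).symm.trans (sb E2880 (iv F19669)))).symm
theorem E3625 : n3831 = n2179 := (((F9893).symm.trans (sb E2885 (iv F13293)))).symm
theorem E3626 : n3678 = n3618 := (((D3618).symm.trans (sb E2885 (iv F12790)))).symm
theorem E3627 : n3702 = n3615 := ((((iv F12580)).symm.trans (sb E2885 (iv F55680)))).symm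
theorem F55814 : act 2 n4502 = n3617 := (sb E2886 (iv D4652))
theorem F55815 : act 4 n2915 = n3617 := (sb E2887 (iv D4653))
theorem F55816 : act 5 n2870 = n3617 := (sb E2888 F15980)
theorem E3637 : n5967 = n2211 := ((((iv D2850)).symm.trans (sb E2891 (tr (iv F33150) E2991)))).symm
theorem F55817 : act 0 n2803 = n2226 := (sb E2901 F10102)
theorem F55818 : act 4 n2803 = n2224 := (sb E2901 (iv D2868))
theorem E3689 : n3205 = n189 := (E2938).trans E3264
theorem E3693 : n2482 = n137 := (((F760).symm.trans (sb E3689 (tr F11168 E3099)))).symm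
theorem E3704 : n12500 = n9787 := ((((iv F32518)).symm.trans (sb E2945 (iv F41136)))).symm
theorem E3705 : n7645 = n2211 := (((E3637).symm.trans (((iv F20267)).symm.trans (sb E2946 (iv F25649))))).symm
theorem E3706 : n2811 = n2182 := (((E2993).symm.trans ((D2299).symm.trans (sb E2947 F12616)))).symm
theorem E3720 : n9996 = n2211 := (E2991).trans E3637
theorem E3759 : n12774 = n7646 := ((((iv D9787)).symm.trans (sb E2990 (iv D16302)))).symm
theorem E3761 : n7646 = n2657 := ((((iv F9404)).symm.trans (sb E3720 (tr D12774 E3759)))).symm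
theorem F55847 : act 1 n2182 = n1785 := (sb E2993 (iv D2299))
theorem E3762 : n2967 = n2807 := ((((iv F9897)).symm.trans (sb E2993 D2967))).symm
theorem E3764 : n4654 = n2850 := ((((iv F10045)).symm.trans (sb E2995 (iv F16003)))).symm
theorem F55848 : act 4 n2300 = n2806 := (sb E2995 (iv D3619))
theorem E3811 : n14177 = n2521 := ((((iv D3246)).symm.trans (sb E3129 (iv F46341)))).symm
theorem E3815 : n4124 = n2521 := ((D4124).symm.trans (sb E3041 (tr F54856 E3811)))
theorem E3836 : n3222 = n3199 := ((((iv D4123)).symm.trans (sb E3075 (iv D4151)))).symm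
theorem E3840 : n3194 = n340 := ((((iv F1325)).symm.trans (sb E3083 (iv F11134)))).symm
theorem E3843 : n3199 = n184 := ((((iv D252)).symm.trans (sb E3083 D3199))).symm
theorem E3844 : n2961 = n312 := ((((iv F1232)).symm.trans (sb E3083 (iv F10413)))).symm
theorem E3849 : n2752 = n988 := ((((iv F3661)).symm.trans (sb E3088 (iv F9722)))).symm
theorem E3850 : n1662 = n1020 := ((((iv F3777)).symm.trans (sb E3088 (iv D2140)))).symm
theorem F55867 : act 1 n766 = n1004 := (sb E3089 F4857)
theorem E3852 : n1110 = n634 := (((F2884).symm.trans (sb E3089 F4859))).symm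
theorem E3859 : n1195 = n107 := (((F609).symm.trans (sb E3097 D1195))).symm
theorem E3860 : n685 = n203 := ((((iv F810)).symm.trans (sb E3097 (iv D906)))).symm
theorem E3861 : n386 = n370 := (((D370).symm.trans (sb E3098 (iv D516)))).symm
theorem E3864 : n3222 = n184 := (E3836).trans E3843
theorem E3869 : n8565 = n5338 := ((((iv F18183)).symm.trans (sb E3106 (iv F28527)))).symm
theorem E3871 : n4719 = n3012 := ((((iv D3889)).symm.trans (sb E3107 (iv D6054)))).symm
theorem E3872 : n8692 = n3244 := ((((iv F11306)).symm.trans (sb E3108 (iv F28942)))).symm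
theorem E3873 : n8693 = n3248 := ((((iv F11321)).symm.trans (sb E3108 (iv F28946)))).symm
theorem E3874 : n5291 = n1961 := ((((iv D2524)).symm.trans (sb E3108 (iv D6786)))).symm
theorem E3875 : n1943 = n340 := (((iv D2504)).symm.trans (sb E3109 (tr (iv D4117) E3840)))
theorem E3876 : n2335 = n416 := ((((iv F1618)).symm.trans (iv (sb E3110 (tr F13254 E3844))))).symm
theorem E3877 : n3819 = n416 := (E3110).trans E3876
theorem E3878 : n3012 = n556 := ((((iv F2130)).symm.trans (sb E3877 (tr (iv F16207) E3871)))).symm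
theorem E3879 : n8695 = n1970 := (((F8911).symm.trans (sb E3111 (iv F28951)))).symm
theorem E3880 : n5293 = n1959 := ((((iv D2522)).symm.trans (sb E3111 (iv D6788)))).symm
theorem E3888 : n13221 = n2503 := ((((iv D3225)).symm.trans (sb E3121 (iv D16879)))).symm
theorem E3889 : n10342 = n556 := (E3122).trans E3878
theorem E3890 : n13183 = n740 := (((D740).symm.trans (sb E3889 (iv F43198)))).symm
theorem E3891 : n2503 = n460 := (((F2132).symm.trans (sb E3889 (tr D13221 E3888)))).symm
theorem E3895 : n14174 = n2520 := ((((iv D3244)).symm.trans (sb E3123 (iv F46330)))).symm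
theorem E3897 : n8676 = n1516 := ((((iv D1961)).symm.trans (sb E3125 (iv D11100)))).symm
theorem E3898 : n10343 = n340 := (E3126).trans E3875
theorem E3899 : n8073 = n461 := (((D461).symm.trans (sb E3898 F34226))).symm
theorem E3902 : n1502 = n461 := ((F6572).symm.trans (sb E3127 (tr D8073 E3899)))
theorem E3903 : n14176 = n1524 := ((((iv D1970)).symm.trans (sb E3128 (iv F46338)))).symm
theorem E3906 : n8680 = n884 := ((((iv D1169)).symm.trans (sb E3133 (iv D11103)))).symm
theorem E3908 : n3722 = n740 := ((F16373).symm.trans (sb E3139 (tr F54363 E3890)))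
theorem E3914 : n12665 = n4791 := ((((iv F16436)).symm.trans (sb E3146 (iv F41617)))).symm
theorem E3917 : n8556 = n3227 := ((((iv D4157)).symm.trans (sb E3147 (iv D10953)))).symm
theorem E3918 : n5206 = n1945 := ((((iv D2506)).symm.trans (sb E3148 (iv D6677)))).symm
theorem E3920 : n7741 = n2887 := ((((iv F10162)).symm.trans (sb E3149 (iv F25937)))).symm
theorem E3921 : n14181 = n1972 := ((((iv F7058)).symm.trans (sb E3150 (iv F46353)))).symm
theorem E3926 : n8685 = n1165 := ((((iv D1527)).symm.trans (sb E3154 (iv D11110)))).symm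
theorem E3935 : n14140 = n499 := ((((iv D665)).symm.trans (sb E3166 (iv F46203)))).symm
theorem E3941 : n12954 = n2162 := (((E3538).symm.trans ((F16377).symm.trans (sb E3180 F53810)))).symm
theorem E3942 : n7921 = n2231 := (((D2231).symm.trans (sb E3181 F33614))).symm
theorem E3946 : n7923 = n1468 := (((F55778).symm.trans (sb E3184 F33622))).symm
theorem E3949 : n2231 = n2196 := (((D2196).symm.trans (sb E3324 (tr (iv F26508) E3942)))).symm
theorem E3950 : n1468 = n1449 := (((F6200).symm.trans (sb E3324 (tr D7923 E3946)))).symm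
theorem F55872 : act 5 n1117 = n849 := (sb E3192 F4121)
theorem E3955 : n12950 = n2234 := ((((iv D2881)).symm.trans (sb E3194 F53799))).symm
theorem E3956 : n7921 = n2196 := (E3942).trans E3949
theorem E3957 : n12951 = n1466 := (((F6300).symm.trans (sb E3195 D12951))).symm
theorem F55873 : act 0 n1705 = n1339 := (sb E3203 F6303)
theorem F55874 : act 4 n1705 = n1338 := (sb E3203 (iv D1737))
theorem E4012 : n2462 = n843 := (((E3566).symm.trans ((D846).symm.trans (sb E3247 F11068)))).symm
theorem E4043 : n11070 = n499 := ((D11070).symm.trans (sb E3285 (tr (iv F46202) E3935)))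
theorem E4047 : n13085 = n6025 := ((((iv F20445)).symm.trans (sb E3292 F54314))).symm
theorem E4048 : n7999 = n2422 := ((((iv F8600)).symm.trans (sb E3296 (iv F26750)))).symm
theorem E4049 : n13086 = n4030 := ((((iv F13924)).symm.trans (sb E3297 (iv F42931)))).symm
theorem E4050 : n2420 = n1466 := (((iv D3123)).symm.trans (sb E3297 (tr (iv F42507) E3957)))
theorem E4057 : n12527 = n9807 := ((((iv F32591)).symm.trans (sb E3314 (iv D15981)))).symm
theorem E4060 : n7667 = n5983 := ((((iv F20320)).symm.trans (sb E3318 (iv F25726)))).symm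
theorem E4061 : n7635 = n3634 := ((((iv D4676)).symm.trans (sb E3318 (iv F25619)))).symm
theorem F55894 : act 1 n1750 = n2224 := (sb E3327 (iv D2867))
theorem E4066 : n2904 = n2177 := ((((iv D2803)).symm.trans (sb E3323 F13020))).symm
theorem E4067 : n4650 = n3615 := (((D3615).symm.trans (sb E3323 (iv F15987)))).symm
theorem F55895 : act 3 n1750 = n1750 := (sb E3325 (iv D2253))
theorem E4100 : n2137 = n1345 := (((D1345).symm.trans (sb E3383 (iv F7671)))).symm
theorem E4130 : n12710 = n9208 := (((F38842).symm.trans (sb E3419 F52827))).symm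
theorem F55903 : act 2 n7381 = n7381 := (sb E3427 F31495)
theorem E4135 : n7380 = n5767 := ((((iv D7381)).symm.trans (sb E3427 (iv D9445)))).symm
theorem E4136 : n12063 = n5772 := (((F24859).symm.trans (sb E3427 D12063))).symm
theorem F55904 : act 2 n4501 = n4501 := (sb E3433 (iv D5768))
theorem E4141 : n5024 = n3500 := ((((iv D4501)).symm.trans (sb E3433 F19661))).symm
theorem E4142 : n7383 = n3503 := (((F15519).symm.trans (sb E3433 D7383))).symm
theorem E4143 : n7391 = n5773 := ((((iv F19681)).symm.trans (sb E3434 F31516))).symm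
theorem E4149 : n3027 = n2346 := (((D2346).symm.trans (sb E3440 F12985))).symm
theorem E4151 : n1977 = n1532 := (((F6345).symm.trans (sb E3441 (iv D2542)))).symm
theorem F55905 : act 6 n1744 = n1744 := (sb E3442 (iv D2245))
theorem E4153 : n2018 = n1346 := ((((iv D1744)).symm.trans (sb E3442 F8032))).symm
theorem E4158 : n1745 = n1347 := (((D1347).symm.trans (sb E3448 (iv D2246)))).symm
theorem E4159 : n12076 = n9455 := ((((iv F31534)).symm.trans (sb E3449 F50369))).symm
theorem F55906 : act 6 n7390 = n7390 := (sb E3450 (iv D9460))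
theorem E4176 : n3177 = n633 := (((D633).symm.trans (sb E3477 (iv F11082)))).symm
theorem E4177 : n3188 = n385 := (((F1815).symm.trans (sb E3477 D3188))).symm
theorem E4178 : n4107 = n461 := (E3465).trans E3902
theorem E4179 : n5264 = n620 := (((D620).symm.trans (sb E4178 (iv F17934)))).symm
theorem E4180 : n5281 = n382 := (((F1777).symm.trans (sb E4178 D5281))).symm
theorem E4181 : n659 = n385 := (((iv D875)).symm.trans (sb E3466 (tr F14149 E4177)))
theorem E4182 : n1157 = n382 := ((D1157).symm.trans (sb E3466 (tr (iv F17990) E4180)))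
theorem E4187 : n1120 = n633 := (((D633).symm.trans (sb E3469 (iv F4105)))).symm
theorem F55908 : act 1 n486 = n628 := (sb E3470 F3120)
theorem E4188 : n652 = n627 := ((D652).symm.trans (sb E3470 (iv D835)))
theorem E4189 : n5260 = n1084 := ((((iv F4001)).symm.trans (sb E3471 (iv F17922)))).symm
theorem E4190 : n5262 = n683 := (((F3124).symm.trans (sb E3471 D5262))).symm
theorem E4191 : n683 = n655 := ((((iv F2462)).symm.trans (sb E3495 (tr (iv F17928) E4190)))).symm
theorem E4192 : n1904 = n620 := (((iv F6838)).symm.trans (sb E3473 (tr F22707 E4179)))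
theorem E4193 : n8523 = n1905 := ((((iv F6843)).symm.trans (sb E3473 (iv F28398)))).symm
theorem E4194 : n1121 = n1084 := (((iv D1472)).symm.trans (sb E3473 (tr (iv D6744) E4189)))
theorem E4196 : n660 = n384 := ((D660).symm.trans (sb E3475 (iv D514)))
theorem F55909 : act 6 n494 = n628 := (sb E3475 (iv F2387))
theorem E4197 : n4894 = n985 := ((((iv F3651)).symm.trans (sb E3476 (iv F16773)))).symm
theorem E4199 : n1739 = n985 := (((iv D2239)).symm.trans (sb E3478 (tr (iv D6280) E4197)))
theorem F55910 : act 3 n754 = n600 := (sb E3483 (iv D800))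
theorem E4203 : n7725 = n1660 := ((((iv F6039)).symm.trans (sb E3484 (iv F25893)))).symm
theorem F55911 : act 5 n836 = n635 := (sb E3486 F3145)
theorem E4206 : n12628 = n2794 := ((((iv F9848)).symm.trans (sb E3487 (iv F41518)))).symm
theorem E4207 : n1740 = n1660 := (((iv D2240)).symm.trans (sb E3487 (tr (iv D9890) E4203)))
theorem F55912 : act 5 n1281 = n1022 := (sb E3488 F4924)
theorem F55913 : act 0 n290 = n369 := (sb E3490 (iv D496))
theorem F55914 : act 4 n290 = n371 := (sb E3490 F1891)
theorem F55915 : act 3 n479 = n363 := (sb E3494 (iv D488))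
theorem F55916 : act 3 n289 = n369 := (sb E3496 (iv D497))
theorem E4217 : n2831 = n1733 := (((D1733).symm.trans (sb E3502 (iv F9983)))).symm
theorem E4231 : n4702 = n1681 := ((((iv F6100)).symm.trans (sb E3517 (iv F16158)))).symm
theorem E4233 : n2745 = n1734 := (((D1734).symm.trans (sb E3519 (iv F9697)))).symm
theorem F55917 : act 5 n1336 = n1709 := (sb E3519 (iv D2201))
theorem E4234 : n1883 = n1115 := (((F4905).symm.trans (sb E3519 F7885))).symm
theorem F55918 : act 5 n838 = n1108 := (sb E3520 (iv D1457))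
theorem E4235 : n4768 = n4552 := ((((iv F15672)).symm.trans (sb E3521 (iv F16366)))).symm
theorem E4238 : n4771 = n2835 := ((((iv D3660)).symm.trans (sb E3521 D4771))).symm
theorem E4240 : n3149 = n3132 := (((F12731).symm.trans (sb E3521 F12881))).symm
theorem F55920 : act 5 n1337 = n1733 := (sb E3522 F7976)
theorem E4241 : n2858 = n1725 := ((((iv F6267)).symm.trans (sb E3522 (iv F10069)))).symm
theorem E4242 : n1893 = n1116 := (((F4907).symm.trans (sb E3522 F7977))).symm
theorem E4243 : n2835 = n1678 := ((((iv F6092)).symm.trans (sb E3539 (tr (iv F16376) E4238)))).symm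
theorem E4244 : n3151 = n1113 := (((F4900).symm.trans (sb E3539 F12888))).symm
theorem E4245 : n1882 = n1113 := (((iv D2428)).symm.trans (sb E3524 (tr D3151 E4244)))
theorem F55922 : act 1 n1334 = n1709 := (sb E3525 F7880)
theorem E4246 : n1732 = n1708 := ((D1732).symm.trans (sb E3525 (iv D2200)))
theorem F55923 : act 1 n837 = n1108 := (sb E3528 F5305)
theorem F55924 : act 5 n842 = n1114 := (sb E3529 F5323)
theorem E4250 : n2881 = n2741 := ((((iv F9684)).symm.trans (sb E3537 (iv F10145)))).symm
theorem F55925 : act 5 n2197 = n1735 := (sb E3537 (iv D2236))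
theorem E4251 : n1901 = n1879 := (((F7874).symm.trans (sb E3537 F7999))).symm
theorem E4252 : n1880 = n1879 := ((D1880).symm.trans (sb E3531 (tr (iv F6830) E4251)))
theorem F55926 : act 5 n1451 = n1118 := (sb E3531 (iv D1469))
theorem E4254 : n2833 = n2741 := ((((iv F9684)).symm.trans (sb E3535 D2833))).symm
theorem F55927 : act 3 n2197 = n1707 := (sb E3535 (iv D2198))
theorem E4255 : n4778 = n2784 := ((((iv F9814)).symm.trans (sb E3538 (iv F16395)))).symm
theorem E4256 : n4771 = n1678 := (E4238).trans E4243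
theorem F55928 : act 3 n833 = n644 := (sb E3541 (iv D858))
theorem F55929 : act 1 n848 = n1117 := (sb E3542 F5299)
theorem F55930 : act 3 n848 = n1106 := (sb E3542 (iv D1454))
theorem F55931 : act 5 n1332 = n1723 := (sb E3546 F7937)
theorem E4263 : n7721 = n2744 := ((((iv F9693)).symm.trans (sb E3547 (iv F25880)))).symm
theorem E4266 : n7471 = n4615 := ((((iv F15855)).symm.trans (sb E3549 (iv F25116)))).symm
theorem E4267 : n2783 = n2744 := (((iv D3589)).symm.trans (sb E3549 (tr (iv F25882) E4263)))
theorem E4268 : n4705 = n4619 := (((D4619).symm.trans (sb E3549 (iv D6036)))).symm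
theorem E4269 : n7736 = n4620 := (((D4620).symm.trans (sb E3549 D7736))).symm
theorem E4270 : n5193 = n3104 := (((F12487).symm.trans (sb E3549 F20479))).symm
theorem E4271 : n2874 = n1657 := ((((iv D2133)).symm.trans (sb E3550 D2874))).symm
theorem E4272 : n2875 = n2731 := ((((iv F9650)).symm.trans (sb E3550 D2875))).symm
theorem E4274 : n3656 = n2130 := ((((iv F7648)).symm.trans (iv (sb E3551 (tr (iv D3710) E4271))))).symm
theorem E4275 : n3710 = n2130 := (E3551).trans E4274
theorem E4276 : n4776 = n2726 := ((((iv F9636)).symm.trans (sb E4275 D4776))).symm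
theorem E4278 : n4709 = n2726 := (((E4276).symm.trans (((iv F16392)).symm.trans (sb E3552 F20494)))).symm
theorem F55932 : act 1 n2190 = n1722 := (sb E3555 F7940)
theorem E4284 : n2859 = n2816 := ((((iv F9929)).symm.trans (sb E3555 D2859))).symm
theorem F55933 : act 5 n2190 = n1724 := (sb E3555 F7941)
theorem E4285 : n1896 = n1878 := ((((iv F6765)).symm.trans (sb E3559 F8664))).symm
theorem E4288 : n3059 = n1899 := ((((iv F6825)).symm.trans (sb E3565 (iv F10739)))).symm
theorem F55934 : act 0 n843 = n635 := (sb E3566 (iv D846))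
theorem F55935 : act 2 n843 = n1114 := (sb E3566 (iv F4087))
theorem E4289 : n1123 = n1098 := ((((iv F4037)).symm.trans (sb E3566 D1123))).symm
theorem F55936 : act 4 n843 = n637 := (sb E3566 F3151)
theorem E4290 : n684 = n657 := ((F3143).symm.trans (sb E3566 F3152))
theorem E4291 : n1897 = n1869 := ((D1897).symm.trans (sb E3568 (iv F6738)))
theorem E4292 : n2422 = n1464 := ((D2422).symm.trans (iv (sb E3568 (tr (iv F6818) E4285))))
theorem E4293 : n3156 = n3106 := ((((iv F10876)).symm.trans (sb E3569 (iv F11019)))).symm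
theorem F55937 : act 0 n2234 = n2785 := (sb E3579 F12319)
theorem E4303 : n4546 = n2788 := ((((iv F9827)).symm.trans (sb E3579 (iv F15651)))).symm
theorem E4304 : n4519 = n2882 := (((D2882).symm.trans (sb E3579 (iv F15574)))).symm
theorem F55938 : act 0 n2222 = n2861 := (sb E3580 F12652)
theorem E4305 : n4668 = n2864 := ((((iv F10089)).symm.trans (sb E3580 (iv F16053)))).symm
theorem F55939 : act 5 n2222 = n2819 := (sb E3580 (iv D3636))
theorem F55940 : act 0 n1298 = n1022 := (sb E3581 F4932)
theorem E4306 : n1742 = n1684 := ((((iv F6110)).symm.trans (sb E3581 D1742))).symm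
theorem E4307 : n2877 = n2790 := ((((iv F9833)).symm.trans (sb E3582 D2877))).symm
theorem F55941 : act 2 n2166 = n1733 := (sb E3582 (iv D2232))
theorem E4308 : n2879 = n2773 := ((((iv F9781)).symm.trans (sb E3582 D2879))).symm
theorem E4309 : n2862 = n2857 := ((D2862).symm.trans (sb E3583 (iv F10064)))
theorem F55942 : act 4 n2220 = n2861 := (sb E3583 (iv F10079))
theorem E4310 : n4622 = n4617 := ((((iv F15861)).symm.trans (sb E3584 (iv F15879)))).symm
theorem E4311 : n4779 = n4589 := ((((iv F15789)).symm.trans (sb E3584 D4779))).symm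
theorem E4312 : n4758 = n4571 := ((((iv F15737)).symm.trans (sb E3585 (iv F16330)))).symm
theorem F55943 : act 0 n2186 = n1728 := (sb E3587 F7964)
theorem E4315 : n2861 = n2818 := (((D2818).symm.trans (sb E3587 (iv F55802)))).symm
theorem F55944 : act 4 n2186 = n1726 := (sb E3587 (iv D2225))
theorem F55945 : act 1 n2220 = n2819 := (sb E3588 F12648)
theorem E4316 : n4676 = n2857 := (((E4309).symm.trans ((D2862).symm.trans (sb E3588 (iv F16077))))).symm
theorem E4322 : n7668 = n4746 := (((D4746).symm.trans (sb E3592 (iv F25728)))).symm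
theorem E4327 : n7804 = n2852 := ((((iv F10051)).symm.trans (sb E3598 (iv F26133)))).symm
theorem E4330 : n4673 = n2855 := ((((iv F10058)).symm.trans (sb E3600 (iv F16066)))).symm
theorem E4332 : n7779 = n7674 := ((((iv F25746)).symm.trans (sb E3601 (iv F26054)))).symm
theorem E4333 : n4671 = n2852 := (((iv D5991)).symm.trans (sb E3601 (tr D7804 E4327)))
theorem E4336 : n2853 = n2821 := ((D2853).symm.trans (sb E3602 (iv D3639)))
theorem F55949 : act 0 n2189 = n2819 := (sb E3605 (iv F9941))
theorem F55950 : act 4 n2189 = n1722 := (sb E3605 (iv D2219))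
theorem E4339 : n4743 = n4667 := ((((iv F16050)).symm.trans (sb E3606 (iv F16283)))).symm
theorem E4353 : n7787 = n7693 := (((D7693).symm.trans (sb E3614 D7787))).symm
theorem F55953 : act 0 n3697 = n4732 := (sb E3619 F19668)
theorem E4358 : n7384 = n4742 := ((((iv F16279)).symm.trans (sb E3619 (iv F24868)))).symm
theorem F55954 : act 5 n3697 = n4502 := (sb E3619 (iv D5770))
theorem E4359 : n4761 = n4506 := ((D4761).symm.trans (sb E3619 F19672))
theorem E4366 : n4931 = n2802 := ((((iv F9877)).symm.trans (sb E3625 (iv F16896)))).symm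
theorem F55957 : act 0 n3618 = n4502 := (sb E3626 (iv F15521))
theorem E4368 : n4731 = n4645 := ((((iv F15968)).symm.trans (sb E3626 (iv F16246)))).symm
theorem E4369 : n4732 = n4649 := ((((iv F15984)).symm.trans (sb E3626 D4732))).symm
theorem E4370 : n4655 = n4393 := ((D4655).symm.trans (sb E3626 (iv F15140)))
theorem F55958 : act 0 n3615 = n2870 := (sb E3627 F12863)
theorem E4452 : n3200 = n99 := (((F566).symm.trans (sb E3693 D3200))).symm
theorem E4465 : n9786 = n2657 := (((E3761).symm.trans (((iv D9787)).symm.trans (sb E3704 (iv D12500))))).symm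
theorem E4467 : n9762 = n2849 := (((D2849).symm.trans (sb E3705 (iv F32439)))).symm
theorem E4469 : n3620 = n2807 := ((((iv F9897)).symm.trans (sb E3706 (iv F12598)))).symm
theorem F55974 : act 5 n2182 = n2182 := (sb E3706 (iv D2811))
theorem E4541 : n9763 = n3416 := (((D3416).symm.trans (sb E3761 (iv F32443)))).symm
theorem F55982 : act 1 n2807 = n2300 := (sb E3762 F10434)
theorem E4545 : n3830 = n3613 := ((((iv F12570)).symm.trans (sb E3762 D3830))).symm
theorem E4547 : n5955 = n3677 := ((((iv F12787)).symm.trans (sb E3764 (iv F20226)))).symm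
theorem F55983 : act 4 n2850 = n3618 := (sb E3764 (iv D4654))
theorem E4603 : n2521 = n83 := (((F419).symm.trans (iv (sb E3815 (tr (iv D4124) E4452))))).symm
theorem E4604 : n4124 = n83 := (E3815).trans E4603
theorem E4605 : n1959 = n114 := ((((iv F478)).symm.trans (sb E4604 (tr (iv F18028) E3880)))).symm
theorem E4623 : n2504 = n249 := ((((iv F983)).symm.trans (sb E3864 F11223))).symm
theorem E4635 : n3544 = n1302 := ((((iv F4778)).symm.trans (sb E3849 (iv F12354)))).symm
theorem E4636 : n2138 = n1300 := ((((iv F4773)).symm.trans (sb E3849 (iv D2752)))).symm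
theorem F55997 : act 1 n1020 = n1281 := (sb E3850 F6046)
theorem E4639 : n1343 = n1280 := ((D1343).symm.trans (sb E3850 (iv D1662)))
theorem E4640 : n1424 = n845 := (((F3779).symm.trans (sb E3850 F6049))).symm
theorem F55998 : act 1 n634 = n836 := (sb E3852 F4076)
theorem E4649 : n933 = n80 := (((F449).symm.trans (sb E3859 F4368))).symm
theorem E4650 : n535 = n151 := (((F809).symm.trans (sb E3860 F2579))).symm
theorem F55999 : act 1 n370 = n289 := (sb E3861 (iv D386))
theorem E4652 : n301 = n279 := (((F1425).symm.trans (sb E3861 F1494))).symm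
theorem E4653 : n513 = n495 := ((((iv F1887)).symm.trans (sb E3861 (iv F1961)))).symm
theorem F56000 : act 6 n370 = n479 := (sb E3861 (iv F1839))
theorem E4665 : n10962 = n4183 := (((F18184).symm.trans (sb E3869 (iv F36175)))).symm
theorem E4669 : n11115 = n2532 := (((F11305).symm.trans (sb E3872 (iv F36667)))).symm
theorem E4671 : n6784 = n2520 := ((((iv D3244)).symm.trans (sb E3872 (iv D8692)))).symm
theorem E4672 : n6785 = n2523 := ((((iv D3248)).symm.trans (sb E3873 (iv D8693)))).symm
theorem E4673 : n6770 = n1516 := ((((iv D1961)).symm.trans (sb E3874 (iv F22797)))).symm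
theorem E4678 : n6787 = n1524 := ((((iv D1970)).symm.trans (sb E3879 (iv D8695)))).symm
theorem E4679 : n5293 = n114 := (E3880).trans E4605
theorem E4680 : n1524 = n89 := (((F477).symm.trans (sb E4679 (tr D6787 E4678)))).symm
theorem E4681 : n2520 = n155 := ((((iv F635)).symm.trans (sb E4679 (tr (iv F22845) E4671)))).symm
theorem E4694 : n1945 = n610 := ((((iv F2324)).symm.trans (sb E3891 F8839))).symm
theorem E4697 : n14174 = n155 := (E3895).trans E4681
theorem E4698 : n11098 = n212 := (((D212).symm.trans (sb E4697 (iv D14174)))).symm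
theorem E4700 : n1958 = n212 := (((iv F7005)).symm.trans (sb E3897 (tr (iv F36607) E4698)))
theorem E4704 : n14176 = n89 := (E3903).trans E4680
theorem E4705 : n11101 = n123 := (((D123).symm.trans (sb E4704 (iv D14176)))).symm
theorem E4707 : n1163 = n123 := (((iv F4242)).symm.trans (sb E3906 (tr (iv F36620) E4705)))
theorem E4711 : n2887 = n969 := ((((iv F3602)).symm.trans (sb E3908 F12925))).symm
theorem E4715 : n9911 = n3725 := ((((iv D4791)).symm.trans (sb E3914 (iv D12665)))).symm
theorem E4716 : n16167 = n6143 := (((D6143).symm.trans (sb E3914 D16167))).symm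
theorem E4719 : n10936 = n4084 := ((((iv F14078)).symm.trans (sb E3917 (iv F36087)))).symm
theorem E4720 : n5206 = n610 := (E3918).trans E4694
theorem E4721 : n6667 = n813 := (((D813).symm.trans (sb E4720 (iv F22471)))).symm
theorem E4722 : n7741 = n969 := (E3920).trans E4711
theorem E4724 : n3725 = n1275 := ((((iv F4695)).symm.trans (sb E4722 (tr D9911 E4715)))).symm
theorem E4725 : n11105 = n1526 := ((((iv D1972)).symm.trans (sb E3921 (iv D14181)))).symm
theorem E4729 : n11091 = n880 := ((((iv D1165)).symm.trans (sb E3926 (iv F36583)))).symm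
theorem E4741 : n16532 = n2784 := ((((iv F9814)).symm.trans (sb E3941 D16532))).symm
theorem E4742 : n10142 = n2785 := (((D2785).symm.trans (sb E3941 F42518))).symm
theorem E4745 : n2830 = n2785 := ((D2830).symm.trans (sb E3956 (tr D10142 E4742)))
theorem F56006 : act 0 n2196 = n1735 := (sb E3949 (iv F55796))
theorem F56007 : act 0 n1449 = n1118 := (sb E3950 F5338)
theorem F56008 : act 4 n1449 = n1117 := (sb E3950 (iv D1468))
theorem E4753 : n16528 = n2788 := ((((iv F9827)).symm.trans (sb E3955 D16528))).symm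
theorem E4812 : n5262 = n655 := (E4190).trans E4191
theorem E4818 : n3176 = n1098 := ((((iv F4037)).symm.trans (sb E4012 D3176))).symm
theorem E4844 : n14138 = n664 := ((((iv F2495)).symm.trans (sb E4043 D14138))).symm
theorem E4850 : n4697 = n2788 := (((iv D6025)).symm.trans (sb E4047 (tr (iv F53805) E4753)))
theorem E4853 : n7999 = n1464 := (E4048).trans E4292
theorem E4854 : n10245 = n1869 := (((E4291).symm.trans ((D1897).symm.trans (sb E4853 (iv F33941))))).symm
theorem E4855 : n3124 = n1869 := ((F13923).symm.trans (sb E4049 (tr F42930 E4854)))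
theorem F56024 : act 0 n1466 = n1878 := (sb E4050 F8593)
theorem E4867 : n9809 = n7664 := (((F32590).symm.trans (sb E4057 F41234))).symm
theorem E4874 : n9752 = n4666 := ((((iv D5983)).symm.trans (sb E4060 (iv F32406)))).symm
theorem E4876 : n5960 = n4649 := ((((iv F15983)).symm.trans (sb E4061 (iv D7635)))).symm
theorem E4881 : n3616 = n2804 := (((D2804).symm.trans (sb E4066 (iv F12584)))).symm
theorem F56030 : act 4 n3615 = n3615 := (sb E4067 (iv D4650))
theorem E4921 : n2750 = n1689 := ((((iv F6129)).symm.trans (sb E4100 (iv F9714)))).symm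
theorem E4956 : n14996 = n11758 := ((((iv F38829)).symm.trans (sb E4130 (iv F49059)))).symm
theorem F56035 : act 2 n5767 = n5767 := (sb E4135 (iv D7380))
theorem E4965 : n6442 = n4500 := ((((iv D5767)).symm.trans (sb E4135 F24853))).symm
theorem E4966 : n9446 = n4503 := (((F19658).symm.trans (sb E4135 D9446))).symm
theorem E4967 : n9456 = n7386 := ((((iv F24878)).symm.trans (sb E4136 F39833))).symm
theorem E4973 : n3906 = n3026 := (((F12211).symm.trans (sb E4141 (iv D5024)))).symm
theorem E4975 : n5774 = n4504 := (((D4504).symm.trans (sb E4142 F24865))).symm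
theorem F56036 : act 6 n5773 = n5773 := (sb E4143 (iv D7391))
theorem F56037 : act 3 n2346 = n2346 := (sb E4149 (iv D3027))
theorem E4983 : n2348 = n1823 := (((F8379).symm.trans (sb E4149 F10641))).symm
theorem E4986 : n1533 = n1172 := (((F5549).symm.trans (sb E4151 F7079))).symm
theorem F56038 : act 6 n1532 = n1532 := (sb E4151 (iv D1977))
theorem E4987 : n1567 = n1171 := ((((iv D1532)).symm.trans (sb E4151 F7081))).symm
theorem E4988 : n1566 = n1199 := (((F4944).symm.trans (sb E4153 (iv D2018)))).symm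
theorem F56039 : act 7 n1347 = n1347 := (sb E4158 (iv D1745))
theorem E4994 : n15397 = n12070 := ((((iv F39860)).symm.trans (sb E4159 (iv F50408)))).symm
theorem F56040 : act 6 n9455 = n9455 := (sb E4159 (iv D12076))
theorem E5021 : n4094 = n826 := ((((iv F3089)).symm.trans (sb E4176 (iv F14106)))).symm
theorem E5024 : n6749 = n511 := (((F2359).symm.trans (sb E4179 D6749))).symm
theorem E5025 : n1516 = n285 := ((((iv D382)).symm.trans (sb E4180 (tr D6770 E4673)))).symm
theorem F56046 : act 0 n385 = n494 := (sb E4181 (iv D659))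
theorem E5027 : n870 = n515 := (((D515).symm.trans (sb E4181 (iv F3222)))).symm
theorem E5028 : n877 = n507 := ((((iv F1937)).symm.trans (sb E4182 F4217))).symm
theorem E5029 : n1509 = n511 := (((D511).symm.trans (sb E4182 (iv F5459)))).symm
theorem E5034 : n1470 = n826 := ((((iv F3089)).symm.trans (sb E4187 D1470))).symm
theorem F56047 : act 3 n627 = n486 := (sb E4188 (iv D652))
theorem E5036 : n6651 = n1422 := ((((iv F5206)).symm.trans (sb E4189 (iv F22427)))).symm
theorem E5037 : n6745 = n895 := (((F4002).symm.trans (sb E4189 D6745))).symm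
theorem E5038 : n895 = n871 := (((D871).symm.trans (sb E4812 (tr (iv F22711) E5037)))).symm
theorem F56048 : act 6 n655 = n836 := (sb E4191 (iv F3124))
theorem E5040 : n2453 = n825 := ((((iv F3086)).symm.trans (sb E4192 (iv F8688)))).symm
theorem E5042 : n10899 = n2415 := ((((iv F8578)).symm.trans (sb E4193 (iv F35975)))).symm
theorem E5044 : n1471 = n1422 := (((iv D1905)).symm.trans (sb E4193 (tr (iv D8523) E5036)))
theorem F56049 : act 5 n1084 = n847 := (sb E4194 F4109)
theorem E5047 : n6745 = n871 := (E5037).trans E5038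
theorem F56050 : act 3 n384 = n494 := (sb E4196 (iv D660))
theorem E5052 : n2238 = n1297 := ((((iv F4761)).symm.trans (sb E4199 D2238))).symm
theorem E5055 : n9883 = n2136 := ((((iv F7668)).symm.trans (sb E4203 (iv F32807)))).symm
theorem E5057 : n15564 = n3600 := ((((iv F12521)).symm.trans (sb E4206 (iv F50876)))).symm
theorem E5059 : n2170 = n2136 := (((iv D2794)).symm.trans (sb E4206 (tr (iv D12628) E5055)))
theorem F56051 : act 5 n1660 = n1345 := (sb E4207 F6315)
theorem E5062 : n2241 = n2128 := ((((iv F7641)).symm.trans (sb E4207 D2241))).symm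
theorem E5064 : n9911 = n1275 := (E4715).trans E4724
theorem F56052 : act 1 n1733 = n2197 := (sb E4217 F9982)
theorem E5073 : n3652 = n2166 := ((((iv F55941)).symm.trans (sb E4217 (iv F12707)))).symm
theorem F56053 : act 4 n1733 = n2196 := (sb E4217 (iv D2831))
theorem E5089 : n5830 = n2165 := ((((iv F7752)).symm.trans (sb E4231 (iv F19842)))).symm
theorem F56054 : act 0 n1734 = n2166 := (sb E4233 F9696)
theorem E5092 : n3539 = n2164 := ((((iv F7749)).symm.trans (sb E4233 (iv F12336)))).symm
theorem F56055 : act 5 n1734 = n2133 := (sb E4233 (iv D2745))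
theorem E5093 : n3521 = n2235 := (((D2235).symm.trans (sb E4233 (iv F12278)))).symm
theorem E5094 : n2373 = n1465 := (((F6297).symm.trans (sb E4233 F9699))).symm
theorem F56056 : act 5 n1115 = n1453 := (sb E4234 (iv D1883))
theorem E5095 : n5918 = n5836 := ((((iv F19863)).symm.trans (sb E4235 (iv F20089)))).symm
theorem E5097 : n3705 = n2165 := (((E5089).symm.trans (((iv F19844)).symm.trans (sb E4235 (iv D4768))))).symm
theorem E5098 : n6116 = n3537 := ((((iv D4552)).symm.trans (sb E4235 D6116))).symm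
theorem E5099 : n6117 = n5841 := (((D5841).symm.trans (sb E4235 D6117))).symm
theorem E5100 : n4061 = n3956 := (((F15674).symm.trans (sb E4235 F16367))).symm
theorem E5105 : n3537 = n2161 := ((((iv F7741)).symm.trans (sb E4256 (tr (iv F20728) E5098)))).symm
theorem E5107 : n4064 = n1437 := (((F6094).symm.trans (sb E4256 F16378))).symm
theorem E5110 : n2426 = n1437 := (((iv D3132)).symm.trans (sb E4240 (tr D4064 E5107)))
theorem E5112 : n3688 = n2216 := ((((iv F7932)).symm.trans (sb E4241 D3688))).symm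
theorem F56059 : act 5 n1725 = n2220 := (sb E4241 F10068)
theorem F56060 : act 5 n1116 = n1464 := (sb E4242 F6810)
theorem E5113 : n2199 = n2162 := (((D2162).symm.trans (sb E4243 (iv D2835)))).symm
theorem F56061 : act 1 n1113 = n1453 := (sb E4245 F6775)
theorem E5114 : n1463 = n1452 := ((D1463).symm.trans (sb E4245 (iv D1882)))
theorem F56062 : act 0 n1708 = n2197 := (sb E4246 (iv F7872))
theorem F56063 : act 4 n1708 = n1334 := (sb E4246 (iv D1732))
theorem E5117 : n3596 = n3533 := ((((iv F12316)).symm.trans (sb E4250 (iv F12507)))).symm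
theorem F56064 : act 5 n2741 = n2234 := (sb E4250 (iv D2881))
theorem E5118 : n3718 = n3514 := ((((iv F12258)).symm.trans (sb E4250 D3718))).symm
theorem E5119 : n2449 = n2369 := (((F9686).symm.trans (sb E4250 F10147))).symm
theorem F56065 : act 5 n1879 = n1466 := (sb E4251 (iv D1901))
theorem E5120 : n2424 = n2369 := ((((iv F8451)).symm.trans (sb E4252 D2424))).symm
theorem F56066 : act 3 n1879 = n1451 := (sb E4252 (iv D1880))
theorem E5121 : n3655 = n3533 := ((((iv F12316)).symm.trans (sb E4254 D3655))).symm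
theorem E5123 : n5928 = n3588 := ((((iv F12482)).symm.trans (sb E4255 (iv F20124)))).symm
theorem E5124 : n6116 = n2161 := (E5098).trans E5105
theorem E5126 : n4071 = n2405 := (((F9816).symm.trans (sb E4255 F16397))).symm
theorem E5136 : n9550 = n3536 := ((((iv F12327)).symm.trans (sb E4263 (iv F31792)))).symm
theorem E5141 : n3587 = n3536 := (((iv D4615)).symm.trans (sb E4266 (tr (iv F31795) E5136)))
theorem E5142 : n5921 = n5833 := ((D5921).symm.trans (sb E4266 (iv D7471)))
theorem E5145 : n3589 = n2132 := ((((iv D2744)).symm.trans (sb E4267 D3589))).symm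
theorem E5146 : n3590 = n3520 := ((((iv F12275)).symm.trans (sb E4267 D3590))).symm
theorem E5147 : n2404 = n2372 := (((F9695).symm.trans (sb E4267 F9813))).symm
theorem E5148 : n4619 = n2740 := ((((iv F9680)).symm.trans (iv (sb E4268 (tr F16165 E4274))))).symm
theorem E5149 : n4705 = n2740 := (E4268).trans E5148
theorem E5151 : n6037 = n3513 := ((((iv F12255)).symm.trans (sb E5149 D6037))).symm
theorem E5152 : n4037 = n2368 := (((F9682).symm.trans (sb E5149 F16167))).symm
theorem E5153 : n9904 = n5886 := ((((iv F20007)).symm.trans (sb E4269 D9904))).symm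
theorem E5156 : n4010 = n2368 := ((D4010).symm.trans (sb E4270 (tr (iv D5193) E5152)))
theorem E5157 : n6662 = n4011 := (((D4011).symm.trans (sb E4270 D6662))).symm
theorem E5160 : n3691 = n3511 := ((((iv F12246)).symm.trans (sb E4272 (iv F12829)))).symm
theorem E5168 : n6006 = n3496 := ((((iv F12200)).symm.trans (sb E4278 (iv F20385)))).symm
theorem E5173 : n3680 = n3631 := ((((iv F12634)).symm.trans (sb E4284 (iv F12796)))).symm
theorem F56067 : act 5 n2816 = n2221 := (sb E4284 F10072)
theorem E5174 : n2421 = n2406 := ((D2421).symm.trans (sb E4285 (iv F8554)))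
theorem F56068 : act 0 n1899 = n2406 := (sb E4288 F10738)
theorem E5176 : n3950 = n2409 := ((((iv F8561)).symm.trans (sb E4288 (iv F13681)))).symm
theorem E5177 : n3923 = n2450 := (((D2450).symm.trans (sb E4288 (iv F13609)))).symm
theorem F56069 : act 0 n1098 = n847 := (sb E4289 F4115)
theorem E5178 : n1473 = n1443 := ((((iv F5262)).symm.trans (sb E4289 D1473))).symm
theorem E5179 : n902 = n873 := ((F4039).symm.trans (sb E4289 F4118))
theorem F56070 : act 6 n657 = n843 := (sb E4290 (iv F3143))
theorem E5180 : n2445 = n2411 := ((((iv F8566)).symm.trans (sb E4291 D2445))).symm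
theorem F56071 : act 2 n1869 = n1464 := (sb E4291 (iv D1897))
theorem F56072 : act 1 n1464 = n1879 := (sb E4292 F8599)
theorem F56073 : act 4 n1464 = n1878 := (sb E4292 (iv D2422))
theorem E5182 : n4013 = n4008 := ((((iv F13855)).symm.trans (sb E4293 (iv F13869)))).symm
theorem E5183 : n4072 = n3980 := ((((iv F13774)).symm.trans (sb E4293 D4072))).symm
theorem E5187 : n5828 = n3593 := ((((iv F12498)).symm.trans (sb E4303 (iv F19833)))).symm
theorem E5188 : n5793 = n3597 := (((D3597).symm.trans (sb E4303 (iv F19737)))).symm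
theorem F56074 : act 0 n2882 = n3567 := (sb E4304 F15571)
theorem E5189 : n5761 = n3699 := ((((iv F12854)).symm.trans (sb E4304 (iv F19639)))).symm
theorem E5190 : n5753 = n3719 := (((D3719).symm.trans (sb E4304 (iv F19605)))).symm
theorem F56075 : act 0 n2864 = n3682 := (sb E4305 F16052)
theorem E5191 : n5985 = n3685 := ((((iv F12811)).symm.trans (sb E4305 (iv F20325)))).symm
theorem F56076 : act 5 n2864 = n3628 := (sb E4305 (iv D4668))
theorem F56077 : act 0 n1684 = n1345 := (sb E4306 F6322)
theorem E5192 : n2242 = n2168 := ((((iv F7761)).symm.trans (sb E4306 D2242))).symm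
theorem E5193 : n2243 = n2159 := ((((iv F7736)).symm.trans (sb E4306 D2243))).symm
theorem E5194 : n3595 = n3592 := (((iv F12504)).symm.trans (sb E4307 (iv F12495)))
theorem E5195 : n3714 = n3576 := ((((iv F12445)).symm.trans (sb E4307 D3714))).symm
theorem E5196 : n3695 = n3560 := ((((iv F12402)).symm.trans (sb E4308 (iv F12843)))).symm
theorem F56078 : act 0 n2857 = n2221 := (sb E4309 F10082)
theorem E5198 : n3693 = n3687 := ((((iv F12816)).symm.trans (sb E4309 D3693))).symm
theorem F56079 : act 2 n2857 = n2220 := (sb E4309 (iv D2862))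
theorem E5199 : n5929 = n5883 := ((((iv F20003)).symm.trans (sb E4310 D5929))).symm
theorem E5200 : n6129 = n5885 := ((((iv F20005)).symm.trans (sb E4311 D6129))).symm
theorem E5202 : n6101 = n5861 := ((((iv F19943)).symm.trans (sb E4312 (iv F20678)))).symm
theorem F56081 : act 0 n2818 = n2222 := (sb E4315 (iv F55938))
theorem E5205 : n3682 = n3634 := (((D3634).symm.trans (sb E4315 (iv F12802)))).symm
theorem F56082 : act 4 n2818 = n2220 := (sb E4315 (iv F55942))
theorem E5206 : n5983 = n3687 := ((((iv F12816)).symm.trans (sb E4316 (iv F20320)))).symm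
theorem E5217 : n9815 = n6090 := (((D6090).symm.trans (sb E4322 D9815))).symm
theorem E5219 : n9958 = n3679 := ((((iv F12793)).symm.trans (sb E4327 (iv F33028)))).symm
theorem E5225 : n5788 = n3686 := (((D3686).symm.trans (sb E4330 (iv F19724)))).symm
theorem E5227 : n5987 = n3679 := (((iv D7674)).symm.trans (sb E4332 (tr D9958 E5219)))
theorem E5229 : n3681 = n3630 := ((D3681).symm.trans (sb E4333 (iv D4671)))
theorem E5230 : n5992 = n3552 := ((((iv F12383)).symm.trans (sb E4333 D5992))).symm
theorem F56087 : act 0 n2821 = n3628 := (sb E4336 (iv F12626))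
theorem F56088 : act 4 n2821 = n2213 := (sb E4336 (iv D2853))
theorem E5234 : n3640 = n3553 := ((D3640).symm.trans (sb E4336 (iv F12385)))
theorem E5236 : n6082 = n5982 := ((((iv F20317)).symm.trans (sb E4339 (iv F20621)))).symm
theorem E5252 : n9849 = n9608 := ((D9849).symm.trans (sb E4353 (iv F31981)))
theorem E5258 : n9447 = n6081 := ((((iv F20617)).symm.trans (sb E4358 (iv F31501)))).symm
theorem F56093 : act 5 n4742 = n5769 := (sb E4358 (iv D7384))
theorem E5259 : n6086 = n5775 := ((D6086).symm.trans (sb E4358 F24871))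
theorem F56094 : act 6 n4506 = n3697 := (sb E4359 (iv D4761))
theorem E5268 : n6068 = n3612 := ((((iv F12567)).symm.trans (sb E4366 (iv F20575)))).symm
theorem E5272 : n6067 = n5953 := ((((iv F20219)).symm.trans (sb E4368 (iv F20572)))).symm
theorem E5273 : n6070 = n5950 := ((((iv F20207)).symm.trans (sb E4368 D6070))).symm
theorem E5274 : n5956 = n5629 := ((D5956).symm.trans (sb E4368 (iv F19179)))
theorem F56096 : act 0 n4649 = n3697 := (sb E4369 (iv F55953))
theorem E5275 : n5961 = n5630 := ((D5961).symm.trans (sb E4369 (iv F19185)))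
theorem F56097 : act 6 n4393 = n3618 := (sb E4370 (iv D4655))
theorem E5363 : n12468 = n3416 := (((D3416).symm.trans (sb E4465 (iv F41031)))).symm
theorem E5366 : n12463 = n3676 := (((D3676).symm.trans (sb E4467 (iv F41015)))).symm
theorem E5367 : n7628 = n3677 := (((D3677).symm.trans (sb E4467 F32441))).symm
theorem E5369 : n4647 = n3613 := ((((iv F12570)).symm.trans (sb E4469 (iv F15975)))).symm
theorem F56118 : act 5 n2807 = n2807 := (sb E4469 (iv D3620))
theorem E5447 : n12464 = n4391 := (((D4391).symm.trans (sb E4541 (iv F41019)))).symm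
theorem E5448 : n12469 = n2665 := (((F11912).symm.trans (sb E4541 D12469))).symm
theorem E5449 : n7629 = n4392 := (((D4392).symm.trans (sb E4541 F32444))).symm
theorem E5454 : n4730 = n4646 := ((((iv F15971)).symm.trans (sb E4545 (iv F16242)))).symm
theorem E5456 : n7624 = n4729 := ((((iv F16239)).symm.trans (sb E4547 (iv F25580)))).symm
theorem F56128 : act 4 n3677 = n4645 := (sb E4547 (iv D5955))
theorem E5500 : n6784 = n155 := (E4671).trans E4681
theorem E5540 : n1946 = n336 := ((((iv F1312)).symm.trans (sb E4623 F8841))).symm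
theorem E5556 : n4556 = n1688 := ((((iv F6125)).symm.trans (sb E4635 (iv F15684)))).symm
theorem E5557 : n2748 = n1686 := ((((iv F6118)).symm.trans (sb E4635 (iv D3544)))).symm
theorem E5560 : n1687 = n1661 := ((D1687).symm.trans (sb E4636 (iv D2138)))
theorem F56145 : act 4 n1280 = n1020 := (sb E4639 (iv D1343))
theorem E5565 : n1122 = n1083 := (((F4716).symm.trans (sb E4639 F4931))).symm
theorem F56146 : act 1 n845 = n1084 := (sb E4640 F5211)
theorem E5574 : n707 = n110 := ((((iv F462)).symm.trans (sb E4649 (iv D933)))).symm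
theorem E5576 : n402 = n206 := (((D206).symm.trans (sb E4650 (iv D535)))).symm
theorem E5578 : n375 = n225 := (((iv F1446)).symm.trans (sb E4652 (iv D301)))
theorem F56147 : act 1 n495 = n384 := (sb E4653 (iv D513))
theorem E5580 : n674 = n661 := (((D661).symm.trans (sb E4653 (iv F2537)))).symm
theorem F56148 : act 6 n495 = n627 := (sb E4653 (iv F2384))
theorem E5595 : n8564 = n3247 := ((((iv D4183)).symm.trans (sb E4665 (iv D10962)))).symm
theorem E5598 : n14191 = n3256 := ((((iv F11349)).symm.trans (sb E4669 (iv F46388)))).symm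
theorem E5599 : n8690 = n1968 := ((((iv D2532)).symm.trans (sb E4669 (iv D11115)))).symm
theorem E5602 : n1968 = n120 := (((F633).symm.trans (sb E5500 (tr D8690 E5599)))).symm
theorem E5606 : n8675 = n1960 := ((((iv D2523)).symm.trans (sb E4672 (iv F28884)))).symm
theorem E5607 : n6770 = n285 := (E4673).trans E5025
theorem E5608 : n1960 = n381 := ((((iv F1472)).symm.trans (sb E5607 (tr D8675 E5606)))).symm
theorem E5613 : n8690 = n120 := (E5599).trans E5602
theorem E5636 : n8675 = n381 := (E5606).trans E5608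
theorem E5637 : n1523 = n165 := (((F845).symm.trans (sb E4700 F7004))).symm
theorem E5638 : n2519 = n286 := ((((iv F1121)).symm.trans (sb E4700 D2519))).symm
theorem E5641 : n880 = n167 := ((((iv F681)).symm.trans (sb E4707 (iv D1163)))).symm
theorem E5645 : n12666 = n1652 := ((((iv F6014)).symm.trans (sb E5064 D12666))).symm
theorem E5646 : n4792 = n1652 := ((F20809).symm.trans (sb E4716 (tr F52665 E5645)))
theorem E5651 : n8544 = n3168 := ((((iv D4084)).symm.trans (sb E4719 (iv D10936)))).symm
theorem E5654 : n3168 = n1078 := ((((iv F3983)).symm.trans (sb E4721 (tr D8544 E5651)))).symm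
theorem E5656 : n4634 = n1653 := (((D1653).symm.trans (sb E4724 (iv F15921)))).symm
theorem E5660 : n14161 = n1164 := ((((iv D1526)).symm.trans (sb E4725 (iv F46281)))).symm
theorem E5664 : n11091 = n167 := (E4729).trans E5641
theorem E5665 : n664 = n224 := (((D224).symm.trans (sb E5664 (tr (iv F46195) E4844)))).symm
theorem E5666 : n1164 = n221 := ((((iv F883)).symm.trans (sb E5664 (tr (iv F46279) E5660)))).symm
theorem E5672 : n12956 = n3591 := (((D3591).symm.trans (sb E4741 F53817))).symm
theorem E5673 : n12483 = n3567 := ((((iv F12425)).symm.trans (sb E4742 (iv F41082)))).symm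
theorem E5675 : n3591 = n3532 := (((iv F12491)).symm.trans (sb E4745 (iv F12312)))
theorem F56158 : act 2 n2785 = n2196 := (sb E4745 (iv D2830))
theorem E5744 : n4033 = n1443 := ((((iv F5262)).symm.trans (sb E4818 (iv F13934)))).symm
theorem E5763 : n5825 = n3593 := ((((iv F12498)).symm.trans (sb E4850 (iv F19822)))).symm
theorem E5768 : n3948 = n2411 := ((((iv F8566)).symm.trans (sb E4855 (iv F13676)))).symm
theorem E5771 : n12956 = n3532 := (E5672).trans E5675
theorem E5775 : n12450 = n5981 := ((((iv D7664)).symm.trans (sb E4867 (iv F40969)))).symm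
theorem E5779 : n7620 = n5950 := ((((iv F20206)).symm.trans (sb E4874 (iv D9752)))).symm
theorem F56174 : act 4 n4649 = n4649 := (sb E4876 (iv D5960))
theorem E5786 : n4643 = n3610 := ((((iv F12559)).symm.trans (sb E4881 (iv F15961)))).symm
theorem F56176 : act 4 n2804 = n2804 := (sb E4881 (iv D3616))
theorem E5804 : n3530 = n2173 := (((D2173).symm.trans (sb E4921 (iv F12307)))).symm
theorem F56179 : act 2 n11758 = n11758 := (sb E4956 (iv D14996))
theorem E5842 : n12072 = n9206 := ((((iv D11758)).symm.trans (sb E4956 F49061))).symm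
theorem E5843 : n5023 = n3905 := (((F15512).symm.trans (sb E4965 (iv D6442)))).symm
theorem E5845 : n7387 = n5771 := (((D5771).symm.trans (sb E4966 F31498))).symm
theorem E5847 : n12071 = n9452 := ((((iv F31524)).symm.trans (sb E4967 (iv F39864)))).symm
theorem F56180 : act 6 n7386 = n7386 := (sb E4967 (iv D9456))
theorem F56181 : act 3 n3026 = n3026 := (sb E4973 (iv D3906))
theorem E5853 : n3029 = n2347 := (((F10637).symm.trans (sb E4973 F13551))).symm
theorem E5856 : n4532 = n3523 := (((F15530).symm.trans (sb E4975 F19684))).symm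
theorem F56182 : act 6 n4504 = n4504 := (sb E4975 (iv D5774))
theorem E5866 : n1980 = n1408 := ((((iv D1823)).symm.trans (sb E4983 F8385))).symm
theorem F56184 : act 3 n1823 = n1823 := (sb E4983 (iv D2348))
theorem E5867 : n1825 = n1409 := (((F6609).symm.trans (sb E4983 F8387))).symm
theorem F56185 : act 6 n1172 = n1172 := (sb E4986 (iv D1533))
theorem E5871 : n1201 = n887 := ((((iv D1172)).symm.trans (sb E4986 F5555))).symm
theorem E5872 : n1200 = n909 := (((F4274).symm.trans (sb E4987 (iv D1567)))).symm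
theorem F56186 : act 7 n1199 = n1199 := (sb E4988 (iv D1566))
theorem F56187 : act 6 n12070 = n12070 := (sb E4994 (iv D15397))
theorem E5900 : n5188 = n1097 := ((((iv F4035)).symm.trans (sb E5021 (iv F17711)))).symm
theorem E5901 : n5265 = n680 := (((F3090).symm.trans (sb E5021 D5265))).symm
theorem E5904 : n8646 = n679 := ((((iv F2554)).symm.trans (sb E5024 D8646))).symm
theorem F56196 : act 0 n515 = n655 := (sb E5027 (iv D870))
theorem E5906 : n1151 = n680 := ((((iv F2558)).symm.trans (sb E5027 D1151))).symm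
theorem F56197 : act 5 n515 = n657 := (sb E5027 F3223)
theorem E5907 : n1153 = n675 := (((D675).symm.trans (sb E5028 (iv F4203)))).symm
theorem E5908 : n1951 = n679 := ((((iv F2554)).symm.trans (sb E5029 (iv F6978)))).symm
theorem E5914 : n1903 = n1097 := ((((iv F4035)).symm.trans (sb E5034 D1903))).symm
theorem E5915 : n8516 = n1843 := ((((iv F6668)).symm.trans (sb E5036 (iv F28377)))).symm
theorem E5916 : n8524 = n1835 := ((((iv F6648)).symm.trans (sb E5036 D8524))).symm
theorem E5917 : n8642 = n1152 := (((D1152).symm.trans (sb E5047 D8642))).symm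
theorem F56198 : act 6 n871 = n1084 := (sb E5038 (iv F4002))
theorem E5920 : n3163 = n1096 := ((((iv F4032)).symm.trans (sb E5040 (iv F11039)))).symm
theorem E5922 : n13680 = n3115 := ((((iv F10899)).symm.trans (sb E5042 (iv F44754)))).symm
theorem E5924 : n1873 = n1843 := (((iv D2415)).symm.trans (sb E5042 (tr (iv D10899) E5915)))
theorem F56199 : act 5 n1422 = n1124 := (sb E5044 F5349)
theorem E5926 : n1906 = n1835 := ((((iv F6648)).symm.trans (sb E5044 D1906))).symm
theorem E5937 : n2884 = n1683 := ((((iv F6107)).symm.trans (sb E5052 D2884))).symm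
theorem E5939 : n12198 = n2747 := ((((iv F9705)).symm.trans (sb E5055 (iv F40216)))).symm
theorem E5944 : n2792 = n2747 := (((iv D3600)).symm.trans (sb E5057 (tr (iv D15564) E5939)))
theorem F56200 : act 5 n2136 = n1689 := (sb E5059 F7770)
theorem E5947 : n2795 = n2737 := ((((iv F9670)).symm.trans (sb E5059 D2795))).symm
theorem F56201 : act 5 n2128 = n1743 := (sb E5062 F8017)
theorem E5948 : n2889 = n2734 := ((((iv F9662)).symm.trans (sb E5062 D2889))).symm
theorem E5956 : n4544 = n2790 := ((((iv F9833)).symm.trans (sb E5073 (iv F15645)))).symm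
theorem E5975 : n7463 = n2787 := ((((iv F9824)).symm.trans (sb E5089 (iv F25088)))).symm
theorem E5976 : n7468 = n2772 := ((((iv F9779)).symm.trans (sb E5089 D7468))).symm
theorem E5980 : n4550 = n2786 := ((((iv F9821)).symm.trans (sb E5092 (iv F15664)))).symm
theorem F56202 : act 5 n2164 = n2744 := (sb E5092 (iv D3539))
theorem E5981 : n4528 = n2789 := (((D2789).symm.trans (sb E5092 (iv F15597)))).symm
theorem E5982 : n3064 = n1867 := (((F7751).symm.trans (sb E5092 F12338))).symm
theorem F56203 : act 0 n2235 = n2773 := (sb E5093 F12276)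
theorem F56204 : act 5 n2235 = n2731 := (sb E5093 (iv D3521))
theorem E5983 : n4523 = n2883 := (((D2883).symm.trans (sb E5093 (iv F15587)))).symm
theorem F56205 : act 0 n1465 = n1869 := (sb E5094 F8459)
theorem F56206 : act 5 n1465 = n1840 := (sb E5094 (iv D2373))
theorem E5984 : n3046 = n1900 := (((D1900).symm.trans (sb E5094 (iv F10703)))).symm
theorem E5986 : n4614 = n2787 := (((E5975).symm.trans (((iv F25090)).symm.trans (sb E5095 (iv D5918))))).symm
theorem E5987 : n7582 = n4548 := ((((iv D5836)).symm.trans (sb E5095 D7582))).symm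
theorem E5988 : n7583 = n7477 := (((D7477).symm.trans (sb E5095 D7583))).symm
theorem E5989 : n5155 = n5091 := (((F19865).symm.trans (sb E5095 F20091))).symm
theorem E5992 : n4769 = n2772 := ((((iv F9779)).symm.trans (sb E5097 D4769))).symm
theorem E5993 : n3148 = n1868 := (((F7754).symm.trans (sb E5097 F12878))).symm
theorem E5994 : n4548 = n2782 := ((((iv F9807)).symm.trans (sb E5124 (tr (iv F25428) E5987)))).symm
theorem E5995 : n7837 = n2765 := ((((iv F9763)).symm.trans (sb E5124 D7837))).symm
theorem E5996 : n5224 = n1864 := (((F7743).symm.trans (sb E5124 F20730))).symm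
theorem E5997 : n7838 = n7435 := ((((iv F25002)).symm.trans (sb E5099 D7838))).symm
theorem E5998 : n4553 = n2765 := ((F19879).symm.trans (sb E5099 (tr (iv F26243) E5995)))
theorem E6000 : n3062 = n1864 := (((iv D3956)).symm.trans (sb E5100 (tr D5224 E5996)))
theorem F56208 : act 2 n2161 = n2744 := (sb E5105 F12332)
theorem E6008 : n2784 = n2743 := ((D2784).symm.trans (sb E5105 (iv D3537)))
theorem E6014 : n1881 = n1865 := (((D1865).symm.trans (sb E5110 (iv D2426)))).symm
theorem E6016 : n4746 = n2856 := ((((iv F10061)).symm.trans (sb E5112 D4746))).symm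
theorem F56211 : act 2 n2162 = n1708 := (sb E5113 (iv D2199))
theorem F56212 : act 0 n1452 = n1879 := (sb E5114 (iv F6768))
theorem F56213 : act 4 n1452 = n1113 := (sb E5114 (iv D1463))
theorem E6019 : n4624 = n4543 := ((((iv F15641)).symm.trans (sb E5117 (iv F15886)))).symm
theorem F56214 : act 5 n3533 = n2788 := (sb E5117 (iv D3596))
theorem E6020 : n4627 = n4518 := ((((iv F15570)).symm.trans (sb E5117 D4627))).symm
theorem E6021 : n3111 = n3058 := (((F12318).symm.trans (sb E5117 F12510))).symm
theorem F56215 : act 5 n3514 = n2882 := (sb E5118 F12915)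
theorem E6022 : n4784 = n4489 := ((((iv F15472)).symm.trans (sb E5118 D4784))).symm
theorem F56216 : act 5 n2369 = n1899 := (sb E5119 (iv D2449))
theorem E6023 : n3161 = n3039 := ((((iv F10683)).symm.trans (sb E5119 D3161))).symm
theorem E6024 : n3127 = n3058 := ((((iv F10736)).symm.trans (sb E5120 D3127))).symm
theorem E6026 : n4547 = n4543 := ((((iv F15641)).symm.trans (sb E5121 (iv F15655)))).symm
theorem E6027 : n4706 = n4518 := ((((iv F15570)).symm.trans (sb E5121 D4706))).symm
theorem E6029 : n7582 = n2782 := (E5987).trans E5994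
theorem E6031 : n5165 = n3103 := (((F12484).symm.trans (sb E5123 F20127))).symm
theorem E6034 : n5236 = n3081 := ((((iv F10804)).symm.trans (sb E5126 D5236))).symm
theorem E6052 : n4615 = n2742 := ((((iv D3536)).symm.trans (sb E5141 D4615))).symm
theorem E6053 : n4616 = n4525 := ((((iv F15592)).symm.trans (sb E5141 D4616))).symm
theorem E6054 : n3102 = n3061 := (((F12330).symm.trans (sb E5141 F12481))).symm
theorem E6055 : n5833 = n3531 := ((((iv F12308)).symm.trans (iv (sb E5142 (tr F20100 E5148))))).symm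
theorem E6056 : n5921 = n3531 := (E5142).trans E6055
theorem E6057 : n4617 = n4542 := (((D4542).symm.trans (sb E6056 F20101))).symm
theorem E6065 : n4620 = n2730 := ((((iv F9647)).symm.trans (sb E5145 D4620))).symm
theorem E6066 : n3104 = n1839 := (((F7655).symm.trans (sb E5145 F12487))).symm
theorem E6067 : n4588 = n4526 := ((((iv F15593)).symm.trans (sb E5146 (iv F15784)))).symm
theorem E6068 : n4621 = n4522 := ((((iv F15583)).symm.trans (sb E5146 D4621))).symm
theorem E6069 : n3105 = n3045 := ((((iv F10699)).symm.trans (sb E5147 D3105))).symm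
theorem E6070 : n7737 = n4517 := (((D4517).symm.trans (sb E5151 D7737))).symm
theorem E6073 : n12657 = n7542 := ((((iv F25325)).symm.trans (sb E5153 D12657))).symm
theorem E6074 : n7543 = n4517 := (((iv F25328)).symm.trans (sb E5153 (tr F32870 E6070)))
theorem E6078 : n3106 = n3057 := (((D3057).symm.trans (sb E5156 F13862))).symm
theorem E6080 : n8537 = n5123 := ((((iv F17508)).symm.trans (sb E5157 D8537))).symm
theorem E6084 : n4736 = n4514 := ((((iv F15556)).symm.trans (sb E5160 (iv F16262)))).symm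
theorem F56217 : act 5 n3511 = n2865 := (sb E5160 F12831)
theorem E6085 : n4753 = n4492 := ((((iv F15487)).symm.trans (sb E5160 D4753))).symm
theorem E6089 : n7693 = n4494 := ((((iv F15494)).symm.trans (sb E5168 (iv F25798)))).symm
theorem E6093 : n4733 = n4670 := ((((iv F16058)).symm.trans (sb E5173 (iv F16253)))).symm
theorem F56218 : act 2 n3631 = n2852 := (sb E5173 (iv D3680))
theorem F56219 : act 5 n3631 = n2855 := (sb E5173 F12798)
theorem F56220 : act 2 n2406 = n1878 := (sb E5174 (iv D2421))
theorem E6096 : n5048 = n3112 := (((D3112).symm.trans (sb E5176 (iv F17292)))).symm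
theorem F56221 : act 0 n2450 = n3082 := (sb E5177 F13605)
theorem E6097 : n5043 = n3162 := (((D3162).symm.trans (sb E5177 (iv F17277)))).symm
theorem F56222 : act 0 n1443 = n1124 := (sb E5178 F5354)
theorem E6098 : n1907 = n1871 := ((((iv F6742)).symm.trans (sb E5178 D1907))).symm
theorem E6099 : n1908 = n1862 := ((((iv F6725)).symm.trans (sb E5178 D1908))).symm
theorem F56223 : act 6 n873 = n1098 := (sb E5179 (iv F4039))
theorem E6101 : n3110 = n3107 := (((iv F10886)).symm.trans (sb E5180 (iv F10879)))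
theorem E6102 : n3157 = n3091 := ((((iv F10832)).symm.trans (sb E5180 D3157))).symm
theorem E6104 : n5166 = n5120 := ((((iv F17500)).symm.trans (sb E5182 D5166))).symm
theorem E6105 : n5237 = n5122 := ((((iv F17505)).symm.trans (sb E5183 D5237))).symm
theorem E6108 : n7414 = n4625 := (((D4625).symm.trans (sb E5187 (iv F24959)))).symm
theorem E6109 : n7416 = n4601 := ((((iv F15812)).symm.trans (sb E5188 (iv F24961)))).symm
theorem F56224 : act 0 n3699 = n4571 := (sb E5189 F19638)
theorem E6111 : n7371 = n4744 := ((((iv F16286)).symm.trans (sb E5189 (iv F24831)))).symm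
theorem F56225 : act 3 n3699 = n4506 := (sb E5189 F19640)
theorem F56226 : act 5 n3699 = n4495 := (sb E5189 (iv D5761))
theorem E6112 : n4763 = n4499 := ((D4763).symm.trans (sb E5189 F19643))
theorem F56227 : act 0 n3719 = n4584 := (sb E5190 F19600)
theorem E6113 : n7666 = n4739 := ((((iv F16271)).symm.trans (sb E5191 (iv F25722)))).symm
theorem F56228 : act 5 n3685 = n4667 := (sb E5191 (iv D5985))
theorem E6114 : n2796 = n2791 := ((((iv F9836)).symm.trans (sb E5192 (iv F9854)))).symm
theorem F56229 : act 0 n2159 = n1743 := (sb E5193 F8021)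
theorem E6116 : n2891 = n2777 := ((((iv F9795)).symm.trans (sb E5193 D2891))).symm
theorem F56230 : act 0 n3592 = n2790 := (sb E5194 F12504)
theorem E6117 : n5826 = n3592 := ((D5826).symm.trans (iv (sb E5194 (tr (iv F15863) E6057))))
theorem E6118 : n4623 = n4598 := ((D4623).symm.trans (sb E5194 (iv F15809)))
theorem E6119 : n4780 = n4600 := ((((iv F15811)).symm.trans (sb E5195 D4780))).symm
theorem F56231 : act 0 n3560 = n2865 := (sb E5196 F12842)
theorem E6121 : n4755 = n4580 := ((((iv F15761)).symm.trans (sb E5196 (iv F16320)))).symm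
theorem E6122 : n4759 = n4575 := ((((iv F15752)).symm.trans (sb E5196 D4759))).symm
theorem E6123 : n4741 = n4738 := (((iv F16276)).symm.trans (sb E5198 (iv F16268)))
theorem E6124 : n7595 = n7538 := ((((iv F25315)).symm.trans (sb E5199 D7595))).symm
theorem E6126 : n7821 = n7506 := ((((iv F25230)).symm.trans (sb E5200 (iv F26186)))).symm
theorem E6127 : n7852 = n7541 := ((((iv F25324)).symm.trans (sb E5200 D7852))).symm
theorem E6128 : n7853 = n7532 := ((((iv F25303)).symm.trans (sb E5200 D7853))).symm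
theorem E6129 : n7791 = n7504 := ((((iv F25226)).symm.trans (sb E5202 (iv F26093)))).symm
theorem F56233 : act 0 n3634 = n2864 := (sb E5205 (iv F56075))
theorem E6131 : n4737 = n4666 := ((((iv F16047)).symm.trans (sb E5205 (iv F16265)))).symm
theorem F56234 : act 4 n3634 = n2857 := (sb E5205 F12803)
theorem E6132 : n4677 = n4571 := ((D4677).symm.trans (sb E5205 (iv F15739)))
theorem E6133 : n7664 = n4738 := (((E6123).symm.trans (((iv F16276)).symm.trans (sb E5206 (iv F25717))))).symm
theorem F56235 : act 2 n3687 = n4667 := (sb E5206 F20321)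
theorem E6146 : n12043 = n7806 := (((D7806).symm.trans (sb E5217 (iv F39778)))).symm
theorem E6155 : n7408 = n4579 := ((((iv F15760)).symm.trans (sb E5225 (iv F24942)))).symm
theorem E6158 : n4734 = n4669 := ((D4734).symm.trans (sb E5227 (iv D5987)))
theorem F56242 : act 4 n3630 = n2852 := (sb E5229 (iv D3681))
theorem E6162 : n4672 = n4570 := ((D4672).symm.trans (sb E5229 (iv F15736)))
theorem E6163 : n7409 = n4569 := (((D4569).symm.trans (sb E5230 (iv F24944)))).symm
theorem F56243 : act 6 n3553 = n2821 := (sb E5234 (iv D3640))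
theorem E6168 : n7796 = n7368 := ((((iv F24822)).symm.trans (sb E5236 D7796))).symm
theorem E6180 : n9608 = n5759 := (((D5759).symm.trans (iv (sb E5252 (tr (iv D9849) E6089))))).symm
theorem E6181 : n9849 = n5759 := (E5252).trans E6180
theorem E6183 : n7506 = n7370 := (((D7370).symm.trans (sb E6181 (tr F32710 E6126)))).symm
theorem F56246 : act 1 n6081 = n7774 := (sb E5258 F31502)
theorem F56247 : act 5 n6081 = n7381 := (sb E5258 (iv D9447))
theorem E6187 : n7795 = n7388 := ((D7795).symm.trans (sb E5258 F31505))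
theorem E6188 : n7800 = n7390 := ((((iv F24890)).symm.trans (sb E5259 D7800))).symm
theorem F56248 : act 6 n5775 = n4742 := (sb E5259 (iv D6086))
theorem E6194 : n7772 = n4644 := ((((iv F15965)).symm.trans (sb E5268 (iv F26030)))).symm
theorem E6197 : n7777 = n4639 := ((((iv F15943)).symm.trans (sb E5268 D7777))).symm
theorem F56250 : act 1 n5953 = n7381 := (sb E5272 (iv F24857))
theorem E6201 : n7774 = n7618 := ((((iv F25557)).symm.trans (sb E5272 D7774))).symm
theorem E6202 : n7625 = n7199 := ((D7625).symm.trans (sb E5272 (iv F24258)))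
theorem E6203 : n7621 = n7202 := ((D7621).symm.trans (sb E5273 (iv F24270)))
theorem E6204 : n7616 = n7200 := ((((iv F24261)).symm.trans (sb E5274 (iv F25547)))).symm
theorem F56251 : act 6 n5629 = n4645 := (sb E5274 (iv D5956))
theorem F56252 : act 6 n5630 = n4649 := (sb E5275 (iv D5961))
theorem E6293 : n15900 = n4391 := (((D4391).symm.trans (sb E5363 (iv F51887)))).symm
theorem E6295 : n9764 = n4392 := (((D4392).symm.trans (sb E5363 F41032))).symm
theorem E6299 : n9759 = n4729 := (((D4729).symm.trans (sb E5366 F41017))).symm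
theorem E6300 : n5957 = n4646 := (((E5454).symm.trans ((D4730).symm.trans (sb E5367 F25594)))).symm
theorem F56269 : act 5 n3613 = n3613 := (sb E5369 (iv D4647))
theorem E6303 : n5948 = n4640 := ((((iv F15948)).symm.trans (sb E5369 (iv F20198)))).symm
theorem E6393 : n9760 = n5627 := (((D5627).symm.trans (sb E5447 F41020))).symm
theorem E6396 : n15874 = n3431 := (((D3431).symm.trans (sb E5448 (iv F51787)))).symm
theorem E6398 : n9746 = n5628 := (((D5628).symm.trans (sb E5449 (iv F32379)))).symm
theorem E6403 : n6066 = n5954 := ((((iv F20222)).symm.trans (sb E5454 (iv F20568)))).symm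
theorem F56276 : act 2 n4646 = n3677 := (sb E5454 (iv D4730))
theorem F56277 : act 4 n4729 = n5953 := (sb E5456 (iv D7624))
theorem E6514 : n1519 = n282 := (((F1314).symm.trans (sb E5540 F6960))).symm
theorem E6534 : n3540 = n2169 := ((((iv F7767)).symm.trans (sb E5556 (iv D4556)))).symm
theorem F56284 : act 2 n1686 = n2136 := (sb E5557 F9709)
theorem E6537 : n2171 = n2135 := ((D2171).symm.trans (sb E5557 (iv D2748)))
theorem E6539 : n2376 = n1445 := (((F6119).symm.trans (sb E5557 F9710))).symm
theorem F56285 : act 4 n1661 = n1300 := (sb E5560 (iv D1687))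
theorem E6543 : n2139 = n2108 := ((D2139).symm.trans (sb E5560 (iv F7566)))
theorem E6544 : n1446 = n1423 := (((F6044).symm.trans (sb E5560 F6124))).symm
theorem F56286 : act 4 n1083 = n845 := (sb E5565 (iv D1122))
theorem E6549 : n894 = n872 := ((F3999).symm.trans (sb E5565 F4114))
theorem E6558 : n536 = n152 := (((D152).symm.trans (sb E5574 F2670))).symm
theorem E6560 : n302 = n278 := (((D278).symm.trans (sb E5576 F1563))).symm
theorem F56287 : act 1 n225 = n279 := (sb E5578 F1446)
theorem E6564 : n499 = n299 := ((((iv F1177)).symm.trans (sb E5578 (iv F1903)))).symm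
theorem F56288 : act 1 n661 = n507 := (sb E5580 (iv D674))
theorem F56289 : act 6 n661 = n814 := (sb E5580 (iv F3054))
theorem E6578 : n10944 = n4167 := ((((iv F14357)).symm.trans (sb E5595 (iv F36114)))).symm
theorem E6580 : n11114 = n2530 := ((((iv D3256)).symm.trans (sb E5598 (iv D14191)))).symm
theorem E6581 : n2530 = n164 := ((((iv F670)).symm.trans (sb E5613 (tr D11114 E6580)))).symm
theorem E6590 : n11061 = n510 := (((D510).symm.trans (sb E5636 (iv F36475)))).symm
theorem E6591 : n1518 = n506 := ((((iv F1931)).symm.trans (sb E5608 F7013))).symm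
theorem E6592 : n2512 = n510 := (((D510).symm.trans (sb E5608 (iv F8872)))).symm
theorem E6620 : n1967 = n222 := ((((iv F886)).symm.trans (sb E5637 D1967))).symm
theorem E6621 : n3241 = n383 := (((D383).symm.trans (sb E5638 D3241))).symm
theorem E6626 : n5942 = n2124 := (((D2124).symm.trans (sb E5646 (iv F20172)))).symm
theorem E6628 : n3726 = n2125 := (((D2125).symm.trans (sb E5646 F16437))).symm
theorem E6632 : n4025 = n1415 := (((D1415).symm.trans (sb E5654 (iv F13906)))).symm
theorem E6634 : n2456 = n1416 := (((D1416).symm.trans (sb E5654 F11054))).symm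
theorem E6635 : n5939 = n2126 := (((D2126).symm.trans (sb E5656 (iv F20163)))).symm
theorem E6636 : n5941 = n2117 := ((((iv F7604)).symm.trans (sb E5656 D5941))).symm
theorem E6637 : n3603 = n2127 := (((D2127).symm.trans (sb E5656 F15922))).symm
theorem E6640 : n498 = n300 := (((D300).symm.trans (sb E5665 (iv D664)))).symm
theorem E6641 : n881 = n297 := ((((iv F1167)).symm.trans (sb E5665 D881))).symm
theorem E6643 : n1525 = n296 := ((((iv F1162)).symm.trans (sb E5666 D1525))).symm
theorem E6649 : n15925 = n4545 := (((D4545).symm.trans (sb E5771 (iv F51972)))).symm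
theorem E6651 : n4589 = n4545 := (((iv F15786)).symm.trans (sb E5673 (tr D15925 E6649)))
theorem F56299 : act 1 n3532 = n2785 := (sb E5675 F12491)
theorem E6725 : n5084 = n1871 := ((((iv F6742)).symm.trans (sb E5744 (iv F17390)))).symm
theorem F56312 : act 1 n3593 = n4542 := (sb E5763 (iv D5825))
theorem E6744 : n7461 = n4625 := (((D4625).symm.trans (sb E5763 D7461))).symm
theorem E6745 : n5080 = n3108 := (((F12501).symm.trans (sb E5763 F19826))).symm
theorem E6751 : n5081 = n3107 := (((E6101).symm.trans (((iv F10886)).symm.trans (sb E5768 (iv F17381))))).symm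
theorem E6752 : n5086 = n3091 := ((((iv F10832)).symm.trans (sb E5768 D5086))).symm
theorem E6758 : n9749 = n7618 := ((((iv F25556)).symm.trans (sb E5775 (iv D12450)))).symm
theorem E6765 : n5951 = n4642 := ((((iv D5950)).symm.trans (sb E5779 F25565))).symm
theorem F56314 : act 4 n5950 = n5950 := (sb E5779 (iv D7620))
theorem E6766 : n9754 = n7202 := (((E6203).symm.trans ((D7621).symm.trans (sb E5779 D9754)))).symm
theorem F56316 : act 4 n3610 = n3610 := (sb E5786 (iv D4643))
theorem E6772 : n3900 = n3022 := (((F12561).symm.trans (sb E5786 F15963))).symm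
theorem E6783 : n4539 = n2711 := ((((iv F9586)).symm.trans (sb E5804 (iv F15629)))).symm
theorem E6825 : n9453 = n7385 := (((F30686).symm.trans (sb E5842 (iv D12072)))).symm
theorem E6826 : n15400 = n7234 := (((F30687).symm.trans (sb E5842 D15400))).symm
theorem F56317 : act 3 n3905 = n3905 := (sb E5843 (iv D5023))
theorem E6829 : n3908 = n3028 := (((F13547).symm.trans (sb E5843 F17210))).symm
theorem E6832 : n5809 = n4529 := (((F19675).symm.trans (sb E5845 F24881))).symm
theorem F56318 : act 6 n5771 = n5771 := (sb E5845 (iv D7387))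
theorem F56319 : act 6 n9452 = n9452 := (sb E5847 (iv D12071))
theorem E6841 : n3909 = n1831 := (((F8381).symm.trans (sb E5853 D3909))).symm
theorem F56321 : act 3 n2347 = n2347 := (sb E5853 (iv D3029))
theorem E6842 : n2350 = n1824 := (((F8383).symm.trans (sb E5853 F10649))).symm
theorem F56322 : act 6 n3523 = n3523 := (sb E5856 (iv D4532))
theorem E6847 : n5814 = n2736 := (((F12286).symm.trans (sb E5856 D5814))).symm
theorem E6857 : n2546 = n1077 := (((F5162).symm.trans (sb E5866 (iv F9007)))).symm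
theorem E6858 : n1534 = n1173 := (((F5163).symm.trans (sb E5866 (iv D1980)))).symm
theorem F56325 : act 3 n1409 = n1409 := (sb E5867 (iv D1825))
theorem E6865 : n910 = n688 := (((F3291).symm.trans (sb E5871 (iv D1201)))).symm
theorem F56326 : act 7 n909 = n909 := (sb E5872 (iv D1200))
theorem E6899 : n6656 = n1435 := ((((iv F5246)).symm.trans (sb E5900 D6656))).symm
theorem E6900 : n6750 = n901 := ((((iv F3341)).symm.trans (sb E5901 D6750))).symm
theorem E6905 : n11060 = n900 := ((((iv F3337)).symm.trans (sb E5904 D11060))).symm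
theorem F56333 : act 0 n680 = n871 := (sb E5906 F4194)
theorem E6906 : n1508 = n901 := ((((iv F3341)).symm.trans (sb E5906 D1508))).symm
theorem F56334 : act 5 n680 = n873 := (sb E5906 F4196)
theorem E6907 : n1510 = n893 := ((((iv F3313)).symm.trans (sb E5907 (iv F5463)))).symm
theorem F56335 : act 4 n675 = n871 := (sb E5907 (iv D1153))
theorem E6908 : n2510 = n900 := ((((iv F3337)).symm.trans (sb E5908 (iv F8863)))).symm
theorem E6910 : n2452 = n1442 := ((((iv F5260)).symm.trans (sb E5914 D2452))).symm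
theorem E6912 : n10702 = n2375 := ((((iv F8466)).symm.trans (sb E5915 (iv F35340)))).symm
theorem E6914 : n10911 = n1541 := (((F6647).symm.trans (sb E5916 D10911))).symm
theorem E6915 : n10912 = n2362 := ((((iv F8431)).symm.trans (sb E5916 D10912))).symm
theorem E6917 : n1541 = n1511 := (((D1511).symm.trans (sb E5917 (tr (iv F36014) E6914)))).symm
theorem E6920 : n4020 = n1441 := ((((iv F5257)).symm.trans (sb E5920 (iv F13889)))).symm
theorem E6924 : n2413 = n2375 := (((iv D3115)).symm.trans (sb E5922 (tr (iv D13680) E6912)))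
theorem F56336 : act 5 n1843 = n1448 := (sb E5924 F6750)
theorem E6925 : n2416 = n2365 := ((((iv F8439)).symm.trans (sb E5924 D2416))).symm
theorem F56337 : act 5 n1835 = n1474 := (sb E5926 F6846)
theorem E6926 : n2457 = n2362 := ((((iv F8431)).symm.trans (sb E5926 D2457))).symm
theorem E6927 : n10911 = n1511 := (E6914).trans E6917
theorem E6935 : n3599 = n2167 := ((((iv F7758)).symm.trans (sb E5937 (iv F12517)))).symm
theorem E6936 : n3721 = n2158 := ((((iv F7733)).symm.trans (sb E5937 D3721))).symm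
theorem F56338 : act 5 n2747 = n2172 := (sb E5944 F9841)
theorem E6944 : n3601 = n3527 := ((((iv F12299)).symm.trans (sb E5944 D3601))).symm
theorem E6945 : n3528 = n3487 := (((iv F12301)).symm.trans (sb E5947 (iv F12161)))
theorem F56339 : act 5 n2737 = n2173 := (sb E5947 F9853)
theorem E6946 : n3604 = n3524 := ((((iv F12289)).symm.trans (sb E5947 D3604))).symm
theorem F56340 : act 5 n2734 = n2244 := (sb E5948 F10169)
theorem F56341 : act 2 n2790 = n3533 := (sb E5956 F15646)
theorem F56342 : act 4 n2790 = n3532 := (sb E5956 (iv D4544))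
theorem E6950 : n5831 = n3576 := ((((iv F12445)).symm.trans (sb E5956 D5831))).symm
theorem E6976 : n9562 = n3570 := ((((iv F12433)).symm.trans (sb E5976 D9562))).symm
theorem F56343 : act 5 n2786 = n3536 := (sb E5980 (iv D4550))
theorem E6979 : n5802 = n3594 := (((D3594).symm.trans (sb E5980 (iv F19760)))).symm
theorem E6980 : n3954 = n2407 := (((F9823).symm.trans (sb E5980 F15667))).symm
theorem E6981 : n5804 = n3575 := ((((iv F12442)).symm.trans (sb E5981 (iv F19762)))).symm
theorem F56344 : act 5 n2789 = n3520 := (sb E5981 (iv D4528))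
theorem E6982 : n5798 = n3598 := (((D3598).symm.trans (sb E5981 (iv F19751)))).symm
theorem F56345 : act 5 n1867 = n2372 := (sb E5982 (iv D3064))
theorem E6983 : n3932 = n2410 := (((D2410).symm.trans (sb E5982 (iv F13633)))).symm
theorem F56346 : act 0 n2883 = n3571 := (sb E5983 F15584)
theorem F56347 : act 5 n2883 = n3517 := (sb E5983 (iv D4523))
theorem E6984 : n3927 = n2451 := (((F10151).symm.trans (sb E5983 F15586))).symm
theorem F56348 : act 0 n1900 = n2394 := (sb E5984 F10700)
theorem F56349 : act 5 n1900 = n2359 := (sb E5984 (iv D3046))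
theorem F56350 : act 5 n2787 = n3592 := (sb E5986 F15853)
theorem E6987 : n5919 = n3573 := ((((iv F12440)).symm.trans (sb E5986 D5919))).symm
theorem E6988 : n4005 = n2408 := (((F9826).symm.trans (sb E5986 F15854))).symm
theorem E6989 : n9704 = n3564 := ((((iv F12418)).symm.trans (sb E6029 D9704))).symm
theorem E6990 : n6615 = n2403 := (((F9809).symm.trans (sb E6029 F25431))).symm
theorem E6991 : n9705 = n9513 := ((((iv F31686)).symm.trans (sb E5988 D9705))).symm
theorem E6992 : n5837 = n3564 := ((F25137).symm.trans (sb E5988 (tr (iv F32242) E6989)))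
theorem E6994 : n3952 = n2403 := (((iv D5091)).symm.trans (sb E5989 (tr D6615 E6990)))
theorem E6999 : n6118 = n3574 := ((((iv F12441)).symm.trans (sb E5992 D6118))).symm
theorem E7001 : n4062 = n2393 := ((((iv F8519)).symm.trans (sb E5993 D4062))).symm
theorem F56353 : act 2 n2782 = n3536 := (sb E5994 F15660)
theorem E7002 : n3588 = n3535 := ((D3588).symm.trans (sb E5994 (iv D4548)))
theorem E7003 : n10030 = n3565 := (((D3565).symm.trans (sb E5995 D10030))).symm
theorem E7006 : n10032 = n9516 := ((((iv F31692)).symm.trans (sb E5997 D10032))).symm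
theorem E7007 : n5805 = n3565 := ((F25003).symm.trans (sb E5997 (tr (iv F33257) E7003)))
theorem E7009 : n3566 = n3538 := ((D3566).symm.trans (sb E5998 F15676))
theorem F56354 : act 2 n1864 = n2372 := (sb E6000 F10748)
theorem E7012 : n2405 = n2371 := ((D2405).symm.trans (sb E6000 (iv D3062)))
theorem E7013 : n3957 = n2386 := ((((iv F8501)).symm.trans (sb E6000 D3957))).symm
theorem F56355 : act 1 n2743 = n2162 := (sb E6008 F9814)
theorem F56356 : act 4 n2743 = n2161 := (sb E6008 (iv D2784))
theorem F56358 : act 2 n1865 = n1452 := (sb E6014 (iv D1881))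
theorem E7026 : n6071 = n3684 := ((((iv F12808)).symm.trans (sb E6016 (iv F20585)))).symm
theorem F56359 : act 5 n4543 = n3593 := (sb E6019 (iv D4624))
theorem E7029 : n5932 = n5790 := ((((iv F19730)).symm.trans (sb E6019 D5932))).symm
theorem E7030 : n4015 = n3947 := (((F15644).symm.trans (sb E6019 F15889))).symm
theorem E7031 : n5904 = n5791 := ((((iv F19731)).symm.trans (sb E6020 (iv F20044)))).symm
theorem F56360 : act 5 n4518 = n3597 := (sb E6020 F15898)
theorem E7032 : n5934 = n5752 := ((((iv F19599)).symm.trans (sb E6020 D5934))).symm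
theorem F56361 : act 2 n3058 = n2411 := (sb E6021 F10889)
theorem F56362 : act 5 n3058 = n2409 := (sb E6021 (iv D3111))
theorem E7033 : n4018 = n3922 := ((((iv F13604)).symm.trans (sb E6021 D4018))).symm
theorem F56363 : act 5 n4489 = n3719 := (sb E6022 F16412)
theorem E7034 : n4077 = n3919 := (((F15471).symm.trans (sb E6022 F16413))).symm
theorem F56364 : act 5 n3039 = n2450 := (sb E6023 F11035)
theorem E7035 : n3951 = n3947 := ((((iv F13673)).symm.trans (sb E6024 (iv F13684)))).symm
theorem E7036 : n4038 = n3922 := ((((iv F13604)).symm.trans (sb E6024 D4038))).symm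
theorem E7038 : n5834 = n5790 := ((((iv F19730)).symm.trans (sb E6026 D5834))).symm
theorem E7039 : n6038 = n5791 := ((((iv F19731)).symm.trans (sb E6027 D6038))).symm
theorem E7043 : n6627 = n3977 := ((((iv F13764)).symm.trans (sb E6031 D6627))).symm
theorem E7047 : n6713 = n3978 := ((((iv F13766)).symm.trans (sb E6034 D6713))).symm
theorem E7066 : n5922 = n3518 := ((((iv F12272)).symm.trans (sb E6052 D5922))).symm
theorem E7068 : n5882 = n5800 := ((((iv F19754)).symm.trans (sb E6053 (iv F19998)))).symm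
theorem E7069 : n5923 = n5795 := ((((iv F19744)).symm.trans (sb E6053 D5923))).symm
theorem E7070 : n4007 = n3929 := ((((iv F13626)).symm.trans (sb E6054 D4007))).symm
theorem E7071 : n5883 = n5827 := (((D5827).symm.trans (sb E6057 (iv F20003)))).symm
theorem E7072 : n4008 = n3946 := (((F15640).symm.trans (sb E6057 F15864))).symm
theorem E7084 : n5886 = n3519 := (((D3519).symm.trans (sb E6065 (iv F20007)))).symm
theorem E7086 : n4011 = n2358 := ((((iv F8418)).symm.trans (sb E6066 D4011))).symm
theorem E7087 : n5860 = n5786 := ((((iv F19718)).symm.trans (sb E6067 (iv F19940)))).symm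
theorem E7088 : n5803 = n5700 := ((D5803).symm.trans (sb E6067 (iv F19422)))
theorem E7090 : n4012 = n3926 := (((F15582).symm.trans (sb E6068 F15878))).symm
theorem E7091 : n3979 = n3930 := ((((iv F13628)).symm.trans (sb E6069 (iv F13768)))).symm
theorem E7092 : n9906 = n5755 := ((((iv F19612)).symm.trans (sb E6070 D9906))).symm
theorem E7097 : n9654 = n5755 := (((iv F32104)).symm.trans (sb E6073 (tr F41598 E7092)))
theorem E7099 : n5885 = n5792 := (((D5792).symm.trans (sb E6074 (iv D7543)))).symm
theorem F56365 : act 1 n3057 = n2406 := (sb E6078 F10876)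
theorem F56366 : act 4 n3057 = n2411 := (sb E6078 F10878)
theorem E7104 : n3980 = n3949 := (((D3949).symm.trans (sb E6078 (iv F13774)))).symm
theorem E7106 : n10928 = n6575 := ((((iv F22182)).symm.trans (sb E6080 D10928))).symm
theorem E7110 : n6073 = n5785 := ((((iv F19714)).symm.trans (sb E6084 (iv F20592)))).symm
theorem F56367 : act 5 n4514 = n3686 := (sb E6084 F16264)
theorem E7111 : n6078 = n5756 := ((((iv F19618)).symm.trans (sb E6084 D6078))).symm
theorem F56368 : act 5 n4492 = n3700 := (sb E6085 F16316)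
theorem F56369 : act 2 n4670 = n3679 := (sb E6093 (iv D4733))
theorem F56370 : act 5 n4670 = n3683 := (sb E6093 F16255)
theorem E7118 : n6475 = n3992 := ((((iv F13805)).symm.trans (sb E6096 (iv F21888)))).symm
theorem F56371 : act 0 n3162 = n3975 := (sb E6097 F17273)
theorem E7120 : n2417 = n2412 := ((((iv F8568)).symm.trans (sb E6098 (iv F8584)))).symm
theorem E7121 : n2458 = n2402 := ((((iv F8546)).symm.trans (sb E6098 D2458))).symm
theorem F56372 : act 0 n1862 = n1474 := (sb E6099 F6849)
theorem E7122 : n1555 = n1513 := ((F6723).symm.trans (sb E6099 F6850))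
theorem E7123 : n2459 = n2398 := ((((iv F8534)).symm.trans (sb E6099 D2459))).symm
theorem F56373 : act 0 n3107 = n2411 := (sb E6101 F10886)
theorem E7125 : n4014 = n3989 := ((D4014).symm.trans (sb E6101 (iv F13798)))
theorem E7126 : n4073 = n3991 := ((((iv F13803)).symm.trans (sb E6102 D4073))).symm
theorem E7128 : n6628 = n6571 := ((((iv F22169)).symm.trans (sb E6104 D6628))).symm
theorem E7130 : n6715 = n6574 := ((((iv F22180)).symm.trans (sb E6105 D6715))).symm
theorem E7132 : n9489 = n5900 := ((((iv F20036)).symm.trans (sb E6108 (iv F31631)))).symm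
theorem E7134 : n9431 = n5873 := ((((iv F19973)).symm.trans (sb E6109 (iv F31455)))).symm
theorem E7135 : n9492 = n5903 := ((((iv F20043)).symm.trans (sb E6109 (iv F31640)))).symm
theorem E7137 : n9429 = n6083 := ((((iv F20624)).symm.trans (sb E6111 (iv F31445)))).symm
theorem F56374 : act 3 n4744 = n5775 := (sb E6111 F24832)
theorem F56375 : act 5 n4744 = n5760 := (sb E6111 (iv D7371))
theorem E7138 : n6088 = n5766 := ((D6088).symm.trans (sb E6111 F24835))
theorem F56376 : act 2 n4499 = n3719 := (sb E6112 F16344)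
theorem F56377 : act 4 n4499 = n3700 := (sb E6112 F16345)
theorem F56378 : act 7 n4499 = n3699 := (sb E6112 (iv D4763))
theorem F56379 : act 1 n4739 = n6074 := (sb E6113 F25723)
theorem F56380 : act 5 n4739 = n5982 := (sb E6113 (iv D7666))
theorem F56381 : act 1 n2791 = n2172 := (sb E6114 (iv D2796))
theorem F56382 : act 3 n2791 = n3592 := (sb E6114 (iv F12496))
theorem E7139 : n3605 = n3584 := ((((iv F12471)).symm.trans (sb E6114 D3605))).symm
theorem F56383 : act 0 n2777 = n2244 := (sb E6116 F10173)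
theorem F56384 : act 2 n3592 = n4543 := (sb E6117 F19828)
theorem F56385 : act 4 n3592 = n4542 := (sb E6117 (iv D5826))
theorem E7142 : n5930 = n5899 := ((((iv F20034)).symm.trans (sb E6118 D5930))).symm
theorem F56386 : act 6 n4598 = n3592 := (sb E6118 (iv D4623))
theorem E7144 : n6102 = n5872 := ((((iv F19971)).symm.trans (sb E6119 (iv F20680)))).symm
theorem E7147 : n6080 = n5870 := ((((iv F19966)).symm.trans (sb E6121 (iv F20614)))).symm
theorem F56387 : act 0 n4575 = n3700 := (sb E6122 F16332)
theorem F56388 : act 0 n4738 = n3687 := (sb E6123 F16276)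
theorem F56389 : act 4 n4738 = n6074 := (sb E6123 (iv F20596))
theorem E7149 : n9676 = n9645 := ((((iv F32081)).symm.trans (sb E6124 (iv F32151)))).symm
theorem E7152 : n7821 = n7370 := (E6126).trans E6183
theorem E7153 : n9975 = n9428 := ((((iv F31441)).symm.trans (sb E7152 (iv F33085)))).symm
theorem E7154 : n10014 = n5797 := (((F24829).symm.trans (sb E7152 D10014))).symm
theorem E7155 : n9432 = n5872 := (((iv F31461)).symm.trans (sb E7152 (tr F26187 E7144)))
theorem E7156 : n10015 = n9433 := (((D9433).symm.trans (sb E7152 D10015))).symm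
theorem E7157 : n9606 = n5797 := (((iv F31976)).symm.trans (sb E6127 (tr (iv F33206) E7154)))
theorem E7160 : n9433 = n9203 := ((((iv F30673)).symm.trans (sb E6128 (tr (iv F33207) E7156)))).symm
theorem E7162 : n9603 = n9428 := (((iv F31968)).symm.trans (sb E6129 (tr D9975 E7153)))
theorem E7164 : n10015 = n9203 := (E7156).trans E7160
theorem E7165 : n6074 = n5981 := ((((iv F20314)).symm.trans (sb E6131 (iv F20595)))).symm
theorem F56390 : act 4 n4666 = n3687 := (sb E6131 F16266)
theorem E7166 : n5984 = n5861 := ((D5984).symm.trans (sb E6131 (iv F19945)))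
theorem F56391 : act 6 n4571 = n3634 := (sb E6132 (iv D4677))
theorem F56392 : act 2 n4738 = n5982 := (sb E6133 F25718)
theorem E7184 : n15361 = n9995 := (((D9995).symm.trans (sb E6146 D15361))).symm
theorem E7194 : n9482 = n5695 := ((((iv F19410)).symm.trans (sb E6155 (iv F31615)))).symm
theorem F56397 : act 1 n4669 = n5982 := (sb E6158 (iv F20318))
theorem F56398 : act 4 n4669 = n3679 := (sb E6158 (iv D4734))
theorem E7196 : n5988 = n5858 := ((D5988).symm.trans (sb E6158 (iv F19937)))
theorem E7202 : n5859 = n5787 := (((iv F19939)).symm.trans (sb E6162 (iv F19721)))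
theorem F56400 : act 6 n4570 = n3630 := (sb E6162 (iv D4672))
theorem E7204 : n9483 = n5645 := ((((iv F19246)).symm.trans (sb E6163 (iv F31617)))).symm
theorem E7209 : n9627 = n9427 := ((((iv F31439)).symm.trans (sb E6168 (iv F32034)))).symm
theorem F56402 : act 6 n7388 = n6081 := (sb E6187 (iv D7795))
theorem E7242 : n9631 = n9458 := ((((iv F31544)).symm.trans (sb E6188 (iv F32045)))).symm
theorem E7252 : n9951 = n5945 := ((((iv F20184)).symm.trans (sb E6194 D9951))).symm
theorem E7255 : n9212 = n5946 := (((D5946).symm.trans (sb E6197 (iv F30712)))).symm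
theorem F56403 : act 1 n7618 = n6081 := (sb E6201 (iv F56246))
theorem E7260 : n9750 = n9209 := ((D9750).symm.trans (sb E6201 (iv F30701)))
theorem E7261 : n9742 = n9207 := ((((iv F30691)).symm.trans (sb E6202 (iv F32361)))).symm
theorem F56404 : act 6 n7199 = n5953 := (sb E6202 (iv D7625))
theorem E7263 : n9211 = n6432 := (((iv F30708)).symm.trans (sb E6203 F25568))
theorem F56405 : act 6 n7202 = n5950 := (sb E6203 (iv D7621))
theorem E7265 : n9210 = n6468 := ((D9210).symm.trans (sb E6204 F25548))
theorem E7349 : n12465 = n5627 := (((D5627).symm.trans (sb E6293 F51888))).symm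
theorem E7350 : n12446 = n5628 := (((D5628).symm.trans (sb E6295 (iv F40952)))).symm
theorem E7354 : n7626 = n5954 := (((E6403).symm.trans ((D6066).symm.trans (sb E6299 F32432)))).symm
theorem F56418 : act 5 n4646 = n4646 := (sb E6300 (iv D5957))
theorem E7357 : n7617 = n5947 := ((((iv F20192)).symm.trans (sb E6300 (iv F25553)))).symm
theorem F56419 : act 5 n4640 = n4640 := (sb E6303 (iv D5948))
theorem E7359 : n5013 = n3897 := (((F15949).symm.trans (sb E6303 F20199))).symm
theorem E7455 : n12442 = n7198 := (((D7198).symm.trans (sb E6393 (iv F40937)))).symm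
theorem E7457 : n12445 = n4412 := (((D4412).symm.trans (sb E6396 (iv D15874)))).symm
theorem E7459 : n7615 = n7201 := (((D7201).symm.trans (sb E6398 (iv D9746)))).symm
theorem F56426 : act 2 n5954 = n4729 := (sb E6403 (iv D6066))
theorem E7573 : n1167 = n218 := (((F1106).symm.trans (sb E6514 F5497))).symm
theorem F56436 : act 2 n2169 = n2747 := (sb E6534 F12341)
theorem E7594 : n2793 = n2746 := ((D2793).symm.trans (sb E6534 (iv D3540)))
theorem E7596 : n3065 = n1872 := (((F7768).symm.trans (sb E6534 F12342))).symm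
theorem F56437 : act 4 n2135 = n1686 := (sb E6537 (iv D2171))
theorem E7600 : n2749 = n2709 := ((D2749).symm.trans (sb E6537 (iv F9580)))
theorem E7601 : n1874 = n1842 := (((F7667).symm.trans (sb E6537 F7775))).symm
theorem F56438 : act 2 n1445 = n1843 := (sb E6539 F8469)
theorem F56439 : act 6 n2108 = n1661 := (sb E6543 (iv D2139))
theorem F56440 : act 4 n1423 = n1100 := (sb E6544 (iv D1446))
theorem E7610 : n1846 = n1423 := ((D1846).symm.trans (sb E6544 (tr F5275 E6544)))
theorem F56441 : act 1 n872 = n675 := (sb E6549 F3317)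
theorem F56442 : act 6 n872 = n1083 := (sb E6549 (iv F3999))
theorem E7624 : n403 = n207 := (((D207).symm.trans (sb E6558 F2055))).symm
theorem E7627 : n374 = n226 := ((D374).symm.trans (sb E6560 F1189))
theorem F56443 : act 3 n278 = n225 := (sb E6560 (iv D302))
theorem E7628 : n400 = n372 := ((((iv F1434)).symm.trans (sb E6560 (iv F1555)))).symm
theorem F56444 : act 1 n299 = n373 := (sb E6564 F1902)
theorem E7630 : n666 = n393 := ((((iv F1524)).symm.trans (sb E6564 D666))).symm
theorem E7644 : n13947 = n3235 := ((((iv D4167)).symm.trans (sb E6578 (iv F45609)))).symm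
theorem E7647 : n1971 = n220 := ((((iv F878)).symm.trans (sb E6581 F8942))).symm
theorem E7657 : n3235 = n677 := ((((iv F2549)).symm.trans (sb E6590 (tr (iv F45612) E7644)))).symm
theorem E7658 : n1166 = n392 := (((F1932).symm.trans (sb E6591 F5493))).symm
theorem E7659 : n1953 = n673 := (((D673).symm.trans (sb E6591 (iv F6985)))).symm
theorem E7660 : n3231 = n678 := (((D678).symm.trans (sb E6592 (iv F11253)))).symm
theorem E7691 : n2529 = n298 := (((D298).symm.trans (sb E6620 D2529))).symm
theorem E7692 : n4161 = n512 := (((D512).symm.trans (sb E6621 (iv F14328)))).symm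
theorem E7695 : n7607 = n2732 := (((D2732).symm.trans (sb E6626 (iv F25516)))).symm
theorem E7696 : n7609 = n2718 := ((((iv F9612)).symm.trans (sb E6626 (iv F25523)))).symm
theorem E7697 : n4635 = n2733 := (((D2733).symm.trans (sb E6626 F20173))).symm
theorem E7701 : n3169 = n1832 := (((F7631).symm.trans (sb E6628 F12942))).symm
theorem E7705 : n5176 = n1833 := (((D1833).symm.trans (sb E6632 (iv F17673)))).symm
theorem E7707 : n3118 = n1834 := (((D1834).symm.trans (sb E6632 F13907))).symm
theorem E7710 : n1954 = n1177 := (((F5190).symm.trans (sb E6634 F8695))).symm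
theorem E7711 : n7606 = n2720 := ((((iv F9618)).symm.trans (sb E6635 D7606))).symm
theorem E7712 : n4632 = n2735 := (((D2735).symm.trans (sb E6635 F20164))).symm
theorem E7714 : n7353 = n2721 := (((D2721).symm.trans (sb E6636 (iv F24759)))).symm
theorem E7715 : n4483 = n2736 := (((D2736).symm.trans (sb E6637 (iv F15444)))).symm
theorem E7717 : n401 = n300 := ((D401).symm.trans (sb E6640 (tr F1898 E6640)))
theorem E7718 : n397 = n297 := ((D397).symm.trans (sb E6641 (tr F3265 E6641)))
theorem E7719 : n396 = n296 := ((D396).symm.trans (sb E6643 (tr F5520 E6643)))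
theorem F56452 : act 1 n4545 = n3567 := (sb E6651 F15786)
theorem E7722 : n5879 = n5832 := (((D5832).symm.trans (sb E6651 (iv F19993)))).symm
theorem E7766 : n6526 = n2402 := ((((iv F8546)).symm.trans (sb E6725 D6526))).symm
theorem F56467 : act 1 n4625 = n5827 := (sb E6744 F25081)
theorem E7773 : n9552 = n5900 := ((((iv F20036)).symm.trans (sb E6744 D9552))).symm
theorem E7774 : n9553 = n5933 := (((D5933).symm.trans (sb E6744 D9553))).symm
theorem F56468 : act 1 n3108 = n3946 := (sb E6745 (iv D5080))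
theorem E7775 : n6520 = n4016 := (((D4016).symm.trans (sb E6745 D6520))).symm
theorem F56469 : act 4 n3107 = n3946 := (sb E6751 (iv D5081))
theorem E7780 : n6523 = n3989 := (((E7125).symm.trans ((D4014).symm.trans (sb E6751 D6523)))).symm
theorem E7781 : n6476 = n3991 := ((((iv F13803)).symm.trans (sb E6752 (iv F21891)))).symm
theorem E7785 : n7619 = n5949 := ((((iv D7618)).symm.trans (sb E6758 F32392))).symm
theorem F56470 : act 4 n7618 = n7618 := (sb E6758 (iv D9749))
theorem E7786 : n12452 = n9209 := (((E7260).symm.trans ((D9750).symm.trans (sb E6758 D12452)))).symm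
theorem F56472 : act 4 n4642 = n4642 := (sb E6765 (iv D5951))
theorem E7787 : n5016 = n3899 := (((F15958).symm.trans (sb E6765 F20211))).symm
theorem E7788 : n8243 = n6432 := (((E7263).symm.trans (((iv F30708)).symm.trans (sb E6766 F32413)))).symm
theorem F56474 : act 4 n3022 = n3022 := (sb E6772 (iv D3900))
theorem E7792 : n3025 = n2345 := (((F10625).symm.trans (sb E6772 F13532))).symm
theorem E7813 : n5821 = n3481 := ((((iv F12139)).symm.trans (sb E6783 (iv F19812)))).symm
theorem E7870 : n7438 = n5807 := (((F24874).symm.trans (sb E6825 F31528))).symm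
theorem F56475 : act 6 n7385 = n7385 := (sb E6825 (iv D9453))
theorem E7872 : n12166 = n5715 := (((F24376).symm.trans (sb E6826 F50418))).symm
theorem E7873 : n5027 = n2360 := (((F10644).symm.trans (sb E6829 D5027))).symm
theorem F56476 : act 3 n3028 = n3028 := (sb E6829 (iv D3908))
theorem E7874 : n3031 = n2349 := (((F10646).symm.trans (sb E6829 F13559))).symm
theorem F56477 : act 6 n4529 = n4529 := (sb E6832 (iv D5809))
theorem E7879 : n7442 = n3526 := (((F15600).symm.trans (sb E6832 D7442))).symm
theorem E7893 : n3048 = n2361 := (((D2361).symm.trans (sb E6841 F13561))).symm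
theorem F56481 : act 3 n1824 = n1824 := (sb E6842 (iv D2350))
theorem E7903 : n4541 = n3529 := (((D3529).symm.trans (sb E6847 F19793))).symm
theorem E7912 : n1979 = n890 := (((F3978).symm.trans (sb E6857 (iv D2546)))).symm
theorem F56486 : act 2 n1173 = n1173 := (sb E6858 (iv D1534))
theorem E7914 : n1174 = n889 := (((F4284).symm.trans (sb E6858 F5559))).symm
theorem E7921 : n689 = n519 := ((((iv D688)).symm.trans (sb E6865 F3377))).symm
theorem F56487 : act 7 n688 = n688 := (sb E6865 (iv D910))
theorem E7955 : n8529 = n1188 := (((F5245).symm.trans (sb E6899 D8529))).symm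
theorem E7957 : n8648 = n1190 := ((((iv F4345)).symm.trans (sb E6900 D8648))).symm
theorem E7964 : n14126 = n1189 := ((((iv F4341)).symm.trans (sb E6905 D14126))).symm
theorem F56496 : act 0 n901 = n1152 := (sb E6906 F5453)
theorem E7965 : n1950 = n1190 := ((((iv F4345)).symm.trans (sb E6906 D1950))).symm
theorem F56497 : act 5 n901 = n1154 := (sb E6906 F5455)
theorem E7966 : n1952 = n1188 := ((((iv F4340)).symm.trans (sb E6906 D1952))).symm
theorem E7967 : n1179 = n893 := (((iv F4305)).symm.trans (sb E6907 (tr F5462 E6907)))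
theorem F56498 : act 4 n893 = n1152 := (sb E6907 (iv D1510))
theorem E7968 : n1189 = n900 := (((iv F4341)).symm.trans (sb E6908 (tr F8862 E6908)))
theorem E7971 : n3114 = n1870 := ((((iv F6740)).symm.trans (sb E6910 (iv F10896)))).symm
theorem E7972 : n3164 = n1861 := ((((iv F6722)).symm.trans (sb E6910 D3164))).symm
theorem E7978 : n13942 = n1955 := (((D1955).symm.trans (sb E6927 D13942))).symm
theorem E7979 : n1986 = n1955 := ((F8430).symm.trans (sb E6915 (tr (iv F45592) E7978)))
theorem F56499 : act 2 n1511 = n1835 := (sb E6917 (iv F6647))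
theorem E7984 : n5173 = n1859 := ((((iv F6716)).symm.trans (sb E6920 D5173))).symm
theorem F56500 : act 5 n2375 = n1875 := (sb E6924 F8572)
theorem E7987 : n3116 = n3052 := ((((iv F10721)).symm.trans (sb E6924 D3116))).symm
theorem E7988 : n3053 = n2365 := (((iv F10723)).symm.trans (sb E6925 (tr F8582 E6925)))
theorem F56501 : act 5 n2365 = n1876 := (sb E6925 F8583)
theorem E7989 : n3119 = n3049 := ((((iv F10712)).symm.trans (sb E6925 D3119))).symm
theorem F56502 : act 5 n2362 = n1909 := (sb E6926 F8699)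
theorem E7993 : n4630 = n2779 := ((((iv F9800)).symm.trans (sb E6935 D4630))).symm
theorem E7994 : n4787 = n2780 := ((((iv F9802)).symm.trans (sb E6936 D4787))).symm
theorem E7998 : n4535 = n4481 := (((iv F15619)).symm.trans (sb E6944 (iv F15437)))
theorem F56503 : act 5 n3527 = n2797 := (sb E6944 F12526)
theorem E7999 : n4633 = n4530 := ((((iv F15604)).symm.trans (sb E6944 D4633))).symm
theorem F56504 : act 2 n3487 = n2737 := (sb E6945 F12301)
theorem E8001 : n4531 = n4484 := (((D4484).symm.trans (sb E6945 (iv F15607)))).symm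
theorem F56505 : act 5 n3524 = n2798 := (sb E6946 F12535)
theorem E8004 : n7417 = n4600 := ((((iv F15811)).symm.trans (sb E6950 (iv F24963)))).symm
theorem F56506 : act 4 n3576 = n4545 := (sb E6950 F19847)
theorem E8005 : n7469 = n4594 := ((((iv F15802)).symm.trans (sb E6950 D7469))).symm
theorem E8036 : n8371 = n3085 := (((F12432).symm.trans (sb E6976 F31838))).symm
theorem F56507 : act 1 n3594 = n4598 := (sb E6979 F19758)
theorem E8038 : n7430 = n4597 := ((((iv F15806)).symm.trans (sb E6979 (iv F24993)))).symm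
theorem F56508 : act 5 n3594 = n4525 := (sb E6979 (iv D5802))
theorem E8039 : n7422 = n4626 := (((D4626).symm.trans (sb E6979 (iv F24978)))).symm
theorem F56509 : act 5 n2407 = n3061 := (sb E6980 (iv D3954))
theorem E8040 : n5057 = n3109 := (((D3109).symm.trans (sb E6980 (iv F17315)))).symm
theorem E8041 : n7433 = n4455 := ((((iv F15349)).symm.trans (sb E6981 (iv F25000)))).symm
theorem F56510 : act 5 n3575 = n4526 := (sb E6981 (iv D5804))
theorem E8042 : n7424 = n4602 := (((D4602).symm.trans (sb E6981 (iv F24982)))).symm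
theorem F56511 : act 5 n3598 = n4522 := (sb E6982 (iv D5798))
theorem E8043 : n5053 = n3113 := (((F12516).symm.trans (sb E6982 F19750))).symm
theorem E8044 : n5059 = n3090 := ((((iv F10828)).symm.trans (sb E6983 (iv F17319)))).symm
theorem F56512 : act 5 n2410 = n3045 := (sb E6983 (iv D3932))
theorem F56513 : act 0 n2451 = n3086 := (sb E6984 F13618)
theorem F56514 : act 5 n2451 = n3042 := (sb E6984 (iv D3927))
theorem E8048 : n7584 = n4596 := ((((iv F15804)).symm.trans (sb E6987 D7584))).symm
theorem E8049 : n7585 = n4591 := ((((iv F15795)).symm.trans (sb E6987 D7585))).symm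
theorem F56515 : act 5 n2408 = n3107 := (sb E6988 F13849)
theorem E8050 : n5156 = n3088 := ((((iv F10824)).symm.trans (sb E6988 D5156))).symm
theorem E8051 : n12395 = n4585 := (((D4585).symm.trans (sb E6989 D12395))).symm
theorem E8054 : n12325 = n12145 := ((((iv F40066)).symm.trans (sb E6991 (iv F40603)))).symm
theorem E8055 : n12397 = n12151 := ((((iv F40080)).symm.trans (sb E6991 D12397))).symm
theorem E8056 : n7431 = n4585 := ((F31687).symm.trans (sb E6991 (tr (iv F40788) E8051)))
theorem E8058 : n4586 = n4549 := ((D4586).symm.trans (sb E6992 F19867))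
theorem F56517 : act 2 n2403 = n3061 := (sb E6994 F13688)
theorem E8061 : n3103 = n3060 := ((D3103).symm.trans (sb E6994 (iv D3952)))
theorem E8062 : n5092 = n3079 := ((((iv F10798)).symm.trans (sb E6994 D5092))).symm
theorem E8069 : n7806 = n4578 := ((((iv F15757)).symm.trans (sb E6999 (iv F26138)))).symm
theorem E8070 : n7840 = n4599 := (((D4599).symm.trans (sb E6999 D7840))).symm
theorem E8071 : n7841 = n4592 := ((((iv F15797)).symm.trans (sb E6999 D7841))).symm
theorem E8073 : n5226 = n3089 := ((((iv F10826)).symm.trans (sb E7001 D5226))).symm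
theorem F56519 : act 1 n3535 = n4543 := (sb E7002 (iv F15642))
theorem F56520 : act 4 n3535 = n2782 := (sb E7002 (iv D3588))
theorem E8074 : n12815 = n4445 := ((((iv F15322)).symm.trans (sb E7003 D12815))).symm
theorem E8079 : n7434 = n4445 := ((F31693).symm.trans (sb E7006 (tr (iv F42076) E8074)))
theorem E8081 : n4587 = n4527 := ((D4587).symm.trans (sb E7007 F19764))
theorem F56521 : act 6 n3565 = n4526 := (sb E7007 (iv D5805))
theorem E8082 : n7436 = n4582 := ((((iv F15769)).symm.trans (sb E7007 D7436))).symm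
theorem F56522 : act 1 n3538 = n2766 := (sb E7009 F12420)
theorem F56523 : act 4 n3538 = n2765 := (sb E7009 (iv D3566))
theorem E8084 : n4583 = n4554 := (((D4554).symm.trans (sb E7009 (iv F15773)))).symm
theorem F56524 : act 1 n2371 = n1865 := (sb E7012 F8552)
theorem F56525 : act 4 n2371 = n1864 := (sb E7012 (iv D2405))
theorem E8087 : n3081 = n3063 := (((D3063).symm.trans (sb E7012 (iv F10804)))).symm
theorem E8088 : n5060 = n3080 := (((D3080).symm.trans (sb E7013 (iv F17321)))).symm
theorem F56526 : act 5 n3684 = n4738 := (sb E7026 F20587)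
theorem E8101 : n7562 = n7412 := ((((iv F24951)).symm.trans (sb E7029 (iv F25368)))).symm
theorem F56527 : act 5 n5790 = n4625 := (sb E7029 F20139)
theorem E8102 : n7599 = n7358 := ((((iv F24781)).symm.trans (sb E7029 D7599))).symm
theorem F56528 : act 5 n3947 = n3108 := (sb E7030 (iv D4015))
theorem E8103 : n5169 = n5045 := ((((iv F17283)).symm.trans (sb E7030 D5169))).symm
theorem E8104 : n7565 = n7415 := (((D7415).symm.trans (sb E7031 (iv F25375)))).symm
theorem F56529 : act 5 n5791 = n4601 := (sb E7031 F20045)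
theorem E8105 : n7567 = n7359 := ((((iv F24784)).symm.trans (sb E7031 D7567))).symm
theorem F56530 : act 5 n5752 = n4628 := (sb E7032 F20146)
theorem E8106 : n5171 = n5042 := (((F19598).symm.trans (sb E7032 F20147))).symm
theorem E8107 : n5141 = n5046 := ((((iv F17285)).symm.trans (sb E7033 (iv F17561)))).symm
theorem F56531 : act 5 n3922 = n3112 := (sb E7033 F13885)
theorem F56532 : act 5 n3919 = n3162 := (sb E7034 F14058)
theorem F56533 : act 2 n3947 = n3107 := (sb E7035 F13685)
theorem E8108 : n5089 = n5045 := ((((iv F17283)).symm.trans (sb E7035 D5089))).symm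
theorem E8109 : n5195 = n5046 := ((((iv F17285)).symm.trans (sb E7036 D5195))).symm
theorem E8111 : n7473 = n7412 := ((((iv F24951)).symm.trans (sb E7038 D7473))).symm
theorem E8114 : n7740 = n7359 := ((((iv F24784)).symm.trans (sb E7039 D7740))).symm
theorem E8119 : n8492 = n5118 := ((((iv F17492)).symm.trans (sb E7043 D8492))).symm
theorem E8124 : n8601 = n5121 := (((D5121).symm.trans (sb E7047 D8601))).symm
theorem E8137 : n7539 = n4524 := (((D4524).symm.trans (sb E7066 (iv F25318)))).symm
theorem E8140 : n7536 = n7427 := ((((iv F24987)).symm.trans (sb E7068 (iv F25310)))).symm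
theorem E8141 : n7429 = n7294 := ((D7429).symm.trans (sb E7068 (iv F24570)))
theorem E8143 : n5160 = n5050 := (((F19743).symm.trans (sb E7069 F20109))).symm
theorem E8144 : n5119 = n5055 := ((((iv F17309)).symm.trans (sb E7070 (iv F17494)))).symm
theorem E8145 : n7538 = n7413 := ((((iv F24953)).symm.trans (sb E7071 (iv F25315)))).symm
theorem F56534 : act 4 n5827 = n4598 := (sb E7071 F20002)
theorem E8146 : n7530 = n7465 := (((D7465).symm.trans (sb E7071 (iv F25298)))).symm
theorem E8147 : n5120 = n5082 := (((D5082).symm.trans (sb E7072 (iv F17500)))).symm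
theorem E8161 : n7542 = n4497 := ((((iv F15505)).symm.trans (sb E7084 (iv F25325)))).symm
theorem E8164 : n5123 = n3044 := (((D3044).symm.trans (sb E7086 (iv F17508)))).symm
theorem E8165 : n7503 = n7404 := ((((iv F24931)).symm.trans (sb E7087 (iv F25223)))).symm
theorem E8166 : n7407 = n7224 := ((D7407).symm.trans (sb E7087 (iv F24354)))
theorem F56535 : act 5 n5786 = n4579 := (sb E7087 F19942)
theorem F56536 : act 6 n5786 = n4569 := (sb E7087 (iv D5860))
theorem E8167 : n7508 = n7364 := ((((iv F24805)).symm.trans (sb E7087 D7508))).symm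
theorem F56537 : act 3 n5700 = n4526 := (sb E7088 (iv D5803))
theorem E8168 : n7376 = n7298 := ((((iv F24581)).symm.trans (sb E7088 (iv F24846)))).symm
theorem E8169 : n7423 = n7299 := (((D7299).symm.trans (sb E7088 (iv F24980)))).symm
theorem E8171 : n5124 = n5051 := ((((iv F17300)).symm.trans (sb E7090 (iv F17511)))).symm
theorem E8172 : n5058 = n3930 := ((D5058).symm.trans (sb E7091 (tr F13769 E7091)))
theorem E8179 : n7541 = n7365 := (((D7365).symm.trans (sb E7097 (iv D9654)))).symm
theorem E8181 : n7532 = n7418 := (((D7418).symm.trans (sb E7099 (iv F25303)))).symm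
theorem F56538 : act 1 n3949 = n3082 := (sb E7104 F13771)
theorem E8186 : n5122 = n5047 := ((((iv F17287)).symm.trans (sb E7104 (iv F17505)))).symm
theorem F56539 : act 4 n3949 = n3091 := (sb E7104 F13773)
theorem E8187 : n5116 = n5087 := (((D5087).symm.trans (sb E7104 (iv F17487)))).symm
theorem E8189 : n13965 = n6575 := (((F22183).symm.trans (sb E7106 D13965))).symm
theorem F56540 : act 5 n5785 = n4740 := (sb E7110 F20594)
theorem E8192 : n7784 = n7363 := ((((iv F24802)).symm.trans (sb E7110 D7784))).symm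
theorem F56541 : act 5 n5756 = n4745 := (sb E7111 F20609)
theorem E8197 : n8301 = n5140 := ((((iv F17558)).symm.trans (sb E7118 (iv F27709)))).symm
theorem F56542 : act 1 n2412 = n1875 := (sb E7120 (iv D2417))
theorem F56543 : act 3 n2412 = n3107 := (sb E7120 (iv F10880))
theorem E8199 : n3120 = n3099 := ((((iv F10858)).symm.trans (sb E7120 D3120))).symm
theorem E8200 : n3170 = n3101 := ((((iv F10863)).symm.trans (sb E7121 D3170))).symm
theorem F56544 : act 2 n1513 = n1862 := (sb E7122 (iv F6723))
theorem E8203 : n2003 = n1957 := (((D1957).symm.trans (sb E7122 (iv F7177)))).symm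
theorem F56545 : act 0 n2398 = n1909 := (sb E7123 F8702)
theorem E8205 : n5167 = n5136 := ((((iv F17546)).symm.trans (sb E7125 D5167))).symm
theorem F56546 : act 6 n3989 = n3107 := (sb E7125 (iv D4014))
theorem E8207 : n5239 = n5139 := ((((iv F17555)).symm.trans (sb E7126 D5239))).symm
theorem E8208 : n5240 = n5130 := ((((iv F17531)).symm.trans (sb E7126 D5240))).symm
theorem E8209 : n8451 = n8420 := ((((iv F28059)).symm.trans (sb E7128 (iv F28158)))).symm
theorem E8212 : n8603 = n8428 := (((D8428).symm.trans (sb E7130 D8603))).symm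
theorem E8215 : n12115 = n7557 := ((((iv F25357)).symm.trans (sb E7132 (iv F39993)))).symm
theorem E8218 : n12038 = n7521 := ((((iv F25270)).symm.trans (sb E7134 (iv F39758)))).symm
theorem E8219 : n12041 = n7524 := ((((iv F25279)).symm.trans (sb E7134 (iv F39772)))).symm
theorem F56547 : act 5 n5873 = n7369 := (sb E7134 (iv D9431))
theorem E8220 : n7526 = n7377 := ((D7526).symm.trans (sb E7134 F31458))
theorem E8221 : n12123 = n7315 := ((((iv F24625)).symm.trans (sb E7135 D12123))).symm
theorem E8222 : n12021 = n7566 := (((D7566).symm.trans (sb E7135 (iv F39695)))).symm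
theorem F56548 : act 1 n6083 = n7504 := (sb E7137 F31446)
theorem F56549 : act 3 n6083 = n7388 := (sb E7137 F31447)
theorem F56550 : act 5 n6083 = n7368 := (sb E7137 (iv D9429))
theorem E8224 : n7797 = n7375 := ((D7797).symm.trans (sb E7137 F31450))
theorem F56551 : act 4 n5766 = n4745 := (sb E7138 F20639)
theorem F56552 : act 7 n5766 = n4744 := (sb E7138 (iv D6088))
theorem F56553 : act 1 n3584 = n2797 := (sb E7139 F12538)
theorem E8225 : n4636 = n4612 := ((((iv F15845)).symm.trans (sb E7139 D4636))).symm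
theorem E8226 : n4637 = n4606 := ((((iv F15828)).symm.trans (sb E7139 D4637))).symm
theorem E8229 : n7558 = n7556 := ((((iv F25356)).symm.trans (sb E7142 (iv F25359)))).symm
theorem E8232 : n7792 = n7520 := ((((iv F25268)).symm.trans (sb E7144 (iv F26096)))).symm
theorem E8233 : n7823 = n7523 := ((((iv F25277)).symm.trans (sb E7144 D7823))).symm
theorem E8234 : n7824 = n7514 := ((((iv F25255)).symm.trans (sb E7144 D7824))).symm
theorem F56554 : act 1 n5870 = n4740 := (sb E7147 F20615)
theorem F56555 : act 6 n5870 = n4738 := (sb E7147 (iv D6080))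
theorem E8238 : n7793 = n7512 := ((((iv F25249)).symm.trans (sb E7147 D7793))).symm
theorem E8239 : n12294 = n12263 := ((((iv F40432)).symm.trans (sb E7149 (iv F40520)))).symm
theorem E8240 : n12365 = n12322 := ((((iv F40597)).symm.trans (sb E7149 D12365))).symm
theorem E8241 : n12366 = n12308 := ((((iv F40560)).symm.trans (sb E7149 D12366))).symm
theorem E8245 : n12263 = n12036 := ((((iv F39751)).symm.trans (sb E7153 (tr (iv F40521) E8239)))).symm
theorem E8246 : n12747 = n7421 := (((F31443).symm.trans (sb E7153 D12747))).symm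
theorem E8247 : n12039 = n7520 := (((iv F39764)).symm.trans (sb E7153 (tr F33086 E8232)))
theorem E8248 : n12748 = n12040 := (((D12040).symm.trans (sb E7153 D12748))).symm
theorem E8249 : n12797 = n7425 := ((((iv F24984)).symm.trans (sb E7154 D12797))).symm
theorem E8250 : n12798 = n7426 := (((D7426).symm.trans (sb E7154 D12798))).symm
theorem E8251 : n12042 = n7523 := ((((iv F25277)).symm.trans (sb E7155 (iv F39775)))).symm
theorem F56556 : act 4 n5872 = n7370 := (sb E7155 F31461)
theorem F56557 : act 6 n5872 = n7369 := (sb E7155 (iv D9432))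
theorem E8252 : n12044 = n7514 := ((((iv F25255)).symm.trans (sb E7155 D12044))).symm
theorem E8253 : n12040 = n11750 := ((((iv F38797)).symm.trans (sb E7164 (tr (iv F41873) E8248)))).symm
theorem E8254 : n11753 = n7426 := (((iv F38811)).symm.trans (sb E7164 (tr (iv F42028) E8250)))
theorem E8259 : n7505 = n7360 := ((((iv F24788)).symm.trans (sb E7157 (iv D9606)))).symm
theorem E8264 : n7410 = n7195 := ((((iv D9203)).symm.trans (sb E7160 F31465))).symm
theorem E8265 : n11755 = n7379 := ((D11755).symm.trans (sb E7160 F31466))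
theorem F56558 : act 7 n9203 = n7370 := (sb E7160 (iv D9433))
theorem E8267 : n7665 = n7504 := ((F31442).symm.trans (sb E7162 F31968))
theorem E8268 : n7502 = n7405 := (((F31444).symm.trans (sb E7162 (iv D9603)))).symm
theorem E8269 : n12748 = n11750 := (E8248).trans E8253
theorem F56559 : act 1 n5981 = n4739 := (sb E7165 (iv F56379))
theorem F56560 : act 4 n5981 = n4738 := (sb E7165 (iv F56389))
theorem F56561 : act 2 n5861 = n7370 := (sb E7166 (iv F24828))
theorem F56562 : act 6 n5861 = n4666 := (sb E7166 (iv D5984))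
theorem E8275 : n12773 = n12058 := ((D12773).symm.trans (sb E7184 F50293))
theorem E8283 : n12109 = n7290 := ((((iv F24560)).symm.trans (sb E7194 D12109))).symm
theorem F56570 : act 6 n5858 = n4669 := (sb E7196 (iv D5988))
theorem F56574 : act 2 n5787 = n4570 := (sb E7202 F19939)
theorem F56575 : act 4 n5787 = n4569 := (sb E7202 (iv D5859))
theorem E8290 : n12022 = n7223 := (((D7223).symm.trans (sb E7204 (iv F39698)))).symm
theorem E8293 : n12293 = n12035 := ((((iv F39747)).symm.trans (sb E7209 (iv F40518)))).symm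
theorem E8305 : n12294 = n12036 := (E8239).trans E8245
theorem E8319 : n12078 = n11916 := ((D12078).symm.trans (sb E7242 (iv F39348)))
theorem E8324 : n11761 = n7613 := (((D7613).symm.trans (sb E7252 (iv F38841)))).symm
theorem F56577 : act 6 n5946 = n7200 := (sb E7255 (iv D9212))
theorem E8331 : n11766 = n5011 := (((F20189).symm.trans (sb E7255 D11766))).symm
theorem E8334 : n11760 = n8239 := (((iv F38837)).symm.trans (sb E7260 F32395))
theorem F56578 : act 6 n9209 = n7618 := (sb E7260 (iv D9750))
theorem E8336 : n12439 = n11757 := ((((iv F38825)).symm.trans (sb E7261 (iv F40925)))).symm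
theorem E8337 : n11759 = n8289 := ((D11759).symm.trans (sb E7261 F32362))
theorem F56579 : act 2 n6432 = n7202 := (sb E7263 F30708)
theorem F56580 : act 5 n6432 = n7200 := (sb E7263 (iv D9211))
theorem E8339 : n8244 = n7208 := ((D8244).symm.trans (sb E7263 F30710))
theorem F56581 : act 3 n6468 = n7200 := (sb E7265 (iv D9210))
theorem E8340 : n8293 = n7238 := (((iv F27686)).symm.trans (sb E7265 F30705))
theorem E8341 : n8294 = n7207 := ((D8294).symm.trans (sb E7265 F30706))
theorem E8407 : n15870 = n7198 := (((D7198).symm.trans (sb E7349 (iv F51772)))).symm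
theorem E8412 : n9745 = n7201 := (((D7201).symm.trans (sb E7350 (iv D12446)))).symm
theorem F56587 : act 5 n5954 = n5954 := (sb E7354 (iv D7626))
theorem E8416 : n9743 = n7614 := ((((iv F25541)).symm.trans (sb E7354 (iv F32368)))).symm
theorem F56588 : act 5 n5947 = n5947 := (sb E7357 (iv D7617))
theorem E8418 : n6428 = n5012 := (((F20193).symm.trans (sb E7357 F25554))).symm
theorem F56589 : act 5 n3897 = n3897 := (sb E7359 (iv D5013))
theorem E8522 : n15865 = n9206 := (((D9206).symm.trans (sb E7455 (iv F51753)))).symm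
theorem E8523 : n15869 = n5653 := (((F24252).symm.trans (sb E7455 (iv F51769)))).symm
theorem E8524 : n9741 = n9208 := (((D9208).symm.trans (sb E7455 (iv D12442)))).symm
theorem E8526 : n10615 = n5655 := (((D5655).symm.trans (sb E7457 F40950))).symm
theorem E8527 : n9744 = n5656 := (((D5656).symm.trans (sb E7457 (iv D12445)))).symm
theorem F56592 : act 2 n7201 = n5947 := (sb E7459 F25544)
theorem F56593 : act 4 n7201 = n5946 := (sb E7459 (iv D7615))
theorem E8529 : n9213 = n6426 := ((D9213).symm.trans (sb E7459 F25545))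
theorem E8660 : n1528 = n292 := ((((iv F1144)).symm.trans (sb E7573 (iv F5533)))).symm
theorem F56597 : act 4 n2746 = n2169 := (sb E7594 (iv D2793))
theorem E8681 : n3541 = n3485 := ((D3541).symm.trans (sb E7594 (iv F12154)))
theorem E8682 : n2414 = n2374 := (((F9704).symm.trans (sb E7594 F9847))).symm
theorem F56598 : act 2 n1872 = n2375 := (sb E7596 F10755)
theorem E8691 : n3529 = n3486 := ((((iv F12157)).symm.trans (sb E7600 (iv F12303)))).symm
theorem F56599 : act 6 n2709 = n2135 := (sb E7600 (iv D2749))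
theorem F56600 : act 4 n1842 = n1445 := (sb E7601 (iv D1874))
theorem E8693 : n2377 = n1842 := ((D2377).symm.trans (sb E7601 (tr F6754 E7601)))
theorem F56601 : act 6 n1423 = n1423 := (sb E7610 (iv D1846))
theorem E8723 : n303 = n280 := (((D280).symm.trans (sb E7624 F1566))).symm
theorem F56602 : act 0 n226 = n278 := (sb E7627 (iv D374))
theorem F56603 : act 0 n372 = n300 := (sb E7628 F1553)
theorem F56604 : act 3 n372 = n299 := (sb E7628 (iv D400))
theorem F56605 : act 1 n393 = n500 := (sb E7630 F2503)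
theorem E8728 : n525 = n393 := ((D525).symm.trans (sb E7630 (tr F2504 E7630)))
theorem E8733 : n2535 = n295 := ((((iv F1157)).symm.trans (sb E7647 D2535))).symm
theorem E8743 : n2515 = n891 := ((((iv F3304)).symm.trans (sb E7657 F11269))).symm
theorem E8744 : n4162 = n897 := (((D897).symm.trans (sb E7657 (iv F14334)))).symm
theorem E8746 : n523 = n392 := ((D523).symm.trans (sb E7658 (tr F4252 E7658)))
theorem E8747 : n892 = n673 := ((D892).symm.trans (sb E7659 (tr F6984 E7659)))
theorem E8748 : n899 = n678 := ((D899).symm.trans (sb E7660 (tr F11252 E7660)))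
theorem E8785 : n398 = n298 := ((D398).symm.trans (sb E7691 (tr F8937 E7691)))
theorem E8787 : n681 = n512 := ((D681).symm.trans (sb E7692 (tr F14327 E7692)))
theorem E8790 : n9733 = n3502 := ((((iv F12221)).symm.trans (sb E7695 (iv F32332)))).symm
theorem E8791 : n5940 = n3522 := (((D3522).symm.trans (sb E7695 F25517))).symm
theorem E8794 : n9406 = n3503 := (((D3503).symm.trans (sb E7696 (iv F31351)))).symm
theorem E8796 : n5747 = n3523 := (((D3523).symm.trans (sb E7697 (iv F19575)))).symm
theorem E8802 : n2516 = n1538 := (((F6637).symm.trans (sb E7701 F11056))).symm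
theorem E8806 : n4023 = n2363 := (((D2363).symm.trans (sb E7705 F17674))).symm
theorem E8808 : n2364 = n1834 := ((D2364).symm.trans (sb E7707 (tr F10909 E7707)))
theorem E8811 : n1540 = n1177 := (((iv F5579)).symm.trans (sb E7710 (tr F6989 E7710)))
theorem F56609 : act 4 n1177 = n1511 := (sb E7710 F6990)
theorem E8813 : n9403 = n3505 := (((D3505).symm.trans (sb E7711 (iv F31339)))).symm
theorem E8814 : n5744 = n3526 := (((D3526).symm.trans (sb E7712 (iv F19564)))).symm
theorem E8817 : n5746 = n3506 := (((D3506).symm.trans (sb E7714 (iv D7353)))).symm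
theorem F56610 : act 4 n2736 = n3487 := (sb E7715 F15445)
theorem F56611 : act 4 n300 = n300 := (sb E7717 (iv D401))
theorem F56612 : act 3 n297 = n297 := (sb E7718 (iv D397))
theorem F56613 : act 2 n296 = n296 := (sb E7719 (iv D396))
theorem F56614 : act 1 n5832 = n4584 := (sb E7722 F19989)
theorem E8866 : n8369 = n3101 := ((((iv F10863)).symm.trans (sb E7766 D8369))).symm
theorem E8870 : n12117 = n7557 := ((((iv F25357)).symm.trans (sb E7773 (iv F39998)))).symm
theorem F56625 : act 1 n5933 = n7465 := (sb E7774 F31804)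
theorem E8873 : n8362 = n5170 := (((F20143).symm.trans (sb E7774 F31807))).symm
theorem F56626 : act 1 n4016 = n5082 := (sb E7775 F22012)
theorem E8874 : n8361 = n5137 := ((((iv F17548)).symm.trans (sb E7775 D8361))).symm
theorem E8880 : n8299 = n5136 := ((((iv F17546)).symm.trans (sb E7780 (iv F27702)))).symm
theorem E8882 : n8302 = n5139 := ((((iv F17555)).symm.trans (sb E7781 (iv F27711)))).symm
theorem E8883 : n8304 = n5130 := ((((iv F17531)).symm.trans (sb E7781 D8304))).symm
theorem F56627 : act 4 n5949 = n5949 := (sb E7785 (iv D7619))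
theorem E8887 : n6430 = n5014 := (((F20203).symm.trans (sb E7785 F25562))).symm
theorem E8888 : n10547 = n8239 := (((E8334).symm.trans (((iv F38837)).symm.trans (sb E7786 F40976)))).symm
theorem E8890 : n6431 = n5015 := (((D5015).symm.trans (sb E7787 (iv F21752)))).symm
theorem F56628 : act 4 n3899 = n3899 := (sb E7787 (iv D5016))
theorem E8891 : n3903 = n3024 := (((F13528).symm.trans (sb E7787 F17188))).symm
theorem E8892 : n10550 = n5052 := (((F21755).symm.trans (sb E7788 (iv F34889)))).symm
theorem F56629 : act 4 n6432 = n6432 := (sb E7788 F27529)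
theorem E8893 : n10552 = n7208 := (((E8339).symm.trans ((D8244).symm.trans (sb E7788 D10552)))).symm
theorem F56631 : act 4 n2345 = n2345 := (sb E7792 (iv D3025))
theorem E8914 : n7455 = n4477 := ((((iv F15424)).symm.trans (sb E7813 D7455))).symm
theorem E8978 : n9523 = n4603 := (((F19767).symm.trans (sb E7870 D9523))).symm
theorem F56632 : act 6 n5807 = n5807 := (sb E7870 (iv D7438))
theorem E8980 : n9524 = n4534 := (((F19769).symm.trans (sb E7870 D9524))).symm
theorem E8984 : n9691 = n7319 := (((D7319).symm.trans (sb E7872 F40125))).symm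
theorem E8986 : n6447 = n1856 := (((F8423).symm.trans (sb E7873 D6447))).symm
theorem E8987 : n3933 = n3047 := (((D3047).symm.trans (sb E7873 F17222))).symm
theorem F56633 : act 3 n2349 = n2349 := (sb E7874 (iv D3031))
theorem E8997 : n5820 = n4536 := (((D4536).symm.trans (sb E7879 F25025))).symm
theorem F56640 : act 2 n2361 = n2361 := (sb E7893 (iv D3048))
theorem E9011 : n3935 = n3049 := (((D3049).symm.trans (sb E7893 D3935))).symm
theorem E9021 : n4541 = n3486 := (E7903).trans E8691
theorem E9022 : n4536 = n4480 := ((((iv F15432)).symm.trans (sb E9021 (tr (iv F19808) E8997)))).symm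
theorem E9033 : n1537 = n1175 := (((D1175).symm.trans (sb E7912 F7087))).symm
theorem F56642 : act 2 n889 = n889 := (sb E7914 (iv D1174))
theorem E9036 : n912 = n670 := ((((iv D889)).symm.trans (sb E7914 F4288))).symm
theorem E9042 : n521 = n390 := (((F1982).symm.trans (sb E7921 F2594))).symm
theorem F56643 : act 7 n519 = n519 := (sb E7921 (iv D689))
theorem E9082 : n10917 = n1554 := ((((iv F5630)).symm.trans (sb E7955 D10917))).symm
theorem E9084 : n11063 = n1556 := ((((iv F5636)).symm.trans (sb E7957 D11063))).symm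
theorem E9085 : n14126 = n900 := (E7964).trans E7968
theorem E9086 : n1556 = n1190 := (((D1190).symm.trans (sb E9085 (tr F46156 E9084)))).symm
theorem F56647 : act 5 n1190 = n1512 := (sb E7965 F6975)
theorem E9087 : n2511 = n1554 := ((((iv F5632)).symm.trans (sb E7965 D2511))).symm
theorem F56648 : act 0 n1188 = n1511 := (sb E7966 F6981)
theorem F56649 : act 5 n1188 = n1513 := (sb E7966 F6983)
theorem E9088 : n2514 = n1551 := ((((iv F5623)).symm.trans (sb E7966 D2514))).symm
theorem F56650 : act 1 n893 = n893 := (sb E7967 F4305)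
theorem F56651 : act 0 n900 = n900 := (sb E7968 F4341)
theorem E9090 : n1552 = n1187 := ((((iv F4338)).symm.trans (sb E7968 (iv F5626)))).symm
theorem E9093 : n4021 = n2400 := ((((iv F8540)).symm.trans (sb E7971 D4021))).symm
theorem E9094 : n4080 = n2401 := ((((iv F8542)).symm.trans (sb E7972 D4080))).symm
theorem F56652 : act 2 n1955 = n2362 := (sb E7979 (iv F8430))
theorem E9097 : n11063 = n1190 := (E9084).trans E9086
theorem E9100 : n6635 = n2399 := (((D2399).symm.trans (sb E7984 D6635))).symm
theorem E9104 : n3939 = n3052 := (((iv F13652)).symm.trans (sb E7987 (tr F10903 E7987)))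
theorem F56653 : act 5 n3052 = n2418 := (sb E7987 F10904)
theorem E9105 : n4024 = n3934 := ((((iv F13639)).symm.trans (sb E7987 D4024))).symm
theorem F56654 : act 2 n2365 = n2365 := (sb E7988 F10723)
theorem F56655 : act 5 n3049 = n2419 := (sb E7989 F10914)
theorem E9111 : n5937 = n3583 := ((((iv F12467)).symm.trans (sb E7993 D5937))).symm
theorem E9113 : n6138 = n3585 := (((D3585).symm.trans (sb E7994 D6138))).symm
theorem E9118 : n5815 = n5742 := ((((iv F19557)).symm.trans (sb E7998 (iv F19795)))).symm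
theorem F56656 : act 2 n4481 = n3527 := (sb E7998 F15619)
theorem E9120 : n5808 = n5745 := (((D5745).symm.trans (sb E7998 (iv F19772)))).symm
theorem F56657 : act 5 n4530 = n3606 := (sb E7999 F15919)
theorem F56658 : act 2 n4484 = n3524 := (sb E8001 F15606)
theorem E9126 : n9493 = n5902 := ((((iv F20041)).symm.trans (sb E8004 (iv F31641)))).symm
theorem F56659 : act 4 n4600 = n5792 := (sb E8004 F24964)
theorem F56660 : act 6 n4600 = n5791 := (sb E8004 (iv D7417))
theorem E9127 : n9495 = n5893 := ((((iv F20024)).symm.trans (sb E8004 D9495))).symm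
theorem F56661 : act 4 n4594 = n5832 := (sb E8005 F25109)
theorem E9168 : n10631 = n3983 := ((((iv F13782)).symm.trans (sb E8036 (iv F35140)))).symm
theorem E9170 : n9507 = n5897 := ((((iv F20030)).symm.trans (sb E8038 (iv F31673)))).symm
theorem F56662 : act 5 n4597 = n5800 := (sb E8038 (iv D7430))
theorem E9172 : n9499 = n5901 := (((D5901).symm.trans (sb E8038 (iv F31656)))).symm
theorem F56663 : act 1 n4626 = n5891 := (sb E8039 F24975)
theorem F56664 : act 5 n4626 = n5795 := (sb E8039 (iv D7422))
theorem E9173 : n6481 = n4017 := (((F15895).symm.trans (sb E8039 F24977))).symm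
theorem F56665 : act 1 n3109 = n3989 := (sb E8040 F17313)
theorem E9174 : n6489 = n3988 := ((((iv F13794)).symm.trans (sb E8040 (iv F21925)))).symm
theorem F56666 : act 5 n3109 = n3929 := (sb E8040 (iv D5057))
theorem E9175 : n9515 = n5713 := ((((iv F19456)).symm.trans (sb E8041 D9515))).symm
theorem F56667 : act 5 n4602 = n5796 := (sb E8042 (iv D7424))
theorem E9177 : n9504 = n5895 := ((((iv F20028)).symm.trans (sb E8042 D9504))).symm
theorem E9178 : n6483 = n3993 := ((((iv F13808)).symm.trans (sb E8043 (iv F21911)))).symm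
theorem F56668 : act 5 n3113 = n3926 := (sb E8043 (iv D5053))
theorem F56669 : act 5 n3090 = n3930 := (sb E8044 (iv D5059))
theorem E9185 : n9647 = n5896 := ((((iv F20029)).symm.trans (sb E8048 (iv F32085)))).symm
theorem E9186 : n9707 = n5898 := (((D5898).symm.trans (sb E8048 D9707))).symm
theorem E9187 : n9708 = n5889 := ((((iv F20014)).symm.trans (sb E8048 D9708))).symm
theorem E9188 : n6618 = n3982 := (((F15794).symm.trans (sb E8049 F25441))).symm
theorem E9189 : n6617 = n3987 := ((((iv F13792)).symm.trans (sb E8050 D6617))).symm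
theorem E9190 : n15725 = n5880 := (((D5880).symm.trans (sb E8051 (iv F51360)))).symm
theorem E9191 : n15814 = n5697 := ((((iv F19415)).symm.trans (sb E8051 D15814))).symm
theorem E9196 : n9508 = n5880 := ((F40067).symm.trans (sb E8054 (tr (iv F51362) E9190)))
theorem E9199 : n9512 = n5697 := ((F40081).symm.trans (sb E8055 (tr (iv F51592) E9191)))
theorem E9201 : n5881 = n5801 := ((D5881).symm.trans (sb E8056 F24996))
theorem F56671 : act 6 n4585 = n5800 := (sb E8056 (iv D7431))
theorem E9202 : n9514 = n5875 := ((((iv F19980)).symm.trans (sb E8056 D9514))).symm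
theorem F56672 : act 1 n4549 = n5790 := (sb E8058 (iv F19728))
theorem F56673 : act 4 n4549 = n3564 := (sb E8058 (iv D4586))
theorem E9204 : n5876 = n5838 := (((D5838).symm.trans (sb E8058 (iv F19984)))).symm
theorem F56675 : act 1 n3060 = n3947 := (sb E8061 (iv F13674))
theorem F56676 : act 4 n3060 = n2403 := (sb E8061 (iv D3103))
theorem E9207 : n3977 = n3953 := (((D3953).symm.trans (sb E8061 (iv F13764)))).symm
theorem E9208 : n6490 = n3976 := (((D3976).symm.trans (sb E8062 (iv F21927)))).symm
theorem E9220 : n9960 = n5868 := ((((iv F19962)).symm.trans (sb E8069 (iv F33035)))).symm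
theorem E9222 : n9995 = n5864 := ((((iv F19954)).symm.trans (sb E8069 D9995))).symm
theorem E9223 : n10034 = n5711 := ((((iv F19453)).symm.trans (sb E8070 D10034))).symm
theorem E9224 : n10035 = n5892 := ((((iv F20022)).symm.trans (sb E8070 D10035))).symm
theorem E9225 : n10036 = n5894 := (((D5894).symm.trans (sb E8071 D10036))).symm
theorem E9227 : n6703 = n3990 := (((D3990).symm.trans (sb E8073 D6703))).symm
theorem E9235 : n9441 = n5699 := (((D5699).symm.trans (sb E8079 (iv F31484)))).symm
theorem E9238 : n5884 = n5765 := ((((iv F19651)).symm.trans (sb E8081 D5884))).symm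
theorem F56677 : act 4 n4527 = n3565 := (sb E8081 (iv D4587))
theorem E9239 : n5877 = n5806 := (((D5806).symm.trans (sb E8081 (iv F19986)))).symm
theorem E9240 : n9505 = n5878 := (((D5878).symm.trans (sb E8082 (iv F31671)))).symm
theorem F56678 : act 1 n4554 = n3563 := (sb E8084 F15770)
theorem F56679 : act 4 n4554 = n3562 := (sb E8084 (iv D4583))
theorem E9242 : n3974 = n3958 := (((F15679).symm.trans (sb E8084 F15772))).symm
theorem F56680 : act 1 n3063 = n2387 := (sb E8087 F10802)
theorem E9245 : n3978 = n3931 := ((((iv F13630)).symm.trans (sb E8087 (iv F13766)))).symm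
theorem F56681 : act 4 n3063 = n2386 := (sb E8087 (iv D3081))
theorem F56682 : act 6 n3080 = n3930 := (sb E8088 (iv D5060))
theorem E9256 : n9675 = n9486 := ((((iv F31624)).symm.trans (sb E8101 (iv F32149)))).symm
theorem E9257 : n9681 = n9488 := (((D9488).symm.trans (sb E8101 (iv F32162)))).symm
theorem F56683 : act 5 n7412 = n5900 := (sb E8101 F25369)
theorem F56684 : act 6 n7412 = n5899 := (sb E8101 (iv D7562))
theorem E9258 : n9683 = n9411 := ((((iv F31372)).symm.trans (sb E8101 D9683))).symm
theorem F56685 : act 5 n7358 = n5933 := (sb E8102 F25487)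
theorem E9259 : n6632 = n6466 := (((F24780).symm.trans (sb E8102 F25488))).symm
theorem E9260 : n6595 = n6471 := ((((iv F21876)).symm.trans (sb E8103 (iv F22242)))).symm
theorem F56686 : act 5 n5045 = n4016 := (sb E8103 F17652)
theorem E9261 : n9684 = n9422 := ((((iv F31419)).symm.trans (sb E8104 (iv F32171)))).symm
theorem F56687 : act 5 n7415 = n5903 := (sb E8104 F25376)
theorem E9262 : n9685 = n9414 := ((((iv F31386)).symm.trans (sb E8104 D9685))).symm
theorem F56688 : act 5 n7359 = n5905 := (sb E8105 F25380)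
theorem E9263 : n9671 = n9416 := (((D9416).symm.trans (sb E8105 (iv F32143)))).symm
theorem E9264 : n6600 = n6467 := ((((iv F21864)).symm.trans (sb E8106 (iv F22259)))).symm
theorem F56689 : act 5 n5042 = n4019 := (sb E8106 F17658)
theorem E9265 : n6598 = n6474 := (((D6474).symm.trans (sb E8107 (iv F22252)))).symm
theorem F56690 : act 5 n5046 = n3992 := (sb E8107 F17562)
theorem F56691 : act 6 n5046 = n3991 := (sb E8107 (iv D5141))
theorem E9266 : n6532 = n6471 := ((((iv F21876)).symm.trans (sb E8108 D6532))).symm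
theorem E9269 : n6666 = n6467 := ((((iv F21865)).symm.trans (sb E8109 D6666))).symm
theorem E9270 : n9509 = n9486 := ((((iv F31624)).symm.trans (sb E8111 (iv F31677)))).symm
theorem E9272 : n9569 = n9411 := ((((iv F31372)).symm.trans (sb E8111 D9569))).symm
theorem E9275 : n9910 = n9416 := (((D9416).symm.trans (sb E8114 D9910))).symm
theorem E9283 : n10870 = n6570 := (((D6570).symm.trans (sb E8119 D10870))).symm
theorem E9289 : n11004 = n5121 := (((F17503).symm.trans (sb E8124 D11004))).symm
theorem E9294 : n9646 = n5799 := (((D5799).symm.trans (sb E8137 (iv F32083)))).symm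
theorem E9295 : n9650 = n5762 := ((((iv F19645)).symm.trans (sb E8137 (iv F32093)))).symm
theorem E9299 : n9601 = n9476 := ((((iv F31599)).symm.trans (sb E8140 (iv F31963)))).symm
theorem E9300 : n9506 = n9333 := ((D9506).symm.trans (sb E8140 (iv F31114)))
theorem E9301 : n9648 = n9496 := ((((iv F31649)).symm.trans (sb E8140 D9648))).symm
theorem F56692 : act 3 n7294 = n5800 := (sb E8141 (iv D7429))
theorem E9302 : n9436 = n9336 := ((((iv F31124)).symm.trans (sb E8141 (iv F31472)))).symm
theorem E9303 : n9498 = n9337 := (((D9337).symm.trans (sb E8141 (iv F31653)))).symm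
theorem E9305 : n6573 = n6479 := ((((iv F21900)).symm.trans (sb E8143 (iv F22175)))).symm
theorem E9306 : n6569 = n6486 := ((((iv F21918)).symm.trans (sb E8144 (iv F22162)))).symm
theorem E9307 : n6488 = n5055 := ((D6488).symm.trans (sb E8144 (tr F17495 E8144)))
theorem E9308 : n9645 = n9487 := ((((iv F31626)).symm.trans (sb E8145 (iv F32081)))).symm
theorem E9309 : n9649 = n9420 := ((((iv F31409)).symm.trans (sb E8145 (iv F32091)))).symm
theorem F56693 : act 4 n7413 = n5899 := (sb E8145 F25316)
theorem E9310 : n9637 = n9491 := (((D9491).symm.trans (sb E8145 (iv F32062)))).symm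
theorem F56694 : act 4 n7465 = n5891 := (sb E8146 F25296)
theorem E9311 : n6563 = n6524 := (((F25097).symm.trans (sb E8146 F25297))).symm
theorem E9312 : n6571 = n6472 := ((((iv F21878)).symm.trans (sb E8147 (iv F22169)))).symm
theorem F56695 : act 4 n5082 = n3989 := (sb E8147 F17499)
theorem E9329 : n9339 = n5764 := (((D5764).symm.trans (sb E8161 (iv F31132)))).symm
theorem E9333 : n6575 = n3902 := ((((iv F13537)).symm.trans (sb E8164 (iv F22182)))).symm
theorem E9334 : n9478 = n9242 := ((D9478).symm.trans (sb E8165 (iv F30828)))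
theorem F56696 : act 5 n7404 = n5869 := (sb E8165 F25225)
theorem F56697 : act 6 n7404 = n5857 := (sb E8165 (iv D7503))
theorem E9335 : n9605 = n9419 := ((((iv F31406)).symm.trans (sb E8165 D9605))).symm
theorem F56698 : act 3 n7224 = n5786 := (sb E8166 (iv D7407))
theorem E9336 : n9414 = n9246 := ((((iv F30846)).symm.trans (sb E8166 (iv F31385)))).symm
theorem E9337 : n9422 = n9247 := (((D9247).symm.trans (sb E8166 (iv F31420)))).symm
theorem F56699 : act 5 n7364 = n5874 := (sb E8167 F25238)
theorem E9338 : n9424 = n9205 := ((D9424).symm.trans (sb E8167 (iv F30684)))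
theorem E9339 : n9440 = n9340 := ((((iv F31135)).symm.trans (sb E8168 D9440))).symm
theorem E9340 : n9430 = n9341 := (((D9341).symm.trans (sb E8168 (iv F31454)))).symm
theorem F56700 : act 3 n7299 = n5796 := (sb E8169 (iv D7423))
theorem E9341 : n9503 = n9231 := ((((iv F30783)).symm.trans (sb E8169 D9503))).symm
theorem E9343 : n6482 = n5051 := ((D6482).symm.trans (sb E8171 (tr F17512 E8171)))
theorem F56701 : act 3 n3930 = n3930 := (sb E8172 (iv D5058))
theorem E9352 : n9684 = n9247 := (E9261).trans E9337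
theorem E9356 : n9640 = n9425 := (((D9425).symm.trans (sb E8179 (iv F32072)))).symm
theorem F56702 : act 1 n7418 = n9203 := (sb E8181 (iv F30673))
theorem E9358 : n9642 = n9417 := ((((iv F31398)).symm.trans (sb E8181 D9642))).symm
theorem E9361 : n6574 = n6427 := ((((iv F21738)).symm.trans (sb E8186 (iv F22180)))).symm
theorem F56703 : act 4 n5047 = n3991 := (sb E8186 F17506)
theorem E9362 : n6565 = n6477 := (((D6477).symm.trans (sb E8186 (iv F22152)))).symm
theorem F56704 : act 1 n5087 = n3975 := (sb E8187 F17484)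
theorem F56705 : act 4 n5087 = n3985 := (sb E8187 F17486)
theorem E9364 : n13965 = n3902 := (E8189).trans E9333
theorem E9365 : n5121 = n5021 := (((D5021).symm.trans (sb E9364 (tr F45663 E9289)))).symm
theorem F56706 : act 5 n7363 = n6084 := (sb E8192 F26072)
theorem E9371 : n10614 = n6599 := (((D6599).symm.trans (sb E8197 (iv F35092)))).symm
theorem F56707 : act 1 n3099 = n2418 := (sb E8199 F10916)
theorem E9373 : n4027 = n4003 := ((((iv F13841)).symm.trans (sb E8199 D4027))).symm
theorem E9374 : n4028 = n3997 := ((((iv F13823)).symm.trans (sb E8199 D4028))).symm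
theorem E9375 : n2581 = n2517 := ((F10862).symm.trans (sb E8200 F11059))
theorem E9376 : n4086 = n4004 := ((((iv F13845)).symm.trans (sb E8200 D4086))).symm
theorem E9377 : n4087 = n3999 := ((((iv F13830)).symm.trans (sb E8200 D4087))).symm
theorem F56708 : act 2 n1957 = n2398 := (sb E8203 (iv F8532))
theorem E9380 : n6591 = n6589 := ((((iv F22225)).symm.trans (sb E8205 (iv F22230)))).symm
theorem E9381 : n6630 = n6593 := ((((iv F22236)).symm.trans (sb E8205 D6630))).symm
theorem E9382 : n6631 = n6581 := ((((iv F22203)).symm.trans (sb E8205 D6631))).symm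
theorem E9383 : n6717 = n6597 := (((D6597).symm.trans (sb E8207 D6717))).symm
theorem E9385 : n6719 = n6586 := (((D6586).symm.trans (sb E8208 D6719))).symm
theorem E9386 : n10824 = n10781 := ((((iv F35590)).symm.trans (sb E8209 D10824))).symm
theorem E9391 : n11007 = n8428 := (((F28087).symm.trans (sb E8212 D11007))).symm
theorem E9394 : n15349 = n9622 := ((((iv F32021)).symm.trans (sb E8215 (iv F50242)))).symm
theorem E9400 : n15353 = n9626 := ((((iv F32032)).symm.trans (sb E8218 (iv F50261)))).symm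
theorem F56709 : act 5 n7521 = n9427 := (sb E8218 (iv D12038))
theorem E9401 : n9628 = n9437 := ((D9628).symm.trans (sb E8218 F39761))
theorem F56710 : act 2 n7524 = n9458 := (sb E8219 F39771)
theorem E9402 : n15357 = n9329 := ((((iv F31105)).symm.trans (sb E8219 D15357))).symm
theorem E9403 : n11932 = n7524 := (((iv F39392)).symm.trans (iv (sb E8219 (tr (iv D12041) E9340))))
theorem E9404 : n9632 = n9340 := ((D9632).symm.trans (sb E8219 (tr F39773 E9339)))
theorem F56711 : act 1 n7377 = n5905 := (sb E8220 F25283)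
theorem F56712 : act 4 n7377 = n5874 := (sb E8220 F25285)
theorem E9405 : n9619 = n9442 := (((D9442).symm.trans (sb E8220 (iv F32016)))).symm
theorem F56713 : act 7 n7377 = n5873 := (sb E8220 (iv D7526))
theorem E9406 : n15343 = n9362 := ((((iv F31191)).symm.trans (sb E8221 (iv F50221)))).symm
theorem E9407 : n15329 = n9363 := (((D9363).symm.trans (sb E8221 (iv F50166)))).symm
theorem E9408 : n9685 = n9246 := (E9262).trans E9336
theorem E9409 : n15330 = n9670 := ((((iv F32140)).symm.trans (sb E8222 D15330))).symm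
theorem F56714 : act 4 n7375 = n6084 := (sb E8224 F26111)
theorem F56715 : act 7 n7375 = n6083 := (sb E8224 (iv D7797))
theorem E9410 : n5915 = n5748 := (((iv F20080)).symm.trans (sb E8225 (iv F19580)))
theorem F56716 : act 1 n4606 = n3606 := (sb E8226 F15932)
theorem E9416 : n9623 = n9621 := ((((iv F32019)).symm.trans (sb E8229 (iv F32024)))).symm

end Cfsg.Agent.Helper17.FiQ1TC
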