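import Cfsg.Agent.Helper17.FiQ1TC.Facts2

set_option autoImplicit false
set_option linter.all false

noncomputable section

namespace Cfsg.Agent.Helper17.FiQ1TC

theorem E9417 : n9678 = n9673 := ((((iv F32146)).symm.trans (sb E8229 D9678))).symm
theorem E9418 : n9679 = n9659 := ((((iv F32114)).symm.trans (sb E8229 D9679))).symm
theorem E9422 : n9977 = n9625 := ((((iv F32030)).symm.trans (sb E8232 D9977))).symm
theorem E9423 : n9978 = n9613 := ((((iv F31997)).symm.trans (sb E8232 D9978))).symm
theorem E9424 : n10016 = n9629 := (((D9629).symm.trans (sb E8233 D10016))).symm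
theorem E9426 : n10018 = n9618 := (((D9618).symm.trans (sb E8234 D10018))).symm
theorem F56717 : act 1 n7512 = n6084 := (sb E8238 F26098)
theorem E9430 : n15351 = n9622 := ((D15351).symm.trans (sb E8305 (iv D12294)))
theorem E9432 : n15350 = n9621 := (((iv F50249)).symm.trans (sb E8305 (tr F40522 E9416)))
theorem E9433 : n15688 = n15352 := (((D15352).symm.trans (sb E8305 D15688))).symm
theorem E9435 : n15775 = n15719 := ((((iv F51351)).symm.trans (sb E8240 (iv F51481)))).symm
theorem E9438 : n15352 = n14980 := ((((iv F48994)).symm.trans (sb E8241 (tr (iv F51262) E9433)))).symm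
theorem E9443 : n9600 = n9477 := (((F39753).symm.trans (sb E8245 (iv D12263)))).symm
theorem E9445 : n16270 = n9501 := (((D9501).symm.trans (sb E8246 D16270))).symm
theorem E9446 : n15354 = n9625 := ((((iv F32030)).symm.trans (sb E8247 (iv F50264)))).symm
theorem F56718 : act 4 n7520 = n9428 := (sb E8247 F39764)
theorem F56719 : act 6 n7520 = n9427 := (sb E8247 (iv D12039))
theorem E9449 : n14984 = n9501 := (((iv F49013)).symm.trans (sb E8269 (tr (iv F52988) E9445)))
theorem E9451 : n9629 = n9231 := (((E9341).symm.trans (((iv F31666)).symm.trans (sb E8249 (tr F42026 E9424))))).symm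
theorem E9455 : n11790 = n7523 := (((iv F38947)).symm.trans (iv (sb E8251 (tr (iv D12042) E9340))))
theorem E9456 : n15360 = n9616 := ((((iv F32007)).symm.trans (sb E8251 D15360))).symm
theorem E9457 : n9618 = n9443 := ((D9618).symm.trans (sb E8252 F39784))
theorem E9459 : n9481 = n9199 := ((((iv D11750)).symm.trans (sb E8253 F39768))).symm
theorem E9460 : n14986 = n9439 := ((D14986).symm.trans (sb E8253 F39769))
theorem F56720 : act 7 n11750 = n9428 := (sb E8253 (iv D12040))
theorem E9461 : n9220 = n6485 := (((F24985).symm.trans (sb E8254 F38810))).symm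
theorem F56721 : act 3 n7426 = n9203 := (sb E8254 F38811)
theorem E9463 : n9417 = n9202 := (((iv F31397)).symm.trans (sb E8254 (iv D11753)))
theorem E9466 : n10018 = n9443 := (E9426).trans E9457
theorem E9473 : n9416 = n9244 := (((iv F31393)).symm.trans (sb E8259 (iv F30838)))
theorem E9477 : n9425 = n9204 := (((D9204).symm.trans (sb E8264 (iv F31432)))).symm
theorem F56722 : act 7 n7195 = n5787 := (sb E8264 (iv D7410))
theorem E9478 : n9642 = n9202 := (E9358).trans E9463
theorem F56723 : act 6 n7379 = n9203 := (sb E8265 (iv D11755))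
theorem F56724 : act 2 n7504 = n9428 := (sb E8267 (iv F31442))
theorem F56725 : act 6 n7504 = n5981 := (sb E8267 (iv D7665))
theorem F56726 : act 2 n7405 = n5858 := (sb E8268 F25222)
theorem F56727 : act 4 n7405 = n5857 := (sb E8268 (iv D7502))
theorem E9484 : n16244 = n15374 := ((((iv F50324)).symm.trans (sb E8275 (iv F52911)))).symm
theorem E9486 : n12058 = n7515 := (((D7515).symm.trans (iv (sb E8275 (tr (iv D12773) E9222))))).symm
theorem E9499 : n9363 = n9330 := ((((iv F31108)).symm.trans (sb E8283 (tr (iv F50165) E9407)))).symm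
theorem E9500 : n9362 = n9331 := (((D9331).symm.trans (sb E8283 (tr (iv F50222) E9406)))).symm
theorem E9508 : n9670 = n9245 := (((D9245).symm.trans (sb E8290 (tr (iv F50169) E9409)))).symm
theorem E9511 : n15682 = n15348 := (((D15348).symm.trans (sb E8293 (iv F51248)))).symm
theorem E9519 : n9671 = n9244 := (E9263).trans E9473
theorem E9526 : n10016 = n9231 := (E9424).trans E9451
theorem E9530 : n9910 = n9244 := (E9275).trans E9473
theorem E9549 : n15200 = n9529 := (((iv F49743)).symm.trans (sb E8319 F39887))
theorem E9556 : n14995 = n9740 := (((D9740).symm.trans (sb E8324 (iv F49056)))).symm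
theorem F56729 : act 6 n7613 = n9207 := (sb E8324 (iv D11761))
theorem E9558 : n15001 = n6424 := (((F25537).symm.trans (sb E8324 D15001))).symm
theorem E9564 : n9223 = n6427 := (((D6427).symm.trans (sb E8331 F38862))).symm
theorem E9568 : n14994 = n10544 := ((((iv F34870)).symm.trans (sb E8334 (iv F49051)))).symm
theorem F56730 : act 2 n8239 = n9209 := (sb E8334 F38837)
theorem F56731 : act 5 n8239 = n9207 := (sb E8334 (iv D11760))
theorem E9569 : n10548 = n9217 := ((D10548).symm.trans (sb E8334 F38839))
theorem E9570 : n14993 = n10609 := ((D14993).symm.trans (sb E8336 F40926))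
theorem F56732 : act 3 n8289 = n9207 := (sb E8337 (iv D11759))
theorem E9572 : n10612 = n9260 := (((iv F35085)).symm.trans (sb E8337 F38834))
theorem E9573 : n10613 = n9216 := ((D10613).symm.trans (sb E8337 F38835))
theorem E9575 : n9222 = n6441 := ((D9222).symm.trans (sb E8339 F27532))
theorem F56733 : act 7 n7208 = n6432 := (sb E8339 (iv D8244))
theorem F56734 : act 4 n7238 = n6468 := (sb E8340 F27686)
theorem E9577 : n10617 = n5662 := (((F24391).symm.trans (sb E8340 D10617))).symm
theorem E9578 : n9221 = n6477 := ((D9221).symm.trans (sb E8341 F27689))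
theorem F56735 : act 7 n7207 = n6468 := (sb E8341 (iv D8294))
theorem E9632 : n12441 = n9208 := (((D9208).symm.trans (sb E8407 (iv D15870)))).symm
theorem E9637 : n8234 = n6426 := (((E8529).symm.trans ((D9213).symm.trans (sb E8412 F32377)))).symm
theorem F56740 : act 5 n7614 = n7614 := (sb E8416 (iv D9743))
theorem E9640 : n8232 = n6425 := (((F25542).symm.trans (sb E8416 F32369))).symm
theorem F56741 : act 5 n5012 = n5012 := (sb E8418 (iv D6428))
theorem E9710 : n12438 = n11758 := (((D11758).symm.trans (sb E8522 (iv D15865)))).symm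
theorem E9711 : n13561 = n7235 := (((D7235).symm.trans (sb E8523 F51770))).symm
theorem E9712 : n12440 = n7236 := (((D7236).symm.trans (sb E8523 (iv D15869)))).symm
theorem F56743 : act 2 n9208 = n7614 := (sb E8524 F32358)
theorem F56744 : act 4 n9208 = n7613 := (sb E8524 (iv D9741))
theorem E9713 : n11762 = n8230 := ((D11762).symm.trans (sb E8524 F32359))
theorem E9715 : n13565 = n7239 := (((D7239).symm.trans (sb E8526 (iv F44430)))).symm
theorem E9716 : n8291 = n7240 := (((D7240).symm.trans (sb E8526 (iv D10615)))).symm
theorem E9717 : n13567 = n4417 := (((F19278).symm.trans (sb E8526 D13567))).symm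
theorem E9718 : n8233 = n7241 := (((D7241).symm.trans (sb E8527 F32373))).symm
theorem E9720 : n8235 = n7210 := ((D8235).symm.trans (sb E8529 F30718))
theorem F56745 : act 7 n6426 = n7201 := (sb E8529 (iv D9213))
theorem E9835 : n1973 = n391 := ((((iv F1514)).symm.trans (sb E8660 D1973))).symm
theorem F56750 : act 6 n3485 = n2746 := (sb E8681 (iv D3541))
theorem F56751 : act 4 n2374 = n1872 := (sb E8682 (iv D2414))
theorem E9862 : n3066 = n2374 := ((D3066).symm.trans (sb E8682 (tr F8577 E8682)))
theorem E9875 : n4510 = n4482 := (((D4482).symm.trans (sb E8691 (iv F15547)))).symm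
theorem F56752 : act 6 n3486 = n2736 := (sb E8691 (iv D3529))
theorem F56753 : act 6 n1842 = n1842 := (sb E8693 (iv D2377))
theorem F56754 : act 4 n280 = n226 := (sb E8723 (iv D303))
theorem F56755 : act 3 n393 = n393 := (sb E8728 (iv D525))
theorem E9918 : n395 = n295 := ((D395).symm.trans (sb E8733 (tr F8965 E8733)))
theorem E9931 : n1176 = n891 := ((D1176).symm.trans (sb E8743 (tr F8883 E8743)))
theorem E9933 : n1186 = n897 := ((D1186).symm.trans (sb E8744 (tr F14333 E8744)))
theorem F56756 : act 2 n392 = n392 := (sb E8746 (iv D523))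
theorem F56757 : act 1 n673 = n673 := (sb E8747 (iv D892))
theorem F56758 : act 0 n678 = n678 := (sb E8748 (iv D899))
theorem F56759 : act 1 n298 = n298 := (sb E8785 (iv D398))
theorem F56760 : act 0 n512 = n512 := (sb E8787 (iv D681))
theorem E9989 : n12008 = n4503 := (((D4503).symm.trans (sb E8790 (iv F39642)))).symm
theorem E9991 : n7352 = n4529 := (((D4529).symm.trans (sb E8791 (iv F24755)))).symm
theorem E9997 : n7354 = n4504 := (((D4504).symm.trans (sb E8794 F31350))).symm
theorem F56761 : act 4 n3523 = n4484 := (sb E8796 F19576)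
theorem E10006 : n1985 = n1538 := (((iv F7110)).symm.trans (sb E8802 (tr F8887 E8802)))
theorem F56762 : act 4 n1538 = n1955 := (sb E8802 F8888)
theorem E10010 : n3051 = n2363 := ((D3051).symm.trans (sb E8806 (tr F13900 E8806)))
theorem F56763 : act 2 n1834 = n1834 := (sb E8808 (iv D2364))
theorem F56764 : act 1 n1177 = n1177 := (sb E8811 F5579)
theorem E10017 : n7351 = n4507 := (((D4507).symm.trans (sb E8813 (iv D9403)))).symm
theorem E10019 : n7348 = n4534 := (((D4534).symm.trans (sb E8814 (iv F24740)))).symm
theorem F56765 : act 4 n3526 = n4481 := (sb E8814 F19565)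
theorem E10022 : n7337 = n4509 := (((D4509).symm.trans (sb E8817 (iv F24704)))).symm
theorem E10053 : n10629 = n4004 := ((((iv F13845)).symm.trans (sb E8866 (iv F35135)))).symm
theorem F56774 : act 2 n7557 = n9487 := (sb E8870 (iv D12117))
theorem E10059 : n15460 = n9677 := (((D9677).symm.trans (sb E8870 D15460))).symm
theorem F56775 : act 1 n5170 = n6524 := (sb E8873 F27880)
theorem E10063 : n10708 = n6596 := ((((iv F22245)).symm.trans (sb E8873 (iv F35362)))).symm
theorem E10064 : n10621 = n6590 := ((((iv F22227)).symm.trans (sb E8874 (iv F35111)))).symm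
theorem E10073 : n10624 = n6593 := ((((iv F22236)).symm.trans (sb E8880 (iv F35121)))).symm
theorem E10075 : n10540 = n6597 := (((D6597).symm.trans (sb E8882 (iv F34857)))).symm
theorem E10076 : n10630 = n6584 := ((((iv F22212)).symm.trans (sb E8882 D10630))).symm
theorem E10077 : n6586 = n5662 := ((D6586).symm.trans (sb E8883 (tr (iv F35100) E9577)))
theorem E10083 : n8238 = n6429 := (((D6429).symm.trans (sb E8887 (iv F27513)))).symm
theorem F56776 : act 4 n5014 = n5014 := (sb E8887 (iv D6430))
theorem E10084 : n5019 = n3901 := (((F17182).symm.trans (sb E8887 F21750))).symm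
theorem E10085 : n13470 = n10544 := ((((iv F34870)).symm.trans (sb E8888 (iv F44121)))).symm
theorem E10086 : n13474 = n6480 := (((F27516).symm.trans (sb E8888 (iv F44134)))).symm
theorem F56777 : act 4 n8239 = n8239 := (sb E8888 F34880)
theorem E10087 : n13476 = n9217 := (((E9569).symm.trans ((D10548).symm.trans (sb E8888 D13476)))).symm
theorem F56778 : act 4 n5015 = n5015 := (sb E8890 (iv D6431))
theorem E10089 : n5020 = n3902 := (((F17185).symm.trans (sb E8890 F21753))).symm
theorem F56779 : act 4 n3024 = n3024 := (sb E8891 (iv D3903))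
theorem E10090 : n8312 = n6484 := ((((iv F21914)).symm.trans (sb E8892 F34890))).symm
theorem E10092 : n8254 = n6441 := (((E9575).symm.trans ((D9222).symm.trans (sb E8893 F34895)))).symm
theorem E10121 : n9529 = n5740 := (((D5740).symm.trans (sb E8914 (iv F31733)))).symm
theorem E10204 : n8332 = n3577 := ((((iv D4603)).symm.trans (sb E8978 F31711))).symm
theorem E10205 : n12164 = n5906 := (((D5906).symm.trans (sb E8978 (iv F40116)))).symm
theorem E10206 : n7571 = n5907 := (((D5907).symm.trans (sb E8978 F31713))).symm
theorem E10210 : n7450 = n5816 := (((D5816).symm.trans (sb E8980 F31717))).symm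
theorem E10217 : n11966 = n9368 := (((D9368).symm.trans (sb E8984 (iv F39492)))).symm
theorem E10219 : n5062 = n2395 := (((D2395).symm.trans (sb E8986 F21799))).symm
theorem F56785 : act 2 n3047 = n3047 := (sb E8987 (iv D3933))
theorem E10221 : n5063 = n3934 := (((D3934).symm.trans (sb E8987 D5063))).symm
theorem E10231 : n5820 = n4480 := (E8997).trans E9022
theorem E10232 : n5816 = n5741 := ((((iv F19552)).symm.trans (sb E10231 (tr (iv F25050) E10210)))).symm
theorem F56790 : act 2 n3049 = n3049 := (sb E9011 F13641)
theorem E10251 : n5778 = n5743 := (((D5743).symm.trans (sb E9022 (iv F19696)))).symm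
theorem F56791 : act 6 n4480 = n3526 := (sb E9022 (iv D4536))
theorem F56792 : act 1 n1175 = n1175 := (sb E9033 (iv D1537))
theorem E10265 : n690 = n520 := (((F2521).symm.trans (sb E9036 (iv D912)))).symm
theorem E10271 : n394 = n294 := (((F1508).symm.trans (sb E9042 F1991))).symm
theorem F56793 : act 7 n390 = n390 := (sb E9042 (iv D521))
theorem E10310 : n13949 = n2005 := ((((iv F7182)).symm.trans (sb E9082 D13949))).symm
theorem E10312 : n2005 = n1554 := ((((iv F5632)).symm.trans (sb E9097 (tr (iv F45618) E10310)))).symm
theorem F56795 : act 0 n1190 = n1190 := (sb E9086 F5636)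
theorem E10313 : n3233 = n2006 := ((((iv F7185)).symm.trans (sb E9087 D3233))).symm
theorem F56796 : act 5 n1554 = n1956 := (sb E9087 F8870)
theorem E10314 : n3234 = n2002 := ((((iv F7173)).symm.trans (sb E9087 D3234))).symm
theorem F56797 : act 0 n1551 = n1955 := (sb E9088 F8879)
theorem F56798 : act 5 n1551 = n1957 := (sb E9088 F8881)
theorem F56799 : act 0 n1187 = n1187 := (sb E9090 F5624)
theorem E10315 : n2004 = n1553 := (((D1553).symm.trans (sb E9090 D2004))).symm
theorem E10316 : n2000 = n1550 := ((((iv F5620)).symm.trans (sb E9090 (iv F7166)))).symm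
theorem E10319 : n5174 = n3098 := ((((iv F10854)).symm.trans (sb E9093 D5174))).symm
theorem E10321 : n5246 = n3100 := (((D3100).symm.trans (sb E9094 D5246))).symm
theorem E10326 : n3097 = n2399 := ((D3097).symm.trans (sb E9100 (tr F22372 E9100)))
theorem F56800 : act 2 n3052 = n3052 := (sb E9104 F13652)
theorem F56801 : act 5 n3934 = n3121 := (sb E9105 F13905)
theorem E10334 : n7349 = n4610 := ((((iv F15840)).symm.trans (sb E9111 (iv F24744)))).symm
theorem E10335 : n7604 = n4611 := (((D4611).symm.trans (sb E9111 D7604))).symm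
theorem E10337 : n7862 = n4465 := ((((iv F15383)).symm.trans (sb E9113 D7862))).symm
theorem E10338 : n7863 = n4607 := ((((iv F15830)).symm.trans (sb E9113 D7863))).symm
theorem E10345 : n7447 = n7331 := ((((iv F24681)).symm.trans (sb E9118 D7447))).symm
theorem F56802 : act 2 n5745 = n4530 := (sb E9120 F19771)
theorem F56803 : act 6 n5902 = n7415 := (sb E9126 (iv D9493))
theorem E10355 : n12126 = n7551 := ((((iv F25348)).symm.trans (sb E9126 D12126))).symm
theorem F56804 : act 4 n5893 = n7418 := (sb E9127 F31646)
theorem E10356 : n12024 = n7553 := (((D7553).symm.trans (sb E9127 (iv F39706)))).symm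
theorem E10387 : n13584 = n5129 := (((D5129).symm.trans (sb E9168 (iv F44489)))).symm
theorem F56805 : act 2 n5897 = n7556 := (sb E9170 F31674)
theorem F56806 : act 5 n5897 = n7427 := (sb E9170 (iv D9507))
theorem E10390 : n12129 = n7559 := (((D7559).symm.trans (sb E9170 (iv F40029)))).symm
theorem F56807 : act 5 n5901 = n7420 := (sb E9172 (iv D9499))
theorem E10393 : n12135 = n7550 := ((((iv F25345)).symm.trans (sb E9172 D12135))).symm
theorem F56808 : act 1 n4017 = n5128 := (sb E9173 F21904)
theorem E10394 : n8308 = n5138 := ((((iv F17551)).symm.trans (sb E9173 (iv F27729)))).symm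
theorem F56809 : act 5 n4017 = n5050 := (sb E9173 (iv D6481))
theorem E10395 : n8316 = n5134 := ((((iv F17540)).symm.trans (sb E9174 (iv F27749)))).symm
theorem F56810 : act 5 n3988 = n5055 := (sb E9174 (iv D6489))
theorem E10397 : n12054 = n7316 := ((((iv F24627)).symm.trans (sb E9175 (iv F39806)))).symm
theorem E10398 : n12137 = n7317 := (((D7317).symm.trans (sb E9175 (iv F40050)))).symm
theorem E10400 : n8313 = n5132 := (((F20027).symm.trans (sb E9177 F31667))).symm
theorem F56811 : act 5 n5895 = n7425 := (sb E9177 F31668)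
theorem F56812 : act 5 n3993 = n5051 := (sb E9178 (iv D6483))
theorem E10407 : n12327 = n7555 := (((D7555).symm.trans (sb E9185 D12327))).symm
theorem E10410 : n12400 = n7547 := ((((iv F25336)).symm.trans (sb E9186 D12400))).symm
theorem E10411 : n12401 = n7549 := (((D7549).symm.trans (sb E9187 D12401))).symm
theorem E10412 : n8483 = n5126 := ((((iv F17518)).symm.trans (sb E9188 (iv F28270)))).symm
theorem E10413 : n8422 = n5133 := ((((iv F17538)).symm.trans (sb E9189 (iv F28065)))).symm
theorem E10418 : n12144 = n7292 := ((((iv F24564)).symm.trans (sb E9196 (iv F40065)))).symm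
theorem E10419 : n7535 = n7428 := ((D7535).symm.trans (sb E9196 F31676))
theorem F56813 : act 6 n5880 = n7427 := (sb E9196 (iv D9508))
theorem E10420 : n12147 = n7527 := ((((iv F25287)).symm.trans (sb E9196 D12147))).symm
theorem E10423 : n12051 = n7293 := (((D7293).symm.trans (sb E9199 (iv F39798)))).symm
theorem F56815 : act 4 n5801 = n4585 := (sb E9201 (iv D5881))
theorem E10426 : n7528 = n7432 := (((D7432).symm.trans (sb E9201 (iv F25290)))).symm
theorem E10427 : n12136 = n7529 := (((D7529).symm.trans (sb E9202 (iv F40048)))).symm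
theorem F56816 : act 1 n5838 = n7358 := (sb E9204 (iv F24778))
theorem F56817 : act 4 n5838 = n4581 := (sb E9204 (iv D5876))
theorem E10430 : n5113 = n5093 := (((F19870).symm.trans (sb E9204 F19983))).symm
theorem F56818 : act 1 n3953 = n5045 := (sb E9207 (iv F17281))
theorem E10434 : n5118 = n5056 := ((((iv F17311)).symm.trans (sb E9207 (iv F17492)))).symm
theorem F56819 : act 4 n3953 = n3079 := (sb E9207 (iv D3977))
theorem E10435 : n8317 = n5117 := (((D5117).symm.trans (sb E9208 (iv F27752)))).symm
theorem F56820 : act 6 n3976 = n5055 := (sb E9208 (iv D6490))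
theorem E10446 : n12728 = n7510 := ((((iv F25243)).symm.trans (sb E9220 D12728))).symm
theorem E10449 : n12820 = n7314 := (((D7314).symm.trans (sb E9223 D12820))).symm
theorem E10450 : n12821 = n7304 := ((((iv F24599)).symm.trans (sb E9223 D12821))).symm
theorem E10451 : n12822 = n7552 := (((D7552).symm.trans (sb E9224 D12822))).symm
theorem E10452 : n8591 = n5131 := (((F20025).symm.trans (sb E9225 F33268))).symm
theorem E10454 : n8589 = n3990 := (((F13801).symm.trans (sb E9227 D8589))).symm
theorem E10460 : n7378 = n7296 := (((D7296).symm.trans (sb E9235 F31483))).symm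
theorem E10464 : n7531 = n7379 := (((D7379).symm.trans (sb E9238 (iv F25300)))).symm
theorem F56822 : act 1 n5806 = n7195 := (sb E9239 (iv F24239))
theorem F56823 : act 4 n5806 = n4582 := (sb E9239 (iv D5877))
theorem E10465 : n7533 = n7426 := ((((iv F24986)).symm.trans (sb E9239 D7533))).symm
theorem E10466 : n8314 = n5115 := (((F19987).symm.trans (sb E9240 F31669))).symm
theorem F56824 : act 7 n5878 = n7425 := (sb E9240 (iv D9505))
theorem F56825 : act 1 n3958 = n3078 := (sb E9242 F13752)
theorem E10468 : n5114 = n5061 := ((((iv F17324)).symm.trans (sb E9242 (iv F17479)))).symm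
theorem F56826 : act 4 n3958 = n3077 := (sb E9242 (iv D3974))
theorem F56827 : act 4 n3931 = n3080 := (sb E9245 (iv D3978))
theorem E10477 : n12360 = n12114 := (((D12114).symm.trans (sb E9256 (iv F40688)))).symm
theorem F56828 : act 5 n9486 = n7557 := (sb E9256 F32150)
theorem F56829 : act 6 n9486 = n7556 := (sb E9256 (iv D9675))
theorem E10478 : n12364 = n12015 := ((((iv F39671)).symm.trans (sb E9256 D12364))).symm
theorem E10479 : n12370 = n12027 := ((((iv F39717)).symm.trans (sb E9257 (iv F40707)))).symm
theorem F56830 : act 5 n9488 = n7561 := (sb E9257 F32163)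
theorem F56831 : act 6 n9488 = n7560 := (sb E9257 (iv D9681))
theorem E10480 : n12371 = n12017 := ((((iv F39679)).symm.trans (sb E9257 D12371))).symm
theorem F56832 : act 5 n9411 = n7563 := (sb E9258 F32169)
theorem E10481 : n12351 = n12019 := (((D12019).symm.trans (sb E9258 (iv F40670)))).symm
theorem E10482 : n8458 = n8288 := ((((iv F27669)).symm.trans (sb E9259 (iv F28181)))).symm
theorem F56833 : act 5 n6466 = n5170 := (sb E9259 F22362)
theorem E10483 : n8450 = n8295 := ((((iv F27691)).symm.trans (sb E9260 (iv F28155)))).symm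
theorem E10484 : n8456 = n8297 := (((D8297).symm.trans (sb E9260 (iv F28174)))).symm
theorem F56834 : act 5 n6471 = n5137 := (sb E9260 F22243)
theorem F56835 : act 6 n6471 = n5136 := (sb E9260 (iv D6595))
theorem E10485 : n12027 = n11806 := ((((iv F39006)).symm.trans (sb E9352 (tr (iv F40705) E10479)))).symm
theorem E10486 : n11959 = n7291 := (((F30850).symm.trans (sb E9352 (iv F39465)))).symm
theorem E10489 : n12017 = n11805 := ((((iv F39003)).symm.trans (sb E9408 (tr (iv F40708) E10480)))).symm
theorem E10490 : n11809 = n7566 := (((iv F39021)).symm.trans (sb E9408 F32174))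
theorem E10492 : n12019 = n11803 := ((((iv F38995)).symm.trans (sb E9519 (tr (iv F40667) E10481)))).symm
theorem E10493 : n8446 = n7238 := (((F30837).symm.trans (sb E9519 F32141))).symm
theorem E10494 : n11807 = n7554 := ((D11807).symm.trans (sb E9519 F32142))
theorem E10495 : n7553 = n7230 := (((F30839).symm.trans (sb E9519 (iv D9671)))).symm
theorem E10496 : n8460 = n7240 := (((E9716).symm.trans ((D8291).symm.trans (sb E9264 (iv F28189))))).symm
theorem F56836 : act 5 n6467 = n5142 := (sb E9264 F22260)
theorem F56837 : act 5 n6474 = n5140 := (sb E9265 F22253)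
theorem F56838 : act 6 n6474 = n5139 := (sb E9265 (iv D6598))
theorem E10498 : n8318 = n8295 := ((((iv F27691)).symm.trans (sb E9266 (iv F27755)))).symm
theorem E10500 : n8378 = n8288 := ((((iv F27670)).symm.trans (sb E9266 D8378))).symm
theorem F56839 : act 6 n6467 = n8543 := (sb E9269 D8543)
theorem E10503 : n12148 = n12114 := (((D12114).symm.trans (sb E9270 D12148))).symm
theorem E10507 : n12225 = n11803 := (((E10492).symm.trans ((D12019).symm.trans (sb E9272 D12225)))).symm
theorem E10511 : n8543 = n7238 := (((F30837).symm.trans (sb E9530 F32882))).symm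
theorem E10516 : n13890 = n6570 := (((F22167).symm.trans (sb E9283 D13890))).symm
theorem E10519 : n11004 = n5021 := (E9289).trans E9365
theorem E10520 : n6570 = n6436 := ((((iv F21764)).symm.trans (sb E10519 (tr (iv F45428) E10516)))).symm
theorem E10523 : n12323 = n7372 := ((((iv F24836)).symm.trans (sb E9294 (iv F40599)))).symm
theorem E10525 : n11925 = n7373 := (((D7373).symm.trans (sb E9295 (iv F39372)))).symm
theorem E10531 : n12100 = n11802 := ((D12100).symm.trans (sb E9299 (iv F38993)))
theorem F56840 : act 5 n9476 = n7518 := (sb E9299 F31965)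
theorem F56841 : act 6 n9476 = n7501 := (sb E9299 (iv D9601))
theorem E10532 : n12266 = n12025 := ((((iv F39710)).symm.trans (sb E9299 D12266))).symm
theorem E10533 : n12142 = n11922 := (((D11922).symm.trans (sb E9300 D12142))).symm
theorem F56842 : act 3 n9333 = n7427 := (sb E9300 (iv D9506))
theorem E10534 : n12045 = n11921 := ((((iv F39361)).symm.trans (sb E9300 (iv F39786)))).symm
theorem E10535 : n12128 = n11923 := (((D11923).symm.trans (sb E9300 (iv F40026)))).symm
theorem E10536 : n12311 = n12130 := (((D12130).symm.trans (sb E9301 (iv F40567)))).symm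
theorem E10537 : n12050 = n11926 := ((((iv F39376)).symm.trans (sb E9302 D12050))).symm
theorem E10538 : n12037 = n11927 := (((D11927).symm.trans (sb E9302 (iv F39757)))).symm
theorem F56843 : act 3 n9337 = n7420 := (sb E9303 (iv D9498))
theorem E10539 : n12134 = n11786 := ((((iv F38932)).symm.trans (sb E9303 D12134))).symm
theorem E10541 : n8423 = n8305 := ((((iv F27720)).symm.trans (sb E9305 (iv F28068)))).symm
theorem E10542 : n8307 = n6479 := ((D8307).symm.trans (sb E9305 (tr F22176 E9305)))
theorem E10543 : n8315 = n6486 := ((D8315).symm.trans (sb E9306 (tr F22163 E9306)))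
theorem F56844 : act 3 n5055 = n5055 := (sb E9307 (iv D6488))
theorem E10545 : n12322 = n12026 := ((((iv F39713)).symm.trans (sb E9308 (iv F40597)))).symm
theorem F56845 : act 4 n9487 = n7556 := (sb E9308 F32082)
theorem E10546 : n12308 = n12118 := (((D12118).symm.trans (sb E9308 (iv F40560)))).symm
theorem E10548 : n12312 = n12030 := (((D12030).symm.trans (sb E9309 (iv F40571)))).symm
theorem F56846 : act 4 n9491 = n7548 := (sb E9310 F32061)
theorem E10549 : n12314 = n12020 := ((((iv F39691)).symm.trans (sb E9310 D12314))).symm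
theorem E10550 : n8412 = n8300 := ((((iv F27705)).symm.trans (sb E9311 (iv F28033)))).symm
theorem F56847 : act 4 n6524 = n5128 := (sb E9311 F22143)
theorem E10551 : n8420 = n8296 := ((((iv F27694)).symm.trans (sb E9312 (iv F28059)))).symm
theorem E10552 : n8424 = n8231 := ((((iv F27488)).symm.trans (sb E9312 (iv F28073)))).symm
theorem F56848 : act 4 n6472 = n5136 := (sb E9312 F22170)
theorem E10553 : n12370 = n11806 := (E10479).trans E10485
theorem E10555 : n12351 = n11803 := (E10481).trans E10492
theorem F56849 : act 3 n5764 = n7298 := (sb E9329 F31131)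
theorem E10565 : n11929 = n7377 := (((D7377).symm.trans (sb E9329 (iv F39384)))).symm
theorem E10566 : n11931 = n7369 := ((((iv F24826)).symm.trans (sb E9329 D11931))).symm
theorem F56850 : act 3 n9242 = n7404 := (sb E9334 (iv D9478))
theorem F56851 : act 5 n9419 = n7522 := (sb E9335 F31975)
theorem E10570 : n12029 = n11752 := ((D12029).symm.trans (sb E9335 (iv F38808)))
theorem F56852 : act 3 n9246 = n7359 := (sb E9336 (iv D9414))
theorem E10571 : n11810 = n7415 := ((D11810).symm.trans (sb E9336 F31386))
theorem F56853 : act 3 n9247 = n7364 := (sb E9337 (iv D9422))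
theorem F56854 : act 1 n9205 = n7425 := (sb E9338 F31425)
theorem F56855 : act 4 n9205 = n7365 := (sb E9338 F31427)
theorem F56856 : act 6 n9205 = n7364 := (sb E9338 (iv D9424))
theorem F56857 : act 3 n9231 = n7425 := (sb E9341 F31666)
theorem F56858 : act 3 n5051 = n5051 := (sb E9343 (iv D6482))
theorem E10580 : n9640 = n9204 := (E9356).trans E9477
theorem E10581 : n12030 = n11751 := ((((iv F38801)).symm.trans (sb E10580 (tr (iv F40568) E10548)))).symm
theorem E10583 : n12020 = n11749 := ((((iv F38793)).symm.trans (sb E9478 (tr (iv F40574) E10549)))).symm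
theorem E10587 : n8428 = n7210 := (((E9720).symm.trans (((iv F27503)).symm.trans (sb E9361 D8428)))).symm
theorem F56859 : act 7 n6427 = n8415 := (sb E9361 (iv F28045))
theorem F56860 : act 3 n6477 = n8415 := (sb E9362 (iv F28044))
theorem F56861 : act 4 n6477 = n5130 := (sb E9362 F22151)
theorem E10588 : n6440 = n5021 := (((iv F21778)).symm.trans (sb E9365 (tr F17503 E9365)))
theorem E10596 : n8445 = n7239 := (((iv F28140)).symm.trans (sb E9371 (tr D13565 E9715)))
theorem E10597 : n5152 = n4003 := (((iv F17600)).symm.trans (sb E9373 (tr F13914 E9373)))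
theorem E10598 : n5180 = n5153 := ((((iv F17604)).symm.trans (sb E9373 D5180))).symm
theorem E10599 : n5181 = n5146 := ((((iv F17580)).symm.trans (sb E9373 D5181))).symm
theorem F56862 : act 1 n3997 = n3121 := (sb E9374 F13918)
theorem F56863 : act 1 n2517 = n3101 := (sb E9375 (iv F10862))
theorem E10601 : n3320 = n3239 := (((D3239).symm.trans (sb E9375 (iv F11576)))).symm
theorem E10602 : n3315 = n3240 := (((D3240).symm.trans (sb E9375 (iv F11561)))).symm
theorem E10603 : n5252 = n5154 := (((D5154).symm.trans (sb E9376 D5252))).symm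
theorem E10604 : n5253 = n5148 := ((((iv F17586)).symm.trans (sb E9376 D5253))).symm
theorem E10605 : n5254 = n5150 := (((D5150).symm.trans (sb E9377 D5254))).symm
theorem E10607 : n8453 = n8448 := ((((iv F28149)).symm.trans (sb E9380 D8453))).symm
theorem E10608 : n8454 = n8434 := ((((iv F28107)).symm.trans (sb E9380 D8454))).symm
theorem E10609 : n8496 = n8455 := (((D8455).symm.trans (sb E9381 D8496))).symm
theorem E10610 : n8497 = n8438 := ((((iv F28119)).symm.trans (sb E9381 D8497))).symm
theorem E10611 : n8498 = n8440 := (((D8440).symm.trans (sb E9382 D8498))).symm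
theorem E10612 : n8606 = n6597 := (((F22249).symm.trans (sb E9383 D8606))).symm
theorem E10615 : n6719 = n5662 := (E9385).trans E10077
theorem E10616 : n8440 = n7244 := ((((iv F24410)).symm.trans (sb E10615 (tr (iv F28313) E10611)))).symm
theorem E10618 : n7248 = n5131 := ((D7248).symm.trans (sb E10615 (tr (iv F28605) E10452)))
theorem E10619 : n13833 = n13777 := ((((iv F45060)).symm.trans (sb E9386 (iv F45249)))).symm
theorem E10626 : n8498 = n7244 := (E10611).trans E10616
theorem E10627 : n11007 = n7210 := (E9391).trans E10587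
theorem E10629 : n6597 = n5665 := (((F24296).symm.trans (sb E10627 (tr F36310 E10612)))).symm
theorem F56864 : act 5 n9622 = n12035 := (sb E9394 (iv D15349))
theorem E10636 : n12295 = n12046 := ((D12295).symm.trans (sb E9394 F50246))
theorem E10637 : n12371 = n11805 := (E10480).trans E10489
theorem F56865 : act 2 n9626 = n12074 := (sb E9400 F50260)
theorem E10638 : n15215 = n9626 := (((iv F49789)).symm.trans (iv (sb E9400 (tr (iv D15353) E10538))))
theorem E10639 : n12301 = n11926 := ((D12301).symm.trans (sb E9400 (tr F50262 E10537)))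
theorem F56866 : act 4 n9437 = n7522 := (sb E9401 F32038)
theorem E10640 : n12284 = n12052 := (((D12052).symm.trans (sb E9401 (iv F40493)))).symm
theorem F56867 : act 7 n9437 = n7521 := (sb E9401 (iv D9628))
theorem E10641 : n11915 = n7317 := (((iv F39345)).symm.trans (sb E9402 (tr F50277 E10398)))
theorem E10642 : n11917 = n7316 := ((D11917).symm.trans (sb E9402 (tr F50278 E10397)))
theorem E10644 : n9458 = n9390 := ((F56710).symm.trans (sb E9403 F39390))
theorem E10646 : n9364 = n9329 := ((((iv F31105)).symm.trans (sb E9403 F39391))).symm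
theorem F56868 : act 5 n7524 = n9341 := (sb E9403 F39392)
theorem E10647 : n15037 = n5871 := ((((iv D7524)).symm.trans (sb E9403 (iv F49214)))).symm
theorem F56869 : act 7 n9340 = n7524 := (sb E9404 (iv D9632))
theorem F56870 : act 1 n9442 = n7554 := (sb E9405 F32013)
theorem F56871 : act 4 n9442 = n7516 := (sb E9405 F32015)
theorem F56872 : act 1 n5748 = n4612 := (sb E9410 F20080)
theorem E10651 : n7579 = n7355 := (((D7355).symm.trans (sb E9410 (iv F25419)))).symm
theorem E10652 : n7569 = n7356 := (((D7356).symm.trans (sb E9410 (iv F25387)))).symm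
theorem F56873 : act 2 n9621 = n7518 := (sb E9416 (iv D9623))
theorem E10659 : n12296 = n12291 := ((((iv F40513)).symm.trans (sb E9416 D12296))).symm
theorem E10660 : n12297 = n12277 := ((((iv F40472)).symm.trans (sb E9416 D12297))).symm
theorem E10661 : n12357 = n11953 := (((iv F40684)).symm.trans (sb E9417 (iv F39446)))
theorem E10664 : n12369 = n12342 := (((D12342).symm.trans (sb E9418 D12369))).symm
theorem E10668 : n12749 = n12298 := (((D12298).symm.trans (sb E9422 D12749))).symm
theorem E10670 : n12751 = n12283 := (((D12283).symm.trans (sb E9423 D12751))).symm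
theorem E10671 : n12298 = n11786 := ((((iv F38928)).symm.trans (sb E9526 (tr (iv F41876) E10668)))).symm
theorem E10676 : n12283 = n12053 := ((((iv F39802)).symm.trans (sb E9466 (tr (iv F41881) E10670)))).symm
theorem F56874 : act 2 n9622 = n12036 := (sb E9430 (iv D15351))
theorem F56875 : act 4 n9621 = n12036 := (sb E9432 F50249)
theorem F56876 : act 6 n9621 = n12035 := (sb E9432 (iv D15350))
theorem F56877 : act 3 n15719 = n12361 := (sb E9435 (iv D15775))
theorem F56878 : act 3 n14980 = n12132 := (sb E9438 F50256)
theorem E10684 : n12104 = n11747 := ((((iv D14980)).symm.trans (sb E9438 F50257))).symm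
theorem F56879 : act 6 n14980 = n12049 := (sb E9438 F50258)
theorem F56880 : act 7 n14980 = n12036 := (sb E9438 (iv D15352))
theorem F56881 : act 2 n9477 = n12035 := (sb E9443 (iv F39748))
theorem F56882 : act 4 n9477 = n7501 := (sb E9443 (iv D9600))
theorem E10685 : n12749 = n11786 := (E10668).trans E10671
theorem E10686 : n15032 = n9625 := (((iv F49194)).symm.trans (iv (sb E9446 (tr (iv D15354) E10538))))
theorem E10687 : n11772 = n8310 := (((F31661).symm.trans (sb E9449 F49012))).symm
theorem F56883 : act 3 n9501 = n11750 := (sb E9449 F49013)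
theorem E10688 : n12751 = n12053 := (E10670).trans E10676
theorem E10689 : n9257 = n5902 := (((F25275).symm.trans (sb E9455 F38944))).symm
theorem E10690 : n15036 = n5872 := (((F25277).symm.trans (sb E9455 (iv F49207)))).symm
theorem F56884 : act 4 n7523 = n9231 := (sb E9455 F38946)
theorem F56885 : act 6 n7523 = n9341 := (sb E9455 F38947)
theorem E10691 : n9616 = n9230 := (((iv F32007)).symm.trans (sb E9455 (iv D11790)))
theorem E10692 : n15360 = n9230 := (E9456).trans E10691
theorem E10693 : n7551 = n7232 := (((F30776).symm.trans (sb E10692 (tr F50285 E10355)))).symm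
theorem E10694 : n12024 = n7230 := (E10356).trans E10495
theorem F56887 : act 7 n9199 = n7405 := (sb E9459 (iv D9481))
theorem F56888 : act 6 n9439 = n11750 := (sb E9460 (iv D14986))
theorem F56889 : act 3 n6485 = n7208 := (sb E9461 F30739)
theorem F56890 : act 5 n6485 = n7207 := (sb E9461 (iv D9220))
theorem F56891 : act 5 n9202 = n7426 := (sb E9463 F31397)
theorem E10698 : n11754 = n7418 := ((D11754).symm.trans (sb E9463 F31398))
theorem F56892 : act 7 n9202 = n7360 := (sb E9463 (iv D9417))
theorem F56893 : act 4 n9244 = n7360 := (sb E9473 F31393)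
theorem F56894 : act 6 n9244 = n7359 := (sb E9473 (iv D9416))
theorem F56895 : act 5 n9204 = n7379 := (sb E9477 F31431)
theorem F56896 : act 7 n9204 = n7365 := (sb E9477 (iv D9425))
theorem E10700 : n15374 = n9614 := (((D9614).symm.trans (iv (sb E9484 (tr (iv D16244) E10446))))).symm
theorem F56897 : act 5 n7515 = n9443 := (sb E9486 F39815)
theorem E10703 : n11957 = n11912 := ((((iv F39334)).symm.trans (sb E9499 (iv F39456)))).symm
theorem E10706 : n11918 = n7315 := ((D11918).symm.trans (sb E9499 (iv D9363)))
theorem E10707 : n11956 = n11913 := ((((iv F39337)).symm.trans (sb E9500 (iv F39452)))).symm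
theorem E10708 : n11800 = n7314 := (((iv F38986)).symm.trans (sb E9500 (iv D9362)))
theorem E10709 : n12350 = n11804 := ((((iv F38999)).symm.trans (sb E9508 (iv F40664)))).symm
theorem E10711 : n7552 = n7231 := (((F30843).symm.trans (sb E9508 (iv D9670)))).symm
theorem F56899 : act 5 n15348 = n12292 := (sb E9511 F51249)
theorem F56900 : act 6 n15348 = n12291 := (sb E9511 (iv D15682))
theorem E10715 : n15200 = n5740 := (E9549).trans E10121
theorem E10716 : n11916 = n7346 := ((((iv F24733)).symm.trans (sb E10715 F49743))).symm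
theorem F56905 : act 6 n9740 = n11757 := (sb E9556 (iv D14995))
theorem E10719 : n11775 = n8231 := (((D8231).symm.trans (sb E9558 F49081))).symm
theorem E10724 : n8415 = n7209 := ((F56859).symm.trans (sb E9564 (iv D9223)))
theorem F56906 : act 2 n10544 = n12070 := (sb E9568 F49052)
theorem F56907 : act 5 n10544 = n11757 := (sb E9568 (iv D14994))
theorem E10725 : n13472 = n11768 := ((D13472).symm.trans (sb E9568 F49054))
theorem E10726 : n11774 = n8250 := ((D11774).symm.trans (sb E9569 F34883))
theorem F56908 : act 7 n9217 = n8239 := (sb E9569 (iv D10548))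
theorem F56909 : act 3 n10609 = n11757 := (sb E9570 (iv D14993))
theorem E10727 : n13557 = n11825 := (((iv F44404)).symm.trans (sb E9570 F49048))
theorem E10728 : n13559 = n11767 := ((D13559).symm.trans (sb E9570 F49049))
theorem F56910 : act 4 n9260 = n8289 := (sb E9572 F35085)
theorem E10732 : n11773 = n8300 := ((D11773).symm.trans (sb E9573 F35088))
theorem F56911 : act 7 n9216 = n8289 := (sb E9573 (iv D10613))
theorem F56912 : act 5 n6441 = n7209 := (sb E9575 F30746)
theorem F56913 : act 6 n6441 = n7208 := (sb E9575 (iv D9222))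
theorem E10734 : n7249 = n5130 := (((F56861).symm.trans (sb E9578 F30742))).symm
theorem F56914 : act 6 n6477 = n7207 := (sb E9578 (iv D9221))
theorem E10769 : n15864 = n11758 := ((((iv F38829)).symm.trans (sb E9632 (iv F51748)))).symm
theorem E10771 : n10536 = n8230 := (((E9713).symm.trans ((D11762).symm.trans (sb E9632 F40935)))).symm
theorem F56915 : act 5 n6426 = n6426 := (sb E9637 (iv D8234))
theorem F56916 : act 5 n6425 = n6425 := (sb E9640 (iv D8232))
theorem E10855 : n15863 = n9259 := (((F38830).symm.trans (sb E9710 D15863))).symm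
theorem F56917 : act 4 n11758 = n9740 := (sb E9710 (iv D12438))
theorem E10856 : n14997 = n10533 := ((D14997).symm.trans (sb E9710 F40923))
theorem E10857 : n10610 = n9262 := (((D9262).symm.trans (sb E9711 (iv D13561)))).symm
theorem E10858 : n10535 = n9263 := (((D9263).symm.trans (sb E9712 F40931))).symm
theorem E10859 : n10537 = n9219 := ((D10537).symm.trans (sb E9713 F38847))
theorem F56918 : act 7 n8230 = n9208 := (sb E9713 (iv D11762))
theorem F56919 : act 3 n7240 = n6467 := (sb E9716 (iv D8291))
theorem E10860 : n9267 = n6474 := ((D9267).symm.trans (sb E9716 F27680))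
theorem E10861 : n6584 = n5664 := (((D5664).symm.trans (sb E9717 (tr F44434 E10076)))).symm
theorem F56920 : act 3 n7241 = n6426 := (sb E9718 (iv D8233))
theorem E10862 : n10540 = n5665 := (E10075).trans E10629
theorem E10863 : n10630 = n5664 := (E10076).trans E10861
theorem F56921 : act 4 n7210 = n6427 := (sb E9720 F27503)
theorem F56922 : act 6 n7210 = n6426 := (sb E9720 (iv D8235))
theorem E10960 : n522 = n391 := ((D522).symm.trans (sb E9835 (tr F7066 E9835)))
theorem F56923 : act 6 n2374 = n2374 := (sb E9862 (iv D3066))
theorem E10995 : n5782 = n5730 := ((((iv F19515)).symm.trans (sb E9875 (iv F19708)))).symm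
theorem F56924 : act 6 n4482 = n3506 := (sb E9875 (iv D4510))
theorem F56925 : act 6 n295 = n295 := (sb E9918 (iv D395))
theorem F56926 : act 1 n891 = n891 := (sb E9931 (iv D1176))
theorem F56927 : act 0 n897 = n897 := (sb E9933 (iv D1186))
theorem E11059 : n1549 = n1184 := ((((iv F4328)).symm.trans (sb E9933 (iv F5616)))).symm
theorem E11103 : n9404 = n5771 := (((D5771).symm.trans (sb E9989 F39641))).symm
theorem E11107 : n9400 = n5807 := (((D5807).symm.trans (sb E9991 (iv F31326)))).symm
theorem F56928 : act 4 n4529 = n5745 := (sb E9991 F24756)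
theorem E11114 : n9389 = n5773 := (((D5773).symm.trans (sb E9997 (iv F31286)))).symm
theorem F56929 : act 1 n1538 = n1538 := (sb E10006 F7110)
theorem F56930 : act 2 n2363 = n2363 := (sb E10010 (iv D3051))
theorem E11132 : n9398 = n5776 := (((D5776).symm.trans (sb E10017 (iv F31317)))).symm
theorem E11133 : n9384 = n5777 := (((D5777).symm.trans (sb E10017 (iv F31271)))).symm
theorem F56931 : act 4 n4534 = n5742 := (sb E10019 F24741)
theorem F56932 : act 3 n4509 = n5732 := (sb E10022 F24703)
theorem E11137 : n9387 = n5781 := (((D5781).symm.trans (sb E10022 (iv F31281)))).symm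
theorem E11160 : n13465 = n5154 := (((D5154).symm.trans (sb E10053 (iv F44103)))).symm
theorem E11161 : n13586 = n5148 := ((((iv F17586)).symm.trans (sb E10053 D13586))).symm
theorem F56933 : act 2 n9677 = n12118 := (sb E10059 F50596)
theorem E11164 : n13576 = n8452 := ((((iv F28161)).symm.trans (sb E10063 (iv F44464)))).symm
theorem F56934 : act 2 n6590 = n8296 := (sb E10064 (iv D10621))
theorem E11168 : n12822 = n7231 := (E10451).trans E10711
theorem E11174 : n13460 = n8455 := (((D8455).symm.trans (sb E10073 (iv F44087)))).symm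
theorem E11175 : n13580 = n8438 := ((((iv F28119)).symm.trans (sb E10073 D13580))).symm
theorem E11176 : n8455 = n7247 := ((((iv F24417)).symm.trans (sb E10862 (tr (iv F44085) E11174)))).symm
theorem E11177 : n5154 = n4435 := (((F19306).symm.trans (sb E10862 (tr D13465 E11160)))).symm
theorem E11179 : n8438 = n7246 := ((((iv F24414)).symm.trans (sb E10863 (tr (iv F44476) E11175)))).symm
theorem E11180 : n5148 = n4434 := (((F19303).symm.trans (sb E10863 (tr (iv F44494) E11161)))).symm
theorem E11181 : n7250 = n5129 := (((iv F24427)).symm.trans (sb E10863 (tr (iv F44490) E10387)))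
theorem E11182 : n12314 = n11749 := (E10549).trans E10583
theorem E11183 : n10543 = n8237 := (((D8237).symm.trans (sb E10083 (iv F34866)))).symm
theorem F56935 : act 4 n6429 = n6429 := (sb E10083 (iv D8238))
theorem E11185 : n6435 = n5018 := (((F21746).symm.trans (sb E10083 F27514))).symm
theorem F56936 : act 4 n3901 = n3901 := (sb E10084 (iv D5019))
theorem F56937 : act 4 n10544 = n10544 := (sb E10085 F44122)
theorem E11186 : n10638 = n8309 := ((((iv F27732)).symm.trans (sb E10086 F44135))).symm
theorem E11187 : n10561 = n8250 := (((E10726).symm.trans ((D11774).symm.trans (sb E10087 F44140)))).symm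
theorem F56938 : act 4 n3902 = n3902 := (sb E10089 (iv D5020))
theorem F56939 : act 3 n6484 = n6484 := (sb E10090 F27740)
theorem F56940 : act 4 n6441 = n6441 := (sb E10092 F27561)
theorem E11285 : n10668 = n4604 := (((D4604).symm.trans (sb E10204 (iv F35248)))).symm
theorem E11286 : n6604 = n4605 := (((D4605).symm.trans (sb E10204 F27795))).symm
theorem E11290 : n9690 = n7570 := (((D7570).symm.trans (sb E10205 F40117))).symm
theorem F56941 : act 2 n5907 = n5907 := (sb E10206 (iv D7571))
theorem F56943 : act 3 n9368 = n9368 := (sb E10217 (iv D11966))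
theorem E11301 : n15090 = n11828 := ((((iv F39067)).symm.trans (sb E10217 (iv F49392)))).symm
theorem E11304 : n3994 = n3092 := (((D3092).symm.trans (sb E10219 F17326))).symm
theorem F56944 : act 2 n3934 = n3934 := (sb E10221 F17330)
theorem E11314 : n7394 = n7347 := (((D7347).symm.trans (sb E10232 (iv F24903)))).symm
theorem F56945 : act 6 n5741 = n4534 := (sb E10232 (iv D5816))
theorem E11329 : n7397 = n7332 := ((((iv F24685)).symm.trans (sb E10251 (iv F24912)))).symm
theorem F56946 : act 6 n5743 = n4507 := (sb E10251 (iv D5778))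
theorem F56947 : act 6 n520 = n520 := (sb E10265 (iv D690))
theorem F56948 : act 7 n294 = n294 := (sb E10271 (iv D394))
theorem F56951 : act 0 n1554 = n1554 := (sb E10312 F7182)
theorem E11382 : n2578 = n2006 := ((((iv F7185)).symm.trans (sb E10312 (iv F9118)))).symm
theorem E11383 : n2573 = n2002 := ((((iv F7173)).symm.trans (sb E10312 (iv F9102)))).symm
theorem E11384 : n4165 = n2580 := (((D2580).symm.trans (sb E10313 D4165))).symm
theorem F56952 : act 5 n2006 = n2517 := (sb E10313 F11262)
theorem E11385 : n4166 = n2574 := ((((iv F9104)).symm.trans (sb E10313 D4166))).symm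
theorem F56953 : act 5 n2002 = n2518 := (sb E10314 F11267)
theorem F56954 : act 0 n1553 = n1553 := (sb E10315 F7178)
theorem E11387 : n2572 = n2001 := ((((iv F7169)).symm.trans (sb E10315 (iv F9098)))).symm
theorem F56955 : act 0 n1550 = n1550 := (sb E10316 F7163)
theorem E11391 : n4001 = n3098 := (((iv F13835)).symm.trans (sb E10319 (tr F17667 E10319)))
theorem E11392 : n6637 = n4002 := (((D4002).symm.trans (sb E10319 D6637))).symm
theorem E11395 : n6726 = n3998 := ((((iv F13826)).symm.trans (sb E10321 D6726))).symm
theorem F56956 : act 1 n2399 = n2399 := (sb E10326 (iv D3097))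
theorem F56957 : act 2 n4610 = n5742 := (sb E10334 (iv D7349))
theorem E11406 : n9401 = n5914 := (((D5914).symm.trans (sb E10334 D9401))).symm
theorem F56958 : act 5 n4610 = n5748 := (sb E10334 F24745)
theorem E11407 : n9402 = n5906 := ((((iv F20050)).symm.trans (sb E10334 D9402))).symm
theorem E11408 : n9729 = n5723 := ((((iv F19490)).symm.trans (sb E10335 D9729))).symm
theorem E11409 : n9730 = n5908 := ((((iv F20056)).symm.trans (sb E10335 D9730))).symm
theorem E11411 : n10062 = n5725 := (((D5725).symm.trans (sb E10337 D10062))).symm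
theorem E11412 : n10063 = n5719 := ((((iv F19477)).symm.trans (sb E10337 D10063))).symm
theorem E11413 : n10064 = n5912 := (((D5912).symm.trans (sb E10338 D10064))).symm
theorem E11421 : n9534 = n9381 := (((D9381).symm.trans (sb E10345 D9534))).symm
theorem E11429 : n9443 = n9228 := ((((iv F30768)).symm.trans (sb E10694 F39703))).symm
theorem F56959 : act 2 n7559 = n9659 := (sb E10390 F40028)
theorem F56960 : act 5 n7559 = n9496 := (sb E10390 (iv D12129))
theorem E11444 : n15474 = n9662 := ((((iv F32119)).symm.trans (sb E10390 D15474))).symm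
theorem E11448 : n10639 = n6583 := (((F25344).symm.trans (sb E10393 F40043))).symm
theorem F56961 : act 5 n7550 = n9500 := (sb E10393 F40044)
theorem E11449 : n10633 = n6592 := ((((iv F22232)).symm.trans (sb E10394 (iv F35147)))).symm
theorem F56962 : act 5 n5138 = n6479 := (sb E10394 (iv D8308))
theorem F56963 : act 2 n5134 = n6589 := (sb E10395 F27750)
theorem F56964 : act 5 n5134 = n6486 := (sb E10395 (iv D8316))
theorem F56965 : act 5 n5132 = n6484 := (sb E10400 F27742)
theorem E11458 : n15209 = n9672 := (((D9672).symm.trans (sb E10407 (iv F49767)))).symm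
theorem E11464 : n15821 = n9664 := (((D9664).symm.trans (sb E10410 D15821))).symm
theorem E11465 : n10860 = n6582 := (((F25341).symm.trans (sb E10411 F40805))).symm
theorem E11466 : n10787 = n6578 := ((((iv F22192)).symm.trans (sb E10412 (iv F35610)))).symm
theorem E11467 : n10859 = n6580 := (((D6580).symm.trans (sb E10412 (iv F35846)))).symm
theorem E11468 : n10786 = n6588 := (((D6588).symm.trans (sb E10413 D10786))).symm
theorem E11471 : n15364 = n9332 := (((D9332).symm.trans (sb E10418 (iv F50300)))).symm
theorem F56966 : act 2 n7428 = n9486 := (sb E10419 (iv F31625))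
theorem E11473 : n9644 = n9435 := ((((iv F31469)).symm.trans (sb E10419 D9644))).symm
theorem F56967 : act 4 n7428 = n5880 := (sb E10419 (iv D7535))
theorem E11474 : n9634 = n9510 := (((D9510).symm.trans (sb E10419 (iv F32053)))).symm
theorem E11475 : n15476 = n9635 := (((D9635).symm.trans (sb E10420 (iv F50639)))).symm
theorem E11476 : n9438 = n9334 := (((D9334).symm.trans (sb E10423 F39797))).symm
theorem F56968 : act 4 n7432 = n5875 := (sb E10426 (iv D7528))
theorem E11481 : n9638 = n9501 := ((((iv F31662)).symm.trans (sb E10426 D9638))).symm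
theorem E11482 : n10640 = n6562 := (((F25292).symm.trans (sb E10427 F40046))).symm
theorem F56969 : act 7 n7529 = n9500 := (sb E10427 (iv D12136))
theorem F56970 : act 1 n5093 = n6466 := (sb E10430 (iv F21860))
theorem E11484 : n6561 = n6491 := ((((iv F21930)).symm.trans (sb E10430 (iv F22136)))).symm
theorem F56971 : act 4 n5093 = n3972 := (sb E10430 (iv D5113))
theorem E11488 : n6568 = n6487 := ((((iv F21921)).symm.trans (sb E10434 (iv F22160)))).symm
theorem F56973 : act 4 n5056 = n3976 := (sb E10434 (iv D5118))
theorem F56974 : act 6 n5117 = n6486 := (sb E10435 (iv D8317))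
theorem E11496 : n16360 = n9348 := ((((iv F31158)).symm.trans (sb E10449 D16360))).symm
theorem E11497 : n16361 = n9349 := (((D9349).symm.trans (sb E10450 D16361))).symm
theorem E11498 : n9664 = n9251 := ((((iv F30857)).symm.trans (sb E11168 (tr (iv F51610) E11464)))).symm
theorem E11499 : n16362 = n5652 := (((F24371).symm.trans (sb E11168 D16362))).symm
theorem E11500 : n9349 = n9237 := ((((iv F30808)).symm.trans (sb E11168 (tr (iv F53246) E11497)))).symm
theorem E11501 : n10993 = n6585 := ((((iv F22214)).symm.trans (sb E10452 (iv F36259)))).symm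
theorem E11503 : n10991 = n5139 := (((D5139).symm.trans (sb E10454 D10991))).symm
theorem F56975 : act 4 n7296 = n5765 := (sb E10460 F24849)
theorem E11504 : n9442 = n9338 := (((D9338).symm.trans (sb E10460 (iv F31486)))).symm
theorem F56976 : act 6 n7296 = n5764 := (sb E10460 (iv D7378))
theorem F56977 : act 1 n7379 = n9202 := (sb E10464 (iv F30669))
theorem F56978 : act 1 n7426 = n9204 := (sb E10465 (iv F30677))
theorem E11508 : n6566 = n6485 := (((F24985).symm.trans (sb E10465 F25304))).symm
theorem F56979 : act 4 n7426 = n5878 := (sb E10465 F25305)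
theorem F56980 : act 7 n5115 = n6484 := (sb E10466 (iv D8314))
theorem F56981 : act 4 n5061 = n3973 := (sb E10468 (iv D5114))
theorem E11512 : n15773 = n15453 := (((D15453).symm.trans (sb E10477 D15773))).symm
theorem E11513 : n15772 = n15334 := ((((iv F50184)).symm.trans (sb E10477 (iv F51474)))).symm
theorem F56982 : act 5 n12114 = n9674 := (sb E10477 F40689)
theorem F56983 : act 6 n12114 = n9673 := (sb E10477 (iv D12360))
theorem E11514 : n15774 = n15320 := ((((iv F50129)).symm.trans (sb E10477 D15774))).symm
theorem F56984 : act 5 n12015 = n9677 := (sb E10478 F40696)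
theorem E11515 : n15751 = n15322 := (((D15322).symm.trans (sb E10478 (iv F51424)))).symm
theorem E11516 : n15334 = n15056 := ((((iv F49288)).symm.trans (sb E10553 (tr (iv F51473) E11513)))).symm
theorem E11517 : n15252 = n9327 := (((F39009).symm.trans (sb E10553 (iv F49889)))).symm
theorem E11518 : n9680 = n9253 := (((F39010).symm.trans (sb E10553 (iv D12370)))).symm
theorem E11520 : n15320 = n15054 := ((((iv F49281)).symm.trans (sb E10637 (tr (iv F51477) E11514)))).symm
theorem E11521 : n15059 = n9682 := (((iv F49302)).symm.trans (sb E10637 F40711))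
theorem E11523 : n15322 = n15052 := ((((iv F49272)).symm.trans (sb E10555 (tr (iv F51422) E11515)))).symm
theorem E11524 : n10810 = n9260 := (((F38996).symm.trans (sb E10555 F40668))).symm
theorem E11525 : n15057 = n9666 := ((D15057).symm.trans (sb E10555 F40669))
theorem E11526 : n9665 = n9250 := (((F38998).symm.trans (sb E10555 (iv D12351)))).symm
theorem E11527 : n10823 = n10608 := ((((iv F35071)).symm.trans (sb E10482 (iv F35729)))).symm
theorem E11528 : n10830 = n9262 := (((E10857).symm.trans ((D10610).symm.trans (sb E10482 (iv F35752))))).symm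
theorem F56985 : act 5 n8288 = n6596 := (sb E10482 F28182)
theorem E11529 : n10819 = n10618 := (((D10618).symm.trans (sb E10483 (iv F35716)))).symm
theorem F56986 : act 5 n8295 = n6590 := (sb E10483 F28156)
theorem F56987 : act 6 n8295 = n6589 := (sb E10483 (iv D8450))
theorem F56988 : act 5 n8297 = n6594 := (sb E10484 F28175)
theorem F56989 : act 6 n8297 = n6593 := (sb E10484 (iv D8456))
theorem F56990 : act 3 n11806 = n9419 := (sb E10485 (iv D12027))
theorem E11531 : n15060 = n9488 := (((iv F49305)).symm.trans (sb E10485 F39717))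
theorem E11532 : n9361 = n9239 := ((((iv F30817)).symm.trans (sb E10486 (iv D11959)))).symm
theorem F56991 : act 3 n11805 = n9411 := (sb E10489 (iv D12017))
theorem F56992 : act 1 n7566 = n9340 := (sb E10490 F39018)
theorem F56993 : act 4 n7566 = n9330 := (sb E10490 F39020)
theorem F56994 : act 5 n7566 = n9246 := (sb E10490 F39021)
theorem F56995 : act 6 n7566 = n9245 := (sb E10490 (iv D11809))
theorem F56996 : act 4 n11803 = n9412 := (sb E10492 F39686)
theorem F56997 : act 6 n11803 = n9411 := (sb E10492 (iv D12019))
theorem F56998 : act 5 n7238 = n6587 := (sb E10493 F28142)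
theorem F56999 : act 3 n7554 = n9245 := (sb E10494 F39013)
theorem F57000 : act 5 n7554 = n9244 := (sb E10494 (iv D11807))
theorem E11540 : n9254 = n5894 := ((((iv D7554)).symm.trans (sb E10494 F39014))).symm
theorem E11541 : n9255 = n5893 := ((D9255).symm.trans (sb E10495 (iv D7553)))
theorem E11543 : n9266 = n6599 := (((iv F30899)).symm.trans (sb E10496 F28190))
theorem E11544 : n10652 = n10618 := (((D10618).symm.trans (sb E10498 D10652))).symm
theorem E11545 : n10653 = n10608 := ((((iv F35073)).symm.trans (sb E10498 D10653))).symm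
theorem F57001 : act 6 n8288 = n10729 := (sb E10500 D10729)
theorem E11551 : n15453 = n15368 := ((D15453).symm.trans (sb E10503 (iv F50308)))
theorem E11558 : n10729 = n9260 := (((F38996).symm.trans (sb E10507 F40312))).symm
theorem F57002 : act 6 n7238 = n6467 := (sb E10511 (iv F56839))
theorem E11564 : n8419 = n8246 := ((((iv F27537)).symm.trans (sb E10520 (iv F28056)))).symm
theorem E11565 : n8249 = n6436 := (((iv F27546)).symm.trans (sb E10520 (tr F22167 E10520)))
theorem E11569 : n15205 = n9434 := (((D9434).symm.trans (sb E10523 (iv F49758)))).symm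
theorem F57003 : act 3 n7373 = n9336 := (sb E10525 F39371)
theorem E11572 : n15212 = n9437 := (((D9437).symm.trans (sb E10525 (iv F49778)))).symm
theorem E11573 : n15214 = n9427 := ((((iv F31440)).symm.trans (sb E10525 D15214))).symm
theorem E11579 : n15435 = n15055 := (((D15055).symm.trans (sb E10531 D15435))).symm
theorem F57004 : act 3 n11802 = n9476 := (sb E10531 (iv D12100))
theorem F57005 : act 5 n12025 = n9624 := (sb E10532 F40443)
theorem E11580 : n15336 = n14983 := ((D15336).symm.trans (sb E10532 (iv F49010)))
theorem E11582 : n15490 = n15041 := ((((iv F49230)).symm.trans (sb E10533 D15490))).symm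
theorem E11583 : n15471 = n15210 := (((D15210).symm.trans (sb E10533 (iv F50626)))).symm
theorem E11584 : n15363 = n15206 := ((((iv F49761)).symm.trans (sb E10534 D15363))).symm
theorem E11585 : n15348 = n15208 := (((D15208).symm.trans (sb E10534 (iv F50241)))).symm
theorem F57006 : act 3 n11923 = n9496 := (sb E10535 (iv D12128))
theorem E11586 : n15473 = n15028 := ((((iv F49179)).symm.trans (sb E10535 D15473))).symm
theorem E11587 : n15708 = n15475 := (((D15475).symm.trans (sb E10536 (iv F51318)))).symm
theorem F57007 : act 3 n11786 = n9500 := (sb E10539 F40041)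
theorem E11589 : n10632 = n8305 := ((D10632).symm.trans (sb E10541 (tr F28069 E10541)))
theorem F57008 : act 3 n6479 = n6479 := (sb E10542 (iv D8307))
theorem F57009 : act 3 n6486 = n6486 := (sb E10543 (iv D8315))
theorem E11593 : n15719 = n15337 := (((D15337).symm.trans (sb E10545 (iv F51351)))).symm
theorem E11595 : n15702 = n15338 := (((D15338).symm.trans (sb E10545 (iv F51304)))).symm
theorem F57010 : act 0 n12118 = n14980 := (sb E10546 (iv F48994))
theorem F57011 : act 4 n12118 = n9659 := (sb E10546 F40559)
theorem E11596 : n15704 = n15324 := ((((iv F50146)).symm.trans (sb E10546 D15704))).symm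
theorem E11599 : n12312 = n11751 := (E10548).trans E10581
theorem E11600 : n15338 = n14981 := ((((iv F49000)).symm.trans (sb E11599 (tr (iv F51302) E11595)))).symm
theorem E11602 : n15324 = n14979 := ((((iv F48991)).symm.trans (sb E11182 (tr (iv F51307) E11596)))).symm
theorem E11604 : n10767 = n10622 := ((((iv F35115)).symm.trans (sb E10550 (iv F35541)))).symm
theorem F57012 : act 3 n8300 = n10771 := (sb E10550 (iv F35556))
theorem F57013 : act 4 n8300 = n6581 := (sb E10550 F28034)
theorem E11605 : n10781 = n10534 := ((((iv F34837)).symm.trans (sb E10551 (iv F35590)))).symm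
theorem F57014 : act 4 n8296 = n6589 := (sb E10551 F28060)
theorem F57015 : act 7 n8231 = n10771 := (sb E10552 (iv F35557))
theorem F57016 : act 3 n7377 = n9340 := (sb E10565 F39383)
theorem F57017 : act 3 n7369 = n9341 := (sb E10566 F39388)
theorem F57018 : act 4 n11752 = n9420 := (sb E10570 F39725)
theorem F57019 : act 6 n11752 = n9419 := (sb E10570 (iv D12029))
theorem F57020 : act 1 n7415 = n9341 := (sb E10571 F39022)
theorem F57021 : act 4 n7415 = n9247 := (sb E10571 F39024)
theorem F57022 : act 7 n7415 = n9246 := (sb E10571 (iv D11810))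
theorem E11610 : n14985 = n9491 := (((iv F49016)).symm.trans (sb E10581 F39728))
theorem F57023 : act 5 n11751 = n9439 := (sb E10581 F39729)
theorem F57024 : act 7 n11751 = n9420 := (sb E10581 (iv D12030))
theorem F57025 : act 5 n11749 = n9501 := (sb E10583 F39690)
theorem F57026 : act 7 n11749 = n9412 := (sb E10583 (iv D12020))
theorem F57027 : act 4 n5021 = n5021 := (sb E10588 F21778)
theorem E11614 : n10809 = n9261 := ((((iv F30880)).symm.trans (sb E10596 (iv F35683)))).symm
theorem F57028 : act 3 n7239 = n6587 := (sb E10596 F28138)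
theorem E11616 : n6585 = n5663 := (((F24395).symm.trans (sb E10596 (iv D8445)))).symm
theorem F57029 : act 1 n4003 = n4003 := (sb E10597 F17600)
theorem E11618 : n6612 = n5153 := ((((iv F17604)).symm.trans (sb E10597 (iv F22301)))).symm
theorem E11619 : n6602 = n5146 := ((((iv F17580)).symm.trans (sb E10597 (iv F22268)))).symm
theorem E11620 : n6643 = n6613 := (((D6613).symm.trans (sb E10598 D6643))).symm
theorem E11621 : n6644 = n6605 := ((((iv F22278)).symm.trans (sb E10598 D6644))).symm
theorem E11622 : n6645 = n6607 := (((D6607).symm.trans (sb E10599 D6645))).symm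
theorem F57030 : act 1 n3239 = n4004 := (sb E10601 (iv F13844))
theorem E11626 : n4266 = n4172 := (((D4172).symm.trans (sb E10601 (iv F14698)))).symm
theorem F57031 : act 1 n3240 = n3999 := (sb E10602 (iv F13827))
theorem E11627 : n4268 = n4173 := (((D4173).symm.trans (sb E10602 D4268))).symm
theorem E11628 : n5252 = n4435 := (E10603).trans E11177
theorem E11629 : n6613 = n5682 := ((((iv F19363)).symm.trans (sb E11628 (tr (iv F22402) E11620)))).symm
theorem E11630 : n4171 = n3452 := (((F15290).symm.trans (sb E11628 F17895))).symm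
theorem E11633 : n5253 = n4434 := (E10604).trans E11180
theorem E11634 : n6605 = n5681 := ((((iv F19360)).symm.trans (sb E11633 (tr (iv F22406) E11621)))).symm
theorem E11635 : n4172 = n3451 := (((F15288).symm.trans (sb E11633 F17898))).symm
theorem E11636 : n5685 = n3998 := (((iv F19376)).symm.trans (sb E11633 (tr (iv F22648) E11395)))
theorem E11637 : n6735 = n3446 := ((((iv D4434)).symm.trans (sb E11633 D6735))).symm
theorem E11638 : n6609 = n3446 := (((iv F22292)).symm.trans (sb E10605 (tr (iv F22675) E11637)))
theorem E11639 : n10816 = n8448 := (((iv F35707)).symm.trans (sb E10607 (tr F28165 E10607)))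
theorem E11640 : n10826 = n10818 := (((D10818).symm.trans (sb E10607 D10826))).symm
theorem E11641 : n10827 = n10799 := ((((iv F35655)).symm.trans (sb E10607 D10827))).symm
theorem E11642 : n10828 = n10801 := (((D10801).symm.trans (sb E10608 D10828))).symm
theorem E11643 : n8496 = n7247 := (E10609).trans E11176
theorem E11644 : n10818 = n9271 := ((((iv F30915)).symm.trans (sb E11643 (tr (iv F35738) E11640)))).symm
theorem E11648 : n8497 = n7246 := (E10610).trans E11179
theorem E11649 : n10799 = n9270 := ((((iv F30911)).symm.trans (sb E11648 (tr (iv F35741) E11641)))).symm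
theorem E11650 : n6644 = n5681 := (E11621).trans E11634
theorem E11651 : n9274 = n6580 := (((iv F30925)).symm.trans (sb E11648 (tr (iv F35847) E11467)))
theorem E11653 : n10801 = n9268 := ((((iv F30905)).symm.trans (sb E10626 (tr (iv F35745) E11642)))).symm
theorem E11654 : n9272 = n6582 := ((D9272).symm.trans (sb E10626 (tr (iv F35849) E11465)))
theorem E11655 : n8606 = n5665 := (E10612).trans E10629
theorem E11656 : n7251 = n5139 := (((iv F24430)).symm.trans (sb E11655 (tr (iv F36254) E11503)))
theorem E11665 : n10993 = n5663 := (E11501).trans E11616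
theorem E11667 : n9273 = n6581 := ((D9273).symm.trans (sb E10616 (iv D8440)))
theorem F57032 : act 5 n5131 = n5662 := (sb E10618 (iv D7248))
theorem F57033 : act 3 n13777 = n10820 := (sb E10619 (iv D13833))
theorem E11673 : n10828 = n9268 := (E11642).trans E11653
theorem F57034 : act 0 n12046 = n9677 := (sb E10636 F40523)
theorem E11677 : n15684 = n15206 := (((E11584).symm.trans (((iv F50297)).symm.trans (sb E10636 (iv F51253))))).symm
theorem F57035 : act 4 n12046 = n9624 := (sb E10636 F40525)
theorem E11678 : n15666 = n15365 := (((D15365).symm.trans (sb E10636 (iv F51203)))).symm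
theorem F57036 : act 7 n12046 = n9622 := (sb E10636 (iv D12295))
theorem E11679 : n12074 = n11987 := ((F56865).symm.trans (sb E10638 F49787))
theorem E11680 : n11958 = n11911 := ((((iv F39333)).symm.trans (sb E10638 F49788))).symm
theorem F57037 : act 5 n9626 = n11927 := (sb E10638 F49789)
theorem E11681 : n15197 = n9359 := (((F39375).symm.trans (sb E10639 (iv F49734)))).symm
theorem F57038 : act 7 n11926 = n9626 := (sb E10639 (iv D12301))
theorem F57039 : act 4 n12052 = n9615 := (sb E10640 F40492)
theorem E11683 : n15195 = n9360 := ((((iv F31184)).symm.trans (sb E10641 (iv F49725)))).symm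
theorem F57040 : act 3 n7317 = n9330 := (sb E10641 F39344)
theorem E11684 : n9351 = n9328 := (((iv F31165)).symm.trans (sb E10641 (iv D11915)))
theorem F57041 : act 3 n7316 = n9331 := (sb E10642 F39351)
theorem F57042 : act 2 n9390 = n7524 := (sb E10644 (iv F56710))
theorem E11688 : n11989 = n7390 := (((iv F39577)).symm.trans (sb E10644 F31544))
theorem F57043 : act 5 n9329 = n7317 := (sb E10646 F31196)
theorem E11689 : n11946 = n7288 := ((((iv D9329)).symm.trans (sb E10646 (iv F39431)))).symm
theorem F57044 : act 7 n9329 = n7316 := (sb E10646 (iv D9364))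
theorem E11690 : n11789 = n7513 := ((((iv F25252)).symm.trans (sb E10647 (iv D15037)))).symm
theorem F57045 : act 1 n7355 = n5916 := (sb E10651 F25418)
theorem E11692 : n9698 = n9394 := ((((iv F31304)).symm.trans (sb E10651 (iv F32219)))).symm
theorem E11693 : n9700 = n9407 := (((D9407).symm.trans (sb E10651 D9700))).symm
theorem E11694 : n9687 = n9408 := (((D9408).symm.trans (sb E10651 (iv F32180)))).symm
theorem F57046 : act 1 n7356 = n5909 := (sb E10652 F25385)
theorem E11695 : n9689 = n9409 := (((D9409).symm.trans (sb E10652 D9689))).symm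
theorem E11702 : n15679 = n15192 := (((iv F51241)).symm.trans (sb E10659 (iv F49718)))
theorem E11703 : n15689 = n15681 := (((D15681).symm.trans (sb E10659 D15689))).symm
theorem F57047 : act 2 n12277 = n9624 := (sb E10660 F40530)
theorem E11705 : n15691 = n15664 := (((D15664).symm.trans (sb E10660 D15691))).symm
theorem F57048 : act 2 n11953 = n9673 := (sb E10661 F40684)
theorem E11706 : n15768 = n15249 := (((D15249).symm.trans (sb E10661 D15768))).symm
theorem E11707 : n15769 = n15072 := ((((iv F49341)).symm.trans (sb E10661 D15769))).symm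
theorem E11708 : n15744 = n15250 := (((D15250).symm.trans (sb E10661 (iv F51410)))).symm
theorem E11710 : n15772 = n15056 := (E11513).trans E11516
theorem E11713 : n15756 = n15750 := (((D15750).symm.trans (sb E10664 (iv F51433)))).symm
theorem E11714 : n15751 = n15052 := (E11515).trans E11523
theorem E11719 : n15681 = n15028 := ((((iv F49176)).symm.trans (sb E10685 (tr (iv F51267) E11703)))).symm
theorem E11724 : n15664 = n15367 := ((((iv F50305)).symm.trans (sb E10688 (tr (iv F51272) E11705)))).symm
theorem F57050 : act 7 n11747 = n9477 := (sb E10684 (iv D12104))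
theorem F57051 : act 4 n9625 = n11786 := (sb E10686 F49193)
theorem F57052 : act 6 n9625 = n11927 := (sb E10686 F49194)
theorem E11739 : n12281 = n11785 := (((iv F40484)).symm.trans (sb E10686 (iv D15032)))
theorem E11740 : n15008 = n10636 := ((((iv F35156)).symm.trans (sb E10687 (iv F49106)))).symm
theorem F57053 : act 3 n8310 = n9217 := (sb E10687 F38883)
theorem F57054 : act 5 n8310 = n9216 := (sb E10687 (iv D11772))
theorem E11743 : n11819 = n7560 := ((((iv F25361)).symm.trans (sb E10689 (iv F39042)))).symm
theorem E11744 : n7269 = n4613 := (((F20040).symm.trans (sb E10689 F30869))).symm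
theorem F57055 : act 4 n5902 = n7233 := (sb E10689 F30870)
theorem E11745 : n11788 = n7514 := ((((iv F25255)).symm.trans (sb E10690 (iv D15036)))).symm
theorem F57056 : act 7 n9230 = n7523 := (sb E10691 F32007)
theorem E11746 : n9663 = n9252 := ((((iv F30859)).symm.trans (sb E10693 (iv F32120)))).symm
theorem E11747 : n5911 = n5677 := (((F24372).symm.trans (sb E10693 F25346))).symm
theorem E11748 : n9256 = n5892 := (((iv F30868)).symm.trans (sb E10693 (iv D7551)))
theorem F57057 : act 7 n7232 = n5902 := (sb E10693 F25348)
theorem F57058 : act 3 n7418 = n9204 := (sb E10698 F38814)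
theorem F57059 : act 6 n7418 = n9202 := (sb E10698 (iv D11754))
theorem F57060 : act 5 n9614 = n12053 := (sb E10700 F50326)
theorem E11757 : n15244 = n15189 := ((((iv F49708)).symm.trans (sb E10703 (iv F49869)))).symm
theorem E11760 : n15198 = n9358 := ((D15198).symm.trans (sb E10703 (iv D11957)))
theorem F57062 : act 5 n7315 = n9331 := (sb E10706 F39355)
theorem F57063 : act 7 n7315 = n9330 := (sb E10706 (iv D11918))
theorem E11764 : n15242 = n15191 := ((((iv F49714)).symm.trans (sb E10707 (iv F49864)))).symm
theorem E11765 : n15046 = n9357 := (((iv F49250)).symm.trans (sb E10707 (iv D11956)))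
theorem F57064 : act 6 n7314 = n9331 := (sb E10708 F38986)
theorem E11767 : n9348 = n9238 := (((iv F31158)).symm.trans (sb E10708 (iv D11800)))
theorem E11768 : n15749 = n15053 := ((((iv F49276)).symm.trans (sb E10709 (iv F51417)))).symm
theorem E11778 : n15196 = n9396 := ((((iv F31307)).symm.trans (sb E10716 (iv F49728)))).symm
theorem F57065 : act 2 n7346 = n9329 := (sb E10716 (iv D11916))
theorem E11782 : n15012 = n10534 := ((((iv F34836)).symm.trans (sb E10719 (iv F49121)))).symm
theorem E11785 : n10771 = n9218 := ((F57015).symm.trans (sb E10719 (iv D11775)))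
theorem F57066 : act 3 n7209 = n6477 := (sb E10724 (iv F56860))
theorem F57067 : act 7 n7209 = n6427 := (sb E10724 (iv F56859))
theorem E11789 : n15010 = n10557 := ((D15010).symm.trans (sb E10725 F44128))
theorem F57068 : act 7 n11768 = n10544 := (sb E10725 (iv D13472))
theorem F57069 : act 5 n8250 = n9218 := (sb E10726 F38890)
theorem F57070 : act 6 n8250 = n9217 := (sb E10726 (iv D11774))
theorem F57071 : act 4 n11825 = n10609 := (sb E10727 F44404)
theorem E11790 : n15009 = n10622 := ((D15009).symm.trans (sb E10728 F44411))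
theorem F57072 : act 7 n11767 = n10609 := (sb E10728 (iv D13559))
theorem F57073 : act 6 n8300 = n9216 := (sb E10732 (iv D11773))
theorem F57074 : act 6 n5130 = n5662 := (sb E10734 (iv D7249))
theorem E11828 : n13455 = n10533 := (((E10856).symm.trans ((D14997).symm.trans (sb E10769 F51751)))).symm
theorem F57075 : act 5 n8230 = n8230 := (sb E10771 (iv D10536))
theorem E11877 : n13555 = n11827 := ((((iv F39063)).symm.trans (sb E10855 F51745))).symm
theorem E11878 : n13454 = n11829 := (((D11829).symm.trans (sb E10855 F51746))).symm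
theorem E11879 : n13456 = n11771 := ((D13456).symm.trans (sb E10856 F49066))
theorem F57076 : act 7 n10533 = n11758 := (sb E10856 (iv D14997))
theorem F57077 : act 3 n9262 = n8288 := (sb E10857 (iv D10610))
theorem E11880 : n11833 = n8297 := ((D11833).symm.trans (sb E10857 F35079))
theorem F57078 : act 3 n9263 = n8230 := (sb E10858 (iv D10535))
theorem F57079 : act 4 n9219 = n8231 := (sb E10859 F34847)
theorem F57080 : act 6 n9219 = n8230 := (sb E10859 (iv D10537))
theorem F57081 : act 4 n6474 = n7241 := (sb E10860 F30902)
theorem F57082 : act 7 n6474 = n7240 := (sb E10860 (iv D9267))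
theorem F57083 : act 3 n5664 = n5130 := (sb E10861 F22211)
theorem F57084 : act 6 n391 = n391 := (sb E10960 (iv D522))
theorem E11957 : n7401 = n7336 := (((D7336).symm.trans (sb E10995 (iv F24925)))).symm
theorem F57085 : act 6 n5730 = n4509 := (sb E10995 (iv D5782))
theorem F57086 : act 0 n1184 = n1184 := (sb E11059 (iv D1549))
theorem E12049 : n12001 = n7385 := (((D7385).symm.trans (sb E11103 (iv F39612)))).symm
theorem E12050 : n11986 = n7386 := (((D7386).symm.trans (sb E11103 (iv F39567)))).symm
theorem F57087 : act 4 n5807 = n7350 := (sb E11107 F31327)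
theorem F57088 : act 3 n5773 = n7339 := (sb E11114 F31285)
theorem E12061 : n11978 = n7393 := (((D7393).symm.trans (sb E11132 (iv F39541)))).symm
theorem F57089 : act 3 n5777 = n7334 := (sb E11133 F31270)
theorem E12062 : n11984 = n7396 := (((D7396).symm.trans (sb E11133 (iv F39561)))).symm
theorem F57090 : act 3 n5781 = n7338 := (sb E11137 F31279)
theorem F57091 : act 2 n8452 = n10622 := (sb E11164 F44465)
theorem E12084 : n9275 = n6593 := (((iv F30928)).symm.trans (sb E11176 (iv D8455)))
theorem E12086 : n5686 = n4004 := (((iv F19378)).symm.trans (sb E11177 (iv D5154)))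
theorem E12087 : n4266 = n3451 := (E11626).trans E11635
theorem E12088 : n5684 = n3999 := (((iv F19372)).symm.trans (sb E11180 F17585))
theorem F57092 : act 5 n5129 = n5664 := (sb E11181 F24427)
theorem F57093 : act 4 n8237 = n8237 := (sb E11183 (iv D10543))
theorem E12091 : n8245 = n6434 := (((F27511).symm.trans (sb E11183 F34868))).symm
theorem F57094 : act 4 n5018 = n5018 := (sb E11185 (iv D6435))
theorem E12092 : n13589 = n10634 := ((((iv F35151)).symm.trans (sb E11186 (iv F44505)))).symm
theorem F57095 : act 3 n8309 = n8309 := (sb E11186 F35163)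
theorem E12095 : n13487 = n10557 := ((((iv F34909)).symm.trans (sb E11187 (iv F44176)))).symm
theorem F57096 : act 4 n8250 = n8250 := (sb E11187 F34922)
theorem E12221 : n8465 = n5910 := (((D5910).symm.trans (sb E11285 F35249))).symm
theorem E12223 : n5144 = n3996 := (((F15822).symm.trans (sb E11286 (iv D6604)))).symm
theorem F57097 : act 2 n7570 = n7570 := (sb E11290 (iv D9690))
theorem F57098 : act 3 n11828 = n11828 := (sb E11301 (iv D15090))
theorem F57099 : act 1 n3092 = n3092 := (sb E11304 (iv D3994))
theorem E12235 : n5143 = n3995 := (((D3995).symm.trans (sb E11304 D5143))).symm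
theorem E12242 : n9465 = n9397 := (((D9397).symm.trans (sb E11314 D9465))).symm
theorem E12243 : n9464 = n9378 := ((((iv F31248)).symm.trans (sb E11314 (iv F31563)))).symm
theorem F57100 : act 6 n7347 = n5776 := (sb E11314 (iv D7394))
theorem E12253 : n9469 = n9383 := (((D9383).symm.trans (sb E11329 (iv F31580)))).symm
theorem F57101 : act 6 n7332 = n5777 := (sb E11329 (iv D7397))
theorem F57102 : act 0 n2006 = n2006 := (sb E11382 F9117)
theorem E12315 : n3318 = n2580 := (((D2580).symm.trans (sb E11382 D3318))).symm
theorem E12316 : n3311 = n2574 := ((((iv F9104)).symm.trans (sb E11382 (iv F11545)))).symm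
theorem F57103 : act 0 n2002 = n2002 := (sb E11383 F9099)
theorem F57104 : act 5 n2580 = n3239 := (sb E11384 F14349)
theorem E12318 : n5351 = n3314 := ((((iv F11558)).symm.trans (sb E11384 D5351))).symm
theorem F57105 : act 5 n2574 = n3240 := (sb E11385 F14353)
theorem F57106 : act 0 n2001 = n2001 := (sb E11387 F9095)
theorem E12320 : n3312 = n2575 := (((D2575).symm.trans (sb E11387 D3312))).symm
theorem F57107 : act 1 n3098 = n3098 := (sb E11391 F13835)
theorem E12324 : n5151 = n4002 := (((D4002).symm.trans (sb E11391 D5151))).symm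
theorem E12326 : n8505 = n5145 := ((((iv F17576)).symm.trans (sb E11392 D8505))).symm
theorem E12330 : n8619 = n5149 := (((D5149).symm.trans (sb E11395 D8619))).symm
theorem E12339 : n11982 = n7578 := (((D7578).symm.trans (sb E11406 (iv F39553)))).symm
theorem F57108 : act 5 n5914 = n7355 := (sb E11406 F31332)
theorem F57109 : act 2 n5906 = n7350 := (sb E11407 F31336)
theorem F57110 : act 5 n5906 = n7356 := (sb E11407 F31337)
theorem E12343 : n12427 = n7328 := (((D7328).symm.trans (sb E11408 D12427))).symm
theorem E12345 : n12429 = n7573 := (((D7573).symm.trans (sb E11409 D12429))).symm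
theorem E12346 : n12854 = n7323 := ((((iv F24651)).symm.trans (sb E11411 D12854))).symm
theorem E12347 : n12855 = n7324 := (((D7324).symm.trans (sb E11412 D12855))).symm
theorem E12348 : n12856 = n7577 := (((D7577).symm.trans (sb E11413 D12856))).symm
theorem E12349 : n12083 = n11980 := ((((iv F39547)).symm.trans (sb E11421 (iv F39902)))).symm
theorem E12350 : n12179 = n11857 := ((((iv F39156)).symm.trans (sb E11421 D12179))).symm
theorem E12351 : n12160 = n11983 := (((D11983).symm.trans (sb E11421 (iv F40102)))).symm
theorem E12354 : n12053 = n11783 := ((((iv F38917)).symm.trans (sb E11429 (iv F39802)))).symm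
theorem F57111 : act 4 n9228 = n7379 := (sb E11429 F31488)
theorem E12355 : n11787 = n7515 := ((D11787).symm.trans (sb E11429 (iv F56897)))
theorem F57112 : act 5 n9662 = n12130 := (sb E11444 F50633)
theorem E12360 : n13590 = n8437 := ((((iv F28113)).symm.trans (sb E11448 (iv F44508)))).symm
theorem F57113 : act 5 n6583 = n8309 := (sb E11448 F35165)
theorem F57114 : act 2 n6592 = n8434 := (sb E11449 F35148)
theorem F57115 : act 5 n6592 = n8305 := (sb E11449 (iv D10633))
theorem F57116 : act 3 n9672 = n11922 := (sb E11458 (iv D15209))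
theorem F57117 : act 5 n9672 = n11953 := (sb E11458 F49768)
theorem E12366 : n13789 = n8435 := ((((iv F28109)).symm.trans (sb E11465 (iv F45101)))).symm
theorem E12367 : n13879 = n8439 := ((((iv F28121)).symm.trans (sb E11465 (iv F45394)))).symm
theorem E12368 : n13788 = n8433 := (((D8433).symm.trans (sb E11466 (iv F45098)))).symm
theorem E12370 : n8447 = n6588 := ((D8447).symm.trans (sb E11468 (tr F35607 E11468)))
theorem E12373 : n12047 = n11919 := (((D11919).symm.trans (sb E11471 F50299))).symm
theorem E12375 : n12307 = n12049 := (((D12049).symm.trans (sb E11473 (iv F40557)))).symm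
theorem F57118 : act 0 n9510 = n11747 := (sb E11474 (iv F38785))
theorem F57119 : act 2 n9510 = n12015 := (sb E11474 (iv F39670))
theorem F57120 : act 4 n9510 = n7527 := (sb E11474 (iv D9634))
theorem E12376 : n12309 = n12132 := ((((iv F40035)).symm.trans (sb E11474 D12309))).symm
theorem F57121 : act 7 n9635 = n12130 := (sb E11475 (iv D15476))
theorem F57122 : act 4 n9334 = n7374 := (sb E11476 F31477)
theorem E12377 : n12052 = n11924 := (((D11924).symm.trans (sb E11476 (iv F39801)))).symm
theorem F57123 : act 6 n9334 = n7373 := (sb E11476 (iv D9438))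
theorem E12379 : n8413 = n8310 := (((F31661).symm.trans (sb E11481 F32064))).symm
theorem F57124 : act 4 n9501 = n7529 := (sb E11481 F32065)
theorem E12380 : n13592 = n8410 := ((((iv F28025)).symm.trans (sb E11482 (iv F44514)))).symm
theorem F57125 : act 7 n6562 = n8309 := (sb E11482 (iv D10640))
theorem E12381 : n8409 = n8319 := ((((iv F27758)).symm.trans (sb E11484 (iv F28022)))).symm
theorem F57126 : act 4 n6491 = n5112 := (sb E11484 (iv D6561))
theorem F57127 : act 2 n6487 = n8295 := (sb E11488 (iv F27692))
theorem F57128 : act 4 n6487 = n5117 := (sb E11488 (iv D6568))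
theorem E12386 : n16360 = n9238 := (E11496).trans E11767
theorem E12387 : n7323 = n7258 := (((F30811).symm.trans (sb E12386 (tr F53243 E12346)))).symm
theorem E12388 : n12341 = n11812 := ((((iv F39027)).symm.trans (sb E11498 (iv F40643)))).symm
theorem E12390 : n11816 = n7549 := (((iv F39036)).symm.trans (sb E11498 F32125))
theorem E12391 : n11939 = n11794 := ((((iv F38962)).symm.trans (sb E11498 (iv F39410)))).symm
theorem E12393 : n11818 = n7547 := ((D11818).symm.trans (sb E11498 (iv D9664)))
theorem E12395 : n7577 = n4428 := (((F19268).symm.trans (sb E11499 (tr F53249 E12348)))).symm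
theorem E12396 : n11798 = n7305 := (((F30806).symm.trans (sb E11500 (iv F38976)))).symm
theorem E12398 : n11797 = n7306 := (((iv F38974)).symm.trans (sb E11500 F31159))
theorem E12400 : n11799 = n7304 := ((D11799).symm.trans (sb E11500 (iv D9349)))
theorem E12401 : n8439 = n7245 := ((((iv F24411)).symm.trans (sb E11665 (tr (iv F45393) E12367)))).symm
theorem F57129 : act 1 n9338 = n7554 := (sb E11504 F56870)
theorem F57130 : act 4 n9338 = n7516 := (sb E11504 F56871)
theorem F57131 : act 6 n9338 = n7377 := (sb E11504 (iv D9442))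
theorem F57132 : act 4 n6485 = n5115 := (sb E11508 F22154)
theorem E12407 : n15773 = n15368 := (E11512).trans E11551
theorem F57133 : act 5 n15368 = n12361 := (sb E12407 F51476)
theorem E12408 : n12359 = n11815 := (((F49291).symm.trans (sb E11710 (iv D15772)))).symm
theorem E12409 : n15774 = n15054 := (E11514).trans E11520
theorem F57134 : act 5 n15054 = n12362 := (sb E12409 F51479)
theorem F57135 : act 5 n15052 = n12344 := (sb E11714 F51423)
theorem E12410 : n12342 = n11811 := (((F49274).symm.trans (sb E11714 (iv D15751)))).symm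
theorem F57136 : act 3 n15056 = n12025 := (sb E11516 (iv D15334))
theorem F57137 : act 4 n15056 = n12114 := (sb E11516 F50184)
theorem E12411 : n11955 = n11796 := ((((iv F38971)).symm.trans (sb E11517 (iv D15252)))).symm
theorem E12412 : n7580 = n7265 := (((F30863).symm.trans (sb E11518 F32159))).symm
theorem F57138 : act 3 n15054 = n12015 := (sb E11520 (iv D15320))
theorem F57139 : act 7 n15054 = n12114 := (sb E11520 F50129)
theorem F57140 : act 4 n9682 = n11912 := (sb E11521 F49301)
theorem F57141 : act 5 n9682 = n11805 := (sb E11521 F49302)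
theorem F57142 : act 6 n9682 = n11804 := (sb E11521 (iv D15059))
theorem F57143 : act 4 n15052 = n12016 := (sb E11523 F50137)
theorem F57144 : act 6 n15052 = n12015 := (sb E11523 (iv D15322))
theorem E12414 : n13809 = n11825 := ((((iv F39054)).symm.trans (sb E11524 (iv F45172)))).symm
theorem F57145 : act 5 n9260 = n8441 := (sb E11524 F35688)
theorem F57146 : act 3 n9666 = n11804 := (sb E11525 F49294)
theorem F57147 : act 5 n9666 = n11803 := (sb E11525 (iv D15057))
theorem E12416 : n11817 = n7548 := ((D11817).symm.trans (sb E11526 (iv D9665)))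
theorem E12417 : n13832 = n11827 := (((E11877).symm.trans ((D13555).symm.trans (sb E11527 (iv F45245))))).symm
theorem F57148 : act 5 n10608 = n8452 := (sb E11527 F35730)
theorem E12419 : n11832 = n8457 := (((iv F39080)).symm.trans (sb E11528 F35753))
theorem E12420 : n13831 = n13569 := (((D13569).symm.trans (sb E11529 D13831))).symm
theorem F57149 : act 5 n10618 = n8449 := (sb E11529 F35717)
theorem F57150 : act 6 n10618 = n8448 := (sb E11529 (iv D10819))
theorem F57151 : act 4 n9488 = n11806 := (sb E11531 F49305)
theorem F57152 : act 7 n9488 = n11805 := (sb E11531 (iv D15060))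
theorem E12422 : n7329 = n7259 := (((F30814).symm.trans (sb E11532 F31187))).symm
theorem F57153 : act 4 n9239 = n7314 := (sb E11532 (iv D9361))
theorem F57154 : act 3 n5894 = n7231 := (sb E11540 F30865)
theorem F57155 : act 5 n5894 = n7230 := (sb E11540 (iv D9254))
theorem F57156 : act 3 n5893 = n7232 := (sb E11541 F30866)
theorem F57157 : act 6 n5893 = n7230 := (sb E11541 (iv D9255))
theorem F57158 : act 5 n6599 = n7240 := (sb E11543 F30899)
theorem F57159 : act 6 n6599 = n7239 := (sb E11543 (iv D9266))
theorem E12431 : n13569 = n13488 := ((D13569).symm.trans (sb E11544 (iv F44180)))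
theorem F57160 : act 6 n10608 = n13617 := (sb E11545 D13617)
theorem F57161 : act 2 n15368 = n12114 := (sb E11551 (iv D15453))
theorem E12440 : n13617 = n11825 := ((((iv F39054)).symm.trans (sb E11558 (iv F44584)))).symm
theorem F57162 : act 6 n9260 = n8288 := (sb E11558 (iv F57001))
theorem E12441 : n10780 = n10556 := (((D10556).symm.trans (sb E11564 D10780))).symm
theorem E12442 : n10555 = n8246 := (((iv F34904)).symm.trans (sb E11564 (tr F28057 E11564)))
theorem F57163 : act 4 n6436 = n6436 := (sb E11565 F27546)
theorem F57164 : act 3 n9434 = n11921 := (sb E11569 F49757)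
theorem F57165 : act 3 n9437 = n11926 := (sb E11572 F49777)
theorem F57166 : act 3 n9427 = n11927 := (sb E11573 F49784)
theorem F57167 : act 3 n15055 = n12290 := (sb E11579 F50529)
theorem F57168 : act 0 n14983 = n12130 := (sb E11580 F50191)
theorem F57169 : act 4 n14983 = n12026 := (sb E11580 F50193)
theorem F57170 : act 6 n14983 = n12025 := (sb E11580 (iv D15336))
theorem F57171 : act 3 n15041 = n12358 := (sb E11582 F50675)
theorem F57172 : act 3 n15210 = n12339 := (sb E11583 F50625)
theorem F57173 : act 3 n15206 = n12046 := (sb E11584 F50297)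
theorem F57174 : act 0 n15208 = n12114 := (sb E11585 F50238)
theorem F57175 : act 3 n15208 = n12035 := (sb E11585 (iv D15348))
theorem F57176 : act 5 n15208 = n12292 := (sb E11585 F56899)
theorem F57177 : act 6 n15208 = n12291 := (sb E11585 F56900)
theorem F57178 : act 3 n15028 = n12130 := (sb E11586 F50631)
theorem E12451 : n13766 = n13591 := (((F50634).symm.trans (sb E11587 F51317))).symm
theorem F57179 : act 5 n15475 = n12346 := (sb E11587 F51319)
theorem F57180 : act 7 n15475 = n12310 := (sb E11587 (iv D15708))
theorem F57181 : act 3 n8305 = n8305 := (sb E11589 (iv D10632))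
theorem F57182 : act 3 n15337 = n12361 := (sb E11593 F56877)
theorem F57183 : act 3 n14981 = n12118 := (sb E11600 F50200)
theorem F57184 : act 5 n14981 = n12049 := (sb E11600 F50201)
theorem F57185 : act 7 n14981 = n12026 := (sb E11600 (iv D15338))
theorem F57186 : act 5 n14979 = n12132 := (sb E11602 F50145)
theorem F57187 : act 6 n14979 = n12118 := (sb E11602 F50146)
theorem F57188 : act 7 n14979 = n12016 := (sb E11602 (iv D15324))
theorem F57189 : act 3 n10622 = n13760 := (sb E11604 (iv F45002))
theorem F57190 : act 4 n10622 = n8434 := (sb E11604 F35542)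
theorem E12460 : n13777 = n13457 := (((D13457).symm.trans (sb E11605 (iv F45060)))).symm
theorem F57191 : act 7 n10534 = n13760 := (sb E11605 (iv F45003))
theorem F57192 : act 3 n9491 = n11751 := (sb E11610 F49016)
theorem F57193 : act 6 n9491 = n11749 := (sb E11610 (iv D14985))
theorem E12463 : n13807 = n11826 := ((((iv F39057)).symm.trans (sb E11614 (iv F45165)))).symm
theorem F57194 : act 3 n9261 = n8441 := (sb E11614 F35684)
theorem F57195 : act 3 n5663 = n5131 := (sb E11616 F22214)
theorem F57196 : act 6 n5663 = n5129 := (sb E11616 (iv D6585))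
theorem F57197 : act 1 n5153 = n5153 := (sb E11618 F22300)
theorem F57198 : act 1 n5146 = n5146 := (sb E11619 F22266)
theorem E12475 : n7272 = n5145 := (((iv F24503)).symm.trans (sb E11650 (tr (iv F28339) E12326)))
theorem E12476 : n8514 = n4429 := ((((iv D5681)).symm.trans (sb E11650 D8514))).symm
theorem E12477 : n8468 = n4429 := (((iv F28220)).symm.trans (sb E11622 (tr (iv F28372) E12476)))
theorem E12482 : n4438 = n3314 := (((iv F15304)).symm.trans (sb E12087 (iv D4266)))
theorem E12483 : n5477 = n2679 := ((((iv D3451)).symm.trans (sb E12087 D5477))).symm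
theorem E12484 : n5360 = n2679 := (((iv F18267)).symm.trans (sb E11627 (tr (iv F18655) E12483)))
theorem E12485 : n7273 = n5153 := (((iv F24506)).symm.trans (sb E11629 (iv D6613)))
theorem E12487 : n4439 = n3239 := (((iv F15307)).symm.trans (sb E11630 (iv D4171)))
theorem E12492 : n7271 = n5146 := (((iv F24498)).symm.trans (sb E11634 F22277))
theorem E12493 : n4437 = n3240 := (((iv F15299)).symm.trans (sb E11635 F14376))
theorem E12494 : n7275 = n3094 := ((((iv D3998)).symm.trans (sb E11636 (iv F24513)))).symm
theorem F57200 : act 5 n3998 = n4434 := (sb E11636 F19376)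
theorem E12495 : n5149 = n4433 := ((D5149).symm.trans (sb E11636 (iv D5685)))
theorem E12498 : n8619 = n4433 := (E12330).trans E12495
theorem E12500 : n5150 = n4432 := (((D4432).symm.trans (sb E11638 F22292))).symm
theorem F57201 : act 2 n8448 = n8448 := (sb E11639 F35707)
theorem E12507 : n10827 = n9270 := (E11641).trans E11649
theorem E12508 : n11842 = n8433 := (((iv F39112)).symm.trans (sb E12507 (tr (iv F45099) E12368)))
theorem E12510 : n13814 = n11839 := (((D11839).symm.trans (sb E11673 (iv F45185)))).symm
theorem E12511 : n11840 = n8435 := ((D11840).symm.trans (sb E11673 (tr (iv F45102) E12366)))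
theorem E12512 : n11843 = n8448 := (((iv F39116)).symm.trans (sb E11644 (iv D10818)))
theorem E12516 : n11841 = n8434 := (((iv F39107)).symm.trans (sb E11649 F35654))
theorem F57202 : act 5 n6580 = n7246 := (sb E11651 F30925)
theorem F57203 : act 5 n6582 = n7244 := (sb E11654 (iv D9272))
theorem F57204 : act 4 n5139 = n5665 := (sb E11656 F24430)
theorem F57205 : act 7 n5139 = n5664 := (sb E11656 (iv D7251))
theorem F57206 : act 3 n6581 = n7246 := (sb E11667 F30921)
theorem F57207 : act 6 n6581 = n7244 := (sb E11667 (iv D9273))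
theorem F57208 : act 0 n15206 = n12362 := (sb E11677 F51251)
theorem F57209 : act 7 n15206 = n12292 := (sb E11677 (iv D15684))
theorem F57210 : act 0 n15365 = n12344 := (sb E11678 F51200)
theorem F57211 : act 4 n15365 = n12280 := (sb E11678 F51202)
theorem F57212 : act 7 n15365 = n12278 := (sb E11678 (iv D15666))
theorem E12536 : n15395 = n15278 := ((((iv F49983)).symm.trans (sb E11679 (iv F50400)))).symm
theorem F57213 : act 2 n11987 = n9626 := (sb E11679 (iv F56865))
theorem E12537 : n15285 = n9455 := (((iv F50005)).symm.trans (sb E11679 F39874))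
theorem E12538 : n15246 = n15188 := ((((iv F49704)).symm.trans (sb E11680 (iv F49874)))).symm
theorem E12539 : n15233 = n9324 := ((((iv D11911)).symm.trans (sb E11680 (iv F49842)))).symm
theorem F57214 : act 3 n9359 = n11913 := (sb E11681 F49733)
theorem F57215 : act 7 n9359 = n11911 := (sb E11681 (iv D15197))
theorem F57216 : act 3 n9360 = n11912 := (sb E11683 F49726)
theorem F57217 : act 5 n9360 = n11911 := (sb E11683 F49727)
theorem E12540 : n11941 = n11910 := (((iv F39417)).symm.trans (sb E11683 (iv D15195)))
theorem F57218 : act 4 n9328 = n7307 := (sb E11684 F31164)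
theorem F57219 : act 6 n9328 = n7317 := (sb E11684 F31165)
theorem F57220 : act 3 n7390 = n9390 := (sb E11688 F39577)
theorem E12543 : n9350 = n9236 := ((((iv F30805)).symm.trans (sb E11689 (iv D11946)))).symm
theorem E12544 : n15031 = n9612 := ((((iv F31992)).symm.trans (sb E11690 (iv F49187)))).symm
theorem F57221 : act 5 n7513 = n9230 := (sb E11690 F38943)
theorem F57222 : act 6 n7513 = n9229 := (sb E11690 (iv D11789))
theorem E12546 : n12387 = n11996 := (((D11996).symm.trans (sb E11692 D12387))).symm
theorem E12547 : n12388 = n11873 := ((((iv F39214)).symm.trans (sb E11692 D12388))).symm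
theorem E12548 : n12373 = n11997 := (((D11997).symm.trans (sb E11692 (iv F40716)))).symm
theorem E12549 : n9407 = n9295 := ((((iv F30991)).symm.trans (iv (sb E11693 (tr F32223 E12412))))).symm
theorem E12550 : n9700 = n9295 := (E11693).trans E12549
theorem E12551 : n11996 = n11874 := ((((iv F39216)).symm.trans (sb E12550 (tr (iv F40760) E12546)))).symm
theorem E12552 : n11975 = n11858 := ((((iv F39160)).symm.trans (sb E12550 (iv F39527)))).symm
theorem E12553 : n12375 = n7261 := ((((iv D9295)).symm.trans (sb E12550 (iv F40721)))).symm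
theorem E12554 : n12013 = n7261 := (((iv F39663)).symm.trans (sb E11694 (tr D12375 E12553)))
theorem F57224 : act 1 n9409 = n7574 := (sb E11695 F32186)
theorem E12560 : n12854 = n7258 := (E12346).trans E12387
theorem E12564 : n12856 = n4428 := (E12348).trans E12395
theorem F57225 : act 2 n15192 = n12291 := (sb E11702 F51241)
theorem F57226 : act 5 n15192 = n12290 := (sb E11702 (iv D15679))
theorem E12565 : n12387 = n11874 := (E12546).trans E12551
theorem E12566 : n15249 = n15073 := ((((iv F49343)).symm.trans (iv (sb E11706 (tr F51467 E12408))))).symm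
theorem F57227 : act 5 n15072 = n12358 := (sb E11707 F51469)
theorem F57228 : act 2 n15250 = n12340 := (sb E11708 F51409)
theorem F57229 : act 5 n15250 = n12339 := (sb E11708 (iv D15744))
theorem F57230 : act 6 n15750 = n12346 := (sb E11713 (iv D15756))
theorem F57231 : act 4 n15028 = n12291 := (sb E11719 (iv D15681))
theorem E12567 : n15367 = n15024 := ((((iv F49159)).symm.trans (iv (sb E11724 (tr F51194 E12410))))).symm
theorem E12568 : n15664 = n15024 := (E11724).trans E12567
theorem F57232 : act 5 n15024 = n12278 := (sb E12568 F51196)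
theorem F57233 : act 6 n15024 = n12277 := (sb E12568 (iv D15664))
theorem E12570 : n15662 = n15026 := ((((iv F49169)).symm.trans (sb E11739 (iv F51188)))).symm
theorem E12571 : n15030 = n9613 := (((iv F49185)).symm.trans (sb E11739 F40483))
theorem F57234 : act 7 n11785 = n9625 := (sb E11739 F40484)
theorem F57235 : act 3 n10636 = n11768 := (sb E11740 F49107)
theorem F57236 : act 5 n10636 = n11767 := (sb E11740 (iv D15008))
theorem E12572 : n15071 = n9673 := ((((iv F32145)).symm.trans (sb E11743 (iv F49338)))).symm
theorem E12573 : n9299 = n5916 := (((F25362).symm.trans (sb E11743 F39043))).symm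
theorem F57237 : act 4 n7560 = n9253 := (sb E11743 F39044)
theorem F57238 : act 4 n4613 = n5678 := (sb E11744 F24490)
theorem F57239 : act 3 n7514 = n9230 := (sb E11745 F38938)
theorem F57240 : act 6 n7514 = n9228 := (sb E11745 (iv D11788))
theorem E12576 : n12340 = n11813 := ((((iv F39029)).symm.trans (sb E11746 (iv F40640)))).symm
theorem E12577 : n7572 = n7264 := (((F30860).symm.trans (sb E11746 F32121))).symm
theorem F57241 : act 7 n9252 = n7560 := (sb E11746 F32123)
theorem E12578 : n7267 = n4608 := (((iv F24485)).symm.trans (sb E11747 F20066))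
theorem E12579 : n7268 = n4607 := (((iv F24488)).symm.trans (sb E11747 (iv D5911)))
theorem F57242 : act 7 n5677 = n4613 := (sb E11747 F20067)
theorem F57243 : act 5 n5892 = n7232 := (sb E11748 F30868)
theorem F57244 : act 6 n5892 = n7231 := (sb E11748 (iv D9256))
theorem F57245 : act 3 n15189 = n11952 := (sb E11757 F49870)
theorem F57246 : act 4 n15189 = n12362 := (sb E11757 F49871)
theorem F57247 : act 7 n15189 = n11949 := (sb E11757 (iv D15244))
theorem F57248 : act 5 n9358 = n11913 := (sb E11760 F49737)
theorem F57249 : act 7 n9358 = n11912 := (sb E11760 (iv D15198))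
theorem F57250 : act 3 n15191 = n11950 := (sb E11764 F49865)
theorem F57251 : act 5 n15191 = n11949 := (sb E11764 F49866)
theorem F57252 : act 6 n15191 = n11948 := (sb E11764 (iv D15242))
theorem F57253 : act 6 n9357 = n11913 := (sb E11765 F49250)
theorem E12583 : n11938 = n11795 := (((iv F39407)).symm.trans (sb E11765 (iv D15046)))
theorem F57254 : act 7 n9238 = n7314 := (sb E11767 F31158)
theorem F57255 : act 3 n15053 = n12344 := (sb E11768 F51418)
theorem F57256 : act 6 n15053 = n12362 := (sb E11768 F51419)
theorem F57257 : act 2 n9396 = n11911 := (sb E11778 (iv D15196))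
theorem E12586 : n13760 = n11769 := ((F57191).symm.trans (sb E11782 (iv D15012)))
theorem F57258 : act 3 n9218 = n8300 := (sb E11785 (iv F57012))
theorem F57259 : act 7 n9218 = n8231 := (sb E11785 (iv F57015))
theorem F57260 : act 5 n10557 = n11769 := (sb E11789 F49115)
theorem F57261 : act 6 n10557 = n11768 := (sb E11789 (iv D15010))
theorem F57262 : act 6 n10622 = n11767 := (sb E11790 (iv D15009))
theorem F57263 : act 5 n10533 = n10533 := (sb E11828 (iv D13455))
theorem F57264 : act 3 n11827 = n10608 := (sb E11877 (iv D13555))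
theorem E12649 : n15089 = n10618 := ((D15089).symm.trans (sb E11877 F44396))
theorem F57265 : act 3 n11829 = n10533 := (sb E11878 (iv D13454))
theorem F57266 : act 4 n11771 = n10534 := (sb E11879 F44073)
theorem F57267 : act 6 n11771 = n10533 := (sb E11879 (iv D13456))
theorem F57268 : act 4 n8297 = n9263 := (sb E11880 F39083)
theorem F57269 : act 7 n8297 = n9262 := (sb E11880 (iv D11833))
theorem F57270 : act 6 n7336 = n5781 := (sb E11957 (iv D7401))
theorem E12785 : n15276 = n9452 := (((D9452).symm.trans (sb E12049 (iv F49977)))).symm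
theorem F57271 : act 3 n7386 = n9386 := (sb E12050 F39566)
theorem F57272 : act 3 n7393 = n9380 := (sb E12061 F39540)
theorem E12790 : n15274 = n9463 := (((D9463).symm.trans (sb E12061 (iv F49971)))).symm
theorem F57273 : act 3 n7396 = n9385 := (sb E12062 F39559)
theorem F57274 : act 4 n6593 = n7247 := (sb E12084 F30928)
theorem F57275 : act 7 n6593 = n7246 := (sb E12084 (iv D9275))
theorem F57276 : act 4 n4004 = n4435 := (sb E12086 F19378)
theorem F57277 : act 7 n4004 = n4434 := (sb E12086 (iv D5686))
theorem F57278 : act 3 n3999 = n4434 := (sb E12088 F19372)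
theorem F57279 : act 4 n6434 = n6434 := (sb E12091 (iv D8245))
theorem F57280 : act 3 n10634 = n10634 := (sb E12092 F44506)
theorem F57281 : act 4 n10557 = n10557 := (sb E12095 F44177)
theorem E12895 : n6603 = n5147 := (((F20062).symm.trans (sb E12221 (iv D8465)))).symm
theorem F57282 : act 1 n3996 = n3996 := (sb E12223 F17570)
theorem F57283 : act 1 n3995 = n3995 := (sb E12235 F17567)
theorem E12902 : n6601 = n5145 := (((D5145).symm.trans (sb E12235 D6601))).symm
theorem E12904 : n12087 = n11976 := ((((iv F39531)).symm.trans (sb E12242 (iv F39916)))).symm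
theorem E12905 : n11999 = n11770 := ((D11999).symm.trans (sb E12242 (iv F38877)))
theorem E12906 : n12086 = n11977 := (((D11977).symm.trans (sb E12243 (iv F39913)))).symm
theorem F57284 : act 6 n9378 = n7393 := (sb E12243 (iv D9464))
theorem F57285 : act 6 n9383 = n7396 := (sb E12253 (iv D9469))
theorem F57286 : act 0 n2580 = n2580 := (sb E12315 F11567)
theorem E12946 : n4263 = n3314 := ((((iv F11558)).symm.trans (sb E12315 (iv F14687)))).symm
theorem F57287 : act 0 n2574 = n2574 := (sb E12316 F11543)
theorem E12947 : n4265 = n3316 := (((D3316).symm.trans (sb E12316 D4265))).symm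
theorem E12950 : n6859 = n4267 := (((D4267).symm.trans (sb E12318 D6859))).symm
theorem F57289 : act 0 n2575 = n2575 := (sb E12320 F11546)
theorem F57290 : act 1 n4002 = n4002 := (sb E12324 F17596)
theorem E12957 : n10888 = n6606 := (((D6606).symm.trans (sb E12326 D10888))).symm
theorem E12960 : n6606 = n5680 := ((((iv F19355)).symm.trans (sb E12498 (tr (iv F35934) E12957)))).symm
theorem E12961 : n4267 = n3450 := (((F15284).symm.trans (sb E12498 (tr F28686 E12950)))).symm
theorem F57291 : act 3 n7578 = n9381 := (sb E12339 (iv D11982))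
theorem F57292 : act 5 n7578 = n9394 := (sb E12339 F39554)
theorem E12966 : n15127 = n9699 := (((D9699).symm.trans (sb E12339 (iv F49505)))).symm
theorem E12967 : n15282 = n9686 := ((((iv F32176)).symm.trans (sb E12339 D15282))).symm
theorem E12971 : n15853 = n9369 := ((((iv F31215)).symm.trans (sb E12343 D15853))).symm
theorem E12973 : n15855 = n9694 := (((D9694).symm.trans (sb E12345 D15855))).symm
theorem E12974 : n9369 = n9285 := ((((iv F30957)).symm.trans (sb E12560 (tr (iv F51711) E12971)))).symm
theorem E12975 : n16398 = n5668 := ((((iv D7258)).symm.trans (sb E12560 D16398))).symm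
theorem E12977 : n9373 = n5668 := (((iv F31231)).symm.trans (sb E12347 (tr (iv F53349) E12975)))
theorem E12978 : n9694 = n5674 := ((((iv F19335)).symm.trans (sb E12564 (tr (iv F51717) E12973)))).symm
theorem E12981 : n15279 = n15007 := ((D15279).symm.trans (sb E12349 (iv F49103)))
theorem E12985 : n15541 = n15128 := (((D15128).symm.trans (sb E12350 D15541))).symm
theorem E12986 : n15515 = n15283 := (((D15283).symm.trans (sb E12351 D15515))).symm
theorem F57295 : act 4 n11783 = n9439 := (sb E12354 F39804)
theorem E12987 : n15029 = n9614 := ((D15029).symm.trans (sb E12354 (iv F57060)))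
theorem F57296 : act 3 n7515 = n9229 := (sb E12355 F38935)
theorem F57297 : act 5 n7515 = n9228 := (sb E12355 (iv D11787))
theorem F57298 : act 7 n7515 = n9338 := (sb E12355 F38936)
theorem F57299 : act 5 n8437 = n10634 := (sb E12360 F44509)
theorem E12988 : n10798 = n8433 := ((D10798).symm.trans (sb E12368 (tr F45097 E12368)))
theorem F57300 : act 2 n6588 = n6588 := (sb E12370 (iv D8447))
theorem E12989 : n10817 = n8449 := (((D8449).symm.trans (sb E12370 D10817))).symm
theorem E12990 : n15366 = n15203 := (((D15203).symm.trans (sb E12373 D15366))).symm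
theorem F57301 : act 4 n11919 = n9435 := (sb E12373 F39789)
theorem E12991 : n15365 = n15204 := (((D15204).symm.trans (sb E12373 (iv F50302)))).symm
theorem F57302 : act 6 n11919 = n9434 := (sb E12373 (iv D12047))
theorem F57303 : act 0 n12049 = n14979 := (sb E12375 (iv F48990))
theorem F57304 : act 0 n12132 = n14981 := (sb E12376 (iv F48999))
theorem E12995 : n15705 = n15478 := ((((iv F50643)).symm.trans (sb E12376 D15705))).symm
theorem F57305 : act 4 n12132 = n9635 := (sb E12376 F40562)
theorem F57306 : act 4 n11924 = n9615 := (sb E12377 F57039)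
theorem F57307 : act 6 n11924 = n9437 := (sb E12377 (iv D12052))
theorem E12997 : n10768 = n10636 := ((((iv F35156)).symm.trans (sb E12379 (iv F35545)))).symm
theorem F57308 : act 4 n8310 = n6562 := (sb E12379 F28037)
theorem F57309 : act 7 n8410 = n10634 := (sb E12380 (iv D13592))
theorem F57310 : act 2 n8319 = n10608 := (sb E12381 (iv F35072))
theorem F57311 : act 4 n8319 = n6560 := (sb E12381 (iv D8409))
theorem E12998 : n9288 = n5720 := (((iv F30968)).symm.trans (sb E12387 F24650))
theorem E13000 : n9289 = n5719 := (((iv F30972)).symm.trans (sb E12387 (iv D7323)))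
theorem F57312 : act 7 n7258 = n5725 := (sb E12387 F24651)
theorem E13001 : n15663 = n15025 := ((((iv F49163)).symm.trans (sb E12388 (iv F51191)))).symm
theorem E13003 : n15067 = n9660 := (((iv F49330)).symm.trans (sb E12388 F40644))
theorem E13004 : n15223 = n15039 := ((((iv F49222)).symm.trans (sb E12388 (iv F49812)))).symm
theorem E13006 : n15069 = n9658 := ((D15069).symm.trans (sb E12388 (iv D12341)))
theorem F57313 : act 3 n7549 = n9251 := (sb E12390 F39036)
theorem F57314 : act 5 n7549 = n9250 := (sb E12390 (iv D11816))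
theorem E13012 : n15043 = n9346 := (((iv F49238)).symm.trans (sb E12391 F39409))
theorem E13014 : n15045 = n9344 := ((D15045).symm.trans (sb E12391 (iv D11939)))
theorem E13016 : n9298 = n5908 := (((F25335).symm.trans (sb E12393 F39040))).symm
theorem F57315 : act 5 n7547 = n9252 := (sb E12393 F39041)
theorem F57316 : act 6 n7547 = n9251 := (sb E12393 (iv D11818))
theorem E13018 : n5912 = n5676 := ((((iv F19344)).symm.trans (sb E12395 (iv D7577)))).symm
theorem E13021 : n15044 = n9345 := ((((iv F31146)).symm.trans (sb E12396 (iv F49240)))).symm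
theorem F57317 : act 3 n7305 = n9238 := (sb E12396 F38977)
theorem F57318 : act 3 n7306 = n9237 := (sb E12398 F38974)
theorem F57319 : act 7 n7306 = n9328 := (sb E12398 F38975)
theorem F57320 : act 5 n7304 = n9238 := (sb E12400 F38982)
theorem F57321 : act 6 n7304 = n9237 := (sb E12400 (iv D11799))
theorem E13027 : n10800 = n9269 := ((((iv F30907)).symm.trans (sb E12401 (iv F35657)))).symm
theorem F57322 : act 3 n7245 = n6582 := (sb E12401 F28121)
theorem F57323 : act 6 n7245 = n6580 := (sb E12401 (iv D8439))
theorem E13031 : n15241 = n15042 := ((((iv F49234)).symm.trans (sb E12408 (iv F49863)))).symm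
theorem E13033 : n15750 = n15066 := (((D15066).symm.trans (sb E12410 D15750))).symm
theorem E13034 : n15068 = n9659 := ((D15068).symm.trans (sb E12410 (iv D12342)))
theorem E13035 : n9377 = n9286 := (((F38968).symm.trans (sb E12411 F39450))).symm
theorem F57324 : act 4 n11796 = n9357 := (sb E12411 (iv D11955))
theorem F57325 : act 5 n11825 = n10803 := (sb E12414 F45173)
theorem F57326 : act 3 n7548 = n9252 := (sb E12416 F39038)
theorem F57327 : act 6 n7548 = n9250 := (sb E12416 (iv D11817))
theorem E13039 : n15087 = n10821 := (((iv F49380)).symm.trans (sb E12417 F45246))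
theorem F57328 : act 5 n8457 = n9262 := (sb E12419 F39080)
theorem F57329 : act 6 n8457 = n9261 := (sb E12419 (iv D11832))
theorem E13040 : n13831 = n13488 := (E12420).trans E12431
theorem F57330 : act 5 n13488 = n10820 := (sb E13040 F45242)
theorem F57331 : act 4 n7259 = n5725 := (sb E12422 (iv D7329))
theorem F57332 : act 2 n13488 = n10618 := (sb E12431 (iv D13569))
theorem F57333 : act 6 n11825 = n10608 := (sb E12440 (iv F57160))
theorem E13047 : n13486 = n10556 := (((iv F44173)).symm.trans (sb E12441 (tr F35587 E12441)))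
theorem E13049 : n13759 = n13489 := (((D13489).symm.trans (sb E12441 (iv F44999)))).symm
theorem F57334 : act 4 n8246 = n8246 := (sb E12442 F34904)
theorem F57335 : act 5 n13591 = n10805 := (sb E12451 F45023)
theorem F57336 : act 7 n13591 = n10769 := (sb E12451 (iv D13766))
theorem F57337 : act 3 n13457 = n10820 := (sb E12460 F57033)
theorem F57338 : act 3 n11826 = n10803 := (sb E12463 F45166)
theorem F57340 : act 5 n5145 = n5681 := (sb E12475 F24503)
theorem E13071 : n6607 = n5679 := (((D5679).symm.trans (sb E12477 F28220))).symm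
theorem F57341 : act 5 n3314 = n3451 := (sb E12482 F15304)
theorem E13080 : n4173 = n3449 := (((D3449).symm.trans (sb E12484 F18267))).symm
theorem F57342 : act 4 n5153 = n5682 := (sb E12485 F24506)
theorem F57343 : act 7 n5153 = n5681 := (sb E12485 (iv D7273))
theorem F57344 : act 4 n3239 = n3452 := (sb E12487 F15307)
theorem F57345 : act 7 n3239 = n3451 := (sb E12487 (iv D4439))
theorem F57346 : act 3 n5146 = n5681 := (sb E12492 F24498)
theorem F57347 : act 3 n3240 = n3451 := (sb E12493 F15299)
theorem E13092 : n5683 = n4000 := (((D4000).symm.trans (sb E12494 (iv D7275)))).symm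
theorem F57348 : act 6 n4433 = n3998 := (sb E12495 (iv D5149))
theorem E13097 : n5913 = n5675 := ((((iv F19340)).symm.trans (sb E12500 (iv F20072)))).symm
theorem F57349 : act 6 n4432 = n3999 := (sb E12500 (iv D5150))
theorem F57350 : act 5 n8433 = n9270 := (sb E12508 F39112)
theorem E13100 : n15103 = n10805 := ((D15103).symm.trans (sb E12510 (iv D13814)))
theorem E13101 : n15102 = n10802 := (((D10802).symm.trans (sb E12511 (iv F49428)))).symm
theorem F57351 : act 5 n8435 = n9268 := (sb E12511 (iv D11840))
theorem F57352 : act 4 n8448 = n9271 := (sb E12512 F39116)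
theorem F57353 : act 7 n8448 = n9270 := (sb E12512 (iv D11843))
theorem F57354 : act 3 n8434 = n9270 := (sb E12516 F39107)
theorem F57355 : act 6 n8434 = n9268 := (sb E12516 (iv D11841))
theorem F57356 : act 3 n15278 = n12070 := (sb E12536 F50401)
theorem F57357 : act 3 n9455 = n11987 := (sb E12537 F50005)
theorem F57358 : act 5 n15188 = n11952 := (sb E12538 F49875)
theorem F57359 : act 7 n15188 = n11950 := (sb E12538 (iv D15246))
theorem E13114 : n11940 = n11793 := ((((iv F38959)).symm.trans (sb E12539 (iv D15233)))).symm
theorem E13115 : n15226 = n15187 := ((((iv F49701)).symm.trans (sb E12540 (iv F49817)))).symm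
theorem F57360 : act 4 n11910 = n9347 := (sb E12540 F39416)
theorem F57361 : act 6 n11910 = n9360 := (sb E12540 F39417)
theorem F57362 : act 5 n9236 = n7306 := (sb E12543 F31162)
theorem F57363 : act 6 n9236 = n7305 := (sb E12543 (iv D9350))
theorem F57364 : act 5 n9612 = n11785 := (sb E12544 F49190)
theorem F57365 : act 6 n9612 = n11784 := (sb E12544 (iv D15031))
theorem E13119 : n15269 = n15128 := ((((iv F49508)).symm.trans (sb E12565 (iv F49952)))).symm
theorem E13120 : n15804 = n15149 := (((D15149).symm.trans (sb E12565 D15804))).symm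
theorem E13121 : n15786 = n9294 := ((((iv D11874)).symm.trans (sb E12565 (iv F51505)))).symm
theorem E13122 : n15149 = n15147 := (((D15147).symm.trans (sb E12547 (tr (iv F51560) E13120)))).symm
theorem E13123 : n15805 = n15148 := (((D15148).symm.trans (sb E12547 D15805))).symm
theorem E13124 : n15299 = n9294 := (((iv F50049)).symm.trans (sb E12548 (tr D15786 E13121)))
theorem E13126 : n11872 = n7355 := (((iv F39210)).symm.trans (sb E12549 (iv D9407)))
theorem E13127 : n15295 = n15148 := ((((iv F49577)).symm.trans (sb E12551 (iv F50038)))).symm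
theorem E13128 : n15146 = n9394 := (((iv F49571)).symm.trans (sb E12551 (iv D11996)))
theorem E13130 : n15126 = n9376 := (((iv F49500)).symm.trans (sb E12552 (iv D11975)))
theorem E13133 : n9408 = n9293 := ((((iv F30987)).symm.trans (sb E12554 F39663))).symm
theorem F57367 : act 4 n15073 = n11953 := (sb E12566 (iv D15249))
theorem F57368 : act 4 n15024 = n12049 := (sb E12567 F50306)
theorem F57369 : act 3 n15026 = n12277 := (sb E12570 F51189)
theorem F57370 : act 5 n15026 = n12276 := (sb E12570 (iv D15662))
theorem F57371 : act 7 n15026 = n12291 := (sb E12570 F51190)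
theorem F57372 : act 3 n9613 = n11785 := (sb E12571 F49185)
theorem F57373 : act 6 n9613 = n11783 := (sb E12571 (iv D15030))
theorem F57374 : act 4 n9673 = n11815 := (sb E12572 F49339)
theorem F57375 : act 4 n5916 = n7265 := (sb E12573 F31004)
theorem E13148 : n15250 = n15070 := (((D15070).symm.trans (sb E12576 (iv F57228)))).symm
theorem F57376 : act 7 n11813 = n9673 := (sb E12576 F40642)
theorem E13149 : n9297 = n5909 := (((iv F30999)).symm.trans (sb E12577 F25397))
theorem F57377 : act 7 n7264 = n5916 := (sb E12577 F25398)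
theorem F57378 : act 3 n4608 = n5677 := (sb E12578 F24485)
theorem F57379 : act 5 n4607 = n5677 := (sb E12579 F24488)
theorem E13155 : n15222 = n15040 := ((((iv F49225)).symm.trans (sb E12583 (iv F49807)))).symm
theorem F57380 : act 7 n11795 = n9357 := (sb E12583 F39407)
theorem F57381 : act 3 n11769 = n10622 := (sb E12586 (iv F57189))
theorem F57382 : act 7 n11769 = n10534 := (sb E12586 (iv F57191))
theorem F57383 : act 4 n10618 = n11829 := (sb E12649 F49387)
theorem F57384 : act 7 n10618 = n11827 := (sb E12649 (iv D15089))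
theorem F57385 : act 3 n9452 = n11981 := (sb E12785 F49976)
theorem F57386 : act 3 n9463 = n11979 := (sb E12790 F49969)
theorem F57387 : act 1 n5147 = n5147 := (sb E12895 F22270)
theorem F57389 : act 1 n5145 = n5145 := (sb E12902 F22262)
theorem E13428 : n15273 = n15011 := ((D15273).symm.trans (sb E12904 (iv F49119)))
theorem F57390 : act 6 n11770 = n9397 := (sb E12905 (iv D11999))
theorem E13429 : n15302 = n15013 := (((D15013).symm.trans (sb E12905 D15302))).symm
theorem F57391 : act 6 n11977 = n9463 := (sb E12906 (iv D12086))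
theorem F57392 : act 0 n3314 = n3314 := (sb E12946 F14684)
theorem F57393 : act 0 n3316 = n3316 := (sb E12947 F14692)
theorem E13486 : n7270 = n5147 := (((iv F24494)).symm.trans (sb E12960 F22280))
theorem F57394 : act 6 n5680 = n5145 := (sb E12960 (iv D6606))
theorem E13488 : n4436 = n3316 := (((iv F15296)).symm.trans (sb E12961 F14699))
theorem F57395 : act 6 n3450 = n3314 := (sb E12961 (iv D4267))
theorem F57396 : act 3 n9699 = n11857 := (sb E12966 (iv D15127))
theorem F57397 : act 5 n9699 = n11873 := (sb E12966 F49504)
theorem F57398 : act 3 n9686 = n11983 := (sb E12967 F49995)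
theorem E13492 : n11962 = n11856 := ((((iv F39152)).symm.trans (sb E12974 (iv F39473)))).symm
theorem E13493 : n11860 = n7321 := (((iv F39167)).symm.trans (sb E12974 F31214))
theorem E13495 : n11861 = n7320 := (((iv F39171)).symm.trans (sb E12974 (iv D9369)))
theorem F57401 : act 7 n9285 = n7328 := (sb E12974 F31215)
theorem E13499 : n7325 = n7256 := (((D7256).symm.trans (sb E12977 F31230))).symm
theorem E13501 : n7324 = n7257 := (((D7257).symm.trans (sb E12977 F31231))).symm
theorem E13503 : n7573 = n7263 := ((((iv F24473)).symm.trans (sb E12978 (iv D9694)))).symm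
theorem F57402 : act 3 n15007 = n11980 := (sb E12981 (iv D15279))
theorem F57403 : act 3 n15128 = n12389 := (sb E12985 F50813)
theorem F57404 : act 3 n15283 = n12374 := (sb E12986 F50732)
theorem F57405 : act 3 n9614 = n11784 := (sb E12987 F49182)
theorem F57406 : act 5 n9614 = n11783 := (sb E12987 (iv D15029))
theorem F57407 : act 7 n9614 = n11924 := (sb E12987 F49183)
theorem F57408 : act 2 n8433 = n8433 := (sb E12988 (iv D10798))
theorem E13508 : n13828 = n10820 := (((D10820).symm.trans (sb E12989 D13828))).symm
theorem F57409 : act 4 n15203 = n12048 := (sb E12990 F50304)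
theorem F57410 : act 0 n15204 = n12344 := (sb E12991 F57210)
theorem F57411 : act 4 n15204 = n12280 := (sb E12991 F57211)
theorem F57412 : act 6 n15204 = n12046 := (sb E12991 (iv D15365))
theorem F57413 : act 7 n15204 = n12278 := (sb E12991 F57212)
theorem E13510 : n13763 = n13594 := (((F50642).symm.trans (sb E12995 F51310))).symm
theorem F57414 : act 4 n15478 = n12310 := (sb E12995 F51311)
theorem F57415 : act 4 n10636 = n8410 := (sb E12997 F35546)
theorem F57416 : act 3 n5720 = n7258 := (sb E12998 F30968)
theorem F57417 : act 5 n5719 = n7258 := (sb E13000 F30972)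
theorem F57418 : act 3 n15025 = n12278 := (sb E13001 F51193)
theorem F57419 : act 6 n15025 = n12276 := (sb E13001 (iv D15663))
theorem F57420 : act 3 n9660 = n11812 := (sb E13003 F49330)
theorem F57421 : act 5 n9660 = n11811 := (sb E13003 (iv D15067))
theorem F57422 : act 3 n15039 = n11935 := (sb E13004 F49811)
theorem F57423 : act 6 n15039 = n11933 := (sb E13004 (iv D15223))
theorem F57424 : act 5 n9658 = n11813 := (sb E13006 F49334)
theorem F57425 : act 6 n9658 = n11812 := (sb E13006 (iv D15069))
theorem F57426 : act 3 n9346 = n11794 := (sb E13012 F49238)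
theorem F57427 : act 7 n9346 = n11910 := (sb E13012 F49239)
theorem F57428 : act 5 n9344 = n11795 := (sb E13014 F49246)
theorem F57429 : act 6 n9344 = n11794 := (sb E13014 (iv D15045))
theorem E13514 : n11870 = n7568 := ((((iv F25382)).symm.trans (sb E13016 (iv F39203)))).symm
theorem F57430 : act 5 n5908 = n7264 := (sb E13016 F31002)
theorem E13519 : n7266 = n4609 := (((iv F24482)).symm.trans (sb E13018 F20069))
theorem F57431 : act 6 n5676 = n4607 := (sb E13018 (iv D5912))
theorem F57432 : act 3 n9345 = n11795 := (sb E13021 F49241)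
theorem F57433 : act 3 n9269 = n8435 := (sb E13027 F35658)
theorem F57434 : act 6 n9269 = n8433 := (sb E13027 (iv D10800))
theorem F57435 : act 4 n15042 = n11948 := (sb E13031 (iv D15241))
theorem F57436 : act 5 n15066 = n12343 := (sb E13033 F51421)
theorem F57437 : act 6 n15066 = n12346 := (sb E13033 F57230)
theorem F57438 : act 3 n9659 = n11813 := (sb E13034 F49332)
theorem F57439 : act 6 n9659 = n11811 := (sb E13034 (iv D15068))
theorem F57440 : act 4 n9286 = n7328 := (sb E13035 (iv D9377))
theorem F57441 : act 5 n10821 = n11827 := (sb E13039 F49380)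
theorem F57442 : act 6 n10821 = n11826 := (sb E13039 (iv D15087))
theorem F57443 : act 4 n10556 = n10556 := (sb E13047 F44173)
theorem F57444 : act 4 n13489 = n13489 := (sb E13049 (tr F44998 E13049))
theorem E13547 : n7574 = n7262 := ((((iv F24469)).symm.trans (sb E13071 (iv F25403)))).symm
theorem F57445 : act 6 n5679 = n5146 := (sb E13071 (iv D6607))
theorem F57446 : act 6 n3449 = n3240 := (sb E13080 (iv D4173))
theorem F57447 : act 3 n4000 = n4433 := (sb E13092 F19369)
theorem F57448 : act 5 n4000 = n4432 := (sb E13092 (iv D5683))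
theorem F57449 : act 6 n5675 = n4608 := (sb E13097 (iv D5913))
theorem E13574 : n13813 = n11974 := (((iv F45183)).symm.trans (sb E13100 F49431))
theorem F57450 : act 6 n10805 = n11839 := (sb E13100 (iv D15103))
theorem E13575 : n13810 = n11973 := ((D13810).symm.trans (sb E13101 F49429))
theorem F57451 : act 5 n10802 = n11839 := (sb E13101 (iv D15102))
theorem E13576 : n15224 = n15038 := ((((iv F49216)).symm.trans (sb E13114 (iv F49813)))).symm
theorem F57452 : act 5 n11793 = n9346 := (sb E13114 F39413)
theorem F57453 : act 6 n11793 = n9345 := (sb E13114 (iv D11940))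
theorem F57454 : act 4 n15187 = n11937 := (sb E13115 F49818)
theorem F57455 : act 6 n15187 = n11952 := (sb E13115 F49819)
theorem F57456 : act 7 n15187 = n11935 := (sb E13115 (iv D15226))
theorem F57457 : act 4 n15128 = n11973 := (sb E13119 (iv D15269))
theorem F57458 : act 6 n15147 = n11874 := (sb E13122 (iv D15149))
theorem F57459 : act 7 n15147 = n11998 := (sb E13122 F49580)
theorem F57460 : act 5 n15148 = n12389 := (sb E13123 F51563)
theorem E13581 : n11997 = n11871 := ((((iv F39206)).symm.trans (sb E13124 F50049))).symm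
theorem F57462 : act 4 n7355 = n9295 := (sb E13126 F39210)
theorem F57463 : act 4 n15148 = n11994 := (sb E13127 (iv D15295))
theorem F57464 : act 4 n9394 = n11874 := (sb E13128 F49571)
theorem F57465 : act 4 n9376 = n11858 := (sb E13130 F49500)
theorem E13583 : n11869 = n7356 := (((iv F39200)).symm.trans (sb E13133 F31359))
theorem F57466 : act 7 n9293 = n7355 := (sb E13133 (iv D9408))
theorem F57468 : act 3 n15070 = n11954 := (sb E13148 F49884)
theorem F57469 : act 5 n15070 = n12339 := (sb E13148 F57229)
theorem F57470 : act 7 n15070 = n11953 := (sb E13148 (iv D15250))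
theorem F57471 : act 3 n5909 = n7264 := (sb E13149 F30999)
theorem F57472 : act 3 n15040 = n11934 := (sb E13155 F49808)
theorem F57473 : act 5 n15040 = n11933 := (sb E13155 (iv D15222))
theorem F57474 : act 7 n15040 = n11948 := (sb E13155 F49809)
theorem F57475 : act 6 n15011 = n11976 := (sb E13428 (iv D15273))
theorem F57476 : act 6 n15013 = n15013 := (sb E13429 (tr F50059 E13429))
theorem E13773 : n9296 = n5910 := ((((iv F20062)).symm.trans (sb E13486 (iv F30995)))).symm
theorem F57477 : act 3 n5147 = n5680 := (sb E13486 F24494)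
theorem F57478 : act 5 n5147 = n5679 := (sb E13486 (iv D7270))
theorem F57479 : act 3 n3316 = n3450 := (sb E13488 F15296)
theorem F57480 : act 5 n3316 = n3449 := (sb E13488 (iv D4436))
theorem E13778 : n15255 = n15125 := (((D15125).symm.trans (sb E13492 (iv F49898)))).symm
theorem E13779 : n15123 = n9366 := (((iv F49489)).symm.trans (sb E13492 F39474))
theorem E13780 : n15124 = n9365 := (((iv F49494)).symm.trans (sb E13492 (iv D11962)))
theorem F57481 : act 7 n11856 = n9376 := (sb E13492 F39475)
theorem F57482 : act 3 n7321 = n9285 := (sb E13493 F39167)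
theorem E13783 : n15130 = n5716 := ((((iv D7321)).symm.trans (sb E13493 (iv F49516)))).symm
theorem E13784 : n9371 = n9283 := ((D9371).symm.trans (sb E13493 (iv D11860)))
theorem F57483 : act 5 n7320 = n9285 := (sb E13495 F39171)
theorem E13786 : n9370 = n9284 := ((D9370).symm.trans (sb E13495 (iv D11861)))
theorem E13790 : n9287 = n5721 := ((D9287).symm.trans (sb E13499 F24659))
theorem F57484 : act 6 n7256 = n5720 := (sb E13499 (iv D7325))
theorem F57485 : act 6 n7257 = n5719 := (sb E13501 (iv D7324))
theorem E13795 : n9688 = n9292 := ((((iv F30982)).symm.trans (sb E13503 (iv F32182)))).symm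
theorem F57486 : act 6 n7263 = n5908 := (sb E13503 (iv D7573))
theorem F57487 : act 6 n10820 = n10820 := (sb E13508 F45232)
theorem F57488 : act 4 n13594 = n10769 := (sb E13510 F45013)
theorem E13801 : n15143 = n9686 := (((D9686).symm.trans (sb E13514 D15143))).symm
theorem F57489 : act 5 n7568 = n9293 := (sb E13514 F39204)
theorem F57490 : act 3 n4609 = n5676 := (sb E13519 F24482)
theorem F57491 : act 5 n4609 = n5675 := (sb E13519 (iv D7266))
theorem E13825 : n9409 = n9291 := ((((iv F30977)).symm.trans (sb E13547 (iv F57224)))).symm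
theorem F57492 : act 6 n7262 = n5909 := (sb E13547 (iv D7574))
theorem E13851 : n15755 = n15240 := ((((iv F49860)).symm.trans (sb E13574 (iv F51430)))).symm
theorem F57493 : act 3 n11974 = n10805 := (sb E13574 F45183)
theorem E13852 : n15271 = n10804 := ((D15271).symm.trans (sb E13574 (iv D13813)))
theorem E13853 : n15752 = n15239 := ((((iv F49858)).symm.trans (sb E13575 (iv F51425)))).symm
theorem F57494 : act 3 n11973 = n10802 := (sb E13575 (iv D13810))
theorem F57495 : act 5 n15038 = n11935 := (sb E13576 F49814)
theorem F57496 : act 6 n15038 = n11934 := (sb E13576 (iv D15224))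
theorem E13854 : n15145 = n9395 := ((D15145).symm.trans (sb E13581 F39602))
theorem F57497 : act 7 n11871 = n9394 := (sb E13581 (iv D11997))
theorem F57498 : act 3 n7356 = n9293 := (sb E13583 F39200)
theorem E14049 : n11868 = n7570 := ((((iv F25389)).symm.trans (sb E13773 (iv F39194)))).symm
theorem F57499 : act 3 n5910 = n7263 := (sb E13773 F30996)
theorem F57500 : act 5 n5910 = n7262 := (sb E13773 (iv D9296))
theorem F57501 : act 5 n15125 = n11961 := (sb E13778 (iv D15255))
theorem F57502 : act 7 n15125 = n11973 := (sb E13778 F49899)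
theorem F57503 : act 3 n9366 = n11856 := (sb E13779 F49489)
theorem E14052 : n11964 = n11854 := ((D11964).symm.trans (sb E13779 (iv D15123)))
theorem F57504 : act 5 n9365 = n11856 := (sb E13780 F49494)
theorem E14053 : n11963 = n11855 := ((D11963).symm.trans (sb E13780 (iv D15124)))
theorem E14054 : n11859 = n7322 := (((D7322).symm.trans (sb E13783 (iv D15130)))).symm
theorem F57505 : act 6 n9283 = n7321 := (sb E13784 (iv D9371))
theorem F57506 : act 6 n9284 = n7320 := (sb E13786 (iv D9370))
theorem F57507 : act 3 n5721 = n7257 := (sb E13790 F30965)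
theorem F57508 : act 5 n5721 = n7256 := (sb E13790 (iv D9287))
theorem F57509 : act 6 n9292 = n7568 := (sb E13795 (iv D9688))
theorem F57510 : act 5 n9686 = n11871 := (sb E13801 F49561)
theorem E14057 : n12374 = n11992 := ((D12374).symm.trans (sb E13801 F49562))
theorem F57511 : act 6 n9291 = n7356 := (sb E13825 (iv D9409))
theorem F57512 : act 3 n15240 = n12346 := (sb E13851 F51431)
theorem F57513 : act 7 n15240 = n12345 := (sb E13851 (iv D15755))
theorem E14083 : n13812 = n12389 := ((D13812).symm.trans (sb E13852 F49958))
theorem F57514 : act 7 n10804 = n11974 := (sb E13852 (iv D15271))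
theorem F57515 : act 3 n15239 = n12343 := (sb E13853 (iv D15752))
theorem F57516 : act 3 n9395 = n11871 := (sb E13854 (iv D15145))
theorem E14084 : n11998 = n11994 := ((D11998).symm.trans (sb E13854 F49568))
theorem F57517 : act 3 n7570 = n9292 := (sb E14049 F39196)
theorem F57518 : act 5 n7570 = n9291 := (sb E14049 (iv D11868))
theorem E14153 : n15260 = n15121 := (((D15121).symm.trans (sb E14052 D15260))).symm
theorem E14154 : n15122 = n9367 := ((D15122).symm.trans (sb E14052 F39484))
theorem F57519 : act 6 n11854 = n9366 := (sb E14052 (iv D11964))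
theorem F57520 : act 6 n11855 = n9365 := (sb E14053 (iv D11963))
theorem F57521 : act 3 n7322 = n9284 := (sb E14054 F39164)
theorem F57522 : act 5 n7322 = n9283 := (sb E14054 (iv D11859))
theorem E14157 : n15745 = n15245 := ((((iv F49872)).symm.trans (sb E14057 (iv F51411)))).symm
theorem E14158 : n15293 = n15283 := ((D15293).symm.trans (sb E14057 (iv F57404)))
theorem E14159 : n15277 = n15256 := (((iv F49980)).symm.trans (sb E14057 (iv F49901)))
theorem F57523 : act 6 n11992 = n9686 := (sb E14057 (iv D12374))
theorem E14160 : n15789 = n15294 := (((D15294).symm.trans (sb E14057 D15789))).symm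
theorem E14170 : n15771 = n15754 := (((iv F51472)).symm.trans (sb E14083 (iv F51429)))
theorem F57524 : act 4 n12389 = n10804 := (sb E14083 (iv D13812))
theorem E14171 : n15251 = n15247 := ((((iv F49876)).symm.trans (sb E14084 (iv F49885)))).symm
theorem E14172 : n15297 = n15148 := ((((iv F57463)).symm.trans (sb E14084 (iv F50044)))).symm
theorem F57525 : act 6 n11994 = n9395 := (sb E14084 (iv D11998))
theorem E14173 : n15296 = n15147 := ((D15296).symm.trans (sb E14084 (iv F57459)))
theorem F57526 : act 5 n15121 = n11965 := (sb E14153 F49918)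
theorem F57527 : act 3 n9367 = n11855 := (sb E14154 F49485)
theorem F57528 : act 5 n9367 = n11854 := (sb E14154 (iv D15122))
theorem F57529 : act 6 n15245 = n12339 := (sb E14157 (iv D15745))
theorem F57530 : act 3 n15283 = n11992 := (sb E14158 (iv D15293))
theorem F57531 : act 5 n15283 = n11994 := (sb E14158 F50032)
theorem F57532 : act 2 n15256 = n11979 := (sb E14159 (iv D15277))
theorem F57533 : act 4 n15256 = n11992 := (sb E14159 F49980)
theorem F57534 : act 5 n15256 = n11980 := (sb E14159 F49981)
theorem F57535 : act 6 n15294 = n12389 := (sb E14160 F51511)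
theorem F57536 : act 1 n15754 = n12389 := (sb E14170 F51472)
theorem F57537 : act 7 n15754 = n12358 := (sb E14170 (iv D15771))
theorem F57538 : act 6 n15247 = n11954 := (sb E14171 (iv D15251))
theorem F57539 : act 6 n15148 = n11995 := (sb E14172 (iv D15297))
theorem F57540 : act 3 n15147 = n11995 := (sb E14173 F50041)
theorem F57541 : act 7 n15147 = n11994 := (sb E14173 (iv D15296))
theorem F57542 : act 4 n13593 = n15294 := d23_3 F57535 F57524 (iv F44518)
theorem E14296 : n15680 = n15227 := ((c28_87 D12389 (iv F57535) F50034 (iv F49984) F57356 (iv F56906) F34869 F34870 F56730 F30702 F24285 (iv F30729) F30730 (iv F57053) (iv F31661) F31660 F56978 F30678 F56896 (iv D7365) (iv D5755) D5756 F19616 (iv F24804) (iv F31404) (iv F39708) F39709 F31989 D9622 F56874 (iv F56875) (iv F40513) (iv F57225) F49716 F39445 F31304 (iv F57466) (iv D9293) F24463 (iv D5734) F15407 F12164 F12163 (iv D3488) (iv D2710) F7572 F7571 D2172 F7777 (iv F9822) (iv D2786) F7747 F6098 F4752 F3758 F3131 (iv F4029) D1440 F5256 F4035 (iv F4000) (iv F56146) (iv F4044) (iv F4774) (iv F5957)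 F5955 D2108 F7564 F7563 F7562 (iv F9577) (iv F12157) F12159 F56752 (iv D2736) D2737 (iv F12274) (iv F15593) (iv F19753) (iv F24987) F24988 (iv F25332) D9660 D12343 F40648 D12345 (iv F49821) F51242 F40685 F32221)).symm
theorem F57543 : act 0 n15227 = n12358 := (sb E14296 F51242)
theorem F57544 : act 6 n15227 = n12290 := (sb E14296 (iv D15680))
theorem E14297 : n15683 = n15477 := (c16_4 F57544 (iv D12290) D12292 D15683 F50641 (iv F49821))
theorem F57545 : act 0 n15477 = n12361 := (sb E14297 F51250)
theorem F57546 : act 2 n15477 = n12292 := (sb E14297 (iv D15683))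
theorem F57547 : act 2 n15278 = n13593 := d7_4 F57546 F40515 (iv F57213) (iv F49983) (iv F50640)
theorem F57548 : act 4 n13765 = n15283 := d29_9 (iv F56841) F56840 (iv F32023) (iv F40516) (iv F57546) F50640 F44517 F44518 (iv F45020) F57530 (iv D11992) F31293 F24724 (iv D5739) (iv D4476) (iv D3480) F9554 (iv D2110) F5963 F4633 F4636 (iv F4773) (iv F56285) F6042 (iv D1661) F4713 F3611 F2793 F2792 D985 F3651 (iv F3766) (iv F4912) (iv F55873) (iv F7831) F7830 F6179 F55678 (iv D1048) F2963 (iv F3823) (iv D1032) F2923 F2233 F1689 F1688 F1272 F1271 D330 (iv F1662) (iv F2196) (iv F2786) D982 D1293 D1679 (iv F7711) (iv F9759) F9758 D3564 D4585 D5880 (iv F25219)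
theorem F57549 : act 3 n15256 = n13594 := d18_3 F57548 F57530 (iv F57533) F57488 D13765
theorem F57550 : act 6 n15280 = n13765 := d23_0 F57548 (iv D15283) (iv F49990)
theorem F57551 : act 3 n13558 = n15280 := d20_3 F57550 (iv D13765) (iv F44407)
theorem F57552 : act 5 n13593 = n15280 := d25_3 F57550 F45020 (iv F44518)
theorem F57553 : act 7 n13765 = n15270 := d27_2 D15280 F57550 (iv D15270) (iv F57502) F49497
theorem F57554 : act 3 n15270 = n13591 := d21_1 F57553 F57336 D13765
theorem F57555 : act 7 n15256 = n13593 := d26_0 F57552 (iv D15280) (iv F57534)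
theorem F57556 : act 4 n15084 = n13558 := d18_0 F57551 F49990 (iv F57398) (iv F39470) (iv F49368)
theorem F57557 : act 7 n15007 = n13558 := d21_0 F57551 (iv D15280) (iv F57402)
theorem F57558 : act 5 n13594 = n15007 := d26_3 F57557 F44406 D13594
theorem F57559 : act 6 n13811 = n15007 := d27_5 F57557 F44407 (iv F57336) F44512 D13811
theorem F57560 : act 3 n15125 = n13811 := d20_3 F57559 F57402 (iv F49497)
theorem F57561 : act 5 n13811 = n15084 := d19_2 (iv F57501) F57560 F49368
theorem F57562 : act 6 n15084 = n13594 := d25_2 (iv F57559) F57561 F57558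
theorem E14298 : n15770 = n15667 := (c5_3 (iv F50641) F57545 (iv F51471) F51204)
theorem F57563 : act 2 n15667 = n12358 := (sb E14298 (iv D15770))
theorem F57564 : act 6 n15667 = n12361 := (sb E14298 F51471)
theorem E14299 : n15272 = n15261 := (c13_4 F57527 F39148 (iv F39535) (iv F49961) (iv D15261) (iv D11965))
theorem F57565 : act 2 n15261 = n11977 := (sb E14299 F49961)
theorem F57566 : act 4 n15261 = n15261 := (sb E14299 (tr F49962 E14299))
theorem F57567 : act 5 n15261 = n11976 := (sb E14299 (iv D15272))
theorem F57568 : act 6 n13489 = n15261 := d29_0 F57567 F39531 F31313 (iv D9397) F24736 F19559 F56924 F12234 D4509 F56932 (iv F24580) (iv F30844) (iv F39003) (iv D11805) D11804 F39001 (iv F39330) F39329 (iv F49701) F49700 (iv F57252) F57251 F39438 F32148 F56774 F31626 F24952 (iv D5792) F15567 D4526 (iv F56537) F19421 F15399 (iv F19506) (iv D5728) F15391 D4473 F15411 F15410 (iv F15258) F15257 (iv F15205) D5652 (iv F24337) F24336 (iv F30807) F30806 (iv F31146) (iv F57453) F57452 F31151 F24592 F20016 (iv F22195) F22194 (iv D6579) (iv F22133) (iv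 F57311) (iv F34910) (iv F44184) F44183 F44182
theorem F57569 : act 5 n13489 = n15011 := d25_3 F57475 (iv F57567) (iv F57568)
theorem F57570 : act 7 n15011 = n13457 := d26_2 D13489 F57569 F44076
theorem F57571 : act 3 n13489 = n15088 := d29_3 (iv F57475) (iv F57569) F57444 (iv D15088) F39062 F30884 (iv D7240) D7239 F24394 F57028 (iv F25352) (iv F57129) (iv F39367) F57307 (iv D9437) (iv D7373) F19645 (iv D4524) F12271 F9775 F7713 (iv F7742) (iv F56356) F9691 (iv D2743) F7654 F6028 (iv F6073) (iv F7703) D2766 F9764 (iv F12384) (iv F15735) (iv F19936) F56570 (iv F20315) F56560 F16269 F56392 (iv F56397) F16056 (iv F56400) D5861 F19944 F15762 (iv F19972) F19971 (iv F20033) (iv F56684) F56683 F20037 (iv F19448) F19447 (iv F19532) F19531 (iv D5735) (iv F19501) D7330 D9378 D11976 F39530 F39529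
theorem F57572 : act 7 n15088 = n13488 := d21_2 D13489 F57571 (iv D13488)
theorem F57573 : act 4 n13488 = n15091 := d24_1 F57572 (iv D15091) (iv F49383)
theorem F57574 : act 5 n13834 = n15088 := d26_3 F57572 F57330 D13834
theorem F57575 : act 3 n15011 = n13834 := d19_3 F57574 (iv F57571) F57569
theorem F57576 : act 6 n15121 = n13834 := d25_0 F57574 F49384 (iv F57526)
theorem F57577 : act 3 n15091 = n15091 := d18_1 F57573 (iv F57573) (iv D13488) F57443 D13488
theorem F57578 : act 4 n13457 = n15013 := d24_1 F57570 (iv D15013) (iv F49118)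
def n17003 : Q := act 2 n14979
theorem D17003 : act 2 n14979 = n17003 := rfl
theorem F57579 : act 0 n17003 = n15369 := d1_1 D17003 F50310 F57303
theorem F57580 : act 1 n17003 = n15007 := d7_1 D17003 (iv D15007) F38864 (iv F38794) (iv F48991)
theorem F57581 : act 3 n17003 = n15207 := d13_2 D14979 D17003 (iv D15207) (iv F57164) (iv F38787)
theorem F57582 : act 4 n17003 = n15066 := d14_2 (iv F48992) D17003 (iv D15066)
theorem F57583 : act 5 n17003 = n15478 := d15_2 (iv F57186) D17003 F50643
theorem F57584 : act 6 n17003 = n15753 := d16_2 (iv F57187) D17003 F51427 F40651 F56933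
theorem F57585 : act 7 n17003 = n15323 := d17_2 (iv F57188) D17003 (iv D15323)
def n17004 : Q := act 2 n14981
theorem D17004 : act 2 n14981 = n17004 := rfl
theorem F57586 : act 0 n17004 = n15478 := d1_1 D17004 F50643 F57304
theorem F57587 : act 1 n17004 = n17004 := d7_1 D17004 (iv D17004) F49000 F38802 (iv F49000)
theorem F57588 : act 3 n17004 = n15776 := d13_2 (iv F57183) D17004 F51483 F40692 F56933
theorem F57589 : act 4 n17004 = n14982 := d14_2 (iv F49001) D17004 (iv D14982)
theorem F57590 : act 5 n17004 = n15369 := d15_2 (iv F57184) D17004 F50310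
theorem F57591 : act 6 n17004 = n15203 := d16_2 D14981 D17004 (iv D15203) F57302 (iv F38787)
theorem F57592 : act 7 n17004 = n15337 := d17_2 (iv F57185) D17004 (iv D15337)
def n17005 : Q := act 3 n14982
theorem D17005 : act 3 n14982 = n17005 := rfl
theorem F57593 : act 0 n17005 = n15707 := d2_1 D17005 (iv D15707) (iv F49002)
theorem F57594 : act 1 n17005 = n17005 := d8_1 D17005 (iv D17005) F49003
theorem F57595 : act 2 n17005 = n15072 := d13_1 D17005 (iv D15072) (iv D11814) (iv F38791) D14982
theorem F57596 : act 5 n17005 = n15667 := d19_2 (iv F49004) D17005 (iv D15667)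
theorem F57597 : act 6 n17005 = n15368 := d20_2 (iv F49005) D17005 (iv D15368)
def n17006 : Q := act 7 n14982
theorem D17006 : act 7 n14982 = n17006 := rfl
theorem F57598 : act 0 n17006 = n15475 := d6_1 D17006 F57180 (iv F49002)
theorem F57599 : act 1 n17006 = n17006 := d12_1 D17006 (iv D17006) F49003
theorem F57600 : act 2 n17006 = n14983 := d17_1 D17006 (iv D14983) D14982
theorem F57601 : act 4 n17006 = n15337 := d24_1 D17006 (iv F57592) F57589
theorem F57602 : act 5 n17006 = n15668 := d26_1 D17006 (iv D15668) (iv F49004)
theorem F57603 : act 6 n15665 = n17006 := d23_0 F57601 F50197 (iv F51199)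
def n17007 : Q := act 2 n15024
theorem D17007 : act 2 n15024 = n17007 := rfl
theorem F57604 : act 0 n17007 = n15066 := d1_1 D17007 (iv D15066) (iv F49159)
theorem F57605 : act 1 n17007 = n17007 := d7_1 D17007 (iv D17007) F49160 F38918 (iv F49160)
theorem F57606 : act 3 n17007 = n15186 := d13_2 D15024 D17007 (iv D15186) (iv D11905) (iv F38911)
theorem F57607 : act 4 n17007 = n15369 := d14_2 (iv F57368) D17007 F50310
theorem F57608 : act 5 n17007 = n15665 := d15_2 (iv F57232) D17007 (iv D15665)
theorem F57609 : act 6 n17007 = n15668 := d16_2 (iv F57233) D17007 F51208 F40480 (iv F57047)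
theorem F57610 : act 7 n17007 = n15203 := d17_2 (iv F49162) D17007 (iv D15203)
def n17008 : Q := act 2 n15026
theorem D17008 : act 2 n15026 = n17008 := rfl
theorem F57611 : act 0 n17008 = n15070 := d1_1 D17008 (iv D15070) (iv F49168)
theorem F57612 : act 1 n17008 = n17008 := d7_1 D17008 (iv D17008) F49169 F38926 (iv F49169)
theorem F57613 : act 3 n17008 = n15193 := d13_2 (iv F57369) D17008 F49721 F39327 (iv F57047)
theorem F57614 : act 4 n17008 = n15027 := d14_2 (iv F49170) D17008 (iv D15027)
theorem F57615 : act 5 n17008 = n15661 := d15_2 (iv F57370) D17008 (iv D15661)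
theorem F57616 : act 6 n17008 = n15190 := d16_2 D15026 D17008 (iv D15190) (iv D11907) (iv F38911)
theorem F57617 : act 7 n17008 = n15192 := d17_2 (iv F57371) D17008 F57225
def n17009 : Q := act 3 n15027
theorem D17009 : act 3 n15027 = n17009 := rfl
theorem F57618 : act 0 n17009 = n15072 := d2_1 D17009 (iv D15072) (iv F49171)
theorem F57619 : act 1 n17009 = n17009 := d8_1 D17009 (iv D17009) F49172
theorem F57620 : act 2 n17009 = n15707 := d13_1 D17009 (iv D15707) (iv D12310) (iv F38915) D15027
theorem F57621 : act 5 n17009 = n15227 := d19_2 (iv F49173) D17009 (iv D15227)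
theorem F57622 : act 6 n17009 = n15192 := d20_2 (iv F49174) D17009 (iv D15192)
def n17010 : Q := act 7 n15027
theorem D17010 : act 7 n15027 = n17010 := rfl
theorem F57623 : act 0 n17010 = n15073 := d6_1 D17010 (iv D15073) (iv F49171)
theorem F57624 : act 1 n17010 = n17010 := d12_1 D17010 (iv D17010) F49172
theorem F57625 : act 2 n17010 = n15028 := d17_1 D17010 (iv D15028) D15027
theorem F57626 : act 4 n17010 = n15192 := d24_1 D17010 (iv F57617) F57614
theorem F57627 : act 5 n17010 = n15228 := d26_1 D17010 (iv D15228) (iv F49173)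
def n17011 : Q := act 2 n15038
theorem D17011 : act 2 n15038 = n17011 := rfl
theorem F57628 : act 0 n17011 = n15221 := d1_1 D17011 (iv D15221) (iv F49215)
theorem F57629 : act 1 n17011 = n17011 := d7_1 D17011 (iv D17011) F49216 F38957 (iv F49216)
theorem F57630 : act 3 n17011 = n15203 := d13_2 D15038 D17011 (iv D15203) (iv D11919) (iv F38950)
theorem F57631 : act 4 n17011 = n15661 := d14_2 (iv F49217) D17011 (iv D15661)
theorem F57632 : act 5 n17011 = n15225 := d15_2 (iv F57495) D17011 (iv D15225)
theorem F57633 : act 6 n17011 = n15776 := d16_2 (iv F57496) D17011 F51483 (iv F57256) F49277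
theorem F57634 : act 7 n17011 = n15186 := d17_2 (iv F49218) D17011 (iv D15186)
def n17012 : Q := act 2 n15040
theorem D17012 : act 2 n15040 = n17012 := rfl
theorem F57635 : act 0 n17012 = n15225 := d1_1 D17012 (iv D15225) (iv F49224)
theorem F57636 : act 1 n17012 = n15125 := d7_1 D17012 (iv D15125) F39152 (iv F38965) (iv F49225)
theorem F57637 : act 3 n17012 = n15753 := d13_2 (iv F57472) D17012 F51427 (iv F57255) F49277
theorem F57638 : act 4 n17012 = n15041 := d14_2 (iv F49226) D17012 (iv D15041)
theorem F57639 : act 5 n17012 = n15221 := d15_2 (iv F57473) D17012 (iv D15221)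
theorem F57640 : act 6 n17012 = n15207 := d16_2 D15040 D17012 (iv D15207) (iv D11921) (iv F38950)
theorem F57641 : act 7 n17012 = n15239 := d17_2 (iv F57474) D17012 F49859
def n17013 : Q := act 7 n15041
theorem D17013 : act 7 n15041 = n17013 := rfl
theorem F57642 : act 0 n17013 = n15228 := d6_1 D17013 (iv D15228) (iv F49227)
theorem F57643 : act 1 n17013 = n15128 := d12_1 D17013 (iv D15128) (iv F49228)
theorem F57644 : act 2 n17013 = n15042 := d17_1 D17013 (iv D15042) D15041
theorem F57645 : act 3 n17013 = n15754 := d21_1 D17013 F57537 (iv F57171)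
theorem F57646 : act 4 n17013 = n15239 := d24_1 D17013 (iv F57641) F57638
theorem F57647 : act 5 n17013 = n15073 := d26_1 D17013 (iv D15073) (iv F49229)
def n17014 : Q := act 2 n15052
theorem D17014 : act 2 n15052 = n17014 := rfl
theorem F57648 : act 0 n17014 = n15203 := d1_1 D17014 (iv D15203) (iv F49271)
theorem F57649 : act 1 n17014 = n15084 := d7_1 D17014 (iv D15084) F39054 (iv F38996) (iv F49272)
theorem F57650 : act 3 n17014 = n15221 := d13_2 D15052 D17014 (iv D15221) (iv D11933) (iv F38989)
theorem F57651 : act 4 n17014 = n15323 := d14_2 (iv F57143) D17014 (iv D15323)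
theorem F57652 : act 5 n17014 = n15753 := d15_2 (iv F57135) D17014 F51427
theorem F57653 : act 6 n17014 = n15478 := d16_2 (iv F57144) D17014 F50643 F40035 F57119
theorem F57654 : act 7 n17014 = n15066 := d17_2 (iv F49274) D17014 (iv D15066)
def n17015 : Q := act 2 n15054
theorem D17015 : act 2 n15054 = n17015 := rfl
theorem F57655 : act 0 n17015 = n15207 := d1_1 D17015 (iv D15207) (iv F49280)
theorem F57656 : act 1 n17015 = n17015 := d7_1 D17015 (iv D17015) F49281 F39004 (iv F49281)
theorem F57657 : act 3 n17015 = n15369 := d13_2 (iv F57138) D17015 F50310 F39792 F57119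
theorem F57658 : act 4 n17015 = n15055 := d14_2 (iv F49282) D17015 (iv D15055)
theorem F57659 : act 5 n17015 = n15776 := d15_2 (iv F57134) D17015 F51483
theorem F57660 : act 6 n17015 = n15225 := d16_2 D15054 D17015 (iv D15225) (iv D11935) (iv F38989)
theorem F57661 : act 7 n17015 = n15368 := d17_2 (iv F57139) D17015 F57161
def n17016 : Q := act 7 n15055
theorem D17016 : act 7 n15055 = n17016 := rfl
theorem F57662 : act 0 n17016 = n15210 := d6_1 D17016 (iv D15210) (iv F49283)
theorem F57663 : act 1 n17016 = n17016 := d12_1 D17016 (iv D17016) F49284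
theorem F57664 : act 2 n17016 = n15056 := d17_1 D17016 (iv D15056) D15055
theorem F57665 : act 3 n17016 = n15661 := d21_1 D17016 F51186 (iv F57167)
theorem F57666 : act 4 n17016 = n15368 := d24_1 D17016 (iv F57661) F57658
theorem F57667 : act 5 n17016 = n15193 := d26_1 D17016 (iv D15193) (iv F49285)
def n17017 : Q := act 4 n15072
theorem D17017 : act 4 n15072 = n17017 := rfl
theorem F57668 : act 1 n17017 = n15147 := d9_1 D17017 (iv D15147) (iv F49340)
theorem F57669 : act 3 n17017 = n15248 := d18_1 D17017 F49879 (iv F57468) F49336 D15072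
theorem F57670 : act 6 n17017 = n15073 := d23_2 (iv F49341) D17017 F57367
theorem F57671 : act 7 n15247 = n17017 := d27_0 F57670 (iv D15073) F39032 D11954 (iv F57538)
def n17018 : Q := act 7 n15072
theorem D17018 : act 7 n15072 = n17018 := rfl
theorem F57672 : act 1 n17018 = n15148 := d12_1 D17018 (iv D15148) (iv F49340)
theorem F57673 : act 3 n17018 = n15073 := d21_1 D17018 (iv D15073) D15072
theorem F57674 : act 4 n17018 = n15247 := d24_1 D17018 F57671 (iv D17017)
theorem F57675 : act 5 n17018 = n15754 := d26_1 D17018 F57537 (iv F57227)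
theorem F57676 : act 6 n17018 = n15248 := d27_1 D17018 (iv D15248) (iv F49337) F57470 (iv F49341)
def n17019 : Q := act 6 n15128
theorem D17019 : act 6 n15128 = n17019 := rfl
theorem F57677 : act 0 n17019 = n17019 := d5_1 D17019 (iv D17019) F49506
theorem F57678 : act 2 n17019 = n17019 := d16_1 D17019 (iv D17019) F49507 F39161 (iv F49507)
theorem F57679 : act 3 n17019 = n15294 := d20_1 D17019 F57535 (iv F57403)
theorem F57680 : act 4 n17019 = n15270 := d23_1 D17019 (iv D15270) (iv F57457)
theorem F57681 : act 5 n17019 = n15147 := d25_1 D17019 F57458 (iv F49508)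
theorem F57682 : act 7 n17019 = n15283 := d27_2 D15128 D17019 (iv D15283) (iv D11983) (iv F39156)
def n17020 : Q := act 5 n15186
theorem D17020 : act 5 n15186 = n17020 := rfl
theorem F57683 : act 0 n17020 = n15239 := d4_1 D17020 (iv D15239) (iv F49697)
theorem F57684 : act 1 n17020 = n17020 := d10_1 D17020 (iv D17020) F49698
theorem F57685 : act 2 n17020 = n15187 := d15_1 D17020 (iv D15187) D15186
theorem F57686 : act 3 n17020 = n15665 := d19_1 D17020 (iv F57608) F57606
theorem F57687 : act 4 n17020 = n15228 := d22_1 D17020 (iv F57627) F57626 F57226 (iv F49699)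
theorem F57688 : act 7 n17020 = n15225 := d26_2 F57634 D17020 (iv F57632)
def n17021 : Q := act 6 n15186
theorem D17021 : act 6 n15186 = n17021 := rfl
theorem F57689 : act 0 n17021 = n15240 := d5_1 D17021 (iv D15240) (iv F49697)
theorem F57690 : act 1 n17021 = n17021 := d11_1 D17021 (iv D17021) F49698
theorem F57691 : act 3 n17021 = n15668 := d20_1 D17021 (iv F57609) F57606
theorem F57692 : act 4 n17021 = n15227 := d23_1 D17021 F57544 (iv F49699)
theorem F57693 : act 7 n17021 = n15667 := d27_2 F57634 D17021 F57564 D15776 (iv F57633)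
theorem F57694 : act 2 n17021 = n15754 := d28_2 F57634 D17021 (iv D15754) (iv D12345) (iv D9661) (iv F31990) F31991 F25245 D9615 F32003 F25274 (iv F56714) F24843 (iv F24908) F24907 F19703 F19704 (iv F19688) F56248 F16280 F16281 (iv D4742) F12812 (iv F12808) (iv F16059) F56369 F12795 (iv F15732) D5857 (iv F56727) (iv F31375) F31374 F27671 F21866 (iv F24786) (iv F56892) (iv F57059) F24965 (iv F56661) F15800 (iv F15832) (iv F20057) (iv F57046) F24771 (iv D5749) (iv D4485) F12164 F12165 (iv F15407) (iv F19327) F19326 (iv D5671) (iv D4424) F12008 (iv F15202) D5648 D7227 D9250 F30856 F24410 F19298 (iv F24370) (iv F30839) F56894 F24783 (iv D5752) (iv D4488) F12174 D3509 F12240 (iv F12052) (iv F15175) F15174 F11995 F11996 D4420 D5666 F19308 F15242 (iv D4421) F12001 (iv F15178) D5641 D7218 D9236 F30803 (iv F38956) (iv F49216) D17011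
def n17022 : Q := act 2 n15188
theorem D17022 : act 2 n15188 = n17022 := rfl
theorem F57695 : act 0 n17022 = n15243 := d1_1 D17022 (iv D15243) (iv F49703)
theorem F57696 : act 1 n17022 = n15294 := d7_1 D17022 F50034 F39589 F57257 (iv F49704)
theorem F57697 : act 4 n17022 = n15477 := d14_2 (iv F49706) D17022 F57546
theorem F57698 : act 5 n17022 = n15248 := d15_2 (iv F57358) D17022 F49878
theorem F57699 : act 6 n17022 = n15754 := d16_2 D15188 D17022 (iv F57694) (iv D17021) (iv D15186)
theorem F57700 : act 7 n17022 = n15245 := d17_2 (iv F57359) D17022 (iv D15245)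
def n17023 : Q := act 2 n15189
theorem D17023 : act 2 n15189 = n17023 := rfl
theorem F57701 : act 0 n17023 = n15245 := d1_1 D17023 (iv D15245) (iv F49707)
theorem F57702 : act 1 n17023 = n17023 := d7_1 D17023 (iv D17023) F49708 F39335 (iv F49708)
theorem F57703 : act 4 n17023 = n15776 := d14_2 (iv F57246) D17023 F51483
theorem F57704 : act 5 n17023 = n15190 := d15_2 (iv F49709) D17023 (iv D15190)
theorem F57705 : act 6 n17023 = n15661 := d16_2 D15189 D17023 (iv D15661) (iv F57419) F49165
theorem F57706 : act 7 n17023 = n15243 := d17_2 (iv F57247) D17023 (iv D15243)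
def n17024 : Q := act 3 n15190
theorem D17024 : act 3 n15190 = n17024 := rfl
theorem F57707 : act 0 n17024 = n15247 := d2_1 D17024 (iv D15247) (iv F49710)
theorem F57708 : act 1 n17024 = n17024 := d8_1 D17024 (iv D17024) F49711
theorem F57709 : act 6 n17024 = n15193 := d20_2 F57616 D17024 (iv F57613)
def n17025 : Q := act 7 n15190
theorem D17025 : act 7 n15190 = n17025 := rfl
theorem F57710 : act 0 n17025 = n15248 := d6_1 D17025 (iv D15248) (iv F49710)
theorem F57711 : act 1 n17025 = n17025 := d12_1 D17025 (iv D17025) F49711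
theorem F57712 : act 2 n17025 = n15191 := d17_1 D17025 (iv D15191) D15190
theorem F57713 : act 4 n17025 = n15193 := d24_1 D17025 (iv D15193) (iv F49712)
theorem F57714 : act 5 n17025 = n15243 := d26_1 D17025 (iv F57706) F57704
def n17026 : Q := act 5 n15203
theorem D17026 : act 5 n15203 = n17026 := rfl
theorem F57715 : act 0 n17026 = n15753 := d4_1 D17026 (iv F57652) F57648
theorem F57716 : act 1 n17026 = n17026 := d10_1 D17026 (iv D17026) F49752
theorem F57717 : act 2 n17026 = n15204 := d15_1 D17026 (iv D15204) D15203
theorem F57718 : act 3 n17026 = n15225 := d19_1 D17026 (iv F57632) F57630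
theorem F57719 : act 4 n17026 = n15668 := d22_1 D17026 (iv F57602) F57601 F50196 (iv F57409)
theorem F57720 : act 6 n17026 = n15369 := d25_2 F57591 D17026 (iv F57590)
theorem F57721 : act 7 n17026 = n15665 := d26_2 F57610 D17026 (iv F57608)
def n17027 : Q := act 2 n15206
theorem D17027 : act 2 n15206 = n17027 := rfl
theorem F57722 : act 0 n17027 = n15776 := d1_1 D17027 F51483 (iv F57208)
theorem F57723 : act 1 n17027 = n15256 := d7_1 D17027 F57532 F39543 (iv F39374) (iv F49759)
theorem F57724 : act 3 n17027 = n15478 := d13_2 (iv F57173) D17027 F50643 (iv F56878) F48996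
theorem F57725 : act 4 n17027 = n15245 := d14_2 (iv F49760) D17027 (iv D15245)
theorem F57726 : act 5 n17027 = n15207 := d15_2 (iv F49761) D17027 (iv D15207)
theorem F57727 : act 6 n17027 = n15221 := d16_2 D15206 D17027 (iv D15221) (iv F57423) F49221
theorem F57728 : act 7 n17027 = n15477 := d17_2 (iv F57209) D17027 F57546
def n17028 : Q := act 7 n15207
theorem D17028 : act 7 n15207 = n17028 := rfl
theorem F57729 : act 0 n17028 = n15368 := d6_1 D17028 (iv F57661) F57655
theorem F57730 : act 1 n17028 = n15280 := d12_1 D17028 (iv D15280) (iv F49762)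
theorem F57731 : act 2 n17028 = n15208 := d17_1 D17028 (iv D15208) D15207
theorem F57732 : act 3 n17028 = n15323 := d21_1 D17028 (iv F57585) F57581
theorem F57733 : act 4 n17028 = n15210 := d24_1 D17028 (iv D15210) (iv F49763)
theorem F57734 : act 5 n17028 = n15477 := d26_1 D17028 (iv F57728) F57726
theorem F57735 : act 6 n15707 = n17028 := d25_0 F57734 F50641 (iv F51316)
def n17029 : Q := act 6 n15210
theorem D17029 : act 6 n15210 = n17029 := rfl
theorem F57736 : act 1 n17029 = n15283 := d11_1 D17029 (iv D15283) (iv F49769)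
theorem F57737 : act 3 n17029 = n15245 := d20_1 D17029 F57529 (iv F57172)
theorem F57738 : act 4 n17029 = n15707 := d23_1 D17029 F57735 F57733
theorem F57739 : act 5 n17029 = n15247 := d25_1 D17029 F57538 (iv F49771)
def n17030 : Q := act 7 n15227
theorem D17030 : act 7 n15227 = n17030 := rfl
theorem F57740 : act 0 n17030 = n15754 := d6_1 D17030 F57537 (iv F57543)
theorem F57741 : act 1 n17030 = n17030 := d12_1 D17030 (iv D17030) F49820
theorem F57742 : act 2 n17030 = n15240 := d17_1 D17030 F57513 (iv F49821)
theorem F57743 : act 3 n17030 = n15228 := d21_1 D17030 (iv D15228) D15227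
theorem F57744 : act 4 n17030 = n15667 := d24_1 D17030 (iv F57693) F57692
theorem F57745 : act 6 n17030 = n15243 := d27_1 D17030 (iv F57706) F57705 F51186 (iv F57544)
def n17031 : Q := act 6 n15228
theorem D17031 : act 6 n15228 = n17031 := rfl
theorem F57746 : act 1 n17031 = n17031 := d11_1 D17031 (iv D17031) F49822
theorem F57747 : act 2 n17031 = n15247 := d16_1 D17031 F57538 F39448 (iv F39403) (iv F49823)
theorem F57748 : act 3 n17031 = n15243 := d20_1 D17031 (iv F57745) F57743
def n17032 : Q := act 6 n15239
theorem D17032 : act 6 n15239 = n17032 := rfl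
theorem F57749 : act 1 n17032 = n15270 := d11_1 D17032 (iv D15270) (iv F49858)
theorem F57750 : act 3 n17032 = n15475 := d20_1 D17032 F50636 (iv F57515)
theorem F57751 : act 5 n17032 = n15240 := d25_1 D17032 (iv D15240) D15239
theorem F57752 : act 7 n17032 = n15707 := d27_2 F57641 D17032 F57735 (iv D17028) (iv F57640)
def n17033 : Q := act 4 n17005
theorem D17033 : act 4 n17005 = n17033 := rfl
theorem F57753 : act 0 n17033 = n17029 := d3_1 D17033 F57738 (iv F57593)
theorem F57754 : act 1 n17033 = n17033 := d9_1 D17033 (iv D17033) F57594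
theorem F57755 : act 2 n17033 = n17017 := d14_1 D17033 (iv D17017) (iv F57595)
theorem F57756 : act 3 n17033 = n17023 := d18_1 D17033 F57703 (iv F57588) F57589 D17005
theorem F57757 : act 6 n17033 = n17016 := d23_2 (iv F57597) D17033 F57666
theorem F57758 : act 5 n17024 = n17033 := d29_1 (iv F57709) (iv D17033) (iv D17005) (iv D14982) F38790 F30659 (iv D7196) F19156 D5864 D7513 F25251 F25250 (iv F25334) F57316 (iv D9251) (iv D7227) (iv F24231) (iv D7193) F19150 F15503 F12208 (iv F15480) D5756 F19616 (iv F24804) F24803 (iv F24969) D9500 (iv F56961) (iv F32131) F57146 F39000 F30831 F24593 F19441 (iv D5706) (iv D4450) (iv D3460) F9505 (iv D2148) (iv F7617) F7619 (iv F8400) F8399 D3036 F10670 (iv F13589) (iv F17263) (iv F19590) F19589 D5795 F19742 (iv F56802) (iv F24748) F24747 F24750 F24749 F19585 (iv F24722) (iv F31306) (iv F39447) (iv F49719)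
theorem F57759 : act 7 n17031 = n17033 := d27_0 F57757 (iv D17016) F49286 D15228 D17031
def n17034 : Q := act 7 n17005
theorem D17034 : act 7 n17005 = n17034 := rfl
theorem F57760 : act 0 n17034 = n17032 := d6_1 D17034 F57752 (iv F57593)
theorem F57761 : act 1 n17034 = n17034 := d12_1 D17034 (iv D17034) F57594
theorem F57762 : act 2 n17034 = n17018 := d17_1 D17034 (iv D17018) (iv F57595)
theorem F57763 : act 3 n17034 = n17006 := d21_1 D17034 (iv D17006) D17005
theorem F57764 : act 4 n17034 = n17031 := d24_1 D17034 F57759 (iv D17033)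
theorem F57765 : act 5 n17034 = n17021 := d26_1 D17034 F57693 (iv F57596)
theorem F57766 : act 6 n17034 = n17020 := d27_1 D17034 F57688 (iv F57660) F57661 (iv F57597)
def n17035 : Q := act 4 n17009
theorem D17035 : act 4 n17009 = n17035 := rfl
theorem F57767 : act 0 n17035 = n17017 := d3_1 D17035 (iv D17017) (iv F57618)
theorem F57768 : act 1 n17035 = n17035 := d9_1 D17035 (iv D17035) F57619
theorem F57769 : act 2 n17035 = n17029 := d14_1 D17035 F57738 (iv F57620)
theorem F57770 : act 3 n17035 = n17025 := d18_1 D17035 F57713 (iv F57613) F57614 D17009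
theorem F57771 : act 5 n17035 = n17031 := d22_2 (iv F57621) D17035 (iv F57764) F57765 F57692
theorem F57772 : act 6 n17035 = n17010 := d23_2 (iv F57622) D17035 F57626
theorem F57773 : act 7 n17024 = n17035 := d27_0 F57772 (iv D17010) F49174 D15193 (iv F57709)
def n17036 : Q := act 7 n17009
theorem D17036 : act 7 n17009 = n17036 := rfl
theorem F57774 : act 0 n17036 = n17018 := d6_1 D17036 (iv D17018) (iv F57618)
theorem F57775 : act 1 n17036 = n17036 := d12_1 D17036 (iv D17036) F57619
theorem F57776 : act 2 n17036 = n17032 := d17_1 D17036 F57752 (iv F57620)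
theorem F57777 : act 3 n17036 = n17010 := d21_1 D17036 (iv D17010) D17009
theorem F57778 : act 4 n17036 = n17024 := d24_1 D17036 F57773 (iv D17035)
theorem F57779 : act 5 n17036 = n17030 := d26_1 D17036 (iv D17030) (iv F57621)
theorem F57780 : act 6 n17036 = n17025 := d27_1 D17036 (iv D17025) (iv F57616) F57617 (iv F57622)
def n17037 : Q := act 6 n17013
theorem D17037 : act 6 n17013 = n17037 := rfl
theorem F57781 : act 0 n17037 = n17031 := d5_1 D17037 (iv D17031) (iv F57642)
theorem F57782 : act 1 n17037 = n17019 := d11_1 D17037 (iv D17019) (iv F57643)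
theorem F57783 : act 2 n17037 = n17024 := d16_1 D17037 F57709 F49721 (iv F49235) (iv F57644)
theorem F57784 : act 3 n17037 = n17022 := d20_1 D17037 F57699 (iv F57645)
theorem F57785 : act 4 n17037 = n17032 := d23_1 D17037 (iv D17032) (iv F57646)
theorem F57786 : act 5 n17037 = n17017 := d25_1 D17037 F57670 (iv F57647)
theorem F57787 : act 7 n17037 = n17029 := d27_2 D17013 D17037 (iv D17029) (iv D15210) (iv F49230)

end Cfsg.Agent.Helper17.FiQ1TC
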