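import Cfsg.Agent.Helper17.FiQ1TC.Final

set_option autoImplicit false
set_option linter.all false
set_option maxRecDepth 100000

noncomputable section

namespace Cfsg.Agent.Helper17.FiQ1TC

theorem N1 : nd 1 = n1 := ndS (p := 0) (l := 7) rfl N0 D1
theorem N2 : nd 2 = n2 := ndS (p := 1) (l := 6) rfl N1 D2
theorem N3 : nd 3 = n3 := ndS (p := 2) (l := 2) rfl N2 D3
theorem N4 : nd 4 = n4 := ndS (p := 3) (l := 1) rfl N3 D4
theorem N5 : nd 5 = n5 := ndS (p := 3) (l := 3) rfl N3 D5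
theorem N6 : nd 6 = n6 := ndS (p := 4) (l := 0) rfl N4 D6
theorem N7 : nd 7 = n7 := ndS (p := 4) (l := 3) rfl N4 D7
theorem N8 : nd 8 = n8 := ndS (p := 5) (l := 4) rfl N5 D8
theorem N9 : nd 9 = n9 := ndS (p := 6) (l := 3) rfl N6 D9
theorem N10 : nd 10 = n10 := ndS (p := 7) (l := 2) rfl N7 D10
theorem N11 : nd 11 = n11 := ndS (p := 7) (l := 4) rfl N7 D11
theorem N12 : nd 12 = n12 := ndS (p := 8) (l := 5) rfl N8 D12
theorem N13 : nd 13 = n13 := ndS (p := 9) (l := 2) rfl N9 D13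
theorem N14 : nd 14 = n14 := ndS (p := 9) (l := 4) rfl N9 D14
theorem N15 : nd 15 = n15 := ndS (p := 10) (l := 4) rfl N10 D15
theorem N16 : nd 16 = n16 := ndS (p := 10) (l := 6) rfl N10 D16
theorem N17 : nd 17 = n17 := ndS (p := 11) (l := 5) rfl N11 D17
theorem N18 : nd 18 = n18 := ndS (p := 13) (l := 1) rfl N13 D18
theorem N19 : nd 19 = n19 := ndS (p := 13) (l := 4) rfl N13 D19
theorem N20 : nd 20 = n20 := ndS (p := 13) (l := 6) rfl N13 D20
theorem N21 : nd 21 = n21 := ndS (p := 14) (l := 5) rfl N14 D21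
theorem N22 : nd 22 = n22 := ndS (p := 15) (l := 3) rfl N15 D22
theorem N23 : nd 23 = n23 := ndS (p := 15) (l := 5) rfl N15 D23
theorem N24 : nd 24 = n24 := ndS (p := 15) (l := 6) rfl N15 D24
theorem N25 : nd 25 = n25 := ndS (p := 16) (l := 7) rfl N16 D25
theorem N26 : nd 26 = n26 := ndS (p := 18) (l := 4) rfl N18 D26
theorem N27 : nd 27 = n27 := ndS (p := 18) (l := 6) rfl N18 D27
theorem N28 : nd 28 = n28 := ndS (p := 19) (l := 3) rfl N19 D28
theorem N29 : nd 29 = n29 := ndS (p := 19) (l := 5) rfl N19 D29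
theorem N30 : nd 30 = n30 := ndS (p := 19) (l := 6) rfl N19 D30
theorem N31 : nd 31 = n31 := ndS (p := 20) (l := 7) rfl N20 D31
theorem N32 : nd 32 = n32 := ndS (p := 22) (l := 5) rfl N22 D32
theorem N33 : nd 33 = n33 := ndS (p := 22) (l := 6) rfl N22 D33
theorem N34 : nd 34 = n34 := ndS (p := 23) (l := 6) rfl N23 D34
theorem N35 : nd 35 = n35 := ndS (p := 24) (l := 7) rfl N24 D35
theorem N36 : nd 36 = n36 := ndS (p := 26) (l := 3) rfl N26 D36
theorem N37 : nd 37 = n37 := ndS (p := 26) (l := 5) rfl N26 D37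
theorem N38 : nd 38 = n38 := ndS (p := 26) (l := 6) rfl N26 D38
theorem N39 : nd 39 = n39 := ndS (p := 27) (l := 2) rfl N27 D39
theorem N40 : nd 40 = n40 := ndS (p := 27) (l := 7) rfl N27 D40
theorem N41 : nd 41 = n41 := ndS (p := 28) (l := 5) rfl N28 D41
theorem N42 : nd 42 = n42 := ndS (p := 28) (l := 6) rfl N28 D42
theorem N43 : nd 43 = n43 := ndS (p := 29) (l := 6) rfl N29 D43
theorem N44 : nd 44 = n44 := ndS (p := 30) (l := 7) rfl N30 D44
theorem N45 : nd 45 = n45 := ndS (p := 32) (l := 4) rfl N32 D45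
theorem N46 : nd 46 = n46 := ndS (p := 32) (l := 6) rfl N32 D46
theorem N47 : nd 47 = n47 := ndS (p := 33) (l := 2) rfl N33 D47
theorem N48 : nd 48 = n48 := ndS (p := 33) (l := 7) rfl N33 D48
theorem N49 : nd 49 = n49 := ndS (p := 34) (l := 7) rfl N34 D49
theorem N50 : nd 50 = n50 := ndS (p := 36) (l := 2) rfl N36 D50
theorem N51 : nd 51 = n51 := ndS (p := 36) (l := 5) rfl N36 D51
theorem N52 : nd 52 = n52 := ndS (p := 36) (l := 6) rfl N36 D52
theorem N53 : nd 53 = n53 := ndS (p := 37) (l := 6) rfl N37 D53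
theorem N54 : nd 54 = n54 := ndS (p := 38) (l := 2) rfl N38 D54
theorem N55 : nd 55 = n55 := ndS (p := 38) (l := 7) rfl N38 D55
theorem N56 : nd 56 = n56 := ndS (p := 39) (l := 3) rfl N39 D56
theorem N57 : nd 57 = n57 := ndS (p := 39) (l := 7) rfl N39 D57
theorem N58 : nd 58 = n58 := ndS (p := 41) (l := 4) rfl N41 D58
theorem N59 : nd 59 = n59 := ndS (p := 41) (l := 6) rfl N41 D59
theorem N60 : nd 60 = n60 := ndS (p := 42) (l := 2) rfl N42 D60
theorem N61 : nd 61 = n61 := ndS (p := 42) (l := 7) rfl N42 D61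
theorem N62 : nd 62 = n62 := ndS (p := 43) (l := 7) rfl N43 D62
theorem N63 : nd 63 = n63 := ndS (p := 45) (l := 6) rfl N45 D63
theorem N64 : nd 64 = n64 := ndS (p := 46) (l := 2) rfl N46 D64
theorem N65 : nd 65 = n65 := ndS (p := 46) (l := 7) rfl N46 D65
theorem N66 : nd 66 = n66 := ndS (p := 47) (l := 1) rfl N47 D66
theorem N67 : nd 67 = n67 := ndS (p := 47) (l := 7) rfl N47 D67
theorem N68 : nd 68 = n68 := ndS (p := 50) (l := 5) rfl N50 D68
theorem N69 : nd 69 = n69 := ndS (p := 50) (l := 6) rfl N50 D69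
theorem N70 : nd 70 = n70 := ndS (p := 51) (l := 4) rfl N51 D70
theorem N71 : nd 71 = n71 := ndS (p := 51) (l := 6) rfl N51 D71
theorem N72 : nd 72 = n72 := ndS (p := 52) (l := 2) rfl N52 D72
theorem N73 : nd 73 = n73 := ndS (p := 52) (l := 7) rfl N52 D73
theorem N74 : nd 74 = n74 := ndS (p := 53) (l := 2) rfl N53 D74
theorem N75 : nd 75 = n75 := ndS (p := 53) (l := 7) rfl N53 D75
theorem N76 : nd 76 = n76 := ndS (p := 54) (l := 3) rfl N54 D76
theorem N77 : nd 77 = n77 := ndS (p := 54) (l := 7) rfl N54 D77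
theorem N78 : nd 78 = n78 := ndS (p := 56) (l := 4) rfl N56 D78
theorem N79 : nd 79 = n79 := ndS (p := 56) (l := 7) rfl N56 D79
theorem N80 : nd 80 = n80 := ndS (p := 57) (l := 6) rfl N57 D80
theorem N81 : nd 81 = n81 := ndS (p := 58) (l := 6) rfl N58 D81
theorem N82 : nd 82 = n82 := ndS (p := 59) (l := 2) rfl N59 D82
theorem N83 : nd 83 = n83 := ndS (p := 59) (l := 7) rfl N59 D83
theorem N84 : nd 84 = n84 := ndS (p := 60) (l := 1) rfl N60 D84
theorem N85 : nd 85 = n85 := ndS (p := 60) (l := 7) rfl N60 D85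
theorem N86 : nd 86 = n86 := ndS (p := 63) (l := 2) rfl N63 D86
theorem N87 : nd 87 = n87 := ndS (p := 63) (l := 7) rfl N63 D87
theorem N88 : nd 88 = n88 := ndS (p := 64) (l := 1) rfl N64 D88
theorem N89 : nd 89 = n89 := ndS (p := 64) (l := 7) rfl N64 D89
theorem N90 : nd 90 = n90 := ndS (p := 66) (l := 0) rfl N66 D90
theorem N91 : nd 91 = n91 := ndS (p := 66) (l := 7) rfl N66 D91
theorem N92 : nd 92 = n92 := ndS (p := 67) (l := 6) rfl N67 D92
theorem N93 : nd 93 = n93 := ndS (p := 68) (l := 4) rfl N68 D93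
theorem N94 : nd 94 = n94 := ndS (p := 68) (l := 6) rfl N68 D94
theorem N95 : nd 95 = n95 := ndS (p := 69) (l := 2) rfl N69 D95
theorem N96 : nd 96 = n96 := ndS (p := 69) (l := 7) rfl N69 D96
theorem N97 : nd 97 = n97 := ndS (p := 70) (l := 6) rfl N70 D97
theorem N98 : nd 98 = n98 := ndS (p := 71) (l := 2) rfl N71 D98
theorem N99 : nd 99 = n99 := ndS (p := 71) (l := 7) rfl N71 D99
theorem N100 : nd 100 = n100 := ndS (p := 72) (l := 1) rfl N72 D100
theorem N101 : nd 101 = n101 := ndS (p := 72) (l := 3) rfl N72 D101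
theorem N102 : nd 102 = n102 := ndS (p := 72) (l := 7) rfl N72 D102
theorem N103 : nd 103 = n103 := ndS (p := 74) (l := 3) rfl N74 D103
theorem N104 : nd 104 = n104 := ndS (p := 74) (l := 7) rfl N74 D104
theorem N105 : nd 105 = n105 := ndS (p := 76) (l := 4) rfl N76 D105
theorem N106 : nd 106 = n106 := ndS (p := 76) (l := 7) rfl N76 D106
theorem N107 : nd 107 = n107 := ndS (p := 77) (l := 6) rfl N77 D107
theorem N108 : nd 108 = n108 := ndS (p := 78) (l := 5) rfl N78 D108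
theorem N109 : nd 109 = n109 := ndS (p := 78) (l := 7) rfl N78 D109
theorem N110 : nd 110 = n110 := ndS (p := 79) (l := 6) rfl N79 D110
theorem N111 : nd 111 = n111 := ndS (p := 81) (l := 2) rfl N81 D111
theorem N112 : nd 112 = n112 := ndS (p := 81) (l := 7) rfl N81 D112
theorem N113 : nd 113 = n113 := ndS (p := 82) (l := 1) rfl N82 D113
theorem N114 : nd 114 = n114 := ndS (p := 82) (l := 7) rfl N82 D114
theorem N115 : nd 115 = n115 := ndS (p := 84) (l := 0) rfl N84 D115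
theorem N116 : nd 116 = n116 := ndS (p := 84) (l := 7) rfl N84 D116
theorem N117 : nd 117 = n117 := ndS (p := 85) (l := 6) rfl N85 D117
theorem N118 : nd 118 = n118 := ndS (p := 86) (l := 1) rfl N86 D118
theorem N119 : nd 119 = n119 := ndS (p := 86) (l := 3) rfl N86 D119
theorem N120 : nd 120 = n120 := ndS (p := 86) (l := 7) rfl N86 D120
theorem N121 : nd 121 = n121 := ndS (p := 88) (l := 0) rfl N88 D121
theorem N122 : nd 122 = n122 := ndS (p := 88) (l := 7) rfl N88 D122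
theorem N123 : nd 123 = n123 := ndS (p := 89) (l := 6) rfl N89 D123
theorem N124 : nd 124 = n124 := ndS (p := 90) (l := 7) rfl N90 D124
theorem N125 : nd 125 = n125 := ndS (p := 91) (l := 6) rfl N91 D125
theorem N126 : nd 126 = n126 := ndS (p := 93) (l := 3) rfl N93 D126
theorem N127 : nd 127 = n127 := ndS (p := 93) (l := 6) rfl N93 D127
theorem N128 : nd 128 = n128 := ndS (p := 94) (l := 2) rfl N94 D128
theorem N129 : nd 129 = n129 := ndS (p := 94) (l := 7) rfl N94 D129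
theorem N130 : nd 130 = n130 := ndS (p := 95) (l := 1) rfl N95 D130
theorem N131 : nd 131 = n131 := ndS (p := 95) (l := 3) rfl N95 D131
theorem N132 : nd 132 = n132 := ndS (p := 95) (l := 7) rfl N95 D132
theorem N133 : nd 133 = n133 := ndS (p := 97) (l := 2) rfl N97 D133
theorem N134 : nd 134 = n134 := ndS (p := 97) (l := 7) rfl N97 D134
theorem N135 : nd 135 = n135 := ndS (p := 98) (l := 1) rfl N98 D135
theorem N136 : nd 136 = n136 := ndS (p := 98) (l := 3) rfl N98 D136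
theorem N137 : nd 137 = n137 := ndS (p := 98) (l := 7) rfl N98 D137
theorem N138 : nd 138 = n138 := ndS (p := 100) (l := 0) rfl N100 D138
theorem N139 : nd 139 = n139 := ndS (p := 100) (l := 3) rfl N100 D139
theorem N140 : nd 140 = n140 := ndS (p := 100) (l := 7) rfl N100 D140
theorem N141 : nd 141 = n141 := ndS (p := 101) (l := 4) rfl N101 D141
theorem N142 : nd 142 = n142 := ndS (p := 101) (l := 7) rfl N101 D142
theorem N143 : nd 143 = n143 := ndS (p := 102) (l := 6) rfl N102 D143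
theorem N144 : nd 144 = n144 := ndS (p := 103) (l := 4) rfl N103 D144
theorem N145 : nd 145 = n145 := ndS (p := 103) (l := 7) rfl N103 D145
theorem N146 : nd 146 = n146 := ndS (p := 104) (l := 6) rfl N104 D146
theorem N147 : nd 147 = n147 := ndS (p := 105) (l := 5) rfl N105 D147
theorem N148 : nd 148 = n148 := ndS (p := 105) (l := 7) rfl N105 D148
theorem N149 : nd 149 = n149 := ndS (p := 106) (l := 6) rfl N106 D149
theorem N150 : nd 150 = n150 := ndS (p := 108) (l := 7) rfl N108 D150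
theorem N151 : nd 151 = n151 := ndS (p := 109) (l := 6) rfl N109 D151
theorem N152 : nd 152 = n152 := ndS (p := 110) (l := 2) rfl N110 D152
theorem N153 : nd 153 = n153 := ndS (p := 111) (l := 1) rfl N111 D153
theorem N154 : nd 154 = n154 := ndS (p := 111) (l := 3) rfl N111 D154
theorem N155 : nd 155 = n155 := ndS (p := 111) (l := 7) rfl N111 D155
theorem N156 : nd 156 = n156 := ndS (p := 113) (l := 0) rfl N113 D156
theorem N157 : nd 157 = n157 := ndS (p := 113) (l := 7) rfl N113 D157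
theorem N158 : nd 158 = n158 := ndS (p := 114) (l := 6) rfl N114 D158
theorem N159 : nd 159 = n159 := ndS (p := 115) (l := 7) rfl N115 D159
theorem N160 : nd 160 = n160 := ndS (p := 116) (l := 6) rfl N116 D160
theorem N161 : nd 161 = n161 := ndS (p := 118) (l := 0) rfl N118 D161
theorem N162 : nd 162 = n162 := ndS (p := 118) (l := 3) rfl N118 D162
theorem N163 : nd 163 = n163 := ndS (p := 118) (l := 7) rfl N118 D163
theorem N164 : nd 164 = n164 := ndS (p := 119) (l := 7) rfl N119 D164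
theorem N165 : nd 165 = n165 := ndS (p := 120) (l := 6) rfl N120 D165
theorem N166 : nd 166 = n166 := ndS (p := 121) (l := 7) rfl N121 D166
theorem N167 : nd 167 = n167 := ndS (p := 122) (l := 6) rfl N122 D167
theorem N168 : nd 168 = n168 := ndS (p := 124) (l := 6) rfl N124 D168
theorem N169 : nd 169 = n169 := ndS (p := 125) (l := 2) rfl N125 D169
theorem N170 : nd 170 = n170 := ndS (p := 126) (l := 6) rfl N126 D170
theorem N171 : nd 171 = n171 := ndS (p := 127) (l := 2) rfl N127 D171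
theorem N172 : nd 172 = n172 := ndS (p := 127) (l := 7) rfl N127 D172
theorem N173 : nd 173 = n173 := ndS (p := 128) (l := 1) rfl N128 D173
theorem N174 : nd 174 = n174 := ndS (p := 128) (l := 3) rfl N128 D174
theorem N175 : nd 175 = n175 := ndS (p := 128) (l := 7) rfl N128 D175
theorem N176 : nd 176 = n176 := ndS (p := 130) (l := 0) rfl N130 D176
theorem N177 : nd 177 = n177 := ndS (p := 130) (l := 3) rfl N130 D177
theorem N178 : nd 178 = n178 := ndS (p := 130) (l := 7) rfl N130 D178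
theorem N179 : nd 179 = n179 := ndS (p := 131) (l := 4) rfl N131 D179
theorem N180 : nd 180 = n180 := ndS (p := 131) (l := 7) rfl N131 D180
theorem N181 : nd 181 = n181 := ndS (p := 132) (l := 6) rfl N132 D181
theorem N182 : nd 182 = n182 := ndS (p := 133) (l := 1) rfl N133 D182
theorem N183 : nd 183 = n183 := ndS (p := 133) (l := 3) rfl N133 D183
theorem N184 : nd 184 = n184 := ndS (p := 133) (l := 7) rfl N133 D184
theorem N185 : nd 185 = n185 := ndS (p := 135) (l := 0) rfl N135 D185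
theorem N186 : nd 186 = n186 := ndS (p := 135) (l := 3) rfl N135 D186
theorem N187 : nd 187 = n187 := ndS (p := 135) (l := 7) rfl N135 D187
theorem N188 : nd 188 = n188 := ndS (p := 136) (l := 4) rfl N136 D188
theorem N189 : nd 189 = n189 := ndS (p := 136) (l := 7) rfl N136 D189
theorem N190 : nd 190 = n190 := ndS (p := 137) (l := 6) rfl N137 D190
theorem N191 : nd 191 = n191 := ndS (p := 138) (l := 3) rfl N138 D191
theorem N192 : nd 192 = n192 := ndS (p := 138) (l := 7) rfl N138 D192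
theorem N193 : nd 193 = n193 := ndS (p := 139) (l := 4) rfl N139 D193
theorem N194 : nd 194 = n194 := ndS (p := 139) (l := 7) rfl N139 D194
theorem N195 : nd 195 = n195 := ndS (p := 140) (l := 6) rfl N140 D195
theorem N196 : nd 196 = n196 := ndS (p := 141) (l := 5) rfl N141 D196
theorem N197 : nd 197 = n197 := ndS (p := 141) (l := 7) rfl N141 D197
theorem N198 : nd 198 = n198 := ndS (p := 142) (l := 6) rfl N142 D198
theorem N199 : nd 199 = n199 := ndS (p := 144) (l := 5) rfl N144 D199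
theorem N200 : nd 200 = n200 := ndS (p := 144) (l := 7) rfl N144 D200
theorem N201 : nd 201 = n201 := ndS (p := 145) (l := 6) rfl N145 D201
theorem N202 : nd 202 = n202 := ndS (p := 147) (l := 7) rfl N147 D202
theorem N203 : nd 203 = n203 := ndS (p := 148) (l := 6) rfl N148 D203
theorem N204 : nd 204 = n204 := ndS (p := 149) (l := 2) rfl N149 D204
theorem N205 : nd 205 = n205 := ndS (p := 150) (l := 6) rfl N150 D205
theorem N206 : nd 206 = n206 := ndS (p := 151) (l := 2) rfl N151 D206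
theorem N207 : nd 207 = n207 := ndS (p := 152) (l := 1) rfl N152 D207
theorem N208 : nd 208 = n208 := ndS (p := 153) (l := 0) rfl N153 D208
theorem N209 : nd 209 = n209 := ndS (p := 153) (l := 3) rfl N153 D209
theorem N210 : nd 210 = n210 := ndS (p := 153) (l := 7) rfl N153 D210
theorem N211 : nd 211 = n211 := ndS (p := 154) (l := 7) rfl N154 D211
theorem N212 : nd 212 = n212 := ndS (p := 155) (l := 6) rfl N155 D212
theorem N213 : nd 213 = n213 := ndS (p := 156) (l := 7) rfl N156 D213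
theorem N214 : nd 214 = n214 := ndS (p := 157) (l := 6) rfl N157 D214
theorem N215 : nd 215 = n215 := ndS (p := 159) (l := 6) rfl N159 D215
theorem N216 : nd 216 = n216 := ndS (p := 160) (l := 2) rfl N160 D216
theorem N217 : nd 217 = n217 := ndS (p := 161) (l := 3) rfl N161 D217
theorem N218 : nd 218 = n218 := ndS (p := 161) (l := 7) rfl N161 D218
theorem N219 : nd 219 = n219 := ndS (p := 162) (l := 2) rfl N162 D219
theorem N220 : nd 220 = n220 := ndS (p := 162) (l := 7) rfl N162 D220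
theorem N221 : nd 221 = n221 := ndS (p := 163) (l := 6) rfl N163 D221
theorem N222 : nd 222 = n222 := ndS (p := 164) (l := 6) rfl N164 D222
theorem N223 : nd 223 = n223 := ndS (p := 166) (l := 6) rfl N166 D223
theorem N224 : nd 224 = n224 := ndS (p := 167) (l := 2) rfl N167 D224
theorem N225 : nd 225 = n225 := ndS (p := 168) (l := 2) rfl N168 D225
theorem N226 : nd 226 = n226 := ndS (p := 169) (l := 3) rfl N169 D226
theorem N227 : nd 227 = n227 := ndS (p := 170) (l := 2) rfl N170 D227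
theorem N228 : nd 228 = n228 := ndS (p := 170) (l := 7) rfl N170 D228
theorem N229 : nd 229 = n229 := ndS (p := 171) (l := 1) rfl N171 D229
theorem N230 : nd 230 = n230 := ndS (p := 171) (l := 3) rfl N171 D230
theorem N231 : nd 231 = n231 := ndS (p := 171) (l := 7) rfl N171 D231
theorem N232 : nd 232 = n232 := ndS (p := 173) (l := 0) rfl N173 D232
theorem N233 : nd 233 = n233 := ndS (p := 173) (l := 3) rfl N173 D233
theorem N234 : nd 234 = n234 := ndS (p := 173) (l := 7) rfl N173 D234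
theorem N235 : nd 235 = n235 := ndS (p := 174) (l := 4) rfl N174 D235
theorem N236 : nd 236 = n236 := ndS (p := 174) (l := 7) rfl N174 D236
theorem N237 : nd 237 = n237 := ndS (p := 175) (l := 6) rfl N175 D237
theorem N238 : nd 238 = n238 := ndS (p := 176) (l := 3) rfl N176 D238
theorem N239 : nd 239 = n239 := ndS (p := 176) (l := 7) rfl N176 D239
theorem N240 : nd 240 = n240 := ndS (p := 177) (l := 2) rfl N177 D240
theorem N241 : nd 241 = n241 := ndS (p := 177) (l := 4) rfl N177 D241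
theorem N242 : nd 242 = n242 := ndS (p := 177) (l := 7) rfl N177 D242
theorem N243 : nd 243 = n243 := ndS (p := 178) (l := 6) rfl N178 D243
theorem N244 : nd 244 = n244 := ndS (p := 179) (l := 5) rfl N179 D244
theorem N245 : nd 245 = n245 := ndS (p := 179) (l := 7) rfl N179 D245
theorem N246 : nd 246 = n246 := ndS (p := 180) (l := 6) rfl N180 D246
theorem N247 : nd 247 = n247 := ndS (p := 182) (l := 0) rfl N182 D247
theorem N248 : nd 248 = n248 := ndS (p := 182) (l := 3) rfl N182 D248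
theorem N249 : nd 249 = n249 := ndS (p := 182) (l := 7) rfl N182 D249
theorem N250 : nd 250 = n250 := ndS (p := 183) (l := 4) rfl N183 D250
theorem N251 : nd 251 = n251 := ndS (p := 183) (l := 7) rfl N183 D251
theorem N252 : nd 252 = n252 := ndS (p := 184) (l := 6) rfl N184 D252
theorem N253 : nd 253 = n253 := ndS (p := 185) (l := 3) rfl N185 D253
theorem N254 : nd 254 = n254 := ndS (p := 185) (l := 7) rfl N185 D254
theorem N255 : nd 255 = n255 := ndS (p := 186) (l := 4) rfl N186 D255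
theorem N256 : nd 256 = n256 := ndS (p := 186) (l := 7) rfl N186 D256
theorem N257 : nd 257 = n257 := ndS (p := 187) (l := 6) rfl N187 D257
theorem N258 : nd 258 = n258 := ndS (p := 188) (l := 5) rfl N188 D258
theorem N259 : nd 259 = n259 := ndS (p := 188) (l := 7) rfl N188 D259
theorem N260 : nd 260 = n260 := ndS (p := 189) (l := 6) rfl N189 D260
theorem N261 : nd 261 = n261 := ndS (p := 191) (l := 4) rfl N191 D261
theorem N262 : nd 262 = n262 := ndS (p := 191) (l := 7) rfl N191 D262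
theorem N263 : nd 263 = n263 := ndS (p := 192) (l := 6) rfl N192 D263
theorem N264 : nd 264 = n264 := ndS (p := 193) (l := 5) rfl N193 D264
theorem N265 : nd 265 = n265 := ndS (p := 193) (l := 7) rfl N193 D265
theorem N266 : nd 266 = n266 := ndS (p := 194) (l := 6) rfl N194 D266
theorem N267 : nd 267 = n267 := ndS (p := 195) (l := 2) rfl N195 D267
theorem N268 : nd 268 = n268 := ndS (p := 196) (l := 7) rfl N196 D268
theorem N269 : nd 269 = n269 := ndS (p := 197) (l := 6) rfl N197 D269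
theorem N270 : nd 270 = n270 := ndS (p := 198) (l := 2) rfl N198 D270
theorem N271 : nd 271 = n271 := ndS (p := 199) (l := 7) rfl N199 D271
theorem N272 : nd 272 = n272 := ndS (p := 200) (l := 6) rfl N200 D272
theorem N273 : nd 273 = n273 := ndS (p := 201) (l := 2) rfl N201 D273
theorem N274 : nd 274 = n274 := ndS (p := 202) (l := 6) rfl N202 D274
theorem N275 : nd 275 = n275 := ndS (p := 203) (l := 2) rfl N203 D275
theorem N276 : nd 276 = n276 := ndS (p := 204) (l := 1) rfl N204 D276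
theorem N277 : nd 277 = n277 := ndS (p := 205) (l := 2) rfl N205 D277
theorem N278 : nd 278 = n278 := ndS (p := 206) (l := 1) rfl N206 D278
theorem N279 : nd 279 = n279 := ndS (p := 206) (l := 3) rfl N206 D279
theorem N280 : nd 280 = n280 := ndS (p := 207) (l := 0) rfl N207 D280
theorem N281 : nd 281 = n281 := ndS (p := 208) (l := 3) rfl N208 D281
theorem N282 : nd 282 = n282 := ndS (p := 208) (l := 7) rfl N208 D282
theorem N283 : nd 283 = n283 := ndS (p := 209) (l := 2) rfl N209 D283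
theorem N284 : nd 284 = n284 := ndS (p := 209) (l := 7) rfl N209 D284
theorem N285 : nd 285 = n285 := ndS (p := 210) (l := 6) rfl N210 D285
theorem N286 : nd 286 = n286 := ndS (p := 211) (l := 6) rfl N211 D286
theorem N287 : nd 287 = n287 := ndS (p := 213) (l := 6) rfl N213 D287
theorem N288 : nd 288 = n288 := ndS (p := 214) (l := 2) rfl N214 D288
theorem N289 : nd 289 = n289 := ndS (p := 215) (l := 2) rfl N215 D289
theorem N290 : nd 290 = n290 := ndS (p := 216) (l := 3) rfl N216 D290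
theorem N291 : nd 291 = n291 := ndS (p := 217) (l := 2) rfl N217 D291
theorem N292 : nd 292 = n292 := ndS (p := 217) (l := 7) rfl N217 D292
theorem N293 : nd 293 = n293 := ndS (p := 218) (l := 6) rfl N218 D293
theorem N294 : nd 294 = n294 := ndS (p := 219) (l := 6) rfl N219 D294
theorem N295 : nd 295 = n295 := ndS (p := 219) (l := 7) rfl N219 D295
theorem N296 : nd 296 = n296 := ndS (p := 220) (l := 6) rfl N220 D296
theorem N297 : nd 297 = n297 := ndS (p := 221) (l := 2) rfl N221 D297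
theorem N298 : nd 298 = n298 := ndS (p := 222) (l := 2) rfl N222 D298
theorem N299 : nd 299 = n299 := ndS (p := 223) (l := 2) rfl N223 D299
theorem N300 : nd 300 = n300 := ndS (p := 224) (l := 3) rfl N224 D300
theorem N301 : nd 301 = n304 := ndS (p := 227) (l := 1) rfl N227 D304
theorem N302 : nd 302 = n305 := ndS (p := 227) (l := 3) rfl N227 D305
theorem N303 : nd 303 = n306 := ndS (p := 227) (l := 7) rfl N227 D306
theorem N304 : nd 304 = n307 := ndS (p := 229) (l := 0) rfl N229 D307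
theorem N305 : nd 305 = n308 := ndS (p := 229) (l := 3) rfl N229 D308
theorem N306 : nd 306 = n309 := ndS (p := 229) (l := 7) rfl N229 D309
theorem N307 : nd 307 = n310 := ndS (p := 230) (l := 4) rfl N230 D310
theorem N308 : nd 308 = n311 := ndS (p := 230) (l := 7) rfl N230 D311
theorem N309 : nd 309 = n312 := ndS (p := 231) (l := 6) rfl N231 D312
theorem N310 : nd 310 = n313 := ndS (p := 232) (l := 3) rfl N232 D313
theorem N311 : nd 311 = n314 := ndS (p := 232) (l := 7) rfl N232 D314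
theorem N312 : nd 312 = n315 := ndS (p := 233) (l := 2) rfl N233 D315
theorem N313 : nd 313 = n316 := ndS (p := 233) (l := 4) rfl N233 D316
theorem N314 : nd 314 = n317 := ndS (p := 233) (l := 7) rfl N233 D317
theorem N315 : nd 315 = n318 := ndS (p := 234) (l := 6) rfl N234 D318
theorem N316 : nd 316 = n319 := ndS (p := 235) (l := 5) rfl N235 D319
theorem N317 : nd 317 = n320 := ndS (p := 235) (l := 7) rfl N235 D320
theorem N318 : nd 318 = n321 := ndS (p := 236) (l := 6) rfl N236 D321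
theorem N319 : nd 319 = n322 := ndS (p := 238) (l := 2) rfl N238 D322
theorem N320 : nd 320 = n323 := ndS (p := 238) (l := 4) rfl N238 D323
theorem N321 : nd 321 = n324 := ndS (p := 238) (l := 7) rfl N238 D324
theorem N322 : nd 322 = n325 := ndS (p := 239) (l := 6) rfl N239 D325
theorem N323 : nd 323 = n326 := ndS (p := 240) (l := 4) rfl N240 D326
theorem N324 : nd 324 = n327 := ndS (p := 240) (l := 7) rfl N240 D327
theorem N325 : nd 325 = n328 := ndS (p := 241) (l := 5) rfl N241 D328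
theorem N326 : nd 326 = n329 := ndS (p := 241) (l := 7) rfl N241 D329
theorem N327 : nd 327 = n330 := ndS (p := 242) (l := 6) rfl N242 D330
theorem N328 : nd 328 = n331 := ndS (p := 243) (l := 2) rfl N243 D331
theorem N329 : nd 329 = n332 := ndS (p := 244) (l := 7) rfl N244 D332
theorem N330 : nd 330 = n333 := ndS (p := 245) (l := 6) rfl N245 D333
theorem N331 : nd 331 = n334 := ndS (p := 246) (l := 2) rfl N246 D334
theorem N332 : nd 332 = n335 := ndS (p := 247) (l := 3) rfl N247 D335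
theorem N333 : nd 333 = n336 := ndS (p := 247) (l := 7) rfl N247 D336
theorem N334 : nd 334 = n337 := ndS (p := 248) (l := 2) rfl N248 D337
theorem N335 : nd 335 = n338 := ndS (p := 248) (l := 4) rfl N248 D338
theorem N336 : nd 336 = n339 := ndS (p := 248) (l := 7) rfl N248 D339
theorem N337 : nd 337 = n340 := ndS (p := 249) (l := 6) rfl N249 D340
theorem N338 : nd 338 = n341 := ndS (p := 250) (l := 5) rfl N250 D341
theorem N339 : nd 339 = n342 := ndS (p := 250) (l := 7) rfl N250 D342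
theorem N340 : nd 340 = n343 := ndS (p := 251) (l := 6) rfl N251 D343
theorem N341 : nd 341 = n344 := ndS (p := 253) (l := 4) rfl N253 D344
theorem N342 : nd 342 = n345 := ndS (p := 253) (l := 7) rfl N253 D345
theorem N343 : nd 343 = n346 := ndS (p := 254) (l := 6) rfl N254 D346
theorem N344 : nd 344 = n347 := ndS (p := 255) (l := 5) rfl N255 D347
theorem N345 : nd 345 = n348 := ndS (p := 255) (l := 7) rfl N255 D348
theorem N346 : nd 346 = n349 := ndS (p := 256) (l := 6) rfl N256 D349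
theorem N347 : nd 347 = n350 := ndS (p := 257) (l := 2) rfl N257 D350
theorem N348 : nd 348 = n351 := ndS (p := 258) (l := 7) rfl N258 D351
theorem N349 : nd 349 = n352 := ndS (p := 259) (l := 6) rfl N259 D352
theorem N350 : nd 350 = n353 := ndS (p := 260) (l := 2) rfl N260 D353
theorem N351 : nd 351 = n354 := ndS (p := 261) (l := 5) rfl N261 D354
theorem N352 : nd 352 = n355 := ndS (p := 261) (l := 7) rfl N261 D355
theorem N353 : nd 353 = n356 := ndS (p := 262) (l := 6) rfl N262 D356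
theorem N354 : nd 354 = n357 := ndS (p := 263) (l := 2) rfl N263 D357
theorem N355 : nd 355 = n358 := ndS (p := 264) (l := 7) rfl N264 D358
theorem N356 : nd 356 = n359 := ndS (p := 265) (l := 6) rfl N265 D359
theorem N357 : nd 357 = n360 := ndS (p := 266) (l := 2) rfl N266 D360
theorem N358 : nd 358 = n361 := ndS (p := 267) (l := 3) rfl N267 D361
theorem N359 : nd 359 = n362 := ndS (p := 268) (l := 6) rfl N268 D362
theorem N360 : nd 360 = n363 := ndS (p := 269) (l := 2) rfl N269 D363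
theorem N361 : nd 361 = n364 := ndS (p := 270) (l := 1) rfl N270 D364
theorem N362 : nd 362 = n365 := ndS (p := 271) (l := 6) rfl N271 D365
theorem N363 : nd 363 = n366 := ndS (p := 272) (l := 2) rfl N272 D366
theorem N364 : nd 364 = n367 := ndS (p := 273) (l := 1) rfl N273 D367
theorem N365 : nd 365 = n368 := ndS (p := 274) (l := 2) rfl N274 D368
theorem N366 : nd 366 = n369 := ndS (p := 275) (l := 1) rfl N275 D369
theorem N367 : nd 367 = n370 := ndS (p := 275) (l := 3) rfl N275 D370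
theorem N368 : nd 368 = n371 := ndS (p := 276) (l := 0) rfl N276 D371
theorem N369 : nd 369 = n372 := ndS (p := 277) (l := 1) rfl N277 D372
theorem N370 : nd 370 = n373 := ndS (p := 277) (l := 3) rfl N277 D373
theorem N371 : nd 371 = n376 := ndS (p := 281) (l := 2) rfl N281 D376
theorem N372 : nd 372 = n377 := ndS (p := 281) (l := 7) rfl N281 D377
theorem N373 : nd 373 = n378 := ndS (p := 282) (l := 6) rfl N282 D378
theorem N374 : nd 374 = n379 := ndS (p := 283) (l := 6) rfl N283 D379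
theorem N375 : nd 375 = n380 := ndS (p := 283) (l := 7) rfl N283 D380
theorem N376 : nd 376 = n381 := ndS (p := 284) (l := 6) rfl N284 D381
theorem N377 : nd 377 = n382 := ndS (p := 285) (l := 2) rfl N285 D382
theorem N378 : nd 378 = n383 := ndS (p := 286) (l := 2) rfl N286 D383
theorem N379 : nd 379 = n384 := ndS (p := 287) (l := 2) rfl N287 D384
theorem N380 : nd 380 = n385 := ndS (p := 288) (l := 3) rfl N288 D385
theorem N381 : nd 381 = n389 := ndS (p := 291) (l := 1) rfl N291 D389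
theorem N382 : nd 382 = n390 := ndS (p := 291) (l := 6) rfl N291 D390
theorem N383 : nd 383 = n391 := ndS (p := 291) (l := 7) rfl N291 D391
theorem N384 : nd 384 = n392 := ndS (p := 292) (l := 6) rfl N292 D392
theorem N385 : nd 385 = n393 := ndS (p := 293) (l := 2) rfl N293 D393
theorem N386 : nd 386 = n405 := ndS (p := 301) (l := 0) rfl N301 D405
theorem N387 : nd 387 = n406 := ndS (p := 301) (l := 3) rfl N301 D406
theorem N388 : nd 388 = n407 := ndS (p := 301) (l := 7) rfl N301 D407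
theorem N389 : nd 389 = n408 := ndS (p := 302) (l := 4) rfl N302 D408
theorem N390 : nd 390 = n409 := ndS (p := 302) (l := 7) rfl N302 D409
theorem N391 : nd 391 = n410 := ndS (p := 303) (l := 6) rfl N303 D410
theorem N392 : nd 392 = n411 := ndS (p := 304) (l := 3) rfl N304 D411
theorem N393 : nd 393 = n412 := ndS (p := 304) (l := 7) rfl N304 D412
theorem N394 : nd 394 = n413 := ndS (p := 305) (l := 2) rfl N305 D413
theorem N395 : nd 395 = n414 := ndS (p := 305) (l := 4) rfl N305 D414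
theorem N396 : nd 396 = n415 := ndS (p := 305) (l := 7) rfl N305 D415
theorem N397 : nd 397 = n416 := ndS (p := 306) (l := 6) rfl N306 D416
theorem N398 : nd 398 = n417 := ndS (p := 307) (l := 5) rfl N307 D417
theorem N399 : nd 399 = n418 := ndS (p := 307) (l := 7) rfl N307 D418
theorem N400 : nd 400 = n419 := ndS (p := 308) (l := 6) rfl N308 D419
theorem N401 : nd 401 = n420 := ndS (p := 310) (l := 2) rfl N310 D420
theorem N402 : nd 402 = n421 := ndS (p := 310) (l := 4) rfl N310 D421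
theorem N403 : nd 403 = n422 := ndS (p := 310) (l := 7) rfl N310 D422
theorem N404 : nd 404 = n423 := ndS (p := 311) (l := 6) rfl N311 D423
theorem N405 : nd 405 = n424 := ndS (p := 312) (l := 4) rfl N312 D424
theorem N406 : nd 406 = n425 := ndS (p := 312) (l := 7) rfl N312 D425
theorem N407 : nd 407 = n426 := ndS (p := 313) (l := 5) rfl N313 D426
theorem N408 : nd 408 = n427 := ndS (p := 313) (l := 7) rfl N313 D427
theorem N409 : nd 409 = n428 := ndS (p := 314) (l := 6) rfl N314 D428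
theorem N410 : nd 410 = n429 := ndS (p := 315) (l := 2) rfl N315 D429
theorem N411 : nd 411 = n430 := ndS (p := 316) (l := 7) rfl N316 D430
theorem N412 : nd 412 = n431 := ndS (p := 317) (l := 6) rfl N317 D431
theorem N413 : nd 413 = n432 := ndS (p := 318) (l := 2) rfl N318 D432
theorem N414 : nd 414 = n433 := ndS (p := 319) (l := 1) rfl N319 D433
theorem N415 : nd 415 = n434 := ndS (p := 319) (l := 4) rfl N319 D434
theorem N416 : nd 416 = n435 := ndS (p := 319) (l := 7) rfl N319 D435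
theorem N417 : nd 417 = n436 := ndS (p := 320) (l := 5) rfl N320 D436
theorem N418 : nd 418 = n437 := ndS (p := 320) (l := 7) rfl N320 D437
theorem N419 : nd 419 = n438 := ndS (p := 321) (l := 6) rfl N321 D438
theorem N420 : nd 420 = n439 := ndS (p := 322) (l := 2) rfl N322 D439
theorem N421 : nd 421 = n440 := ndS (p := 323) (l := 3) rfl N323 D440
theorem N422 : nd 422 = n441 := ndS (p := 323) (l := 5) rfl N323 D441
theorem N423 : nd 423 = n442 := ndS (p := 323) (l := 7) rfl N323 D442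
theorem N424 : nd 424 = n443 := ndS (p := 324) (l := 6) rfl N324 D443
theorem N425 : nd 425 = n444 := ndS (p := 325) (l := 7) rfl N325 D444
theorem N426 : nd 426 = n445 := ndS (p := 326) (l := 6) rfl N326 D445
theorem N427 : nd 427 = n446 := ndS (p := 327) (l := 2) rfl N327 D446
theorem N428 : nd 428 = n447 := ndS (p := 328) (l := 3) rfl N328 D447
theorem N429 : nd 429 = n448 := ndS (p := 329) (l := 6) rfl N329 D448
theorem N430 : nd 430 = n449 := ndS (p := 330) (l := 2) rfl N330 D449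
theorem N431 : nd 431 = n450 := ndS (p := 331) (l := 1) rfl N331 D450
theorem N432 : nd 432 = n451 := ndS (p := 332) (l := 2) rfl N332 D451
theorem N433 : nd 433 = n452 := ndS (p := 332) (l := 4) rfl N332 D452
theorem N434 : nd 434 = n453 := ndS (p := 332) (l := 7) rfl N332 D453
theorem N435 : nd 435 = n454 := ndS (p := 333) (l := 6) rfl N333 D454
theorem N436 : nd 436 = n455 := ndS (p := 334) (l := 4) rfl N334 D455
theorem N437 : nd 437 = n456 := ndS (p := 334) (l := 6) rfl N334 D456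
theorem N438 : nd 438 = n457 := ndS (p := 334) (l := 7) rfl N334 D457
theorem N439 : nd 439 = n458 := ndS (p := 335) (l := 5) rfl N335 D458
theorem N440 : nd 440 = n459 := ndS (p := 335) (l := 7) rfl N335 D459
theorem N441 : nd 441 = n460 := ndS (p := 336) (l := 6) rfl N336 D460
theorem N442 : nd 442 = n461 := ndS (p := 337) (l := 2) rfl N337 D461
theorem N443 : nd 443 = n462 := ndS (p := 338) (l := 7) rfl N338 D462
theorem N444 : nd 444 = n463 := ndS (p := 339) (l := 6) rfl N339 D463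
theorem N445 : nd 445 = n464 := ndS (p := 340) (l := 2) rfl N340 D464
theorem N446 : nd 446 = n465 := ndS (p := 341) (l := 5) rfl N341 D465
theorem N447 : nd 447 = n466 := ndS (p := 341) (l := 7) rfl N341 D466
theorem N448 : nd 448 = n467 := ndS (p := 342) (l := 6) rfl N342 D467
theorem N449 : nd 449 = n468 := ndS (p := 343) (l := 2) rfl N343 D468
theorem N450 : nd 450 = n469 := ndS (p := 344) (l := 7) rfl N344 D469
theorem N451 : nd 451 = n470 := ndS (p := 345) (l := 6) rfl N345 D470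
theorem N452 : nd 452 = n471 := ndS (p := 346) (l := 2) rfl N346 D471
theorem N453 : nd 453 = n472 := ndS (p := 347) (l := 3) rfl N347 D472
theorem N454 : nd 454 = n473 := ndS (p := 348) (l := 6) rfl N348 D473
theorem N455 : nd 455 = n474 := ndS (p := 349) (l := 2) rfl N349 D474
theorem N456 : nd 456 = n475 := ndS (p := 350) (l := 1) rfl N350 D475
theorem N457 : nd 457 = n476 := ndS (p := 351) (l := 7) rfl N351 D476
theorem N458 : nd 458 = n477 := ndS (p := 352) (l := 6) rfl N352 D477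
theorem N459 : nd 459 = n478 := ndS (p := 353) (l := 2) rfl N353 D478
theorem N460 : nd 460 = n479 := ndS (p := 354) (l := 1) rfl N354 D479
theorem N461 : nd 461 = n480 := ndS (p := 354) (l := 3) rfl N354 D480
theorem N462 : nd 462 = n481 := ndS (p := 355) (l := 6) rfl N355 D481
theorem N463 : nd 463 = n482 := ndS (p := 356) (l := 2) rfl N356 D482
theorem N464 : nd 464 = n483 := ndS (p := 357) (l := 1) rfl N357 D483
theorem N465 : nd 465 = n484 := ndS (p := 357) (l := 3) rfl N357 D484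
theorem N466 : nd 466 = n485 := ndS (p := 358) (l := 4) rfl N358 D485
theorem N467 : nd 467 = n486 := ndS (p := 359) (l := 2) rfl N359 D486
theorem N468 : nd 468 = n490 := ndS (p := 362) (l := 2) rfl N362 D490
theorem N469 : nd 469 = n491 := ndS (p := 363) (l := 1) rfl N363 D491
theorem N470 : nd 470 = n492 := ndS (p := 363) (l := 3) rfl N363 D492
theorem N471 : nd 471 = n493 := ndS (p := 364) (l := 0) rfl N364 D493
theorem N472 : nd 472 = n494 := ndS (p := 365) (l := 1) rfl N365 D494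
theorem N473 : nd 473 = n495 := ndS (p := 365) (l := 3) rfl N365 D495
theorem N474 : nd 474 = n500 := ndS (p := 370) (l := 4) rfl N370 D500
theorem N475 : nd 475 = n503 := ndS (p := 371) (l := 1) rfl N371 D503
theorem N476 : nd 476 = n504 := ndS (p := 371) (l := 6) rfl N371 D504
theorem N477 : nd 477 = n505 := ndS (p := 371) (l := 7) rfl N371 D505
theorem N478 : nd 478 = n506 := ndS (p := 372) (l := 6) rfl N372 D506
theorem N479 : nd 479 = n507 := ndS (p := 373) (l := 2) rfl N373 D507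
theorem N480 : nd 480 = n508 := ndS (p := 374) (l := 7) rfl N374 D508
theorem N481 : nd 481 = n509 := ndS (p := 375) (l := 6) rfl N375 D509
theorem N482 : nd 482 = n510 := ndS (p := 376) (l := 2) rfl N376 D510
theorem N483 : nd 483 = n511 := ndS (p := 377) (l := 3) rfl N377 D511
theorem N484 : nd 484 = n512 := ndS (p := 378) (l := 1) rfl N378 D512
theorem N485 : nd 485 = n515 := ndS (p := 380) (l := 4) rfl N380 D515
theorem N486 : nd 486 = n519 := ndS (p := 381) (l := 6) rfl N381 D519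
theorem N487 : nd 487 = n520 := ndS (p := 381) (l := 7) rfl N381 D520
theorem N488 : nd 488 = n538 := ndS (p := 386) (l := 3) rfl N386 D538
theorem N489 : nd 489 = n539 := ndS (p := 386) (l := 7) rfl N386 D539
theorem N490 : nd 490 = n540 := ndS (p := 387) (l := 2) rfl N387 D540
theorem N491 : nd 491 = n541 := ndS (p := 387) (l := 4) rfl N387 D541
theorem N492 : nd 492 = n542 := ndS (p := 387) (l := 7) rfl N387 D542
theorem N493 : nd 493 = n543 := ndS (p := 388) (l := 6) rfl N388 D543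
theorem N494 : nd 494 = n544 := ndS (p := 389) (l := 5) rfl N389 D544
theorem N495 : nd 495 = n545 := ndS (p := 389) (l := 7) rfl N389 D545
theorem N496 : nd 496 = n546 := ndS (p := 390) (l := 6) rfl N390 D546
theorem N497 : nd 497 = n547 := ndS (p := 392) (l := 2) rfl N392 D547
theorem N498 : nd 498 = n548 := ndS (p := 392) (l := 4) rfl N392 D548
theorem N499 : nd 499 = n549 := ndS (p := 392) (l := 7) rfl N392 D549
theorem N500 : nd 500 = n550 := ndS (p := 393) (l := 6) rfl N393 D550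
theorem N501 : nd 501 = n551 := ndS (p := 394) (l := 4) rfl N394 D551
theorem N502 : nd 502 = n552 := ndS (p := 394) (l := 6) rfl N394 D552
theorem N503 : nd 503 = n553 := ndS (p := 394) (l := 7) rfl N394 D553
theorem N504 : nd 504 = n554 := ndS (p := 395) (l := 5) rfl N395 D554
theorem N505 : nd 505 = n555 := ndS (p := 395) (l := 7) rfl N395 D555
theorem N506 : nd 506 = n556 := ndS (p := 396) (l := 6) rfl N396 D556
theorem N507 : nd 507 = n557 := ndS (p := 397) (l := 2) rfl N397 D557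
theorem N508 : nd 508 = n558 := ndS (p := 398) (l := 7) rfl N398 D558
theorem N509 : nd 509 = n559 := ndS (p := 399) (l := 6) rfl N399 D559
theorem N510 : nd 510 = n560 := ndS (p := 400) (l := 2) rfl N400 D560
theorem N511 : nd 511 = n561 := ndS (p := 401) (l := 1) rfl N401 D561
theorem N512 : nd 512 = n562 := ndS (p := 401) (l := 4) rfl N401 D562
theorem N513 : nd 513 = n563 := ndS (p := 401) (l := 7) rfl N401 D563
theorem N514 : nd 514 = n564 := ndS (p := 402) (l := 5) rfl N402 D564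
theorem N515 : nd 515 = n565 := ndS (p := 402) (l := 7) rfl N402 D565
theorem N516 : nd 516 = n566 := ndS (p := 403) (l := 6) rfl N403 D566
theorem N517 : nd 517 = n567 := ndS (p := 404) (l := 2) rfl N404 D567
theorem N518 : nd 518 = n568 := ndS (p := 405) (l := 3) rfl N405 D568
theorem N519 : nd 519 = n569 := ndS (p := 405) (l := 5) rfl N405 D569
theorem N520 : nd 520 = n570 := ndS (p := 405) (l := 7) rfl N405 D570
theorem N521 : nd 521 = n571 := ndS (p := 406) (l := 6) rfl N406 D571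
theorem N522 : nd 522 = n572 := ndS (p := 407) (l := 7) rfl N407 D572
theorem N523 : nd 523 = n573 := ndS (p := 408) (l := 6) rfl N408 D573
theorem N524 : nd 524 = n574 := ndS (p := 409) (l := 2) rfl N409 D574
theorem N525 : nd 525 = n575 := ndS (p := 410) (l := 3) rfl N410 D575
theorem N526 : nd 526 = n576 := ndS (p := 411) (l := 6) rfl N411 D576
theorem N527 : nd 527 = n577 := ndS (p := 412) (l := 2) rfl N412 D577
theorem N528 : nd 528 = n578 := ndS (p := 413) (l := 1) rfl N413 D578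
theorem N529 : nd 529 = n579 := ndS (p := 414) (l := 4) rfl N414 D579
theorem N530 : nd 530 = n580 := ndS (p := 414) (l := 7) rfl N414 D580
theorem N531 : nd 531 = n581 := ndS (p := 415) (l := 3) rfl N415 D581
theorem N532 : nd 532 = n582 := ndS (p := 415) (l := 5) rfl N415 D582
theorem N533 : nd 533 = n583 := ndS (p := 415) (l := 7) rfl N415 D583
theorem N534 : nd 534 = n584 := ndS (p := 416) (l := 6) rfl N416 D584
theorem N535 : nd 535 = n585 := ndS (p := 417) (l := 7) rfl N417 D585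
theorem N536 : nd 536 = n586 := ndS (p := 418) (l := 6) rfl N418 D586
theorem N537 : nd 537 = n587 := ndS (p := 419) (l := 2) rfl N419 D587
theorem N538 : nd 538 = n588 := ndS (p := 420) (l := 1) rfl N420 D588
theorem N539 : nd 539 = n589 := ndS (p := 420) (l := 3) rfl N420 D589
theorem N540 : nd 540 = n590 := ndS (p := 421) (l := 5) rfl N421 D590
theorem N541 : nd 541 = n591 := ndS (p := 421) (l := 7) rfl N421 D591
theorem N542 : nd 542 = n592 := ndS (p := 422) (l := 7) rfl N422 D592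
theorem N543 : nd 543 = n593 := ndS (p := 423) (l := 6) rfl N423 D593
theorem N544 : nd 544 = n594 := ndS (p := 424) (l := 2) rfl N424 D594
theorem N545 : nd 545 = n595 := ndS (p := 425) (l := 6) rfl N425 D595
theorem N546 : nd 546 = n596 := ndS (p := 426) (l := 2) rfl N426 D596
theorem N547 : nd 547 = n597 := ndS (p := 427) (l := 1) rfl N427 D597
theorem N548 : nd 548 = n598 := ndS (p := 427) (l := 3) rfl N427 D598
theorem N549 : nd 549 = n599 := ndS (p := 428) (l := 4) rfl N428 D599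
theorem N550 : nd 550 = n600 := ndS (p := 429) (l := 2) rfl N429 D600
theorem N551 : nd 551 = n604 := ndS (p := 432) (l := 1) rfl N432 D604
theorem N552 : nd 552 = n605 := ndS (p := 432) (l := 4) rfl N432 D605
theorem N553 : nd 553 = n606 := ndS (p := 432) (l := 6) rfl N432 D606
theorem N554 : nd 554 = n607 := ndS (p := 432) (l := 7) rfl N432 D607
theorem N555 : nd 555 = n608 := ndS (p := 433) (l := 5) rfl N433 D608
theorem N556 : nd 556 = n609 := ndS (p := 433) (l := 7) rfl N433 D609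
theorem N557 : nd 557 = n610 := ndS (p := 434) (l := 6) rfl N434 D610
theorem N558 : nd 558 = n611 := ndS (p := 435) (l := 2) rfl N435 D611
theorem N559 : nd 559 = n612 := ndS (p := 436) (l := 5) rfl N436 D612
theorem N560 : nd 560 = n613 := ndS (p := 436) (l := 6) rfl N436 D613
theorem N561 : nd 561 = n614 := ndS (p := 436) (l := 7) rfl N436 D614
theorem N562 : nd 562 = n615 := ndS (p := 437) (l := 7) rfl N437 D615
theorem N563 : nd 563 = n616 := ndS (p := 438) (l := 6) rfl N438 D616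
theorem N564 : nd 564 = n617 := ndS (p := 439) (l := 7) rfl N439 D617
theorem N565 : nd 565 = n618 := ndS (p := 440) (l := 6) rfl N440 D618
theorem N566 : nd 566 = n619 := ndS (p := 441) (l := 2) rfl N441 D619
theorem N567 : nd 567 = n620 := ndS (p := 442) (l := 3) rfl N442 D620
theorem N568 : nd 568 = n621 := ndS (p := 443) (l := 6) rfl N443 D621
theorem N569 : nd 569 = n622 := ndS (p := 444) (l := 2) rfl N444 D622
theorem N570 : nd 570 = n623 := ndS (p := 445) (l := 1) rfl N445 D623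
theorem N571 : nd 571 = n624 := ndS (p := 446) (l := 7) rfl N446 D624
theorem N572 : nd 572 = n625 := ndS (p := 447) (l := 6) rfl N447 D625
theorem N573 : nd 573 = n626 := ndS (p := 448) (l := 2) rfl N448 D626
theorem N574 : nd 574 = n627 := ndS (p := 449) (l := 1) rfl N449 D627
theorem N575 : nd 575 = n628 := ndS (p := 449) (l := 3) rfl N449 D628
theorem N576 : nd 576 = n629 := ndS (p := 450) (l := 6) rfl N450 D629
theorem N577 : nd 577 = n630 := ndS (p := 451) (l := 2) rfl N451 D630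
theorem N578 : nd 578 = n631 := ndS (p := 452) (l := 1) rfl N452 D631
theorem N579 : nd 579 = n632 := ndS (p := 452) (l := 3) rfl N452 D632
theorem N580 : nd 580 = n633 := ndS (p := 453) (l := 4) rfl N453 D633
theorem N581 : nd 581 = n634 := ndS (p := 454) (l := 2) rfl N454 D634
theorem N582 : nd 582 = n635 := ndS (p := 455) (l := 1) rfl N455 D635
theorem N583 : nd 583 = n636 := ndS (p := 455) (l := 3) rfl N455 D636
theorem N584 : nd 584 = n637 := ndS (p := 456) (l := 0) rfl N456 D637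
theorem N585 : nd 585 = n638 := ndS (p := 457) (l := 6) rfl N457 D638
theorem N586 : nd 586 = n639 := ndS (p := 458) (l := 2) rfl N458 D639
theorem N587 : nd 587 = n640 := ndS (p := 459) (l := 1) rfl N459 D640
theorem N588 : nd 588 = n641 := ndS (p := 459) (l := 3) rfl N459 D641
theorem N589 : nd 589 = n644 := ndS (p := 462) (l := 2) rfl N462 D644
theorem N590 : nd 590 = n647 := ndS (p := 464) (l := 0) rfl N464 D647
theorem N591 : nd 591 = n648 := ndS (p := 464) (l := 3) rfl N464 D648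
theorem N592 : nd 592 = n655 := ndS (p := 468) (l := 1) rfl N468 D655
theorem N593 : nd 593 = n656 := ndS (p := 468) (l := 3) rfl N468 D656
theorem N594 : nd 594 = n657 := ndS (p := 469) (l := 0) rfl N469 D657
theorem N595 : nd 595 = n658 := ndS (p := 469) (l := 3) rfl N469 D658
theorem N596 : nd 596 = n661 := ndS (p := 473) (l := 4) rfl N473 D661
theorem N597 : nd 597 = n669 := ndS (p := 475) (l := 6) rfl N475 D669
theorem N598 : nd 598 = n670 := ndS (p := 475) (l := 7) rfl N475 D670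
theorem N599 : nd 599 = n671 := ndS (p := 476) (l := 7) rfl N476 D671
theorem N600 : nd 600 = n672 := ndS (p := 477) (l := 6) rfl N477 D672
theorem N601 : nd 601 = n673 := ndS (p := 478) (l := 2) rfl N478 D673
theorem N602 : nd 602 = n675 := ndS (p := 479) (l := 3) rfl N479 D675
theorem N603 : nd 603 = n676 := ndS (p := 480) (l := 6) rfl N480 D676
theorem N604 : nd 604 = n677 := ndS (p := 481) (l := 2) rfl N481 D677
theorem N605 : nd 605 = n678 := ndS (p := 482) (l := 1) rfl N482 D678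
theorem N606 : nd 606 = n679 := ndS (p := 482) (l := 3) rfl N482 D679
theorem N607 : nd 607 = n680 := ndS (p := 483) (l := 4) rfl N483 D680
theorem N608 : nd 608 = n688 := ndS (p := 486) (l := 2) rfl N486 D688
theorem N609 : nd 609 = n710 := ndS (p := 488) (l := 2) rfl N488 D710
theorem N610 : nd 610 = n711 := ndS (p := 488) (l := 4) rfl N488 D711
theorem N611 : nd 611 = n712 := ndS (p := 488) (l := 7) rfl N488 D712
theorem N612 : nd 612 = n713 := ndS (p := 489) (l := 6) rfl N489 D713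
theorem N613 : nd 613 = n714 := ndS (p := 490) (l := 4) rfl N490 D714
theorem N614 : nd 614 = n715 := ndS (p := 490) (l := 6) rfl N490 D715
theorem N615 : nd 615 = n716 := ndS (p := 490) (l := 7) rfl N490 D716
theorem N616 : nd 616 = n717 := ndS (p := 491) (l := 5) rfl N491 D717
theorem N617 : nd 617 = n718 := ndS (p := 491) (l := 7) rfl N491 D718
theorem N618 : nd 618 = n719 := ndS (p := 492) (l := 6) rfl N492 D719
theorem N619 : nd 619 = n720 := ndS (p := 493) (l := 2) rfl N493 D720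
theorem N620 : nd 620 = n721 := ndS (p := 494) (l := 7) rfl N494 D721
theorem N621 : nd 621 = n722 := ndS (p := 495) (l := 6) rfl N495 D722
theorem N622 : nd 622 = n723 := ndS (p := 496) (l := 2) rfl N496 D723
theorem N623 : nd 623 = n724 := ndS (p := 497) (l := 1) rfl N497 D724
theorem N624 : nd 624 = n725 := ndS (p := 497) (l := 4) rfl N497 D725
theorem N625 : nd 625 = n726 := ndS (p := 497) (l := 6) rfl N497 D726
theorem N626 : nd 626 = n727 := ndS (p := 497) (l := 7) rfl N497 D727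
theorem N627 : nd 627 = n728 := ndS (p := 498) (l := 5) rfl N498 D728
theorem N628 : nd 628 = n729 := ndS (p := 498) (l := 7) rfl N498 D729
theorem N629 : nd 629 = n730 := ndS (p := 499) (l := 6) rfl N499 D730
theorem N630 : nd 630 = n731 := ndS (p := 500) (l := 2) rfl N500 D731
theorem N631 : nd 631 = n732 := ndS (p := 501) (l := 3) rfl N501 D732
theorem N632 : nd 632 = n733 := ndS (p := 501) (l := 5) rfl N501 D733
theorem N633 : nd 633 = n734 := ndS (p := 501) (l := 6) rfl N501 D734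
theorem N634 : nd 634 = n735 := ndS (p := 501) (l := 7) rfl N501 D735
theorem N635 : nd 635 = n736 := ndS (p := 502) (l := 7) rfl N502 D736
theorem N636 : nd 636 = n737 := ndS (p := 503) (l := 6) rfl N503 D737
theorem N637 : nd 637 = n738 := ndS (p := 504) (l := 7) rfl N504 D738
theorem N638 : nd 638 = n739 := ndS (p := 505) (l := 6) rfl N505 D739
theorem N639 : nd 639 = n740 := ndS (p := 506) (l := 2) rfl N506 D740
theorem N640 : nd 640 = n741 := ndS (p := 507) (l := 3) rfl N507 D741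
theorem N641 : nd 641 = n742 := ndS (p := 508) (l := 6) rfl N508 D742
theorem N642 : nd 642 = n743 := ndS (p := 509) (l := 2) rfl N509 D743
theorem N643 : nd 643 = n744 := ndS (p := 510) (l := 1) rfl N510 D744
theorem N644 : nd 644 = n745 := ndS (p := 511) (l := 4) rfl N511 D745
theorem N645 : nd 645 = n746 := ndS (p := 511) (l := 7) rfl N511 D746
theorem N646 : nd 646 = n747 := ndS (p := 512) (l := 3) rfl N512 D747
theorem N647 : nd 647 = n748 := ndS (p := 512) (l := 5) rfl N512 D748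
theorem N648 : nd 648 = n749 := ndS (p := 512) (l := 7) rfl N512 D749
theorem N649 : nd 649 = n750 := ndS (p := 513) (l := 6) rfl N513 D750
theorem N650 : nd 650 = n751 := ndS (p := 514) (l := 7) rfl N514 D751
theorem N651 : nd 651 = n752 := ndS (p := 515) (l := 6) rfl N515 D752
theorem N652 : nd 652 = n753 := ndS (p := 516) (l := 2) rfl N516 D753
theorem N653 : nd 653 = n754 := ndS (p := 517) (l := 1) rfl N517 D754
theorem N654 : nd 654 = n755 := ndS (p := 517) (l := 3) rfl N517 D755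
theorem N655 : nd 655 = n756 := ndS (p := 518) (l := 5) rfl N518 D756
theorem N656 : nd 656 = n757 := ndS (p := 518) (l := 7) rfl N518 D757
theorem N657 : nd 657 = n758 := ndS (p := 519) (l := 7) rfl N519 D758
theorem N658 : nd 658 = n759 := ndS (p := 520) (l := 6) rfl N520 D759
theorem N659 : nd 659 = n760 := ndS (p := 521) (l := 2) rfl N521 D760
theorem N660 : nd 660 = n761 := ndS (p := 522) (l := 6) rfl N522 D761
theorem N661 : nd 661 = n762 := ndS (p := 523) (l := 2) rfl N523 D762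
theorem N662 : nd 662 = n763 := ndS (p := 524) (l := 1) rfl N524 D763
theorem N663 : nd 663 = n764 := ndS (p := 524) (l := 3) rfl N524 D764
theorem N664 : nd 664 = n765 := ndS (p := 525) (l := 4) rfl N525 D765
theorem N665 : nd 665 = n766 := ndS (p := 526) (l := 2) rfl N526 D766
theorem N666 : nd 666 = n767 := ndS (p := 527) (l := 1) rfl N527 D767
theorem N667 : nd 667 = n768 := ndS (p := 527) (l := 3) rfl N527 D768
theorem N668 : nd 668 = n769 := ndS (p := 528) (l := 0) rfl N528 D769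
theorem N669 : nd 669 = n770 := ndS (p := 529) (l := 3) rfl N529 D770
theorem N670 : nd 670 = n771 := ndS (p := 529) (l := 5) rfl N529 D771
theorem N671 : nd 671 = n772 := ndS (p := 529) (l := 7) rfl N529 D772
theorem N672 : nd 672 = n773 := ndS (p := 530) (l := 6) rfl N530 D773
theorem N673 : nd 673 = n774 := ndS (p := 531) (l := 5) rfl N531 D774
theorem N674 : nd 674 = n775 := ndS (p := 531) (l := 7) rfl N531 D775
theorem N675 : nd 675 = n776 := ndS (p := 532) (l := 7) rfl N532 D776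
theorem N676 : nd 676 = n777 := ndS (p := 533) (l := 6) rfl N533 D777
theorem N677 : nd 677 = n778 := ndS (p := 534) (l := 2) rfl N534 D778
theorem N678 : nd 678 = n779 := ndS (p := 535) (l := 6) rfl N535 D779
theorem N679 : nd 679 = n780 := ndS (p := 536) (l := 2) rfl N536 D780
theorem N680 : nd 680 = n781 := ndS (p := 537) (l := 1) rfl N537 D781
theorem N681 : nd 681 = n782 := ndS (p := 537) (l := 3) rfl N537 D782
theorem N682 : nd 682 = n785 := ndS (p := 540) (l := 4) rfl N540 D785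
theorem N683 : nd 683 = n786 := ndS (p := 540) (l := 7) rfl N540 D786
theorem N684 : nd 684 = n787 := ndS (p := 541) (l := 6) rfl N541 D787
theorem N685 : nd 685 = n788 := ndS (p := 542) (l := 6) rfl N542 D788
theorem N686 : nd 686 = n789 := ndS (p := 543) (l := 2) rfl N543 D789
theorem N687 : nd 687 = n790 := ndS (p := 544) (l := 1) rfl N544 D790
theorem N688 : nd 688 = n791 := ndS (p := 544) (l := 3) rfl N544 D791
theorem N689 : nd 689 = n792 := ndS (p := 545) (l := 2) rfl N545 D792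
theorem N690 : nd 690 = n795 := ndS (p := 547) (l := 0) rfl N547 D795
theorem N691 : nd 691 = n796 := ndS (p := 547) (l := 3) rfl N547 D796
theorem N692 : nd 692 = n803 := ndS (p := 551) (l := 4) rfl N551 D803
theorem N693 : nd 693 = n804 := ndS (p := 551) (l := 6) rfl N551 D804
theorem N694 : nd 694 = n805 := ndS (p := 551) (l := 7) rfl N551 D805
theorem N695 : nd 695 = n806 := ndS (p := 552) (l := 5) rfl N552 D806
theorem N696 : nd 696 = n807 := ndS (p := 552) (l := 6) rfl N552 D807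
theorem N697 : nd 697 = n808 := ndS (p := 552) (l := 7) rfl N552 D808
theorem N698 : nd 698 = n809 := ndS (p := 553) (l := 7) rfl N553 D809
theorem N699 : nd 699 = n810 := ndS (p := 554) (l := 6) rfl N554 D810
theorem N700 : nd 700 = n811 := ndS (p := 555) (l := 7) rfl N555 D811
theorem N701 : nd 701 = n812 := ndS (p := 556) (l := 6) rfl N556 D812
theorem N702 : nd 702 = n813 := ndS (p := 557) (l := 2) rfl N557 D813
theorem N703 : nd 703 = n814 := ndS (p := 558) (l := 1) rfl N558 D814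
theorem N704 : nd 704 = n815 := ndS (p := 558) (l := 3) rfl N558 D815
theorem N705 : nd 705 = n816 := ndS (p := 559) (l := 6) rfl N559 D816
theorem N706 : nd 706 = n817 := ndS (p := 559) (l := 7) rfl N559 D817
theorem N707 : nd 707 = n818 := ndS (p := 560) (l := 7) rfl N560 D818
theorem N708 : nd 708 = n819 := ndS (p := 561) (l := 6) rfl N561 D819
theorem N709 : nd 709 = n820 := ndS (p := 562) (l := 6) rfl N562 D820
theorem N710 : nd 710 = n821 := ndS (p := 563) (l := 2) rfl N563 D821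
theorem N711 : nd 711 = n822 := ndS (p := 564) (l := 6) rfl N564 D822
theorem N712 : nd 712 = n823 := ndS (p := 565) (l := 2) rfl N565 D823
theorem N713 : nd 713 = n824 := ndS (p := 566) (l := 1) rfl N566 D824
theorem N714 : nd 714 = n825 := ndS (p := 566) (l := 3) rfl N566 D825
theorem N715 : nd 715 = n826 := ndS (p := 567) (l := 4) rfl N567 D826
theorem N716 : nd 716 = n827 := ndS (p := 568) (l := 2) rfl N568 D827
theorem N717 : nd 717 = n828 := ndS (p := 569) (l := 1) rfl N569 D828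
theorem N718 : nd 718 = n829 := ndS (p := 569) (l := 3) rfl N569 D829
theorem N719 : nd 719 = n830 := ndS (p := 570) (l := 0) rfl N570 D830
theorem N720 : nd 720 = n831 := ndS (p := 571) (l := 6) rfl N571 D831
theorem N721 : nd 721 = n832 := ndS (p := 572) (l := 2) rfl N572 D832
theorem N722 : nd 722 = n833 := ndS (p := 573) (l := 1) rfl N573 D833
theorem N723 : nd 723 = n834 := ndS (p := 573) (l := 3) rfl N573 D834
theorem N724 : nd 724 = n836 := ndS (p := 575) (l := 4) rfl N575 D836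
theorem N725 : nd 725 = n837 := ndS (p := 576) (l := 2) rfl N576 D837
theorem N726 : nd 726 = n838 := ndS (p := 577) (l := 1) rfl N577 D838
theorem N727 : nd 727 = n839 := ndS (p := 577) (l := 3) rfl N577 D839
theorem N728 : nd 728 = n840 := ndS (p := 578) (l := 0) rfl N578 D840
theorem N729 : nd 729 = n841 := ndS (p := 578) (l := 3) rfl N578 D841
theorem N730 : nd 730 = n842 := ndS (p := 579) (l := 4) rfl N579 D842
theorem N731 : nd 731 = n843 := ndS (p := 580) (l := 5) rfl N580 D843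
theorem N732 : nd 732 = n845 := ndS (p := 581) (l := 3) rfl N581 D845
theorem N733 : nd 733 = n847 := ndS (p := 582) (l := 3) rfl N582 D847
theorem N734 : nd 734 = n848 := ndS (p := 585) (l := 2) rfl N585 D848
theorem N735 : nd 735 = n849 := ndS (p := 586) (l := 1) rfl N586 D849
theorem N736 : nd 736 = n850 := ndS (p := 586) (l := 3) rfl N586 D850
theorem N737 : nd 737 = n871 := ndS (p := 592) (l := 3) rfl N592 D871
theorem N738 : nd 738 = n872 := ndS (p := 593) (l := 4) rfl N593 D872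
theorem N739 : nd 739 = n873 := ndS (p := 594) (l := 3) rfl N594 D873
theorem N740 : nd 740 = n874 := ndS (p := 595) (l := 2) rfl N595 D874
theorem N741 : nd 741 = n887 := ndS (p := 597) (l := 2) rfl N597 D887
theorem N742 : nd 742 = n888 := ndS (p := 597) (l := 7) rfl N597 D888
theorem N743 : nd 743 = n889 := ndS (p := 598) (l := 6) rfl N598 D889
theorem N744 : nd 744 = n890 := ndS (p := 599) (l := 6) rfl N599 D890
theorem N745 : nd 745 = n891 := ndS (p := 600) (l := 2) rfl N600 D891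
theorem N746 : nd 746 = n893 := ndS (p := 601) (l := 3) rfl N601 D893
theorem N747 : nd 747 = n896 := ndS (p := 603) (l := 2) rfl N603 D896
theorem N748 : nd 748 = n897 := ndS (p := 604) (l := 1) rfl N604 D897
theorem N749 : nd 749 = n898 := ndS (p := 604) (l := 3) rfl N604 D898
theorem N750 : nd 750 = n900 := ndS (p := 605) (l := 3) rfl N605 D900
theorem N751 : nd 751 = n901 := ndS (p := 606) (l := 4) rfl N606 D901
theorem N752 : nd 752 = n909 := ndS (p := 608) (l := 3) rfl N608 D909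
theorem N753 : nd 753 = n937 := ndS (p := 609) (l := 1) rfl N609 D937
theorem N754 : nd 754 = n938 := ndS (p := 609) (l := 4) rfl N609 D938
theorem N755 : nd 755 = n939 := ndS (p := 609) (l := 6) rfl N609 D939
theorem N756 : nd 756 = n940 := ndS (p := 609) (l := 7) rfl N609 D940
theorem N757 : nd 757 = n941 := ndS (p := 610) (l := 5) rfl N610 D941
theorem N758 : nd 758 = n942 := ndS (p := 610) (l := 7) rfl N610 D942
theorem N759 : nd 759 = n943 := ndS (p := 611) (l := 6) rfl N611 D943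
theorem N760 : nd 760 = n944 := ndS (p := 612) (l := 2) rfl N612 D944
theorem N761 : nd 761 = n945 := ndS (p := 613) (l := 3) rfl N613 D945
theorem N762 : nd 762 = n946 := ndS (p := 613) (l := 5) rfl N613 D946
theorem N763 : nd 763 = n947 := ndS (p := 613) (l := 6) rfl N613 D947
theorem N764 : nd 764 = n948 := ndS (p := 613) (l := 7) rfl N613 D948
theorem N765 : nd 765 = n949 := ndS (p := 614) (l := 7) rfl N614 D949
theorem N766 : nd 766 = n950 := ndS (p := 615) (l := 6) rfl N615 D950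
theorem N767 : nd 767 = n951 := ndS (p := 616) (l := 7) rfl N616 D951
theorem N768 : nd 768 = n952 := ndS (p := 617) (l := 6) rfl N617 D952
theorem N769 : nd 769 = n953 := ndS (p := 618) (l := 2) rfl N618 D953
theorem N770 : nd 770 = n954 := ndS (p := 619) (l := 3) rfl N619 D954
theorem N771 : nd 771 = n955 := ndS (p := 620) (l := 6) rfl N620 D955
theorem N772 : nd 772 = n956 := ndS (p := 621) (l := 2) rfl N621 D956
theorem N773 : nd 773 = n957 := ndS (p := 622) (l := 1) rfl N622 D957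
theorem N774 : nd 774 = n958 := ndS (p := 623) (l := 4) rfl N623 D958
theorem N775 : nd 775 = n959 := ndS (p := 623) (l := 6) rfl N623 D959
theorem N776 : nd 776 = n960 := ndS (p := 623) (l := 7) rfl N623 D960
theorem N777 : nd 777 = n961 := ndS (p := 624) (l := 3) rfl N624 D961
theorem N778 : nd 778 = n962 := ndS (p := 624) (l := 5) rfl N624 D962
theorem N779 : nd 779 = n963 := ndS (p := 624) (l := 6) rfl N624 D963
theorem N780 : nd 780 = n964 := ndS (p := 624) (l := 7) rfl N624 D964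
theorem N781 : nd 781 = n965 := ndS (p := 625) (l := 7) rfl N625 D965
theorem N782 : nd 782 = n966 := ndS (p := 626) (l := 6) rfl N626 D966
theorem N783 : nd 783 = n967 := ndS (p := 627) (l := 7) rfl N627 D967
theorem N784 : nd 784 = n968 := ndS (p := 628) (l := 6) rfl N628 D968
theorem N785 : nd 785 = n969 := ndS (p := 629) (l := 2) rfl N629 D969
theorem N786 : nd 786 = n970 := ndS (p := 630) (l := 1) rfl N630 D970
theorem N787 : nd 787 = n971 := ndS (p := 630) (l := 3) rfl N630 D971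
theorem N788 : nd 788 = n972 := ndS (p := 631) (l := 5) rfl N631 D972
theorem N789 : nd 789 = n973 := ndS (p := 631) (l := 6) rfl N631 D973
theorem N790 : nd 790 = n974 := ndS (p := 631) (l := 7) rfl N631 D974
theorem N791 : nd 791 = n975 := ndS (p := 632) (l := 6) rfl N632 D975
theorem N792 : nd 792 = n976 := ndS (p := 632) (l := 7) rfl N632 D976
theorem N793 : nd 793 = n977 := ndS (p := 633) (l := 7) rfl N633 D977
theorem N794 : nd 794 = n978 := ndS (p := 634) (l := 6) rfl N634 D978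
theorem N795 : nd 795 = n979 := ndS (p := 635) (l := 6) rfl N635 D979
theorem N796 : nd 796 = n980 := ndS (p := 636) (l := 2) rfl N636 D980
theorem N797 : nd 797 = n981 := ndS (p := 637) (l := 6) rfl N637 D981
theorem N798 : nd 798 = n982 := ndS (p := 638) (l := 2) rfl N638 D982
theorem N799 : nd 799 = n983 := ndS (p := 639) (l := 1) rfl N639 D983
theorem N800 : nd 800 = n984 := ndS (p := 639) (l := 3) rfl N639 D984
theorem N801 : nd 801 = n985 := ndS (p := 640) (l := 4) rfl N640 D985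
theorem N802 : nd 802 = n986 := ndS (p := 641) (l := 2) rfl N641 D986
theorem N803 : nd 803 = n987 := ndS (p := 642) (l := 1) rfl N642 D987
theorem N804 : nd 804 = n988 := ndS (p := 642) (l := 3) rfl N642 D988
theorem N805 : nd 805 = n989 := ndS (p := 643) (l := 0) rfl N643 D989
theorem N806 : nd 806 = n990 := ndS (p := 644) (l := 3) rfl N644 D990
theorem N807 : nd 807 = n991 := ndS (p := 644) (l := 5) rfl N644 D991
theorem N808 : nd 808 = n992 := ndS (p := 644) (l := 7) rfl N644 D992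
theorem N809 : nd 809 = n993 := ndS (p := 645) (l := 6) rfl N645 D993
theorem N810 : nd 810 = n994 := ndS (p := 646) (l := 5) rfl N646 D994
theorem N811 : nd 811 = n995 := ndS (p := 646) (l := 7) rfl N646 D995
theorem N812 : nd 812 = n996 := ndS (p := 647) (l := 7) rfl N647 D996
theorem N813 : nd 813 = n997 := ndS (p := 648) (l := 6) rfl N648 D997
theorem N814 : nd 814 = n998 := ndS (p := 649) (l := 2) rfl N649 D998
theorem N815 : nd 815 = n999 := ndS (p := 650) (l := 6) rfl N650 D999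
theorem N816 : nd 816 = n1000 := ndS (p := 651) (l := 2) rfl N651 D1000
theorem N817 : nd 817 = n1001 := ndS (p := 652) (l := 1) rfl N652 D1001
theorem N818 : nd 818 = n1002 := ndS (p := 652) (l := 3) rfl N652 D1002
theorem N819 : nd 819 = n1004 := ndS (p := 654) (l := 4) rfl N654 D1004
theorem N820 : nd 820 = n1005 := ndS (p := 655) (l := 4) rfl N655 D1005
theorem N821 : nd 821 = n1006 := ndS (p := 655) (l := 7) rfl N655 D1006
theorem N822 : nd 822 = n1007 := ndS (p := 656) (l := 6) rfl N656 D1007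
theorem N823 : nd 823 = n1008 := ndS (p := 657) (l := 6) rfl N657 D1008
theorem N824 : nd 824 = n1009 := ndS (p := 658) (l := 2) rfl N658 D1009
theorem N825 : nd 825 = n1010 := ndS (p := 659) (l := 1) rfl N659 D1010
theorem N826 : nd 826 = n1011 := ndS (p := 659) (l := 3) rfl N659 D1011
theorem N827 : nd 827 = n1012 := ndS (p := 660) (l := 2) rfl N660 D1012
theorem N828 : nd 828 = n1013 := ndS (p := 661) (l := 1) rfl N661 D1013
theorem N829 : nd 829 = n1014 := ndS (p := 661) (l := 3) rfl N661 D1014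
theorem N830 : nd 830 = n1015 := ndS (p := 662) (l := 0) rfl N662 D1015
theorem N831 : nd 831 = n1016 := ndS (p := 662) (l := 3) rfl N662 D1016
theorem N832 : nd 832 = n1017 := ndS (p := 663) (l := 4) rfl N663 D1017
theorem N833 : nd 833 = n1018 := ndS (p := 664) (l := 5) rfl N664 D1018
theorem N834 : nd 834 = n1020 := ndS (p := 665) (l := 3) rfl N665 D1020
theorem N835 : nd 835 = n1022 := ndS (p := 666) (l := 3) rfl N666 D1022
theorem N836 : nd 836 = n1023 := ndS (p := 669) (l := 2) rfl N669 D1023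
theorem N837 : nd 837 = n1024 := ndS (p := 669) (l := 5) rfl N669 D1024
theorem N838 : nd 838 = n1025 := ndS (p := 669) (l := 7) rfl N669 D1025
theorem N839 : nd 839 = n1026 := ndS (p := 670) (l := 7) rfl N670 D1026
theorem N840 : nd 840 = n1027 := ndS (p := 671) (l := 6) rfl N671 D1027
theorem N841 : nd 841 = n1028 := ndS (p := 672) (l := 2) rfl N672 D1028
theorem N842 : nd 842 = n1029 := ndS (p := 673) (l := 4) rfl N673 D1029
theorem N843 : nd 843 = n1030 := ndS (p := 673) (l := 7) rfl N673 D1030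
theorem N844 : nd 844 = n1031 := ndS (p := 674) (l := 6) rfl N674 D1031
theorem N845 : nd 845 = n1032 := ndS (p := 675) (l := 6) rfl N675 D1032
theorem N846 : nd 846 = n1033 := ndS (p := 676) (l := 2) rfl N676 D1033
theorem N847 : nd 847 = n1034 := ndS (p := 677) (l := 1) rfl N677 D1034
theorem N848 : nd 848 = n1035 := ndS (p := 677) (l := 3) rfl N677 D1035
theorem N849 : nd 849 = n1036 := ndS (p := 678) (l := 2) rfl N678 D1036
theorem N850 : nd 850 = n1037 := ndS (p := 679) (l := 1) rfl N679 D1037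
theorem N851 : nd 851 = n1038 := ndS (p := 679) (l := 3) rfl N679 D1038
theorem N852 : nd 852 = n1045 := ndS (p := 682) (l := 7) rfl N682 D1045
theorem N853 : nd 853 = n1046 := ndS (p := 683) (l := 6) rfl N683 D1046
theorem N854 : nd 854 = n1047 := ndS (p := 684) (l := 2) rfl N684 D1047
theorem N855 : nd 855 = n1048 := ndS (p := 685) (l := 2) rfl N685 D1048
theorem N856 : nd 856 = n1051 := ndS (p := 687) (l := 0) rfl N687 D1051
theorem N857 : nd 857 = n1052 := ndS (p := 687) (l := 3) rfl N687 D1052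
theorem N858 : nd 858 = n1067 := ndS (p := 692) (l := 5) rfl N692 D1067
theorem N859 : nd 859 = n1068 := ndS (p := 692) (l := 6) rfl N692 D1068
theorem N860 : nd 860 = n1069 := ndS (p := 692) (l := 7) rfl N692 D1069
theorem N861 : nd 861 = n1070 := ndS (p := 693) (l := 2) rfl N693 D1070
theorem N862 : nd 862 = n1071 := ndS (p := 693) (l := 7) rfl N693 D1071
theorem N863 : nd 863 = n1072 := ndS (p := 694) (l := 6) rfl N694 D1072
theorem N864 : nd 864 = n1073 := ndS (p := 695) (l := 6) rfl N695 D1073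
theorem N865 : nd 865 = n1074 := ndS (p := 695) (l := 7) rfl N695 D1074
theorem N866 : nd 866 = n1075 := ndS (p := 696) (l := 7) rfl N696 D1075
theorem N867 : nd 867 = n1076 := ndS (p := 697) (l := 6) rfl N697 D1076
theorem N868 : nd 868 = n1077 := ndS (p := 698) (l := 6) rfl N698 D1077
theorem N869 : nd 869 = n1078 := ndS (p := 699) (l := 2) rfl N699 D1078
theorem N870 : nd 870 = n1079 := ndS (p := 700) (l := 6) rfl N700 D1079
theorem N871 : nd 871 = n1080 := ndS (p := 701) (l := 2) rfl N701 D1080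
theorem N872 : nd 872 = n1081 := ndS (p := 702) (l := 1) rfl N702 D1081
theorem N873 : nd 873 = n1082 := ndS (p := 702) (l := 3) rfl N702 D1082
theorem N874 : nd 874 = n1083 := ndS (p := 703) (l := 3) rfl N703 D1083
theorem N875 : nd 875 = n1084 := ndS (p := 704) (l := 4) rfl N704 D1084
theorem N876 : nd 876 = n1085 := ndS (p := 705) (l := 7) rfl N705 D1085
theorem N877 : nd 877 = n1086 := ndS (p := 706) (l := 6) rfl N706 D1086
theorem N878 : nd 878 = n1087 := ndS (p := 707) (l := 6) rfl N707 D1087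
theorem N879 : nd 879 = n1088 := ndS (p := 708) (l := 2) rfl N708 D1088
theorem N880 : nd 880 = n1089 := ndS (p := 709) (l := 2) rfl N709 D1089
theorem N881 : nd 881 = n1090 := ndS (p := 710) (l := 1) rfl N710 D1090
theorem N882 : nd 882 = n1091 := ndS (p := 710) (l := 3) rfl N710 D1091
theorem N883 : nd 883 = n1092 := ndS (p := 711) (l := 2) rfl N711 D1092
theorem N884 : nd 884 = n1093 := ndS (p := 712) (l := 1) rfl N712 D1093
theorem N885 : nd 885 = n1094 := ndS (p := 712) (l := 3) rfl N712 D1094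
theorem N886 : nd 886 = n1095 := ndS (p := 713) (l := 0) rfl N713 D1095
theorem N887 : nd 887 = n1096 := ndS (p := 713) (l := 3) rfl N713 D1096
theorem N888 : nd 888 = n1097 := ndS (p := 714) (l := 4) rfl N714 D1097
theorem N889 : nd 889 = n1098 := ndS (p := 715) (l := 5) rfl N715 D1098
theorem N890 : nd 890 = n1099 := ndS (p := 716) (l := 1) rfl N716 D1099
theorem N891 : nd 891 = n1100 := ndS (p := 716) (l := 3) rfl N716 D1100
theorem N892 : nd 892 = n1101 := ndS (p := 717) (l := 0) rfl N717 D1101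
theorem N893 : nd 893 = n1102 := ndS (p := 717) (l := 3) rfl N717 D1102
theorem N894 : nd 894 = n1103 := ndS (p := 720) (l := 2) rfl N720 D1103
theorem N895 : nd 895 = n1104 := ndS (p := 721) (l := 1) rfl N721 D1104
theorem N896 : nd 896 = n1105 := ndS (p := 721) (l := 3) rfl N721 D1105
theorem N897 : nd 897 = n1106 := ndS (p := 722) (l := 0) rfl N722 D1106
theorem N898 : nd 898 = n1108 := ndS (p := 723) (l := 4) rfl N723 D1108
theorem N899 : nd 899 = n1113 := ndS (p := 725) (l := 3) rfl N725 D1113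
theorem N900 : nd 900 = n1114 := ndS (p := 726) (l := 0) rfl N726 D1114
theorem N901 : nd 901 = n1115 := ndS (p := 726) (l := 3) rfl N726 D1115
theorem N902 : nd 902 = n1116 := ndS (p := 727) (l := 4) rfl N727 D1116
theorem N903 : nd 903 = n1117 := ndS (p := 728) (l := 3) rfl N728 D1117
theorem N904 : nd 904 = n1118 := ndS (p := 729) (l := 4) rfl N729 D1118
theorem N905 : nd 905 = n1124 := ndS (p := 733) (l := 2) rfl N733 D1124
theorem N906 : nd 906 = n1152 := ndS (p := 737) (l := 2) rfl N737 D1152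
theorem N907 : nd 907 = n1154 := ndS (p := 739) (l := 2) rfl N739 D1154
theorem N908 : nd 908 = n1155 := ndS (p := 740) (l := 6) rfl N740 D1155
theorem N909 : nd 909 = n1171 := ndS (p := 741) (l := 3) rfl N741 D1171
theorem N910 : nd 910 = n1172 := ndS (p := 741) (l := 7) rfl N741 D1172
theorem N911 : nd 911 = n1173 := ndS (p := 742) (l := 6) rfl N742 D1173
theorem N912 : nd 912 = n1175 := ndS (p := 744) (l := 2) rfl N744 D1175
theorem N913 : nd 913 = n1177 := ndS (p := 745) (l := 3) rfl N745 D1177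
theorem N914 : nd 914 = n1184 := ndS (p := 747) (l := 1) rfl N747 D1184
theorem N915 : nd 915 = n1185 := ndS (p := 747) (l := 3) rfl N747 D1185
theorem N916 : nd 916 = n1187 := ndS (p := 748) (l := 3) rfl N748 D1187
theorem N917 : nd 917 = n1188 := ndS (p := 749) (l := 4) rfl N749 D1188
theorem N918 : nd 918 = n1190 := ndS (p := 750) (l := 4) rfl N750 D1190
theorem N919 : nd 919 = n1199 := ndS (p := 752) (l := 4) rfl N752 D1199
theorem N920 : nd 920 = n1234 := ndS (p := 753) (l := 4) rfl N753 D1234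
theorem N921 : nd 921 = n1235 := ndS (p := 753) (l := 6) rfl N753 D1235
theorem N922 : nd 922 = n1236 := ndS (p := 753) (l := 7) rfl N753 D1236
theorem N923 : nd 923 = n1237 := ndS (p := 754) (l := 3) rfl N754 D1237
theorem N924 : nd 924 = n1238 := ndS (p := 754) (l := 5) rfl N754 D1238
theorem N925 : nd 925 = n1239 := ndS (p := 754) (l := 6) rfl N754 D1239
theorem N926 : nd 926 = n1240 := ndS (p := 754) (l := 7) rfl N754 D1240
theorem N927 : nd 927 = n1241 := ndS (p := 755) (l := 7) rfl N755 D1241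
theorem N928 : nd 928 = n1242 := ndS (p := 756) (l := 6) rfl N756 D1242
theorem N929 : nd 929 = n1243 := ndS (p := 757) (l := 7) rfl N757 D1243
theorem N930 : nd 930 = n1244 := ndS (p := 758) (l := 6) rfl N758 D1244
theorem N931 : nd 931 = n1245 := ndS (p := 759) (l := 2) rfl N759 D1245
theorem N932 : nd 932 = n1246 := ndS (p := 760) (l := 1) rfl N760 D1246
theorem N933 : nd 933 = n1247 := ndS (p := 760) (l := 3) rfl N760 D1247
theorem N934 : nd 934 = n1248 := ndS (p := 761) (l := 7) rfl N761 D1248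
theorem N935 : nd 935 = n1249 := ndS (p := 762) (l := 7) rfl N762 D1249
theorem N936 : nd 936 = n1250 := ndS (p := 763) (l := 7) rfl N763 D1250
theorem N937 : nd 937 = n1251 := ndS (p := 764) (l := 6) rfl N764 D1251
theorem N938 : nd 938 = n1252 := ndS (p := 765) (l := 6) rfl N765 D1252
theorem N939 : nd 939 = n1253 := ndS (p := 766) (l := 2) rfl N766 D1253
theorem N940 : nd 940 = n1254 := ndS (p := 767) (l := 6) rfl N767 D1254
theorem N941 : nd 941 = n1255 := ndS (p := 768) (l := 2) rfl N768 D1255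
theorem N942 : nd 942 = n1256 := ndS (p := 769) (l := 1) rfl N769 D1256
theorem N943 : nd 943 = n1257 := ndS (p := 769) (l := 3) rfl N769 D1257
theorem N944 : nd 944 = n1258 := ndS (p := 770) (l := 4) rfl N770 D1258
theorem N945 : nd 945 = n1259 := ndS (p := 771) (l := 2) rfl N771 D1259
theorem N946 : nd 946 = n1260 := ndS (p := 772) (l := 1) rfl N772 D1260
theorem N947 : nd 947 = n1261 := ndS (p := 772) (l := 3) rfl N772 D1261
theorem N948 : nd 948 = n1262 := ndS (p := 773) (l := 0) rfl N773 D1262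
theorem N949 : nd 949 = n1263 := ndS (p := 774) (l := 3) rfl N774 D1263
theorem N950 : nd 950 = n1264 := ndS (p := 774) (l := 5) rfl N774 D1264
theorem N951 : nd 951 = n1265 := ndS (p := 774) (l := 6) rfl N774 D1265
theorem N952 : nd 952 = n1266 := ndS (p := 774) (l := 7) rfl N774 D1266
theorem N953 : nd 953 = n1267 := ndS (p := 775) (l := 2) rfl N775 D1267
theorem N954 : nd 954 = n1268 := ndS (p := 775) (l := 7) rfl N775 D1268
theorem N955 : nd 955 = n1269 := ndS (p := 776) (l := 6) rfl N776 D1269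
theorem N956 : nd 956 = n1270 := ndS (p := 777) (l := 7) rfl N777 D1270
theorem N957 : nd 957 = n1271 := ndS (p := 778) (l := 7) rfl N778 D1271
theorem N958 : nd 958 = n1272 := ndS (p := 779) (l := 7) rfl N779 D1272
theorem N959 : nd 959 = n1273 := ndS (p := 780) (l := 6) rfl N780 D1273
theorem N960 : nd 960 = n1274 := ndS (p := 781) (l := 6) rfl N781 D1274
theorem N961 : nd 961 = n1275 := ndS (p := 782) (l := 2) rfl N782 D1275
theorem N962 : nd 962 = n1276 := ndS (p := 783) (l := 6) rfl N783 D1276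
theorem N963 : nd 963 = n1277 := ndS (p := 784) (l := 2) rfl N784 D1277
theorem N964 : nd 964 = n1278 := ndS (p := 785) (l := 1) rfl N785 D1278
theorem N965 : nd 965 = n1279 := ndS (p := 785) (l := 3) rfl N785 D1279
theorem N966 : nd 966 = n1280 := ndS (p := 786) (l := 3) rfl N786 D1280
theorem N967 : nd 967 = n1281 := ndS (p := 787) (l := 4) rfl N787 D1281
theorem N968 : nd 968 = n1282 := ndS (p := 788) (l := 7) rfl N788 D1282
theorem N969 : nd 969 = n1283 := ndS (p := 789) (l := 7) rfl N789 D1283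
theorem N970 : nd 970 = n1284 := ndS (p := 790) (l := 6) rfl N790 D1284
theorem N971 : nd 971 = n1285 := ndS (p := 791) (l := 7) rfl N791 D1285
theorem N972 : nd 972 = n1286 := ndS (p := 792) (l := 6) rfl N792 D1286
theorem N973 : nd 973 = n1287 := ndS (p := 793) (l := 6) rfl N793 D1287
theorem N974 : nd 974 = n1288 := ndS (p := 794) (l := 2) rfl N794 D1288
theorem N975 : nd 975 = n1289 := ndS (p := 795) (l := 2) rfl N795 D1289
theorem N976 : nd 976 = n1290 := ndS (p := 796) (l := 1) rfl N796 D1290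
theorem N977 : nd 977 = n1291 := ndS (p := 796) (l := 3) rfl N796 D1291
theorem N978 : nd 978 = n1292 := ndS (p := 797) (l := 2) rfl N797 D1292
theorem N979 : nd 979 = n1293 := ndS (p := 798) (l := 1) rfl N798 D1293
theorem N980 : nd 980 = n1294 := ndS (p := 798) (l := 3) rfl N798 D1294
theorem N981 : nd 981 = n1295 := ndS (p := 799) (l := 0) rfl N799 D1295
theorem N982 : nd 982 = n1296 := ndS (p := 799) (l := 3) rfl N799 D1296
theorem N983 : nd 983 = n1297 := ndS (p := 800) (l := 4) rfl N800 D1297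
theorem N984 : nd 984 = n1298 := ndS (p := 801) (l := 5) rfl N801 D1298
theorem N985 : nd 985 = n1299 := ndS (p := 802) (l := 1) rfl N802 D1299
theorem N986 : nd 986 = n1300 := ndS (p := 802) (l := 3) rfl N802 D1300
theorem N987 : nd 987 = n1301 := ndS (p := 803) (l := 0) rfl N803 D1301
theorem N988 : nd 988 = n1302 := ndS (p := 803) (l := 3) rfl N803 D1302
theorem N989 : nd 989 = n1303 := ndS (p := 806) (l := 2) rfl N806 D1303
theorem N990 : nd 990 = n1304 := ndS (p := 806) (l := 5) rfl N806 D1304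
theorem N991 : nd 991 = n1305 := ndS (p := 806) (l := 7) rfl N806 D1305
theorem N992 : nd 992 = n1306 := ndS (p := 807) (l := 7) rfl N807 D1306
theorem N993 : nd 993 = n1307 := ndS (p := 808) (l := 6) rfl N808 D1307
theorem N994 : nd 994 = n1308 := ndS (p := 809) (l := 2) rfl N809 D1308
theorem N995 : nd 995 = n1309 := ndS (p := 810) (l := 7) rfl N810 D1309
theorem N996 : nd 996 = n1310 := ndS (p := 811) (l := 6) rfl N811 D1310
theorem N997 : nd 997 = n1311 := ndS (p := 812) (l := 6) rfl N812 D1311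
theorem N998 : nd 998 = n1312 := ndS (p := 813) (l := 2) rfl N813 D1312
theorem N999 : nd 999 = n1313 := ndS (p := 814) (l := 1) rfl N814 D1313
theorem N1000 : nd 1000 = n1314 := ndS (p := 814) (l := 3) rfl N814 D1314
theorem N1001 : nd 1001 = n1315 := ndS (p := 815) (l := 2) rfl N815 D1315
theorem N1002 : nd 1002 = n1316 := ndS (p := 816) (l := 1) rfl N816 D1316
theorem N1003 : nd 1003 = n1317 := ndS (p := 816) (l := 3) rfl N816 D1317
theorem N1004 : nd 1004 = n1318 := ndS (p := 817) (l := 0) rfl N817 D1318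
theorem N1005 : nd 1005 = n1320 := ndS (p := 818) (l := 4) rfl N818 D1320
theorem N1006 : nd 1006 = n1324 := ndS (p := 820) (l := 7) rfl N820 D1324
theorem N1007 : nd 1007 = n1325 := ndS (p := 821) (l := 6) rfl N821 D1325
theorem N1008 : nd 1008 = n1326 := ndS (p := 822) (l := 2) rfl N822 D1326
theorem N1009 : nd 1009 = n1327 := ndS (p := 823) (l := 2) rfl N823 D1327
theorem N1010 : nd 1010 = n1328 := ndS (p := 824) (l := 1) rfl N824 D1328
theorem N1011 : nd 1011 = n1329 := ndS (p := 824) (l := 3) rfl N824 D1329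
theorem N1012 : nd 1012 = n1330 := ndS (p := 825) (l := 0) rfl N825 D1330
theorem N1013 : nd 1013 = n1331 := ndS (p := 825) (l := 3) rfl N825 D1331
theorem N1014 : nd 1014 = n1332 := ndS (p := 826) (l := 4) rfl N826 D1332
theorem N1015 : nd 1015 = n1334 := ndS (p := 827) (l := 3) rfl N827 D1334
theorem N1016 : nd 1016 = n1335 := ndS (p := 828) (l := 0) rfl N828 D1335
theorem N1017 : nd 1017 = n1336 := ndS (p := 828) (l := 3) rfl N828 D1336
theorem N1018 : nd 1018 = n1337 := ndS (p := 829) (l := 4) rfl N829 D1337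
theorem N1019 : nd 1019 = n1338 := ndS (p := 830) (l := 3) rfl N830 D1338
theorem N1020 : nd 1020 = n1339 := ndS (p := 831) (l := 4) rfl N831 D1339
theorem N1021 : nd 1021 = n1345 := ndS (p := 835) (l := 2) rfl N835 D1345
theorem N1022 : nd 1022 = n1346 := ndS (p := 836) (l := 5) rfl N836 D1346
theorem N1023 : nd 1023 = n1347 := ndS (p := 836) (l := 6) rfl N836 D1347
theorem N1024 : nd 1024 = n1348 := ndS (p := 836) (l := 7) rfl N836 D1348
theorem N1025 : nd 1025 = n1349 := ndS (p := 837) (l := 4) rfl N837 D1349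
theorem N1026 : nd 1026 = n1350 := ndS (p := 837) (l := 7) rfl N837 D1350
theorem N1027 : nd 1027 = n1351 := ndS (p := 838) (l := 6) rfl N838 D1351
theorem N1028 : nd 1028 = n1352 := ndS (p := 839) (l := 6) rfl N839 D1352
theorem N1029 : nd 1029 = n1353 := ndS (p := 840) (l := 2) rfl N840 D1353
theorem N1030 : nd 1030 = n1354 := ndS (p := 841) (l := 1) rfl N841 D1354
theorem N1031 : nd 1031 = n1355 := ndS (p := 841) (l := 3) rfl N841 D1355
theorem N1032 : nd 1032 = n1356 := ndS (p := 842) (l := 7) rfl N842 D1356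
theorem N1033 : nd 1033 = n1357 := ndS (p := 843) (l := 6) rfl N843 D1357
theorem N1034 : nd 1034 = n1358 := ndS (p := 844) (l := 2) rfl N844 D1358
theorem N1035 : nd 1035 = n1359 := ndS (p := 845) (l := 2) rfl N845 D1359
theorem N1036 : nd 1036 = n1360 := ndS (p := 846) (l := 1) rfl N846 D1360
theorem N1037 : nd 1037 = n1361 := ndS (p := 846) (l := 3) rfl N846 D1361
theorem N1038 : nd 1038 = n1377 := ndS (p := 852) (l := 6) rfl N852 D1377
theorem N1039 : nd 1039 = n1378 := ndS (p := 853) (l := 2) rfl N853 D1378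
theorem N1040 : nd 1040 = n1387 := ndS (p := 857) (l := 2) rfl N857 D1387
theorem N1041 : nd 1041 = n1404 := ndS (p := 858) (l := 7) rfl N858 D1404
theorem N1042 : nd 1042 = n1405 := ndS (p := 859) (l := 7) rfl N859 D1405
theorem N1043 : nd 1043 = n1406 := ndS (p := 860) (l := 6) rfl N860 D1406
theorem N1044 : nd 1044 = n1407 := ndS (p := 861) (l := 7) rfl N861 D1407
theorem N1045 : nd 1045 = n1408 := ndS (p := 862) (l := 6) rfl N862 D1408
theorem N1046 : nd 1046 = n1409 := ndS (p := 863) (l := 2) rfl N863 D1409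
theorem N1047 : nd 1047 = n1410 := ndS (p := 864) (l := 7) rfl N864 D1410
theorem N1048 : nd 1048 = n1411 := ndS (p := 865) (l := 6) rfl N865 D1411
theorem N1049 : nd 1049 = n1412 := ndS (p := 866) (l := 6) rfl N866 D1412
theorem N1050 : nd 1050 = n1413 := ndS (p := 867) (l := 2) rfl N867 D1413
theorem N1051 : nd 1051 = n1414 := ndS (p := 868) (l := 2) rfl N868 D1414
theorem N1052 : nd 1052 = n1415 := ndS (p := 869) (l := 1) rfl N869 D1415
theorem N1053 : nd 1053 = n1416 := ndS (p := 869) (l := 3) rfl N869 D1416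
theorem N1054 : nd 1054 = n1417 := ndS (p := 870) (l := 2) rfl N870 D1417
theorem N1055 : nd 1055 = n1418 := ndS (p := 871) (l := 1) rfl N871 D1418
theorem N1056 : nd 1056 = n1419 := ndS (p := 871) (l := 3) rfl N871 D1419
theorem N1057 : nd 1057 = n1420 := ndS (p := 872) (l := 0) rfl N872 D1420
theorem N1058 : nd 1058 = n1421 := ndS (p := 872) (l := 3) rfl N872 D1421
theorem N1059 : nd 1059 = n1422 := ndS (p := 873) (l := 4) rfl N873 D1422
theorem N1060 : nd 1060 = n1423 := ndS (p := 874) (l := 2) rfl N874 D1423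
theorem N1061 : nd 1061 = n1426 := ndS (p := 876) (l := 6) rfl N876 D1426
theorem N1062 : nd 1062 = n1427 := ndS (p := 877) (l := 2) rfl N877 D1427
theorem N1063 : nd 1063 = n1428 := ndS (p := 878) (l := 2) rfl N878 D1428
theorem N1064 : nd 1064 = n1429 := ndS (p := 879) (l := 1) rfl N879 D1429
theorem N1065 : nd 1065 = n1430 := ndS (p := 879) (l := 3) rfl N879 D1430
theorem N1066 : nd 1066 = n1431 := ndS (p := 880) (l := 1) rfl N880 D1431
theorem N1067 : nd 1067 = n1432 := ndS (p := 880) (l := 3) rfl N880 D1432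
theorem N1068 : nd 1068 = n1433 := ndS (p := 881) (l := 0) rfl N881 D1433
theorem N1069 : nd 1069 = n1434 := ndS (p := 881) (l := 3) rfl N881 D1434
theorem N1070 : nd 1070 = n1435 := ndS (p := 882) (l := 4) rfl N882 D1435
theorem N1071 : nd 1071 = n1436 := ndS (p := 883) (l := 1) rfl N883 D1436
theorem N1072 : nd 1072 = n1437 := ndS (p := 883) (l := 3) rfl N883 D1437
theorem N1073 : nd 1073 = n1438 := ndS (p := 884) (l := 0) rfl N884 D1438
theorem N1074 : nd 1074 = n1439 := ndS (p := 884) (l := 3) rfl N884 D1439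
theorem N1075 : nd 1075 = n1440 := ndS (p := 885) (l := 4) rfl N885 D1440
theorem N1076 : nd 1076 = n1441 := ndS (p := 886) (l := 3) rfl N886 D1441
theorem N1077 : nd 1077 = n1442 := ndS (p := 887) (l := 4) rfl N887 D1442
theorem N1078 : nd 1078 = n1443 := ndS (p := 888) (l := 5) rfl N888 D1443
theorem N1079 : nd 1079 = n1444 := ndS (p := 890) (l := 0) rfl N890 D1444
theorem N1080 : nd 1080 = n1445 := ndS (p := 890) (l := 3) rfl N890 D1445
theorem N1081 : nd 1081 = n1447 := ndS (p := 892) (l := 3) rfl N892 D1447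
theorem N1082 : nd 1082 = n1448 := ndS (p := 893) (l := 2) rfl N893 D1448
theorem N1083 : nd 1083 = n1449 := ndS (p := 894) (l := 1) rfl N894 D1449
theorem N1084 : nd 1084 = n1450 := ndS (p := 894) (l := 3) rfl N894 D1450
theorem N1085 : nd 1085 = n1451 := ndS (p := 895) (l := 0) rfl N895 D1451
theorem N1086 : nd 1086 = n1452 := ndS (p := 895) (l := 3) rfl N895 D1452
theorem N1087 : nd 1087 = n1453 := ndS (p := 896) (l := 4) rfl N896 D1453
theorem N1088 : nd 1088 = n1464 := ndS (p := 900) (l := 3) rfl N900 D1464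
theorem N1089 : nd 1089 = n1465 := ndS (p := 901) (l := 2) rfl N901 D1465
theorem N1090 : nd 1090 = n1466 := ndS (p := 901) (l := 4) rfl N901 D1466
theorem N1091 : nd 1091 = n1474 := ndS (p := 905) (l := 6) rfl N905 D1474
theorem N1092 : nd 1092 = n1511 := ndS (p := 906) (l := 6) rfl N906 D1511
theorem N1093 : nd 1093 = n1512 := ndS (p := 907) (l := 1) rfl N907 D1512
theorem N1094 : nd 1094 = n1513 := ndS (p := 907) (l := 6) rfl N907 D1513
theorem N1095 : nd 1095 = n1514 := ndS (p := 908) (l := 7) rfl N908 D1514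
theorem N1096 : nd 1096 = n1532 := ndS (p := 909) (l := 7) rfl N909 D1532
theorem N1097 : nd 1097 = n1538 := ndS (p := 912) (l := 3) rfl N912 D1538
theorem N1098 : nd 1098 = n1550 := ndS (p := 914) (l := 3) rfl N914 D1550
theorem N1099 : nd 1099 = n1551 := ndS (p := 915) (l := 4) rfl N915 D1551
theorem N1100 : nd 1100 = n1553 := ndS (p := 916) (l := 2) rfl N916 D1553
theorem N1101 : nd 1101 = n1554 := ndS (p := 916) (l := 4) rfl N916 D1554
theorem N1102 : nd 1102 = n1608 := ndS (p := 920) (l := 7) rfl N920 D1608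
theorem N1103 : nd 1103 = n1609 := ndS (p := 921) (l := 7) rfl N921 D1609
theorem N1104 : nd 1104 = n1610 := ndS (p := 922) (l := 6) rfl N922 D1610
theorem N1105 : nd 1105 = n1611 := ndS (p := 923) (l := 7) rfl N923 D1611
theorem N1106 : nd 1106 = n1612 := ndS (p := 924) (l := 7) rfl N924 D1612
theorem N1107 : nd 1107 = n1613 := ndS (p := 925) (l := 7) rfl N925 D1613
theorem N1108 : nd 1108 = n1614 := ndS (p := 926) (l := 6) rfl N926 D1614
theorem N1109 : nd 1109 = n1615 := ndS (p := 927) (l := 6) rfl N927 D1615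
theorem N1110 : nd 1110 = n1616 := ndS (p := 928) (l := 2) rfl N928 D1616
theorem N1111 : nd 1111 = n1617 := ndS (p := 929) (l := 6) rfl N929 D1617
theorem N1112 : nd 1112 = n1618 := ndS (p := 930) (l := 2) rfl N930 D1618
theorem N1113 : nd 1113 = n1619 := ndS (p := 931) (l := 1) rfl N931 D1619
theorem N1114 : nd 1114 = n1620 := ndS (p := 931) (l := 3) rfl N931 D1620
theorem N1115 : nd 1115 = n1621 := ndS (p := 932) (l := 3) rfl N932 D1621
theorem N1116 : nd 1116 = n1622 := ndS (p := 933) (l := 4) rfl N933 D1622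
theorem N1117 : nd 1117 = n1623 := ndS (p := 934) (l := 6) rfl N934 D1623
theorem N1118 : nd 1118 = n1624 := ndS (p := 935) (l := 6) rfl N935 D1624
theorem N1119 : nd 1119 = n1625 := ndS (p := 936) (l := 6) rfl N936 D1625
theorem N1120 : nd 1120 = n1626 := ndS (p := 937) (l := 2) rfl N937 D1626
theorem N1121 : nd 1121 = n1627 := ndS (p := 938) (l := 2) rfl N938 D1627
theorem N1122 : nd 1122 = n1628 := ndS (p := 939) (l := 1) rfl N939 D1628
theorem N1123 : nd 1123 = n1629 := ndS (p := 939) (l := 3) rfl N939 D1629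
theorem N1124 : nd 1124 = n1630 := ndS (p := 940) (l := 2) rfl N940 D1630
theorem N1125 : nd 1125 = n1631 := ndS (p := 941) (l := 1) rfl N941 D1631
theorem N1126 : nd 1126 = n1632 := ndS (p := 941) (l := 3) rfl N941 D1632
theorem N1127 : nd 1127 = n1633 := ndS (p := 942) (l := 0) rfl N942 D1633
theorem N1128 : nd 1128 = n1634 := ndS (p := 942) (l := 3) rfl N942 D1634
theorem N1129 : nd 1129 = n1635 := ndS (p := 943) (l := 4) rfl N943 D1635
theorem N1130 : nd 1130 = n1636 := ndS (p := 944) (l := 5) rfl N944 D1636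
theorem N1131 : nd 1131 = n1637 := ndS (p := 945) (l := 1) rfl N945 D1637
theorem N1132 : nd 1132 = n1638 := ndS (p := 945) (l := 3) rfl N945 D1638
theorem N1133 : nd 1133 = n1639 := ndS (p := 946) (l := 0) rfl N946 D1639
theorem N1134 : nd 1134 = n1640 := ndS (p := 946) (l := 3) rfl N946 D1640
theorem N1135 : nd 1135 = n1641 := ndS (p := 949) (l := 7) rfl N949 D1641
theorem N1136 : nd 1136 = n1642 := ndS (p := 950) (l := 7) rfl N950 D1642
theorem N1137 : nd 1137 = n1643 := ndS (p := 951) (l := 7) rfl N951 D1643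
theorem N1138 : nd 1138 = n1644 := ndS (p := 952) (l := 6) rfl N952 D1644
theorem N1139 : nd 1139 = n1645 := ndS (p := 953) (l := 7) rfl N953 D1645
theorem N1140 : nd 1140 = n1646 := ndS (p := 954) (l := 6) rfl N954 D1646
theorem N1141 : nd 1141 = n1647 := ndS (p := 955) (l := 2) rfl N955 D1647
theorem N1142 : nd 1142 = n1648 := ndS (p := 956) (l := 6) rfl N956 D1648
theorem N1143 : nd 1143 = n1649 := ndS (p := 957) (l := 6) rfl N957 D1649
theorem N1144 : nd 1144 = n1650 := ndS (p := 958) (l := 6) rfl N958 D1650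
theorem N1145 : nd 1145 = n1651 := ndS (p := 959) (l := 2) rfl N959 D1651
theorem N1146 : nd 1146 = n1652 := ndS (p := 960) (l := 2) rfl N960 D1652
theorem N1147 : nd 1147 = n1653 := ndS (p := 961) (l := 1) rfl N961 D1653
theorem N1148 : nd 1148 = n1654 := ndS (p := 961) (l := 3) rfl N961 D1654
theorem N1149 : nd 1149 = n1655 := ndS (p := 962) (l := 2) rfl N962 D1655
theorem N1150 : nd 1150 = n1656 := ndS (p := 963) (l := 1) rfl N963 D1656
theorem N1151 : nd 1151 = n1657 := ndS (p := 963) (l := 3) rfl N963 D1657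
theorem N1152 : nd 1152 = n1658 := ndS (p := 964) (l := 0) rfl N964 D1658
theorem N1153 : nd 1153 = n1659 := ndS (p := 964) (l := 3) rfl N964 D1659
theorem N1154 : nd 1154 = n1660 := ndS (p := 965) (l := 4) rfl N965 D1660
theorem N1155 : nd 1155 = n1661 := ndS (p := 966) (l := 2) rfl N966 D1661
theorem N1156 : nd 1156 = n1664 := ndS (p := 968) (l := 6) rfl N968 D1664
theorem N1157 : nd 1157 = n1665 := ndS (p := 969) (l := 6) rfl N969 D1665
theorem N1158 : nd 1158 = n1666 := ndS (p := 970) (l := 2) rfl N970 D1666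
theorem N1159 : nd 1159 = n1667 := ndS (p := 971) (l := 6) rfl N971 D1667
theorem N1160 : nd 1160 = n1668 := ndS (p := 972) (l := 2) rfl N972 D1668
theorem N1161 : nd 1161 = n1669 := ndS (p := 973) (l := 2) rfl N973 D1669
theorem N1162 : nd 1162 = n1670 := ndS (p := 974) (l := 1) rfl N974 D1670
theorem N1163 : nd 1163 = n1671 := ndS (p := 974) (l := 3) rfl N974 D1671
theorem N1164 : nd 1164 = n1672 := ndS (p := 975) (l := 1) rfl N975 D1672
theorem N1165 : nd 1165 = n1673 := ndS (p := 975) (l := 3) rfl N975 D1673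
theorem N1166 : nd 1166 = n1674 := ndS (p := 976) (l := 0) rfl N976 D1674
theorem N1167 : nd 1167 = n1675 := ndS (p := 976) (l := 3) rfl N976 D1675
theorem N1168 : nd 1168 = n1676 := ndS (p := 977) (l := 4) rfl N977 D1676
theorem N1169 : nd 1169 = n1677 := ndS (p := 978) (l := 1) rfl N978 D1677
theorem N1170 : nd 1170 = n1678 := ndS (p := 978) (l := 3) rfl N978 D1678
theorem N1171 : nd 1171 = n1679 := ndS (p := 979) (l := 0) rfl N979 D1679
theorem N1172 : nd 1172 = n1680 := ndS (p := 979) (l := 3) rfl N979 D1680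
theorem N1173 : nd 1173 = n1681 := ndS (p := 980) (l := 4) rfl N980 D1681
theorem N1174 : nd 1174 = n1682 := ndS (p := 981) (l := 3) rfl N981 D1682
theorem N1175 : nd 1175 = n1683 := ndS (p := 982) (l := 4) rfl N982 D1683
theorem N1176 : nd 1176 = n1684 := ndS (p := 983) (l := 5) rfl N983 D1684
theorem N1177 : nd 1177 = n1685 := ndS (p := 985) (l := 0) rfl N985 D1685
theorem N1178 : nd 1178 = n1686 := ndS (p := 985) (l := 3) rfl N985 D1686
theorem N1179 : nd 1179 = n1688 := ndS (p := 987) (l := 3) rfl N987 D1688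
theorem N1180 : nd 1180 = n1689 := ndS (p := 988) (l := 2) rfl N988 D1689
theorem N1181 : nd 1181 = n1690 := ndS (p := 989) (l := 7) rfl N989 D1690
theorem N1182 : nd 1182 = n1691 := ndS (p := 990) (l := 7) rfl N990 D1691
theorem N1183 : nd 1183 = n1692 := ndS (p := 991) (l := 6) rfl N991 D1692
theorem N1184 : nd 1184 = n1693 := ndS (p := 992) (l := 6) rfl N992 D1693
theorem N1185 : nd 1185 = n1694 := ndS (p := 993) (l := 2) rfl N993 D1694
theorem N1186 : nd 1186 = n1695 := ndS (p := 994) (l := 1) rfl N994 D1695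
theorem N1187 : nd 1187 = n1696 := ndS (p := 994) (l := 3) rfl N994 D1696
theorem N1188 : nd 1188 = n1697 := ndS (p := 995) (l := 6) rfl N995 D1697
theorem N1189 : nd 1189 = n1698 := ndS (p := 996) (l := 2) rfl N996 D1698
theorem N1190 : nd 1190 = n1699 := ndS (p := 997) (l := 2) rfl N997 D1699
theorem N1191 : nd 1191 = n1700 := ndS (p := 998) (l := 1) rfl N998 D1700
theorem N1192 : nd 1192 = n1701 := ndS (p := 998) (l := 3) rfl N998 D1701
theorem N1193 : nd 1193 = n1702 := ndS (p := 999) (l := 0) rfl N999 D1702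
theorem N1194 : nd 1194 = n1704 := ndS (p := 1000) (l := 4) rfl N1000 D1704
theorem N1195 : nd 1195 = n1705 := ndS (p := 1001) (l := 1) rfl N1001 D1705
theorem N1196 : nd 1196 = n1706 := ndS (p := 1001) (l := 3) rfl N1001 D1706
theorem N1197 : nd 1197 = n1707 := ndS (p := 1002) (l := 0) rfl N1002 D1707
theorem N1198 : nd 1198 = n1708 := ndS (p := 1002) (l := 3) rfl N1002 D1708
theorem N1199 : nd 1199 = n1709 := ndS (p := 1003) (l := 4) rfl N1003 D1709
theorem N1200 : nd 1200 = n1717 := ndS (p := 1006) (l := 6) rfl N1006 D1717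
theorem N1201 : nd 1201 = n1718 := ndS (p := 1007) (l := 2) rfl N1007 D1718
theorem N1202 : nd 1202 = n1719 := ndS (p := 1008) (l := 1) rfl N1008 D1719
theorem N1203 : nd 1203 = n1720 := ndS (p := 1008) (l := 3) rfl N1008 D1720
theorem N1204 : nd 1204 = n1722 := ndS (p := 1009) (l := 3) rfl N1009 D1722
theorem N1205 : nd 1205 = n1723 := ndS (p := 1010) (l := 0) rfl N1010 D1723
theorem N1206 : nd 1206 = n1724 := ndS (p := 1010) (l := 3) rfl N1010 D1724
theorem N1207 : nd 1207 = n1725 := ndS (p := 1011) (l := 4) rfl N1011 D1725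
theorem N1208 : nd 1208 = n1726 := ndS (p := 1012) (l := 3) rfl N1012 D1726
theorem N1209 : nd 1209 = n1727 := ndS (p := 1013) (l := 2) rfl N1013 D1727
theorem N1210 : nd 1210 = n1728 := ndS (p := 1013) (l := 4) rfl N1013 D1728
theorem N1211 : nd 1211 = n1733 := ndS (p := 1016) (l := 3) rfl N1016 D1733
theorem N1212 : nd 1212 = n1734 := ndS (p := 1017) (l := 2) rfl N1017 D1734
theorem N1213 : nd 1213 = n1735 := ndS (p := 1017) (l := 4) rfl N1017 D1735
theorem N1214 : nd 1214 = n1743 := ndS (p := 1021) (l := 6) rfl N1021 D1743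
theorem N1215 : nd 1215 = n1744 := ndS (p := 1022) (l := 7) rfl N1022 D1744
theorem N1216 : nd 1216 = n1747 := ndS (p := 1025) (l := 7) rfl N1025 D1747
theorem N1217 : nd 1217 = n1748 := ndS (p := 1026) (l := 6) rfl N1026 D1748
theorem N1218 : nd 1218 = n1750 := ndS (p := 1028) (l := 2) rfl N1028 D1750
theorem N1219 : nd 1219 = n1751 := ndS (p := 1029) (l := 1) rfl N1029 D1751
theorem N1220 : nd 1220 = n1753 := ndS (p := 1030) (l := 0) rfl N1030 D1753
theorem N1221 : nd 1221 = n1756 := ndS (p := 1032) (l := 6) rfl N1032 D1756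
theorem N1222 : nd 1222 = n1757 := ndS (p := 1033) (l := 2) rfl N1033 D1757
theorem N1223 : nd 1223 = n1785 := ndS (p := 1038) (l := 2) rfl N1038 D1785
theorem N1224 : nd 1224 = n1819 := ndS (p := 1041) (l := 6) rfl N1041 D1819
theorem N1225 : nd 1225 = n1820 := ndS (p := 1042) (l := 6) rfl N1042 D1820
theorem N1226 : nd 1226 = n1821 := ndS (p := 1043) (l := 2) rfl N1043 D1821
theorem N1227 : nd 1227 = n1822 := ndS (p := 1044) (l := 6) rfl N1044 D1822
theorem N1228 : nd 1228 = n1823 := ndS (p := 1045) (l := 2) rfl N1045 D1823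
theorem N1229 : nd 1229 = n1824 := ndS (p := 1046) (l := 1) rfl N1046 D1824
theorem N1230 : nd 1230 = n1826 := ndS (p := 1047) (l := 6) rfl N1047 D1826
theorem N1231 : nd 1231 = n1827 := ndS (p := 1048) (l := 2) rfl N1048 D1827
theorem N1232 : nd 1232 = n1828 := ndS (p := 1049) (l := 2) rfl N1049 D1828
theorem N1233 : nd 1233 = n1829 := ndS (p := 1050) (l := 1) rfl N1050 D1829
theorem N1234 : nd 1234 = n1830 := ndS (p := 1050) (l := 3) rfl N1050 D1830
theorem N1235 : nd 1235 = n1831 := ndS (p := 1051) (l := 1) rfl N1051 D1831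
theorem N1236 : nd 1236 = n1832 := ndS (p := 1051) (l := 3) rfl N1051 D1832
theorem N1237 : nd 1237 = n1833 := ndS (p := 1052) (l := 0) rfl N1052 D1833
theorem N1238 : nd 1238 = n1834 := ndS (p := 1052) (l := 3) rfl N1052 D1834
theorem N1239 : nd 1239 = n1835 := ndS (p := 1053) (l := 4) rfl N1053 D1835
theorem N1240 : nd 1240 = n1836 := ndS (p := 1054) (l := 1) rfl N1054 D1836
theorem N1241 : nd 1241 = n1837 := ndS (p := 1054) (l := 3) rfl N1054 D1837
theorem N1242 : nd 1242 = n1838 := ndS (p := 1055) (l := 0) rfl N1055 D1838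
theorem N1243 : nd 1243 = n1839 := ndS (p := 1055) (l := 3) rfl N1055 D1839
theorem N1244 : nd 1244 = n1840 := ndS (p := 1056) (l := 4) rfl N1056 D1840
theorem N1245 : nd 1245 = n1841 := ndS (p := 1057) (l := 3) rfl N1057 D1841
theorem N1246 : nd 1246 = n1842 := ndS (p := 1058) (l := 2) rfl N1058 D1842
theorem N1247 : nd 1247 = n1843 := ndS (p := 1058) (l := 4) rfl N1058 D1843
theorem N1248 : nd 1248 = n1848 := ndS (p := 1061) (l := 2) rfl N1061 D1848
theorem N1249 : nd 1249 = n1849 := ndS (p := 1062) (l := 1) rfl N1062 D1849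
theorem N1250 : nd 1250 = n1850 := ndS (p := 1062) (l := 3) rfl N1062 D1850
theorem N1251 : nd 1251 = n1851 := ndS (p := 1063) (l := 1) rfl N1063 D1851
theorem N1252 : nd 1252 = n1852 := ndS (p := 1063) (l := 3) rfl N1063 D1852
theorem N1253 : nd 1253 = n1853 := ndS (p := 1064) (l := 0) rfl N1064 D1853
theorem N1254 : nd 1254 = n1854 := ndS (p := 1064) (l := 3) rfl N1064 D1854
theorem N1255 : nd 1255 = n1855 := ndS (p := 1065) (l := 4) rfl N1065 D1855
theorem N1256 : nd 1256 = n1856 := ndS (p := 1066) (l := 0) rfl N1066 D1856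
theorem N1257 : nd 1257 = n1857 := ndS (p := 1066) (l := 3) rfl N1066 D1857
theorem N1258 : nd 1258 = n1858 := ndS (p := 1067) (l := 4) rfl N1067 D1858
theorem N1259 : nd 1259 = n1859 := ndS (p := 1068) (l := 3) rfl N1068 D1859
theorem N1260 : nd 1260 = n1860 := ndS (p := 1069) (l := 2) rfl N1069 D1860
theorem N1261 : nd 1261 = n1861 := ndS (p := 1069) (l := 4) rfl N1069 D1861
theorem N1262 : nd 1262 = n1862 := ndS (p := 1070) (l := 5) rfl N1070 D1862
theorem N1263 : nd 1263 = n1863 := ndS (p := 1071) (l := 0) rfl N1071 D1863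
theorem N1264 : nd 1264 = n1864 := ndS (p := 1071) (l := 3) rfl N1071 D1864
theorem N1265 : nd 1265 = n1865 := ndS (p := 1072) (l := 4) rfl N1072 D1865
theorem N1266 : nd 1266 = n1866 := ndS (p := 1073) (l := 3) rfl N1073 D1866
theorem N1267 : nd 1267 = n1867 := ndS (p := 1074) (l := 2) rfl N1074 D1867
theorem N1268 : nd 1268 = n1868 := ndS (p := 1074) (l := 4) rfl N1074 D1868
theorem N1269 : nd 1269 = n1869 := ndS (p := 1075) (l := 5) rfl N1075 D1869
theorem N1270 : nd 1270 = n1870 := ndS (p := 1076) (l := 4) rfl N1076 D1870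
theorem N1271 : nd 1271 = n1871 := ndS (p := 1077) (l := 5) rfl N1077 D1871
theorem N1272 : nd 1272 = n1872 := ndS (p := 1079) (l := 3) rfl N1079 D1872
theorem N1273 : nd 1273 = n1875 := ndS (p := 1081) (l := 2) rfl N1081 D1875
theorem N1274 : nd 1274 = n1876 := ndS (p := 1082) (l := 6) rfl N1082 D1876
theorem N1275 : nd 1275 = n1878 := ndS (p := 1083) (l := 3) rfl N1083 D1878
theorem N1276 : nd 1276 = n1879 := ndS (p := 1084) (l := 4) rfl N1084 D1879
theorem N1277 : nd 1277 = n1899 := ndS (p := 1089) (l := 4) rfl N1089 D1899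
theorem N1278 : nd 1278 = n1900 := ndS (p := 1089) (l := 6) rfl N1089 D1900
theorem N1279 : nd 1279 = n1909 := ndS (p := 1091) (l := 7) rfl N1091 D1909
theorem N1280 : nd 1280 = n1955 := ndS (p := 1092) (l := 7) rfl N1092 D1955
theorem N1281 : nd 1281 = n1956 := ndS (p := 1093) (l := 6) rfl N1093 D1956
theorem N1282 : nd 1282 = n1957 := ndS (p := 1094) (l := 7) rfl N1094 D1957
theorem N1283 : nd 1283 = n2001 := ndS (p := 1098) (l := 2) rfl N1098 D2001
theorem N1284 : nd 1284 = n2002 := ndS (p := 1098) (l := 4) rfl N1098 D2002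
theorem N1285 : nd 1285 = n2006 := ndS (p := 1100) (l := 4) rfl N1100 D2006
theorem N1286 : nd 1286 = n2069 := ndS (p := 1102) (l := 6) rfl N1102 D2069
theorem N1287 : nd 1287 = n2070 := ndS (p := 1103) (l := 6) rfl N1103 D2070
theorem N1288 : nd 1288 = n2071 := ndS (p := 1104) (l := 2) rfl N1104 D2071
theorem N1289 : nd 1289 = n2072 := ndS (p := 1105) (l := 6) rfl N1105 D2072
theorem N1290 : nd 1290 = n2073 := ndS (p := 1106) (l := 6) rfl N1106 D2073
theorem N1291 : nd 1291 = n2074 := ndS (p := 1107) (l := 6) rfl N1107 D2074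
theorem N1292 : nd 1292 = n2075 := ndS (p := 1108) (l := 2) rfl N1108 D2075
theorem N1293 : nd 1293 = n2076 := ndS (p := 1109) (l := 2) rfl N1109 D2076
theorem N1294 : nd 1294 = n2077 := ndS (p := 1110) (l := 1) rfl N1110 D2077
theorem N1295 : nd 1295 = n2078 := ndS (p := 1110) (l := 3) rfl N1110 D2078
theorem N1296 : nd 1296 = n2079 := ndS (p := 1111) (l := 2) rfl N1111 D2079
theorem N1297 : nd 1297 = n2080 := ndS (p := 1112) (l := 1) rfl N1112 D2080
theorem N1298 : nd 1298 = n2081 := ndS (p := 1112) (l := 3) rfl N1112 D2081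
theorem N1299 : nd 1299 = n2082 := ndS (p := 1113) (l := 0) rfl N1113 D2082
theorem N1300 : nd 1300 = n2083 := ndS (p := 1113) (l := 3) rfl N1113 D2083
theorem N1301 : nd 1301 = n2084 := ndS (p := 1114) (l := 4) rfl N1114 D2084
theorem N1302 : nd 1302 = n2085 := ndS (p := 1115) (l := 2) rfl N1115 D2085
theorem N1303 : nd 1303 = n2086 := ndS (p := 1115) (l := 4) rfl N1115 D2086
theorem N1304 : nd 1304 = n2087 := ndS (p := 1116) (l := 5) rfl N1116 D2087
theorem N1305 : nd 1305 = n2088 := ndS (p := 1117) (l := 2) rfl N1117 D2088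
theorem N1306 : nd 1306 = n2089 := ndS (p := 1118) (l := 2) rfl N1118 D2089
theorem N1307 : nd 1307 = n2090 := ndS (p := 1119) (l := 2) rfl N1119 D2090
theorem N1308 : nd 1308 = n2091 := ndS (p := 1120) (l := 1) rfl N1120 D2091
theorem N1309 : nd 1309 = n2092 := ndS (p := 1120) (l := 3) rfl N1120 D2092
theorem N1310 : nd 1310 = n2093 := ndS (p := 1121) (l := 1) rfl N1121 D2093
theorem N1311 : nd 1311 = n2094 := ndS (p := 1121) (l := 3) rfl N1121 D2094
theorem N1312 : nd 1312 = n2095 := ndS (p := 1122) (l := 0) rfl N1122 D2095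
theorem N1313 : nd 1313 = n2096 := ndS (p := 1122) (l := 3) rfl N1122 D2096
theorem N1314 : nd 1314 = n2097 := ndS (p := 1123) (l := 4) rfl N1123 D2097
theorem N1315 : nd 1315 = n2098 := ndS (p := 1124) (l := 1) rfl N1124 D2098
theorem N1316 : nd 1316 = n2099 := ndS (p := 1124) (l := 3) rfl N1124 D2099
theorem N1317 : nd 1317 = n2100 := ndS (p := 1125) (l := 0) rfl N1125 D2100
theorem N1318 : nd 1318 = n2101 := ndS (p := 1125) (l := 3) rfl N1125 D2101
theorem N1319 : nd 1319 = n2102 := ndS (p := 1126) (l := 4) rfl N1126 D2102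
theorem N1320 : nd 1320 = n2103 := ndS (p := 1127) (l := 3) rfl N1127 D2103
theorem N1321 : nd 1321 = n2104 := ndS (p := 1128) (l := 4) rfl N1128 D2104
theorem N1322 : nd 1322 = n2105 := ndS (p := 1129) (l := 5) rfl N1129 D2105
theorem N1323 : nd 1323 = n2106 := ndS (p := 1131) (l := 0) rfl N1131 D2106
theorem N1324 : nd 1324 = n2107 := ndS (p := 1131) (l := 3) rfl N1131 D2107
theorem N1325 : nd 1325 = n2108 := ndS (p := 1132) (l := 4) rfl N1132 D2108
theorem N1326 : nd 1326 = n2109 := ndS (p := 1133) (l := 3) rfl N1133 D2109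
theorem N1327 : nd 1327 = n2110 := ndS (p := 1134) (l := 2) rfl N1134 D2110
theorem N1328 : nd 1328 = n2111 := ndS (p := 1135) (l := 6) rfl N1135 D2111
theorem N1329 : nd 1329 = n2112 := ndS (p := 1136) (l := 6) rfl N1136 D2112
theorem N1330 : nd 1330 = n2113 := ndS (p := 1137) (l := 6) rfl N1137 D2113
theorem N1331 : nd 1331 = n2114 := ndS (p := 1138) (l := 2) rfl N1138 D2114
theorem N1332 : nd 1332 = n2115 := ndS (p := 1139) (l := 6) rfl N1139 D2115
theorem N1333 : nd 1333 = n2116 := ndS (p := 1140) (l := 2) rfl N1140 D2116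
theorem N1334 : nd 1334 = n2117 := ndS (p := 1141) (l := 1) rfl N1141 D2117
theorem N1335 : nd 1335 = n2118 := ndS (p := 1141) (l := 3) rfl N1141 D2118
theorem N1336 : nd 1336 = n2119 := ndS (p := 1142) (l := 2) rfl N1142 D2119
theorem N1337 : nd 1337 = n2120 := ndS (p := 1143) (l := 2) rfl N1143 D2120
theorem N1338 : nd 1338 = n2121 := ndS (p := 1144) (l := 2) rfl N1144 D2121
theorem N1339 : nd 1339 = n2122 := ndS (p := 1145) (l := 1) rfl N1145 D2122
theorem N1340 : nd 1340 = n2123 := ndS (p := 1145) (l := 3) rfl N1145 D2123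
theorem N1341 : nd 1341 = n2124 := ndS (p := 1146) (l := 1) rfl N1146 D2124
theorem N1342 : nd 1342 = n2125 := ndS (p := 1146) (l := 3) rfl N1146 D2125
theorem N1343 : nd 1343 = n2126 := ndS (p := 1147) (l := 0) rfl N1147 D2126
theorem N1344 : nd 1344 = n2127 := ndS (p := 1147) (l := 3) rfl N1147 D2127
theorem N1345 : nd 1345 = n2128 := ndS (p := 1148) (l := 4) rfl N1148 D2128
theorem N1346 : nd 1346 = n2129 := ndS (p := 1149) (l := 1) rfl N1149 D2129
theorem N1347 : nd 1347 = n2130 := ndS (p := 1149) (l := 3) rfl N1149 D2130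
theorem N1348 : nd 1348 = n2131 := ndS (p := 1150) (l := 0) rfl N1150 D2131
theorem N1349 : nd 1349 = n2132 := ndS (p := 1150) (l := 3) rfl N1150 D2132
theorem N1350 : nd 1350 = n2133 := ndS (p := 1151) (l := 4) rfl N1151 D2133
theorem N1351 : nd 1351 = n2134 := ndS (p := 1152) (l := 3) rfl N1152 D2134
theorem N1352 : nd 1352 = n2135 := ndS (p := 1153) (l := 2) rfl N1153 D2135
theorem N1353 : nd 1353 = n2136 := ndS (p := 1153) (l := 4) rfl N1153 D2136
theorem N1354 : nd 1354 = n2141 := ndS (p := 1156) (l := 2) rfl N1156 D2141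
theorem N1355 : nd 1355 = n2142 := ndS (p := 1157) (l := 2) rfl N1157 D2142
theorem N1356 : nd 1356 = n2143 := ndS (p := 1158) (l := 1) rfl N1158 D2143
theorem N1357 : nd 1357 = n2144 := ndS (p := 1158) (l := 3) rfl N1158 D2144
theorem N1358 : nd 1358 = n2145 := ndS (p := 1159) (l := 2) rfl N1159 D2145
theorem N1359 : nd 1359 = n2146 := ndS (p := 1160) (l := 1) rfl N1160 D2146
theorem N1360 : nd 1360 = n2147 := ndS (p := 1160) (l := 3) rfl N1160 D2147
theorem N1361 : nd 1361 = n2148 := ndS (p := 1161) (l := 1) rfl N1161 D2148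
theorem N1362 : nd 1362 = n2149 := ndS (p := 1161) (l := 3) rfl N1161 D2149
theorem N1363 : nd 1363 = n2150 := ndS (p := 1162) (l := 0) rfl N1162 D2150
theorem N1364 : nd 1364 = n2151 := ndS (p := 1162) (l := 3) rfl N1162 D2151
theorem N1365 : nd 1365 = n2152 := ndS (p := 1163) (l := 4) rfl N1163 D2152
theorem N1366 : nd 1366 = n2153 := ndS (p := 1164) (l := 0) rfl N1164 D2153
theorem N1367 : nd 1367 = n2154 := ndS (p := 1164) (l := 3) rfl N1164 D2154
theorem N1368 : nd 1368 = n2155 := ndS (p := 1165) (l := 4) rfl N1165 D2155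
theorem N1369 : nd 1369 = n2156 := ndS (p := 1166) (l := 3) rfl N1166 D2156
theorem N1370 : nd 1370 = n2157 := ndS (p := 1167) (l := 2) rfl N1167 D2157
theorem N1371 : nd 1371 = n2158 := ndS (p := 1167) (l := 4) rfl N1167 D2158
theorem N1372 : nd 1372 = n2159 := ndS (p := 1168) (l := 5) rfl N1168 D2159
theorem N1373 : nd 1373 = n2160 := ndS (p := 1169) (l := 0) rfl N1169 D2160
theorem N1374 : nd 1374 = n2161 := ndS (p := 1169) (l := 3) rfl N1169 D2161
theorem N1375 : nd 1375 = n2162 := ndS (p := 1170) (l := 4) rfl N1170 D2162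
theorem N1376 : nd 1376 = n2163 := ndS (p := 1171) (l := 3) rfl N1171 D2163
theorem N1377 : nd 1377 = n2164 := ndS (p := 1172) (l := 2) rfl N1172 D2164
theorem N1378 : nd 1378 = n2165 := ndS (p := 1172) (l := 4) rfl N1172 D2165
theorem N1379 : nd 1379 = n2166 := ndS (p := 1173) (l := 5) rfl N1173 D2166
theorem N1380 : nd 1380 = n2167 := ndS (p := 1174) (l := 4) rfl N1174 D2167
theorem N1381 : nd 1381 = n2168 := ndS (p := 1175) (l := 5) rfl N1175 D2168
theorem N1382 : nd 1382 = n2169 := ndS (p := 1177) (l := 3) rfl N1177 D2169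
theorem N1383 : nd 1383 = n2172 := ndS (p := 1179) (l := 2) rfl N1179 D2172
theorem N1384 : nd 1384 = n2173 := ndS (p := 1180) (l := 6) rfl N1180 D2173
theorem N1385 : nd 1385 = n2174 := ndS (p := 1181) (l := 6) rfl N1181 D2174
theorem N1386 : nd 1386 = n2175 := ndS (p := 1182) (l := 6) rfl N1182 D2175
theorem N1387 : nd 1387 = n2176 := ndS (p := 1183) (l := 2) rfl N1183 D2176
theorem N1388 : nd 1388 = n2177 := ndS (p := 1184) (l := 2) rfl N1184 D2177
theorem N1389 : nd 1389 = n2178 := ndS (p := 1185) (l := 1) rfl N1185 D2178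
theorem N1390 : nd 1390 = n2179 := ndS (p := 1185) (l := 3) rfl N1185 D2179
theorem N1391 : nd 1391 = n2180 := ndS (p := 1186) (l := 0) rfl N1186 D2180
theorem N1392 : nd 1392 = n2182 := ndS (p := 1187) (l := 4) rfl N1187 D2182
theorem N1393 : nd 1393 = n2183 := ndS (p := 1188) (l := 2) rfl N1188 D2183
theorem N1394 : nd 1394 = n2184 := ndS (p := 1189) (l := 1) rfl N1189 D2184
theorem N1395 : nd 1395 = n2185 := ndS (p := 1189) (l := 3) rfl N1189 D2185
theorem N1396 : nd 1396 = n2186 := ndS (p := 1190) (l := 1) rfl N1190 D2186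
theorem N1397 : nd 1397 = n2187 := ndS (p := 1190) (l := 3) rfl N1190 D2187
theorem N1398 : nd 1398 = n2188 := ndS (p := 1191) (l := 0) rfl N1191 D2188
theorem N1399 : nd 1399 = n2189 := ndS (p := 1191) (l := 3) rfl N1191 D2189
theorem N1400 : nd 1400 = n2190 := ndS (p := 1192) (l := 4) rfl N1192 D2190
theorem N1401 : nd 1401 = n2196 := ndS (p := 1195) (l := 3) rfl N1195 D2196
theorem N1402 : nd 1402 = n2197 := ndS (p := 1196) (l := 4) rfl N1196 D2197
theorem N1403 : nd 1403 = n2211 := ndS (p := 1200) (l := 2) rfl N1200 D2211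
theorem N1404 : nd 1404 = n2212 := ndS (p := 1201) (l := 1) rfl N1201 D2212
theorem N1405 : nd 1405 = n2213 := ndS (p := 1201) (l := 3) rfl N1201 D2213
theorem N1406 : nd 1406 = n2214 := ndS (p := 1202) (l := 0) rfl N1202 D2214
theorem N1407 : nd 1407 = n2215 := ndS (p := 1202) (l := 3) rfl N1202 D2215
theorem N1408 : nd 1408 = n2216 := ndS (p := 1203) (l := 4) rfl N1203 D2216
theorem N1409 : nd 1409 = n2220 := ndS (p := 1205) (l := 3) rfl N1205 D2220
theorem N1410 : nd 1410 = n2221 := ndS (p := 1206) (l := 2) rfl N1206 D2221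
theorem N1411 : nd 1411 = n2222 := ndS (p := 1206) (l := 4) rfl N1206 D2222
theorem N1412 : nd 1412 = n2224 := ndS (p := 1208) (l := 2) rfl N1208 D2224
theorem N1413 : nd 1413 = n2226 := ndS (p := 1209) (l := 4) rfl N1209 D2226
theorem N1414 : nd 1414 = n2234 := ndS (p := 1212) (l := 4) rfl N1212 D2234
theorem N1415 : nd 1415 = n2235 := ndS (p := 1212) (l := 6) rfl N1212 D2235
theorem N1416 : nd 1416 = n2244 := ndS (p := 1214) (l := 7) rfl N1214 D2244
theorem N1417 : nd 1417 = n2248 := ndS (p := 1216) (l := 6) rfl N1216 D2248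
theorem N1418 : nd 1418 = n2261 := ndS (p := 1221) (l := 2) rfl N1221 D2261
theorem N1419 : nd 1419 = n2300 := ndS (p := 1223) (l := 3) rfl N1223 D2300
theorem N1420 : nd 1420 = n2342 := ndS (p := 1224) (l := 2) rfl N1224 D2342
theorem N1421 : nd 1421 = n2343 := ndS (p := 1225) (l := 2) rfl N1225 D2343
theorem N1422 : nd 1422 = n2344 := ndS (p := 1226) (l := 1) rfl N1226 D2344
theorem N1423 : nd 1423 = n2345 := ndS (p := 1226) (l := 3) rfl N1226 D2345
theorem N1424 : nd 1424 = n2346 := ndS (p := 1227) (l := 2) rfl N1227 D2346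
theorem N1425 : nd 1425 = n2347 := ndS (p := 1228) (l := 1) rfl N1228 D2347
theorem N1426 : nd 1426 = n2349 := ndS (p := 1229) (l := 0) rfl N1229 D2349
theorem N1427 : nd 1427 = n2352 := ndS (p := 1230) (l := 2) rfl N1230 D2352
theorem N1428 : nd 1428 = n2353 := ndS (p := 1231) (l := 1) rfl N1231 D2353
theorem N1429 : nd 1429 = n2354 := ndS (p := 1231) (l := 3) rfl N1231 D2354
theorem N1430 : nd 1430 = n2355 := ndS (p := 1232) (l := 1) rfl N1232 D2355
theorem N1431 : nd 1431 = n2356 := ndS (p := 1232) (l := 3) rfl N1232 D2356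
theorem N1432 : nd 1432 = n2357 := ndS (p := 1233) (l := 0) rfl N1233 D2357
theorem N1433 : nd 1433 = n2358 := ndS (p := 1233) (l := 3) rfl N1233 D2358
theorem N1434 : nd 1434 = n2359 := ndS (p := 1234) (l := 4) rfl N1234 D2359
theorem N1435 : nd 1435 = n2360 := ndS (p := 1235) (l := 0) rfl N1235 D2360
theorem N1436 : nd 1436 = n2361 := ndS (p := 1235) (l := 3) rfl N1235 D2361
theorem N1437 : nd 1437 = n2362 := ndS (p := 1236) (l := 4) rfl N1236 D2362
theorem N1438 : nd 1438 = n2363 := ndS (p := 1237) (l := 3) rfl N1237 D2363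
theorem N1439 : nd 1439 = n2365 := ndS (p := 1238) (l := 4) rfl N1238 D2365
theorem N1440 : nd 1440 = n2367 := ndS (p := 1240) (l := 0) rfl N1240 D2367
theorem N1441 : nd 1441 = n2368 := ndS (p := 1240) (l := 3) rfl N1240 D2368
theorem N1442 : nd 1442 = n2369 := ndS (p := 1241) (l := 4) rfl N1241 D2369
theorem N1443 : nd 1443 = n2370 := ndS (p := 1242) (l := 3) rfl N1242 D2370
theorem N1444 : nd 1444 = n2371 := ndS (p := 1243) (l := 2) rfl N1243 D2371
theorem N1445 : nd 1445 = n2372 := ndS (p := 1243) (l := 4) rfl N1243 D2372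
theorem N1446 : nd 1446 = n2374 := ndS (p := 1245) (l := 2) rfl N1245 D2374
theorem N1447 : nd 1447 = n2375 := ndS (p := 1245) (l := 4) rfl N1245 D2375
theorem N1448 : nd 1448 = n2383 := ndS (p := 1248) (l := 1) rfl N1248 D2383
theorem N1449 : nd 1449 = n2384 := ndS (p := 1248) (l := 3) rfl N1248 D2384
theorem N1450 : nd 1450 = n2385 := ndS (p := 1249) (l := 0) rfl N1249 D2385
theorem N1451 : nd 1451 = n2386 := ndS (p := 1249) (l := 3) rfl N1249 D2386
theorem N1452 : nd 1452 = n2387 := ndS (p := 1250) (l := 4) rfl N1250 D2387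
theorem N1453 : nd 1453 = n2388 := ndS (p := 1251) (l := 0) rfl N1251 D2388
theorem N1454 : nd 1454 = n2389 := ndS (p := 1251) (l := 3) rfl N1251 D2389
theorem N1455 : nd 1455 = n2390 := ndS (p := 1252) (l := 4) rfl N1252 D2390
theorem N1456 : nd 1456 = n2391 := ndS (p := 1253) (l := 3) rfl N1253 D2391
theorem N1457 : nd 1457 = n2392 := ndS (p := 1254) (l := 2) rfl N1254 D2392
theorem N1458 : nd 1458 = n2393 := ndS (p := 1254) (l := 4) rfl N1254 D2393
theorem N1459 : nd 1459 = n2394 := ndS (p := 1255) (l := 5) rfl N1255 D2394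
theorem N1460 : nd 1460 = n2395 := ndS (p := 1256) (l := 3) rfl N1256 D2395
theorem N1461 : nd 1461 = n2396 := ndS (p := 1257) (l := 2) rfl N1257 D2396
theorem N1462 : nd 1462 = n2397 := ndS (p := 1257) (l := 4) rfl N1257 D2397
theorem N1463 : nd 1463 = n2398 := ndS (p := 1258) (l := 5) rfl N1258 D2398
theorem N1464 : nd 1464 = n2399 := ndS (p := 1259) (l := 2) rfl N1259 D2399
theorem N1465 : nd 1465 = n2400 := ndS (p := 1259) (l := 4) rfl N1259 D2400
theorem N1466 : nd 1466 = n2401 := ndS (p := 1260) (l := 4) rfl N1260 D2401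
theorem N1467 : nd 1467 = n2402 := ndS (p := 1261) (l := 5) rfl N1261 D2402
theorem N1468 : nd 1468 = n2403 := ndS (p := 1263) (l := 3) rfl N1263 D2403
theorem N1469 : nd 1469 = n2406 := ndS (p := 1265) (l := 5) rfl N1265 D2406
theorem N1470 : nd 1470 = n2407 := ndS (p := 1266) (l := 2) rfl N1266 D2407
theorem N1471 : nd 1471 = n2408 := ndS (p := 1266) (l := 4) rfl N1266 D2408
theorem N1472 : nd 1472 = n2409 := ndS (p := 1267) (l := 4) rfl N1267 D2409
theorem N1473 : nd 1473 = n2410 := ndS (p := 1267) (l := 6) rfl N1267 D2410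
theorem N1474 : nd 1474 = n2411 := ndS (p := 1268) (l := 5) rfl N1268 D2411
theorem N1475 : nd 1475 = n2412 := ndS (p := 1270) (l := 5) rfl N1270 D2412
theorem N1476 : nd 1476 = n2418 := ndS (p := 1273) (l := 6) rfl N1273 D2418
theorem N1477 : nd 1477 = n2419 := ndS (p := 1274) (l := 7) rfl N1274 D2419
theorem N1478 : nd 1478 = n2450 := ndS (p := 1277) (l := 6) rfl N1277 D2450
theorem N1479 : nd 1479 = n2451 := ndS (p := 1278) (l := 7) rfl N1278 D2451
theorem N1480 : nd 1480 = n2517 := ndS (p := 1281) (l := 2) rfl N1281 D2517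
theorem N1481 : nd 1481 = n2518 := ndS (p := 1281) (l := 7) rfl N1281 D2518
theorem N1482 : nd 1482 = n2574 := ndS (p := 1283) (l := 4) rfl N1283 D2574
theorem N1483 : nd 1483 = n2575 := ndS (p := 1283) (l := 6) rfl N1283 D2575
theorem N1484 : nd 1484 = n2580 := ndS (p := 1285) (l := 3) rfl N1285 D2580
theorem N1485 : nd 1485 = n2656 := ndS (p := 1286) (l := 2) rfl N1286 D2656
theorem N1486 : nd 1486 = n2657 := ndS (p := 1287) (l := 2) rfl N1287 D2657
theorem N1487 : nd 1487 = n2658 := ndS (p := 1288) (l := 1) rfl N1288 D2658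
theorem N1488 : nd 1488 = n2659 := ndS (p := 1288) (l := 3) rfl N1288 D2659
theorem N1489 : nd 1489 = n2660 := ndS (p := 1289) (l := 2) rfl N1289 D2660
theorem N1490 : nd 1490 = n2661 := ndS (p := 1290) (l := 2) rfl N1290 D2661
theorem N1491 : nd 1491 = n2662 := ndS (p := 1291) (l := 2) rfl N1291 D2662
theorem N1492 : nd 1492 = n2663 := ndS (p := 1292) (l := 1) rfl N1292 D2663
theorem N1493 : nd 1493 = n2664 := ndS (p := 1292) (l := 3) rfl N1292 D2664
theorem N1494 : nd 1494 = n2665 := ndS (p := 1293) (l := 1) rfl N1293 D2665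
theorem N1495 : nd 1495 = n2666 := ndS (p := 1293) (l := 3) rfl N1293 D2666
theorem N1496 : nd 1496 = n2667 := ndS (p := 1294) (l := 0) rfl N1294 D2667
theorem N1497 : nd 1497 = n2668 := ndS (p := 1294) (l := 3) rfl N1294 D2668
theorem N1498 : nd 1498 = n2669 := ndS (p := 1295) (l := 4) rfl N1295 D2669
theorem N1499 : nd 1499 = n2670 := ndS (p := 1296) (l := 1) rfl N1296 D2670
theorem N1500 : nd 1500 = n2671 := ndS (p := 1296) (l := 3) rfl N1296 D2671
theorem N1501 : nd 1501 = n2672 := ndS (p := 1297) (l := 0) rfl N1297 D2672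
theorem N1502 : nd 1502 = n2673 := ndS (p := 1297) (l := 3) rfl N1297 D2673
theorem N1503 : nd 1503 = n2674 := ndS (p := 1298) (l := 4) rfl N1298 D2674
theorem N1504 : nd 1504 = n2675 := ndS (p := 1299) (l := 3) rfl N1299 D2675
theorem N1505 : nd 1505 = n2676 := ndS (p := 1300) (l := 2) rfl N1300 D2676
theorem N1506 : nd 1506 = n2677 := ndS (p := 1300) (l := 4) rfl N1300 D2677
theorem N1507 : nd 1507 = n2678 := ndS (p := 1301) (l := 5) rfl N1301 D2678
theorem N1508 : nd 1508 = n2679 := ndS (p := 1302) (l := 4) rfl N1302 D2679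
theorem N1509 : nd 1509 = n2680 := ndS (p := 1302) (l := 6) rfl N1302 D2680
theorem N1510 : nd 1510 = n2681 := ndS (p := 1303) (l := 5) rfl N1303 D2681
theorem N1511 : nd 1511 = n2682 := ndS (p := 1305) (l := 1) rfl N1305 D2682
theorem N1512 : nd 1512 = n2683 := ndS (p := 1305) (l := 3) rfl N1305 D2683
theorem N1513 : nd 1513 = n2684 := ndS (p := 1306) (l := 1) rfl N1306 D2684
theorem N1514 : nd 1514 = n2685 := ndS (p := 1306) (l := 3) rfl N1306 D2685
theorem N1515 : nd 1515 = n2686 := ndS (p := 1307) (l := 1) rfl N1307 D2686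
theorem N1516 : nd 1516 = n2687 := ndS (p := 1307) (l := 3) rfl N1307 D2687
theorem N1517 : nd 1517 = n2688 := ndS (p := 1308) (l := 0) rfl N1308 D2688
theorem N1518 : nd 1518 = n2689 := ndS (p := 1308) (l := 3) rfl N1308 D2689
theorem N1519 : nd 1519 = n2690 := ndS (p := 1309) (l := 4) rfl N1309 D2690
theorem N1520 : nd 1520 = n2691 := ndS (p := 1310) (l := 0) rfl N1310 D2691
theorem N1521 : nd 1521 = n2692 := ndS (p := 1310) (l := 3) rfl N1310 D2692
theorem N1522 : nd 1522 = n2693 := ndS (p := 1311) (l := 4) rfl N1311 D2693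
theorem N1523 : nd 1523 = n2694 := ndS (p := 1312) (l := 3) rfl N1312 D2694
theorem N1524 : nd 1524 = n2695 := ndS (p := 1313) (l := 2) rfl N1313 D2695
theorem N1525 : nd 1525 = n2696 := ndS (p := 1313) (l := 4) rfl N1313 D2696
theorem N1526 : nd 1526 = n2697 := ndS (p := 1314) (l := 5) rfl N1314 D2697
theorem N1527 : nd 1527 = n2698 := ndS (p := 1315) (l := 0) rfl N1315 D2698
theorem N1528 : nd 1528 = n2699 := ndS (p := 1315) (l := 3) rfl N1315 D2699
theorem N1529 : nd 1529 = n2700 := ndS (p := 1316) (l := 4) rfl N1316 D2700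
theorem N1530 : nd 1530 = n2701 := ndS (p := 1317) (l := 3) rfl N1317 D2701
theorem N1531 : nd 1531 = n2702 := ndS (p := 1318) (l := 2) rfl N1318 D2702
theorem N1532 : nd 1532 = n2703 := ndS (p := 1318) (l := 4) rfl N1318 D2703
theorem N1533 : nd 1533 = n2704 := ndS (p := 1319) (l := 5) rfl N1319 D2704
theorem N1534 : nd 1534 = n2705 := ndS (p := 1320) (l := 4) rfl N1320 D2705
theorem N1535 : nd 1535 = n2706 := ndS (p := 1321) (l := 5) rfl N1321 D2706
theorem N1536 : nd 1536 = n2707 := ndS (p := 1323) (l := 3) rfl N1323 D2707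
theorem N1537 : nd 1537 = n2708 := ndS (p := 1324) (l := 2) rfl N1324 D2708
theorem N1538 : nd 1538 = n2709 := ndS (p := 1324) (l := 4) rfl N1324 D2709
theorem N1539 : nd 1539 = n2710 := ndS (p := 1326) (l := 2) rfl N1326 D2710
theorem N1540 : nd 1540 = n2711 := ndS (p := 1327) (l := 6) rfl N1327 D2711
theorem N1541 : nd 1541 = n2712 := ndS (p := 1328) (l := 2) rfl N1328 D2712
theorem N1542 : nd 1542 = n2713 := ndS (p := 1329) (l := 2) rfl N1329 D2713
theorem N1543 : nd 1543 = n2714 := ndS (p := 1330) (l := 2) rfl N1330 D2714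
theorem N1544 : nd 1544 = n2715 := ndS (p := 1331) (l := 1) rfl N1331 D2715
theorem N1545 : nd 1545 = n2716 := ndS (p := 1331) (l := 3) rfl N1331 D2716
theorem N1546 : nd 1546 = n2717 := ndS (p := 1332) (l := 2) rfl N1332 D2717
theorem N1547 : nd 1547 = n2718 := ndS (p := 1333) (l := 1) rfl N1333 D2718
theorem N1548 : nd 1548 = n2719 := ndS (p := 1333) (l := 3) rfl N1333 D2719
theorem N1549 : nd 1549 = n2720 := ndS (p := 1334) (l := 0) rfl N1334 D2720
theorem N1550 : nd 1550 = n2721 := ndS (p := 1334) (l := 3) rfl N1334 D2721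
theorem N1551 : nd 1551 = n2722 := ndS (p := 1335) (l := 4) rfl N1335 D2722
theorem N1552 : nd 1552 = n2723 := ndS (p := 1336) (l := 1) rfl N1336 D2723
theorem N1553 : nd 1553 = n2724 := ndS (p := 1336) (l := 3) rfl N1336 D2724
theorem N1554 : nd 1554 = n2725 := ndS (p := 1337) (l := 1) rfl N1337 D2725
theorem N1555 : nd 1555 = n2726 := ndS (p := 1337) (l := 3) rfl N1337 D2726
theorem N1556 : nd 1556 = n2727 := ndS (p := 1338) (l := 1) rfl N1338 D2727
theorem N1557 : nd 1557 = n2728 := ndS (p := 1338) (l := 3) rfl N1338 D2728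
theorem N1558 : nd 1558 = n2729 := ndS (p := 1339) (l := 0) rfl N1339 D2729
theorem N1559 : nd 1559 = n2730 := ndS (p := 1339) (l := 3) rfl N1339 D2730
theorem N1560 : nd 1560 = n2731 := ndS (p := 1340) (l := 4) rfl N1340 D2731
theorem N1561 : nd 1561 = n2732 := ndS (p := 1341) (l := 0) rfl N1341 D2732
theorem N1562 : nd 1562 = n2733 := ndS (p := 1341) (l := 3) rfl N1341 D2733
theorem N1563 : nd 1563 = n2734 := ndS (p := 1342) (l := 4) rfl N1342 D2734
theorem N1564 : nd 1564 = n2735 := ndS (p := 1343) (l := 3) rfl N1343 D2735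
theorem N1565 : nd 1565 = n2736 := ndS (p := 1344) (l := 2) rfl N1344 D2736
theorem N1566 : nd 1566 = n2737 := ndS (p := 1344) (l := 4) rfl N1344 D2737
theorem N1567 : nd 1567 = n2739 := ndS (p := 1346) (l := 0) rfl N1346 D2739
theorem N1568 : nd 1568 = n2740 := ndS (p := 1346) (l := 3) rfl N1346 D2740
theorem N1569 : nd 1569 = n2741 := ndS (p := 1347) (l := 4) rfl N1347 D2741
theorem N1570 : nd 1570 = n2742 := ndS (p := 1348) (l := 3) rfl N1348 D2742
theorem N1571 : nd 1571 = n2743 := ndS (p := 1349) (l := 2) rfl N1349 D2743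
theorem N1572 : nd 1572 = n2744 := ndS (p := 1349) (l := 4) rfl N1349 D2744
theorem N1573 : nd 1573 = n2746 := ndS (p := 1351) (l := 2) rfl N1351 D2746
theorem N1574 : nd 1574 = n2747 := ndS (p := 1351) (l := 4) rfl N1351 D2747
theorem N1575 : nd 1575 = n2755 := ndS (p := 1354) (l := 1) rfl N1354 D2755
theorem N1576 : nd 1576 = n2756 := ndS (p := 1354) (l := 3) rfl N1354 D2756
theorem N1577 : nd 1577 = n2757 := ndS (p := 1355) (l := 1) rfl N1355 D2757
theorem N1578 : nd 1578 = n2758 := ndS (p := 1355) (l := 3) rfl N1355 D2758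
theorem N1579 : nd 1579 = n2759 := ndS (p := 1356) (l := 0) rfl N1356 D2759
theorem N1580 : nd 1580 = n2760 := ndS (p := 1356) (l := 3) rfl N1356 D2760
theorem N1581 : nd 1581 = n2761 := ndS (p := 1357) (l := 4) rfl N1357 D2761
theorem N1582 : nd 1582 = n2762 := ndS (p := 1358) (l := 1) rfl N1358 D2762
theorem N1583 : nd 1583 = n2763 := ndS (p := 1358) (l := 3) rfl N1358 D2763
theorem N1584 : nd 1584 = n2764 := ndS (p := 1359) (l := 0) rfl N1359 D2764
theorem N1585 : nd 1585 = n2765 := ndS (p := 1359) (l := 3) rfl N1359 D2765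
theorem N1586 : nd 1586 = n2766 := ndS (p := 1360) (l := 4) rfl N1360 D2766
theorem N1587 : nd 1587 = n2767 := ndS (p := 1361) (l := 0) rfl N1361 D2767
theorem N1588 : nd 1588 = n2768 := ndS (p := 1361) (l := 3) rfl N1361 D2768
theorem N1589 : nd 1589 = n2769 := ndS (p := 1362) (l := 4) rfl N1362 D2769
theorem N1590 : nd 1590 = n2770 := ndS (p := 1363) (l := 3) rfl N1363 D2770
theorem N1591 : nd 1591 = n2771 := ndS (p := 1364) (l := 2) rfl N1364 D2771
theorem N1592 : nd 1592 = n2772 := ndS (p := 1364) (l := 4) rfl N1364 D2772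
theorem N1593 : nd 1593 = n2773 := ndS (p := 1365) (l := 5) rfl N1365 D2773
theorem N1594 : nd 1594 = n2774 := ndS (p := 1366) (l := 3) rfl N1366 D2774
theorem N1595 : nd 1595 = n2775 := ndS (p := 1367) (l := 2) rfl N1367 D2775
theorem N1596 : nd 1596 = n2776 := ndS (p := 1367) (l := 4) rfl N1367 D2776
theorem N1597 : nd 1597 = n2777 := ndS (p := 1368) (l := 5) rfl N1368 D2777
theorem N1598 : nd 1598 = n2778 := ndS (p := 1369) (l := 2) rfl N1369 D2778
theorem N1599 : nd 1599 = n2779 := ndS (p := 1369) (l := 4) rfl N1369 D2779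
theorem N1600 : nd 1600 = n2780 := ndS (p := 1370) (l := 4) rfl N1370 D2780
theorem N1601 : nd 1601 = n2781 := ndS (p := 1371) (l := 5) rfl N1371 D2781
theorem N1602 : nd 1602 = n2782 := ndS (p := 1373) (l := 3) rfl N1373 D2782
theorem N1603 : nd 1603 = n2785 := ndS (p := 1375) (l := 5) rfl N1375 D2785
theorem N1604 : nd 1604 = n2786 := ndS (p := 1376) (l := 2) rfl N1376 D2786
theorem N1605 : nd 1605 = n2787 := ndS (p := 1376) (l := 4) rfl N1376 D2787
theorem N1606 : nd 1606 = n2788 := ndS (p := 1377) (l := 4) rfl N1377 D2788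
theorem N1607 : nd 1607 = n2789 := ndS (p := 1377) (l := 6) rfl N1377 D2789
theorem N1608 : nd 1608 = n2790 := ndS (p := 1378) (l := 5) rfl N1378 D2790
theorem N1609 : nd 1609 = n2791 := ndS (p := 1380) (l := 5) rfl N1380 D2791
theorem N1610 : nd 1610 = n2797 := ndS (p := 1383) (l := 6) rfl N1383 D2797
theorem N1611 : nd 1611 = n2798 := ndS (p := 1384) (l := 7) rfl N1384 D2798
theorem N1612 : nd 1612 = n2799 := ndS (p := 1385) (l := 2) rfl N1385 D2799
theorem N1613 : nd 1613 = n2800 := ndS (p := 1386) (l := 2) rfl N1386 D2800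
theorem N1614 : nd 1614 = n2801 := ndS (p := 1387) (l := 1) rfl N1387 D2801
theorem N1615 : nd 1615 = n2802 := ndS (p := 1387) (l := 3) rfl N1387 D2802
theorem N1616 : nd 1616 = n2803 := ndS (p := 1388) (l := 1) rfl N1388 D2803
theorem N1617 : nd 1617 = n2804 := ndS (p := 1388) (l := 3) rfl N1388 D2804
theorem N1618 : nd 1618 = n2805 := ndS (p := 1389) (l := 0) rfl N1389 D2805
theorem N1619 : nd 1619 = n2806 := ndS (p := 1389) (l := 3) rfl N1389 D2806
theorem N1620 : nd 1620 = n2807 := ndS (p := 1390) (l := 4) rfl N1390 D2807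
theorem N1621 : nd 1621 = n2812 := ndS (p := 1393) (l := 1) rfl N1393 D2812
theorem N1622 : nd 1622 = n2813 := ndS (p := 1393) (l := 3) rfl N1393 D2813
theorem N1623 : nd 1623 = n2814 := ndS (p := 1394) (l := 0) rfl N1394 D2814
theorem N1624 : nd 1624 = n2815 := ndS (p := 1394) (l := 3) rfl N1394 D2815
theorem N1625 : nd 1625 = n2816 := ndS (p := 1395) (l := 4) rfl N1395 D2816
theorem N1626 : nd 1626 = n2818 := ndS (p := 1396) (l := 3) rfl N1396 D2818
theorem N1627 : nd 1627 = n2819 := ndS (p := 1397) (l := 4) rfl N1397 D2819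
theorem N1628 : nd 1628 = n2821 := ndS (p := 1399) (l := 2) rfl N1399 D2821
theorem N1629 : nd 1629 = n2849 := ndS (p := 1403) (l := 1) rfl N1403 D2849
theorem N1630 : nd 1630 = n2850 := ndS (p := 1403) (l := 3) rfl N1403 D2850
theorem N1631 : nd 1631 = n2851 := ndS (p := 1404) (l := 0) rfl N1404 D2851
theorem N1632 : nd 1632 = n2852 := ndS (p := 1404) (l := 3) rfl N1404 D2852
theorem N1633 : nd 1633 = n2854 := ndS (p := 1406) (l := 3) rfl N1406 D2854
theorem N1634 : nd 1634 = n2855 := ndS (p := 1407) (l := 2) rfl N1407 D2855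
theorem N1635 : nd 1635 = n2856 := ndS (p := 1407) (l := 4) rfl N1407 D2856
theorem N1636 : nd 1636 = n2857 := ndS (p := 1408) (l := 5) rfl N1408 D2857
theorem N1637 : nd 1637 = n2864 := ndS (p := 1410) (l := 4) rfl N1410 D2864
theorem N1638 : nd 1638 = n2865 := ndS (p := 1410) (l := 6) rfl N1410 D2865
theorem N1639 : nd 1639 = n2870 := ndS (p := 1413) (l := 3) rfl N1413 D2870
theorem N1640 : nd 1640 = n2882 := ndS (p := 1414) (l := 6) rfl N1414 D2882
theorem N1641 : nd 1641 = n2883 := ndS (p := 1415) (l := 7) rfl N1415 D2883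
theorem N1642 : nd 1642 = n2915 := ndS (p := 1418) (l := 3) rfl N1418 D2915
theorem N1643 : nd 1643 = n3019 := ndS (p := 1420) (l := 1) rfl N1420 D3019
theorem N1644 : nd 1644 = n3020 := ndS (p := 1420) (l := 3) rfl N1420 D3020
theorem N1645 : nd 1645 = n3021 := ndS (p := 1421) (l := 1) rfl N1421 D3021
theorem N1646 : nd 1646 = n3022 := ndS (p := 1421) (l := 3) rfl N1421 D3022
theorem N1647 : nd 1647 = n3023 := ndS (p := 1422) (l := 0) rfl N1422 D3023
theorem N1648 : nd 1648 = n3024 := ndS (p := 1422) (l := 3) rfl N1422 D3024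
theorem N1649 : nd 1649 = n3026 := ndS (p := 1424) (l := 1) rfl N1424 D3026
theorem N1650 : nd 1650 = n3028 := ndS (p := 1425) (l := 0) rfl N1425 D3028
theorem N1651 : nd 1651 = n3035 := ndS (p := 1427) (l := 1) rfl N1427 D3035
theorem N1652 : nd 1652 = n3036 := ndS (p := 1427) (l := 3) rfl N1427 D3036
theorem N1653 : nd 1653 = n3037 := ndS (p := 1428) (l := 0) rfl N1428 D3037
theorem N1654 : nd 1654 = n3038 := ndS (p := 1428) (l := 3) rfl N1428 D3038
theorem N1655 : nd 1655 = n3039 := ndS (p := 1429) (l := 4) rfl N1429 D3039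
theorem N1656 : nd 1656 = n3040 := ndS (p := 1430) (l := 0) rfl N1430 D3040
theorem N1657 : nd 1657 = n3041 := ndS (p := 1430) (l := 3) rfl N1430 D3041
theorem N1658 : nd 1658 = n3042 := ndS (p := 1431) (l := 4) rfl N1431 D3042
theorem N1659 : nd 1659 = n3043 := ndS (p := 1432) (l := 3) rfl N1432 D3043
theorem N1660 : nd 1660 = n3044 := ndS (p := 1433) (l := 2) rfl N1433 D3044
theorem N1661 : nd 1661 = n3045 := ndS (p := 1433) (l := 4) rfl N1433 D3045
theorem N1662 : nd 1662 = n3047 := ndS (p := 1435) (l := 3) rfl N1435 D3047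
theorem N1663 : nd 1663 = n3049 := ndS (p := 1436) (l := 4) rfl N1436 D3049
theorem N1664 : nd 1664 = n3052 := ndS (p := 1438) (l := 4) rfl N1438 D3052
theorem N1665 : nd 1665 = n3056 := ndS (p := 1440) (l := 3) rfl N1440 D3056
theorem N1666 : nd 1666 = n3057 := ndS (p := 1441) (l := 2) rfl N1441 D3057
theorem N1667 : nd 1667 = n3058 := ndS (p := 1441) (l := 4) rfl N1441 D3058
theorem N1668 : nd 1668 = n3060 := ndS (p := 1443) (l := 2) rfl N1443 D3060
theorem N1669 : nd 1669 = n3061 := ndS (p := 1443) (l := 4) rfl N1443 D3061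
theorem N1670 : nd 1670 = n3063 := ndS (p := 1444) (l := 6) rfl N1444 D3063
theorem N1671 : nd 1671 = n3076 := ndS (p := 1448) (l := 0) rfl N1448 D3076
theorem N1672 : nd 1672 = n3077 := ndS (p := 1448) (l := 3) rfl N1448 D3077
theorem N1673 : nd 1673 = n3078 := ndS (p := 1449) (l := 4) rfl N1449 D3078
theorem N1674 : nd 1674 = n3079 := ndS (p := 1450) (l := 3) rfl N1450 D3079
theorem N1675 : nd 1675 = n3080 := ndS (p := 1451) (l := 2) rfl N1451 D3080
theorem N1676 : nd 1676 = n3082 := ndS (p := 1452) (l := 5) rfl N1452 D3082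
theorem N1677 : nd 1677 = n3083 := ndS (p := 1453) (l := 3) rfl N1453 D3083
theorem N1678 : nd 1678 = n3084 := ndS (p := 1454) (l := 2) rfl N1454 D3084
theorem N1679 : nd 1679 = n3085 := ndS (p := 1454) (l := 4) rfl N1454 D3085
theorem N1680 : nd 1680 = n3086 := ndS (p := 1455) (l := 5) rfl N1455 D3086
theorem N1681 : nd 1681 = n3087 := ndS (p := 1456) (l := 2) rfl N1456 D3087
theorem N1682 : nd 1682 = n3088 := ndS (p := 1456) (l := 4) rfl N1456 D3088
theorem N1683 : nd 1683 = n3089 := ndS (p := 1457) (l := 4) rfl N1457 D3089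
theorem N1684 : nd 1684 = n3090 := ndS (p := 1457) (l := 6) rfl N1457 D3090
theorem N1685 : nd 1685 = n3091 := ndS (p := 1458) (l := 5) rfl N1458 D3091
theorem N1686 : nd 1686 = n3092 := ndS (p := 1460) (l := 2) rfl N1460 D3092
theorem N1687 : nd 1687 = n3093 := ndS (p := 1460) (l := 4) rfl N1460 D3093
theorem N1688 : nd 1688 = n3094 := ndS (p := 1461) (l := 4) rfl N1461 D3094
theorem N1689 : nd 1689 = n3095 := ndS (p := 1461) (l := 6) rfl N1461 D3095
theorem N1690 : nd 1690 = n3096 := ndS (p := 1462) (l := 5) rfl N1462 D3096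
theorem N1691 : nd 1691 = n3098 := ndS (p := 1464) (l := 4) rfl N1464 D3098
theorem N1692 : nd 1692 = n3099 := ndS (p := 1465) (l := 5) rfl N1465 D3099
theorem N1693 : nd 1693 = n3100 := ndS (p := 1466) (l := 3) rfl N1466 D3100
theorem N1694 : nd 1694 = n3101 := ndS (p := 1466) (l := 5) rfl N1466 D3101
theorem N1695 : nd 1695 = n3107 := ndS (p := 1470) (l := 1) rfl N1470 D3107
theorem N1696 : nd 1696 = n3108 := ndS (p := 1470) (l := 4) rfl N1470 D3108
theorem N1697 : nd 1697 = n3109 := ndS (p := 1470) (l := 6) rfl N1470 D3109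
theorem N1698 : nd 1698 = n3112 := ndS (p := 1472) (l := 6) rfl N1472 D3112
theorem N1699 : nd 1699 = n3113 := ndS (p := 1473) (l := 7) rfl N1473 D3113
theorem N1700 : nd 1700 = n3121 := ndS (p := 1476) (l := 7) rfl N1476 D3121
theorem N1701 : nd 1701 = n3162 := ndS (p := 1478) (l := 7) rfl N1478 D3162
theorem N1702 : nd 1702 = n3239 := ndS (p := 1480) (l := 3) rfl N1480 D3239
theorem N1703 : nd 1703 = n3240 := ndS (p := 1480) (l := 7) rfl N1480 D3240
theorem N1704 : nd 1704 = n3314 := ndS (p := 1482) (l := 3) rfl N1482 D3314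
theorem N1705 : nd 1705 = n3316 := ndS (p := 1482) (l := 6) rfl N1482 D3316
theorem N1706 : nd 1706 = n3414 := ndS (p := 1485) (l := 1) rfl N1485 D3414
theorem N1707 : nd 1707 = n3415 := ndS (p := 1485) (l := 3) rfl N1485 D3415
theorem N1708 : nd 1708 = n3416 := ndS (p := 1486) (l := 1) rfl N1486 D3416
theorem N1709 : nd 1709 = n3417 := ndS (p := 1486) (l := 3) rfl N1486 D3417
theorem N1710 : nd 1710 = n3418 := ndS (p := 1487) (l := 0) rfl N1487 D3418
theorem N1711 : nd 1711 = n3419 := ndS (p := 1487) (l := 3) rfl N1487 D3419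
theorem N1712 : nd 1712 = n3420 := ndS (p := 1488) (l := 4) rfl N1488 D3420
theorem N1713 : nd 1713 = n3421 := ndS (p := 1489) (l := 1) rfl N1489 D3421
theorem N1714 : nd 1714 = n3422 := ndS (p := 1489) (l := 3) rfl N1489 D3422
theorem N1715 : nd 1715 = n3423 := ndS (p := 1490) (l := 1) rfl N1490 D3423
theorem N1716 : nd 1716 = n3424 := ndS (p := 1490) (l := 3) rfl N1490 D3424
theorem N1717 : nd 1717 = n3425 := ndS (p := 1491) (l := 1) rfl N1491 D3425
theorem N1718 : nd 1718 = n3426 := ndS (p := 1491) (l := 3) rfl N1491 D3426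
theorem N1719 : nd 1719 = n3427 := ndS (p := 1492) (l := 0) rfl N1492 D3427
theorem N1720 : nd 1720 = n3428 := ndS (p := 1492) (l := 3) rfl N1492 D3428
theorem N1721 : nd 1721 = n3429 := ndS (p := 1493) (l := 4) rfl N1493 D3429
theorem N1722 : nd 1722 = n3430 := ndS (p := 1494) (l := 0) rfl N1494 D3430
theorem N1723 : nd 1723 = n3431 := ndS (p := 1494) (l := 3) rfl N1494 D3431
theorem N1724 : nd 1724 = n3432 := ndS (p := 1495) (l := 4) rfl N1495 D3432
theorem N1725 : nd 1725 = n3433 := ndS (p := 1496) (l := 3) rfl N1496 D3433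
theorem N1726 : nd 1726 = n3434 := ndS (p := 1497) (l := 2) rfl N1497 D3434
theorem N1727 : nd 1727 = n3435 := ndS (p := 1497) (l := 4) rfl N1497 D3435
theorem N1728 : nd 1728 = n3436 := ndS (p := 1498) (l := 5) rfl N1498 D3436
theorem N1729 : nd 1729 = n3437 := ndS (p := 1499) (l := 0) rfl N1499 D3437
theorem N1730 : nd 1730 = n3438 := ndS (p := 1499) (l := 3) rfl N1499 D3438
theorem N1731 : nd 1731 = n3439 := ndS (p := 1500) (l := 4) rfl N1500 D3439
theorem N1732 : nd 1732 = n3440 := ndS (p := 1501) (l := 3) rfl N1501 D3440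
theorem N1733 : nd 1733 = n3441 := ndS (p := 1502) (l := 2) rfl N1502 D3441
theorem N1734 : nd 1734 = n3442 := ndS (p := 1502) (l := 4) rfl N1502 D3442
theorem N1735 : nd 1735 = n3443 := ndS (p := 1503) (l := 5) rfl N1503 D3443
theorem N1736 : nd 1736 = n3444 := ndS (p := 1504) (l := 2) rfl N1504 D3444
theorem N1737 : nd 1737 = n3445 := ndS (p := 1504) (l := 4) rfl N1504 D3445
theorem N1738 : nd 1738 = n3446 := ndS (p := 1505) (l := 4) rfl N1505 D3446
theorem N1739 : nd 1739 = n3447 := ndS (p := 1505) (l := 6) rfl N1505 D3447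
theorem N1740 : nd 1740 = n3448 := ndS (p := 1506) (l := 5) rfl N1506 D3448
theorem N1741 : nd 1741 = n3449 := ndS (p := 1508) (l := 3) rfl N1508 D3449
theorem N1742 : nd 1742 = n3450 := ndS (p := 1508) (l := 5) rfl N1508 D3450
theorem N1743 : nd 1743 = n3451 := ndS (p := 1508) (l := 6) rfl N1508 D3451
theorem N1744 : nd 1744 = n3452 := ndS (p := 1509) (l := 7) rfl N1509 D3452
theorem N1745 : nd 1745 = n3453 := ndS (p := 1511) (l := 0) rfl N1511 D3453
theorem N1746 : nd 1746 = n3454 := ndS (p := 1511) (l := 3) rfl N1511 D3454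
theorem N1747 : nd 1747 = n3455 := ndS (p := 1512) (l := 4) rfl N1512 D3455
theorem N1748 : nd 1748 = n3456 := ndS (p := 1513) (l := 0) rfl N1513 D3456
theorem N1749 : nd 1749 = n3457 := ndS (p := 1513) (l := 3) rfl N1513 D3457
theorem N1750 : nd 1750 = n3458 := ndS (p := 1514) (l := 4) rfl N1514 D3458
theorem N1751 : nd 1751 = n3459 := ndS (p := 1515) (l := 0) rfl N1515 D3459
theorem N1752 : nd 1752 = n3460 := ndS (p := 1515) (l := 3) rfl N1515 D3460
theorem N1753 : nd 1753 = n3461 := ndS (p := 1516) (l := 4) rfl N1516 D3461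
theorem N1754 : nd 1754 = n3462 := ndS (p := 1517) (l := 3) rfl N1517 D3462
theorem N1755 : nd 1755 = n3463 := ndS (p := 1518) (l := 2) rfl N1518 D3463
theorem N1756 : nd 1756 = n3464 := ndS (p := 1518) (l := 4) rfl N1518 D3464
theorem N1757 : nd 1757 = n3465 := ndS (p := 1519) (l := 5) rfl N1519 D3465
theorem N1758 : nd 1758 = n3466 := ndS (p := 1520) (l := 3) rfl N1520 D3466
theorem N1759 : nd 1759 = n3467 := ndS (p := 1521) (l := 2) rfl N1521 D3467
theorem N1760 : nd 1760 = n3468 := ndS (p := 1521) (l := 4) rfl N1521 D3468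
theorem N1761 : nd 1761 = n3469 := ndS (p := 1522) (l := 5) rfl N1522 D3469
theorem N1762 : nd 1762 = n3470 := ndS (p := 1523) (l := 2) rfl N1523 D3470
theorem N1763 : nd 1763 = n3471 := ndS (p := 1523) (l := 4) rfl N1523 D3471
theorem N1764 : nd 1764 = n3472 := ndS (p := 1524) (l := 4) rfl N1524 D3472
theorem N1765 : nd 1765 = n3473 := ndS (p := 1525) (l := 5) rfl N1525 D3473
theorem N1766 : nd 1766 = n3474 := ndS (p := 1527) (l := 3) rfl N1527 D3474
theorem N1767 : nd 1767 = n3475 := ndS (p := 1528) (l := 2) rfl N1528 D3475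
theorem N1768 : nd 1768 = n3476 := ndS (p := 1528) (l := 4) rfl N1528 D3476
theorem N1769 : nd 1769 = n3477 := ndS (p := 1529) (l := 5) rfl N1529 D3477
theorem N1770 : nd 1770 = n3478 := ndS (p := 1530) (l := 2) rfl N1530 D3478
theorem N1771 : nd 1771 = n3479 := ndS (p := 1530) (l := 4) rfl N1530 D3479
theorem N1772 : nd 1772 = n3480 := ndS (p := 1531) (l := 4) rfl N1531 D3480
theorem N1773 : nd 1773 = n3481 := ndS (p := 1531) (l := 6) rfl N1531 D3481
theorem N1774 : nd 1774 = n3482 := ndS (p := 1532) (l := 5) rfl N1532 D3482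
theorem N1775 : nd 1775 = n3483 := ndS (p := 1534) (l := 5) rfl N1534 D3483
theorem N1776 : nd 1776 = n3484 := ndS (p := 1536) (l := 2) rfl N1536 D3484
theorem N1777 : nd 1777 = n3485 := ndS (p := 1536) (l := 4) rfl N1536 D3485
theorem N1778 : nd 1778 = n3486 := ndS (p := 1537) (l := 4) rfl N1537 D3486
theorem N1779 : nd 1779 = n3487 := ndS (p := 1537) (l := 6) rfl N1537 D3487
theorem N1780 : nd 1780 = n3488 := ndS (p := 1539) (l := 1) rfl N1539 D3488
theorem N1781 : nd 1781 = n3489 := ndS (p := 1539) (l := 6) rfl N1539 D3489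
theorem N1782 : nd 1782 = n3490 := ndS (p := 1540) (l := 7) rfl N1540 D3490
theorem N1783 : nd 1783 = n3491 := ndS (p := 1541) (l := 1) rfl N1541 D3491
theorem N1784 : nd 1784 = n3492 := ndS (p := 1541) (l := 3) rfl N1541 D3492
theorem N1785 : nd 1785 = n3493 := ndS (p := 1542) (l := 1) rfl N1542 D3493
theorem N1786 : nd 1786 = n3494 := ndS (p := 1542) (l := 3) rfl N1542 D3494
theorem N1787 : nd 1787 = n3495 := ndS (p := 1543) (l := 1) rfl N1543 D3495
theorem N1788 : nd 1788 = n3496 := ndS (p := 1543) (l := 3) rfl N1543 D3496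
theorem N1789 : nd 1789 = n3497 := ndS (p := 1544) (l := 0) rfl N1544 D3497
theorem N1790 : nd 1790 = n3498 := ndS (p := 1544) (l := 3) rfl N1544 D3498
theorem N1791 : nd 1791 = n3499 := ndS (p := 1545) (l := 4) rfl N1545 D3499
theorem N1792 : nd 1792 = n3500 := ndS (p := 1546) (l := 1) rfl N1546 D3500
theorem N1793 : nd 1793 = n3501 := ndS (p := 1546) (l := 3) rfl N1546 D3501
theorem N1794 : nd 1794 = n3502 := ndS (p := 1547) (l := 0) rfl N1547 D3502
theorem N1795 : nd 1795 = n3503 := ndS (p := 1547) (l := 3) rfl N1547 D3503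
theorem N1796 : nd 1796 = n3504 := ndS (p := 1548) (l := 4) rfl N1548 D3504
theorem N1797 : nd 1797 = n3505 := ndS (p := 1549) (l := 3) rfl N1549 D3505
theorem N1798 : nd 1798 = n3506 := ndS (p := 1550) (l := 2) rfl N1550 D3506
theorem N1799 : nd 1799 = n3507 := ndS (p := 1550) (l := 4) rfl N1550 D3507
theorem N1800 : nd 1800 = n3508 := ndS (p := 1551) (l := 5) rfl N1551 D3508
theorem N1801 : nd 1801 = n3509 := ndS (p := 1552) (l := 0) rfl N1552 D3509
theorem N1802 : nd 1802 = n3510 := ndS (p := 1552) (l := 3) rfl N1552 D3510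
theorem N1803 : nd 1803 = n3511 := ndS (p := 1553) (l := 4) rfl N1553 D3511
theorem N1804 : nd 1804 = n3512 := ndS (p := 1554) (l := 0) rfl N1554 D3512
theorem N1805 : nd 1805 = n3513 := ndS (p := 1554) (l := 3) rfl N1554 D3513
theorem N1806 : nd 1806 = n3514 := ndS (p := 1555) (l := 4) rfl N1555 D3514
theorem N1807 : nd 1807 = n3515 := ndS (p := 1556) (l := 0) rfl N1556 D3515
theorem N1808 : nd 1808 = n3516 := ndS (p := 1556) (l := 3) rfl N1556 D3516
theorem N1809 : nd 1809 = n3517 := ndS (p := 1557) (l := 4) rfl N1557 D3517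
theorem N1810 : nd 1810 = n3518 := ndS (p := 1558) (l := 3) rfl N1558 D3518
theorem N1811 : nd 1811 = n3519 := ndS (p := 1559) (l := 2) rfl N1559 D3519
theorem N1812 : nd 1812 = n3520 := ndS (p := 1559) (l := 4) rfl N1559 D3520
theorem N1813 : nd 1813 = n3522 := ndS (p := 1561) (l := 3) rfl N1561 D3522
theorem N1814 : nd 1814 = n3523 := ndS (p := 1562) (l := 2) rfl N1562 D3523
theorem N1815 : nd 1815 = n3524 := ndS (p := 1562) (l := 4) rfl N1562 D3524
theorem N1816 : nd 1816 = n3526 := ndS (p := 1564) (l := 2) rfl N1564 D3526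
theorem N1817 : nd 1817 = n3527 := ndS (p := 1564) (l := 4) rfl N1564 D3527
theorem N1818 : nd 1818 = n3531 := ndS (p := 1567) (l := 3) rfl N1567 D3531
theorem N1819 : nd 1819 = n3532 := ndS (p := 1568) (l := 2) rfl N1568 D3532
theorem N1820 : nd 1820 = n3533 := ndS (p := 1568) (l := 4) rfl N1568 D3533
theorem N1821 : nd 1821 = n3535 := ndS (p := 1570) (l := 2) rfl N1570 D3535
theorem N1822 : nd 1822 = n3536 := ndS (p := 1570) (l := 4) rfl N1570 D3536
theorem N1823 : nd 1823 = n3538 := ndS (p := 1571) (l := 6) rfl N1571 D3538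
theorem N1824 : nd 1824 = n3551 := ndS (p := 1575) (l := 0) rfl N1575 D3551
theorem N1825 : nd 1825 = n3552 := ndS (p := 1575) (l := 3) rfl N1575 D3552
theorem N1826 : nd 1826 = n3553 := ndS (p := 1576) (l := 4) rfl N1576 D3553
theorem N1827 : nd 1827 = n3554 := ndS (p := 1577) (l := 0) rfl N1577 D3554
theorem N1828 : nd 1828 = n3555 := ndS (p := 1577) (l := 3) rfl N1577 D3555
theorem N1829 : nd 1829 = n3556 := ndS (p := 1578) (l := 4) rfl N1578 D3556
theorem N1830 : nd 1830 = n3557 := ndS (p := 1579) (l := 3) rfl N1579 D3557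
theorem N1831 : nd 1831 = n3558 := ndS (p := 1580) (l := 2) rfl N1580 D3558
theorem N1832 : nd 1832 = n3559 := ndS (p := 1580) (l := 4) rfl N1580 D3559
theorem N1833 : nd 1833 = n3560 := ndS (p := 1581) (l := 5) rfl N1581 D3560
theorem N1834 : nd 1834 = n3561 := ndS (p := 1582) (l := 0) rfl N1582 D3561
theorem N1835 : nd 1835 = n3562 := ndS (p := 1582) (l := 3) rfl N1582 D3562
theorem N1836 : nd 1836 = n3563 := ndS (p := 1583) (l := 4) rfl N1583 D3563
theorem N1837 : nd 1837 = n3564 := ndS (p := 1584) (l := 3) rfl N1584 D3564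
theorem N1838 : nd 1838 = n3565 := ndS (p := 1585) (l := 2) rfl N1585 D3565
theorem N1839 : nd 1839 = n3567 := ndS (p := 1586) (l := 5) rfl N1586 D3567
theorem N1840 : nd 1840 = n3568 := ndS (p := 1587) (l := 3) rfl N1587 D3568
theorem N1841 : nd 1841 = n3569 := ndS (p := 1588) (l := 2) rfl N1588 D3569
theorem N1842 : nd 1842 = n3570 := ndS (p := 1588) (l := 4) rfl N1588 D3570
theorem N1843 : nd 1843 = n3571 := ndS (p := 1589) (l := 5) rfl N1589 D3571
theorem N1844 : nd 1844 = n3572 := ndS (p := 1590) (l := 2) rfl N1590 D3572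
theorem N1845 : nd 1845 = n3573 := ndS (p := 1590) (l := 4) rfl N1590 D3573
theorem N1846 : nd 1846 = n3574 := ndS (p := 1591) (l := 4) rfl N1591 D3574
theorem N1847 : nd 1847 = n3575 := ndS (p := 1591) (l := 6) rfl N1591 D3575
theorem N1848 : nd 1848 = n3576 := ndS (p := 1592) (l := 5) rfl N1592 D3576
theorem N1849 : nd 1849 = n3577 := ndS (p := 1594) (l := 2) rfl N1594 D3577
theorem N1850 : nd 1850 = n3578 := ndS (p := 1594) (l := 4) rfl N1594 D3578
theorem N1851 : nd 1851 = n3579 := ndS (p := 1595) (l := 4) rfl N1595 D3579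
theorem N1852 : nd 1852 = n3580 := ndS (p := 1595) (l := 6) rfl N1595 D3580
theorem N1853 : nd 1853 = n3581 := ndS (p := 1596) (l := 5) rfl N1596 D3581
theorem N1854 : nd 1854 = n3582 := ndS (p := 1598) (l := 1) rfl N1598 D3582
theorem N1855 : nd 1855 = n3583 := ndS (p := 1598) (l := 4) rfl N1598 D3583
theorem N1856 : nd 1856 = n3584 := ndS (p := 1599) (l := 5) rfl N1599 D3584
theorem N1857 : nd 1857 = n3585 := ndS (p := 1600) (l := 3) rfl N1600 D3585
theorem N1858 : nd 1858 = n3586 := ndS (p := 1600) (l := 5) rfl N1600 D3586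
theorem N1859 : nd 1859 = n3592 := ndS (p := 1604) (l := 1) rfl N1604 D3592
theorem N1860 : nd 1860 = n3593 := ndS (p := 1604) (l := 4) rfl N1604 D3593
theorem N1861 : nd 1861 = n3594 := ndS (p := 1604) (l := 6) rfl N1604 D3594
theorem N1862 : nd 1862 = n3597 := ndS (p := 1606) (l := 6) rfl N1606 D3597
theorem N1863 : nd 1863 = n3598 := ndS (p := 1607) (l := 7) rfl N1607 D3598
theorem N1864 : nd 1864 = n3606 := ndS (p := 1610) (l := 7) rfl N1610 D3606
theorem N1865 : nd 1865 = n3607 := ndS (p := 1612) (l := 1) rfl N1612 D3607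
theorem N1866 : nd 1866 = n3608 := ndS (p := 1612) (l := 3) rfl N1612 D3608
theorem N1867 : nd 1867 = n3609 := ndS (p := 1613) (l := 1) rfl N1613 D3609
theorem N1868 : nd 1868 = n3610 := ndS (p := 1613) (l := 3) rfl N1613 D3610
theorem N1869 : nd 1869 = n3611 := ndS (p := 1614) (l := 0) rfl N1614 D3611
theorem N1870 : nd 1870 = n3612 := ndS (p := 1614) (l := 3) rfl N1614 D3612
theorem N1871 : nd 1871 = n3613 := ndS (p := 1615) (l := 4) rfl N1615 D3613
theorem N1872 : nd 1872 = n3615 := ndS (p := 1616) (l := 3) rfl N1616 D3615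
theorem N1873 : nd 1873 = n3617 := ndS (p := 1618) (l := 3) rfl N1618 D3617
theorem N1874 : nd 1874 = n3618 := ndS (p := 1619) (l := 2) rfl N1619 D3618
theorem N1875 : nd 1875 = n3626 := ndS (p := 1621) (l := 0) rfl N1621 D3626
theorem N1876 : nd 1876 = n3627 := ndS (p := 1621) (l := 3) rfl N1621 D3627
theorem N1877 : nd 1877 = n3628 := ndS (p := 1622) (l := 4) rfl N1622 D3628
theorem N1878 : nd 1878 = n3629 := ndS (p := 1623) (l := 3) rfl N1623 D3629
theorem N1879 : nd 1879 = n3630 := ndS (p := 1624) (l := 2) rfl N1624 D3630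
theorem N1880 : nd 1880 = n3631 := ndS (p := 1624) (l := 4) rfl N1624 D3631
theorem N1881 : nd 1881 = n3634 := ndS (p := 1626) (l := 2) rfl N1626 D3634
theorem N1882 : nd 1882 = n3676 := ndS (p := 1629) (l := 0) rfl N1629 D3676
theorem N1883 : nd 1883 = n3677 := ndS (p := 1629) (l := 3) rfl N1629 D3677
theorem N1884 : nd 1884 = n3679 := ndS (p := 1631) (l := 3) rfl N1631 D3679
theorem N1885 : nd 1885 = n3683 := ndS (p := 1633) (l := 2) rfl N1633 D3683
theorem N1886 : nd 1886 = n3684 := ndS (p := 1633) (l := 4) rfl N1633 D3684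
theorem N1887 : nd 1887 = n3685 := ndS (p := 1634) (l := 4) rfl N1634 D3685
theorem N1888 : nd 1888 = n3686 := ndS (p := 1634) (l := 6) rfl N1634 D3686
theorem N1889 : nd 1889 = n3687 := ndS (p := 1635) (l := 5) rfl N1635 D3687
theorem N1890 : nd 1890 = n3697 := ndS (p := 1637) (l := 3) rfl N1637 D3697
theorem N1891 : nd 1891 = n3699 := ndS (p := 1637) (l := 6) rfl N1637 D3699
theorem N1892 : nd 1892 = n3700 := ndS (p := 1638) (l := 7) rfl N1638 D3700
theorem N1893 : nd 1893 = n3719 := ndS (p := 1640) (l := 7) rfl N1640 D3719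
theorem N1894 : nd 1894 = n3895 := ndS (p := 1643) (l := 0) rfl N1643 D3895
theorem N1895 : nd 1895 = n3896 := ndS (p := 1643) (l := 3) rfl N1643 D3896
theorem N1896 : nd 1896 = n3897 := ndS (p := 1644) (l := 4) rfl N1644 D3897
theorem N1897 : nd 1897 = n3898 := ndS (p := 1645) (l := 0) rfl N1645 D3898
theorem N1898 : nd 1898 = n3899 := ndS (p := 1645) (l := 3) rfl N1645 D3899
theorem N1899 : nd 1899 = n3901 := ndS (p := 1647) (l := 3) rfl N1647 D3901
theorem N1900 : nd 1900 = n3902 := ndS (p := 1648) (l := 2) rfl N1648 D3902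
theorem N1901 : nd 1901 = n3905 := ndS (p := 1649) (l := 0) rfl N1649 D3905
theorem N1902 : nd 1902 = n3917 := ndS (p := 1651) (l := 0) rfl N1651 D3917
theorem N1903 : nd 1903 = n3918 := ndS (p := 1651) (l := 3) rfl N1651 D3918
theorem N1904 : nd 1904 = n3919 := ndS (p := 1652) (l := 4) rfl N1652 D3919
theorem N1905 : nd 1905 = n3920 := ndS (p := 1653) (l := 3) rfl N1653 D3920
theorem N1906 : nd 1906 = n3921 := ndS (p := 1654) (l := 2) rfl N1654 D3921
theorem N1907 : nd 1907 = n3922 := ndS (p := 1654) (l := 4) rfl N1654 D3922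
theorem N1908 : nd 1908 = n3924 := ndS (p := 1656) (l := 3) rfl N1656 D3924
theorem N1909 : nd 1909 = n3925 := ndS (p := 1657) (l := 2) rfl N1657 D3925
theorem N1910 : nd 1910 = n3926 := ndS (p := 1657) (l := 4) rfl N1657 D3926
theorem N1911 : nd 1911 = n3928 := ndS (p := 1659) (l := 2) rfl N1659 D3928
theorem N1912 : nd 1912 = n3929 := ndS (p := 1659) (l := 4) rfl N1659 D3929
theorem N1913 : nd 1913 = n3930 := ndS (p := 1660) (l := 4) rfl N1660 D3930
theorem N1914 : nd 1914 = n3931 := ndS (p := 1660) (l := 6) rfl N1660 D3931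
theorem N1915 : nd 1915 = n3934 := ndS (p := 1662) (l := 4) rfl N1662 D3934
theorem N1916 : nd 1916 = n3946 := ndS (p := 1665) (l := 2) rfl N1665 D3946
theorem N1917 : nd 1917 = n3947 := ndS (p := 1665) (l := 4) rfl N1665 D3947
theorem N1918 : nd 1918 = n3949 := ndS (p := 1666) (l := 6) rfl N1666 D3949
theorem N1919 : nd 1919 = n3953 := ndS (p := 1668) (l := 6) rfl N1668 D3953
theorem N1920 : nd 1920 = n3958 := ndS (p := 1670) (l := 7) rfl N1670 D3958
theorem N1921 : nd 1921 = n3972 := ndS (p := 1671) (l := 3) rfl N1671 D3972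
theorem N1922 : nd 1922 = n3973 := ndS (p := 1672) (l := 2) rfl N1672 D3973
theorem N1923 : nd 1923 = n3975 := ndS (p := 1673) (l := 5) rfl N1673 D3975
theorem N1924 : nd 1924 = n3976 := ndS (p := 1674) (l := 2) rfl N1674 D3976
theorem N1925 : nd 1925 = n3981 := ndS (p := 1677) (l := 2) rfl N1677 D3981
theorem N1926 : nd 1926 = n3982 := ndS (p := 1677) (l := 4) rfl N1677 D3982
theorem N1927 : nd 1927 = n3983 := ndS (p := 1678) (l := 4) rfl N1678 D3983
theorem N1928 : nd 1928 = n3984 := ndS (p := 1678) (l := 6) rfl N1678 D3984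
theorem N1929 : nd 1929 = n3985 := ndS (p := 1679) (l := 5) rfl N1679 D3985
theorem N1930 : nd 1930 = n3986 := ndS (p := 1681) (l := 1) rfl N1681 D3986
theorem N1931 : nd 1931 = n3987 := ndS (p := 1681) (l := 4) rfl N1681 D3987
theorem N1932 : nd 1932 = n3988 := ndS (p := 1681) (l := 6) rfl N1681 D3988
theorem N1933 : nd 1933 = n3989 := ndS (p := 1682) (l := 5) rfl N1682 D3989
theorem N1934 : nd 1934 = n3990 := ndS (p := 1683) (l := 3) rfl N1683 D3990
theorem N1935 : nd 1935 = n3991 := ndS (p := 1683) (l := 5) rfl N1683 D3991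
theorem N1936 : nd 1936 = n3992 := ndS (p := 1683) (l := 6) rfl N1683 D3992
theorem N1937 : nd 1937 = n3993 := ndS (p := 1684) (l := 7) rfl N1684 D3993
theorem N1938 : nd 1938 = n3995 := ndS (p := 1686) (l := 4) rfl N1686 D3995
theorem N1939 : nd 1939 = n3996 := ndS (p := 1686) (l := 6) rfl N1686 D3996
theorem N1940 : nd 1940 = n3997 := ndS (p := 1687) (l := 5) rfl N1687 D3997
theorem N1941 : nd 1941 = n3998 := ndS (p := 1688) (l := 3) rfl N1688 D3998
theorem N1942 : nd 1942 = n3999 := ndS (p := 1688) (l := 5) rfl N1688 D3999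
theorem N1943 : nd 1943 = n4000 := ndS (p := 1688) (l := 6) rfl N1688 D4000
theorem N1944 : nd 1944 = n4002 := ndS (p := 1691) (l := 3) rfl N1691 D4002
theorem N1945 : nd 1945 = n4003 := ndS (p := 1691) (l := 5) rfl N1691 D4003
theorem N1946 : nd 1946 = n4004 := ndS (p := 1693) (l := 5) rfl N1693 D4004
theorem N1947 : nd 1947 = n4016 := ndS (p := 1696) (l := 6) rfl N1696 D4016
theorem N1948 : nd 1948 = n4017 := ndS (p := 1697) (l := 7) rfl N1697 D4017
theorem N1949 : nd 1949 = n4019 := ndS (p := 1698) (l := 7) rfl N1698 D4019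
theorem N1950 : nd 1950 = n4388 := ndS (p := 1706) (l := 0) rfl N1706 D4388
theorem N1951 : nd 1951 = n4389 := ndS (p := 1706) (l := 3) rfl N1706 D4389
theorem N1952 : nd 1952 = n4390 := ndS (p := 1707) (l := 4) rfl N1707 D4390
theorem N1953 : nd 1953 = n4391 := ndS (p := 1708) (l := 0) rfl N1708 D4391
theorem N1954 : nd 1954 = n4392 := ndS (p := 1708) (l := 3) rfl N1708 D4392
theorem N1955 : nd 1955 = n4393 := ndS (p := 1709) (l := 4) rfl N1709 D4393
theorem N1956 : nd 1956 = n4394 := ndS (p := 1710) (l := 3) rfl N1710 D4394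
theorem N1957 : nd 1957 = n4395 := ndS (p := 1711) (l := 2) rfl N1711 D4395
theorem N1958 : nd 1958 = n4396 := ndS (p := 1711) (l := 4) rfl N1711 D4396
theorem N1959 : nd 1959 = n4397 := ndS (p := 1712) (l := 5) rfl N1712 D4397
theorem N1960 : nd 1960 = n4398 := ndS (p := 1713) (l := 0) rfl N1713 D4398
theorem N1961 : nd 1961 = n4399 := ndS (p := 1713) (l := 3) rfl N1713 D4399
theorem N1962 : nd 1962 = n4400 := ndS (p := 1714) (l := 4) rfl N1714 D4400
theorem N1963 : nd 1963 = n4401 := ndS (p := 1715) (l := 0) rfl N1715 D4401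
theorem N1964 : nd 1964 = n4402 := ndS (p := 1715) (l := 3) rfl N1715 D4402
theorem N1965 : nd 1965 = n4403 := ndS (p := 1716) (l := 4) rfl N1716 D4403
theorem N1966 : nd 1966 = n4404 := ndS (p := 1717) (l := 0) rfl N1717 D4404
theorem N1967 : nd 1967 = n4405 := ndS (p := 1717) (l := 3) rfl N1717 D4405
theorem N1968 : nd 1968 = n4406 := ndS (p := 1718) (l := 4) rfl N1718 D4406
theorem N1969 : nd 1969 = n4407 := ndS (p := 1719) (l := 3) rfl N1719 D4407
theorem N1970 : nd 1970 = n4408 := ndS (p := 1720) (l := 2) rfl N1720 D4408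
theorem N1971 : nd 1971 = n4409 := ndS (p := 1720) (l := 4) rfl N1720 D4409
theorem N1972 : nd 1972 = n4410 := ndS (p := 1721) (l := 5) rfl N1721 D4410
theorem N1973 : nd 1973 = n4411 := ndS (p := 1722) (l := 3) rfl N1722 D4411
theorem N1974 : nd 1974 = n4412 := ndS (p := 1723) (l := 2) rfl N1723 D4412
theorem N1975 : nd 1975 = n4413 := ndS (p := 1723) (l := 4) rfl N1723 D4413
theorem N1976 : nd 1976 = n4414 := ndS (p := 1724) (l := 5) rfl N1724 D4414
theorem N1977 : nd 1977 = n4415 := ndS (p := 1725) (l := 2) rfl N1725 D4415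
theorem N1978 : nd 1978 = n4416 := ndS (p := 1725) (l := 4) rfl N1725 D4416
theorem N1979 : nd 1979 = n4417 := ndS (p := 1726) (l := 4) rfl N1726 D4417
theorem N1980 : nd 1980 = n4418 := ndS (p := 1726) (l := 6) rfl N1726 D4418
theorem N1981 : nd 1981 = n4419 := ndS (p := 1727) (l := 5) rfl N1727 D4419
theorem N1982 : nd 1982 = n4420 := ndS (p := 1729) (l := 3) rfl N1729 D4420
theorem N1983 : nd 1983 = n4421 := ndS (p := 1730) (l := 2) rfl N1730 D4421
theorem N1984 : nd 1984 = n4422 := ndS (p := 1730) (l := 4) rfl N1730 D4422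
theorem N1985 : nd 1985 = n4423 := ndS (p := 1731) (l := 5) rfl N1731 D4423
theorem N1986 : nd 1986 = n4424 := ndS (p := 1732) (l := 2) rfl N1732 D4424
theorem N1987 : nd 1987 = n4425 := ndS (p := 1732) (l := 4) rfl N1732 D4425
theorem N1988 : nd 1988 = n4426 := ndS (p := 1733) (l := 4) rfl N1733 D4426
theorem N1989 : nd 1989 = n4427 := ndS (p := 1733) (l := 6) rfl N1733 D4427
theorem N1990 : nd 1990 = n4428 := ndS (p := 1734) (l := 5) rfl N1734 D4428
theorem N1991 : nd 1991 = n4429 := ndS (p := 1736) (l := 4) rfl N1736 D4429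
theorem N1992 : nd 1992 = n4430 := ndS (p := 1736) (l := 6) rfl N1736 D4430
theorem N1993 : nd 1993 = n4431 := ndS (p := 1737) (l := 5) rfl N1737 D4431
theorem N1994 : nd 1994 = n4432 := ndS (p := 1738) (l := 3) rfl N1738 D4432
theorem N1995 : nd 1995 = n4433 := ndS (p := 1738) (l := 5) rfl N1738 D4433
theorem N1996 : nd 1996 = n4434 := ndS (p := 1738) (l := 6) rfl N1738 D4434
theorem N1997 : nd 1997 = n4435 := ndS (p := 1739) (l := 7) rfl N1739 D4435
theorem N1998 : nd 1998 = n4440 := ndS (p := 1745) (l := 3) rfl N1745 D4440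
theorem N1999 : nd 1999 = n4441 := ndS (p := 1746) (l := 2) rfl N1746 D4441
theorem N2000 : nd 2000 = n4442 := ndS (p := 1746) (l := 4) rfl N1746 D4442
theorem N2001 : nd 2001 = n4443 := ndS (p := 1747) (l := 5) rfl N1747 D4443
theorem N2002 : nd 2002 = n4444 := ndS (p := 1748) (l := 3) rfl N1748 D4444
theorem N2003 : nd 2003 = n4445 := ndS (p := 1749) (l := 2) rfl N1749 D4445
theorem N2004 : nd 2004 = n4446 := ndS (p := 1749) (l := 4) rfl N1749 D4446
theorem N2005 : nd 2005 = n4447 := ndS (p := 1750) (l := 5) rfl N1750 D4447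
theorem N2006 : nd 2006 = n4448 := ndS (p := 1751) (l := 3) rfl N1751 D4448
theorem N2007 : nd 2007 = n4449 := ndS (p := 1752) (l := 2) rfl N1752 D4449
theorem N2008 : nd 2008 = n4450 := ndS (p := 1752) (l := 4) rfl N1752 D4450
theorem N2009 : nd 2009 = n4451 := ndS (p := 1753) (l := 5) rfl N1753 D4451
theorem N2010 : nd 2010 = n4452 := ndS (p := 1754) (l := 2) rfl N1754 D4452
theorem N2011 : nd 2011 = n4453 := ndS (p := 1754) (l := 4) rfl N1754 D4453
theorem N2012 : nd 2012 = n4454 := ndS (p := 1755) (l := 4) rfl N1755 D4454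
theorem N2013 : nd 2013 = n4455 := ndS (p := 1755) (l := 6) rfl N1755 D4455
theorem N2014 : nd 2014 = n4456 := ndS (p := 1756) (l := 5) rfl N1756 D4456
theorem N2015 : nd 2015 = n4457 := ndS (p := 1758) (l := 2) rfl N1758 D4457
theorem N2016 : nd 2016 = n4458 := ndS (p := 1758) (l := 4) rfl N1758 D4458
theorem N2017 : nd 2017 = n4459 := ndS (p := 1759) (l := 4) rfl N1759 D4459
theorem N2018 : nd 2018 = n4460 := ndS (p := 1759) (l := 6) rfl N1759 D4460
theorem N2019 : nd 2019 = n4461 := ndS (p := 1760) (l := 5) rfl N1760 D4461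
theorem N2020 : nd 2020 = n4462 := ndS (p := 1762) (l := 1) rfl N1762 D4462
theorem N2021 : nd 2021 = n4463 := ndS (p := 1762) (l := 4) rfl N1762 D4463
theorem N2022 : nd 2022 = n4464 := ndS (p := 1763) (l := 5) rfl N1763 D4464
theorem N2023 : nd 2023 = n4465 := ndS (p := 1764) (l := 3) rfl N1764 D4465
theorem N2024 : nd 2024 = n4466 := ndS (p := 1764) (l := 5) rfl N1764 D4466
theorem N2025 : nd 2025 = n4467 := ndS (p := 1766) (l := 2) rfl N1766 D4467
theorem N2026 : nd 2026 = n4468 := ndS (p := 1766) (l := 4) rfl N1766 D4468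
theorem N2027 : nd 2027 = n4469 := ndS (p := 1767) (l := 4) rfl N1767 D4469
theorem N2028 : nd 2028 = n4470 := ndS (p := 1767) (l := 6) rfl N1767 D4470
theorem N2029 : nd 2029 = n4471 := ndS (p := 1768) (l := 5) rfl N1768 D4471
theorem N2030 : nd 2030 = n4472 := ndS (p := 1770) (l := 1) rfl N1770 D4472
theorem N2031 : nd 2031 = n4473 := ndS (p := 1770) (l := 4) rfl N1770 D4473
theorem N2032 : nd 2032 = n4474 := ndS (p := 1770) (l := 6) rfl N1770 D4474
theorem N2033 : nd 2033 = n4475 := ndS (p := 1771) (l := 5) rfl N1771 D4475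
theorem N2034 : nd 2034 = n4476 := ndS (p := 1772) (l := 5) rfl N1772 D4476
theorem N2035 : nd 2035 = n4477 := ndS (p := 1772) (l := 6) rfl N1772 D4477
theorem N2036 : nd 2036 = n4478 := ndS (p := 1773) (l := 7) rfl N1773 D4478
theorem N2037 : nd 2037 = n4479 := ndS (p := 1776) (l := 1) rfl N1776 D4479
theorem N2038 : nd 2038 = n4480 := ndS (p := 1776) (l := 4) rfl N1776 D4480
theorem N2039 : nd 2039 = n4481 := ndS (p := 1776) (l := 6) rfl N1776 D4481
theorem N2040 : nd 2040 = n4482 := ndS (p := 1778) (l := 3) rfl N1778 D4482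
theorem N2041 : nd 2041 = n4484 := ndS (p := 1779) (l := 7) rfl N1779 D4484
theorem N2042 : nd 2042 = n4485 := ndS (p := 1780) (l := 6) rfl N1780 D4485
theorem N2043 : nd 2043 = n4486 := ndS (p := 1781) (l := 7) rfl N1781 D4486
theorem N2044 : nd 2044 = n4487 := ndS (p := 1783) (l := 0) rfl N1783 D4487
theorem N2045 : nd 2045 = n4488 := ndS (p := 1783) (l := 3) rfl N1783 D4488
theorem N2046 : nd 2046 = n4489 := ndS (p := 1784) (l := 4) rfl N1784 D4489
theorem N2047 : nd 2047 = n4490 := ndS (p := 1785) (l := 0) rfl N1785 D4490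
theorem N2048 : nd 2048 = n4491 := ndS (p := 1785) (l := 3) rfl N1785 D4491
theorem N2049 : nd 2049 = n4492 := ndS (p := 1786) (l := 4) rfl N1786 D4492
theorem N2050 : nd 2050 = n4493 := ndS (p := 1787) (l := 0) rfl N1787 D4493
theorem N2051 : nd 2051 = n4494 := ndS (p := 1787) (l := 3) rfl N1787 D4494
theorem N2052 : nd 2052 = n4495 := ndS (p := 1788) (l := 4) rfl N1788 D4495
theorem N2053 : nd 2053 = n4496 := ndS (p := 1789) (l := 3) rfl N1789 D4496
theorem N2054 : nd 2054 = n4497 := ndS (p := 1790) (l := 2) rfl N1790 D4497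
theorem N2055 : nd 2055 = n4498 := ndS (p := 1790) (l := 4) rfl N1790 D4498
theorem N2056 : nd 2056 = n4499 := ndS (p := 1791) (l := 5) rfl N1791 D4499
theorem N2057 : nd 2057 = n4500 := ndS (p := 1792) (l := 0) rfl N1792 D4500
theorem N2058 : nd 2058 = n4501 := ndS (p := 1792) (l := 3) rfl N1792 D4501
theorem N2059 : nd 2059 = n4502 := ndS (p := 1793) (l := 4) rfl N1793 D4502
theorem N2060 : nd 2060 = n4503 := ndS (p := 1794) (l := 3) rfl N1794 D4503
theorem N2061 : nd 2061 = n4504 := ndS (p := 1795) (l := 2) rfl N1795 D4504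
theorem N2062 : nd 2062 = n4505 := ndS (p := 1795) (l := 4) rfl N1795 D4505
theorem N2063 : nd 2063 = n4506 := ndS (p := 1796) (l := 5) rfl N1796 D4506
theorem N2064 : nd 2064 = n4507 := ndS (p := 1797) (l := 2) rfl N1797 D4507
theorem N2065 : nd 2065 = n4508 := ndS (p := 1797) (l := 4) rfl N1797 D4508
theorem N2066 : nd 2066 = n4509 := ndS (p := 1798) (l := 4) rfl N1798 D4509
theorem N2067 : nd 2067 = n4511 := ndS (p := 1799) (l := 5) rfl N1799 D4511
theorem N2068 : nd 2068 = n4512 := ndS (p := 1801) (l := 3) rfl N1801 D4512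
theorem N2069 : nd 2069 = n4513 := ndS (p := 1802) (l := 2) rfl N1802 D4513
theorem N2070 : nd 2070 = n4514 := ndS (p := 1802) (l := 4) rfl N1802 D4514
theorem N2071 : nd 2071 = n4516 := ndS (p := 1804) (l := 3) rfl N1804 D4516
theorem N2072 : nd 2072 = n4517 := ndS (p := 1805) (l := 2) rfl N1805 D4517
theorem N2073 : nd 2073 = n4518 := ndS (p := 1805) (l := 4) rfl N1805 D4518
theorem N2074 : nd 2074 = n4520 := ndS (p := 1807) (l := 3) rfl N1807 D4520
theorem N2075 : nd 2075 = n4521 := ndS (p := 1808) (l := 2) rfl N1808 D4521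
theorem N2076 : nd 2076 = n4522 := ndS (p := 1808) (l := 4) rfl N1808 D4522
theorem N2077 : nd 2077 = n4524 := ndS (p := 1810) (l := 2) rfl N1810 D4524
theorem N2078 : nd 2078 = n4525 := ndS (p := 1810) (l := 4) rfl N1810 D4525
theorem N2079 : nd 2079 = n4526 := ndS (p := 1811) (l := 4) rfl N1811 D4526
theorem N2080 : nd 2080 = n4527 := ndS (p := 1811) (l := 6) rfl N1811 D4527
theorem N2081 : nd 2081 = n4529 := ndS (p := 1813) (l := 2) rfl N1813 D4529
theorem N2082 : nd 2082 = n4530 := ndS (p := 1813) (l := 4) rfl N1813 D4530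
theorem N2083 : nd 2083 = n4534 := ndS (p := 1816) (l := 1) rfl N1816 D4534
theorem N2084 : nd 2084 = n4542 := ndS (p := 1818) (l := 2) rfl N1818 D4542
theorem N2085 : nd 2085 = n4543 := ndS (p := 1818) (l := 4) rfl N1818 D4543
theorem N2086 : nd 2086 = n4545 := ndS (p := 1819) (l := 6) rfl N1819 D4545
theorem N2087 : nd 2087 = n4549 := ndS (p := 1821) (l := 6) rfl N1821 D4549
theorem N2088 : nd 2088 = n4554 := ndS (p := 1823) (l := 7) rfl N1823 D4554
theorem N2089 : nd 2089 = n4568 := ndS (p := 1824) (l := 3) rfl N1824 D4568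
theorem N2090 : nd 2090 = n4569 := ndS (p := 1825) (l := 2) rfl N1825 D4569
theorem N2091 : nd 2091 = n4570 := ndS (p := 1825) (l := 4) rfl N1825 D4570
theorem N2092 : nd 2092 = n4571 := ndS (p := 1826) (l := 5) rfl N1826 D4571
theorem N2093 : nd 2093 = n4572 := ndS (p := 1827) (l := 3) rfl N1827 D4572
theorem N2094 : nd 2094 = n4573 := ndS (p := 1828) (l := 2) rfl N1828 D4573
theorem N2095 : nd 2095 = n4574 := ndS (p := 1828) (l := 4) rfl N1828 D4574
theorem N2096 : nd 2096 = n4575 := ndS (p := 1829) (l := 5) rfl N1829 D4575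
theorem N2097 : nd 2097 = n4576 := ndS (p := 1830) (l := 2) rfl N1830 D4576
theorem N2098 : nd 2098 = n4577 := ndS (p := 1830) (l := 4) rfl N1830 D4577
theorem N2099 : nd 2099 = n4578 := ndS (p := 1831) (l := 4) rfl N1831 D4578
theorem N2100 : nd 2100 = n4579 := ndS (p := 1831) (l := 6) rfl N1831 D4579
theorem N2101 : nd 2101 = n4580 := ndS (p := 1832) (l := 5) rfl N1832 D4580
theorem N2102 : nd 2102 = n4581 := ndS (p := 1834) (l := 3) rfl N1834 D4581
theorem N2103 : nd 2103 = n4582 := ndS (p := 1835) (l := 2) rfl N1835 D4582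
theorem N2104 : nd 2104 = n4584 := ndS (p := 1836) (l := 5) rfl N1836 D4584
theorem N2105 : nd 2105 = n4585 := ndS (p := 1837) (l := 2) rfl N1837 D4585
theorem N2106 : nd 2106 = n4590 := ndS (p := 1840) (l := 2) rfl N1840 D4590
theorem N2107 : nd 2107 = n4591 := ndS (p := 1840) (l := 4) rfl N1840 D4591
theorem N2108 : nd 2108 = n4592 := ndS (p := 1841) (l := 4) rfl N1841 D4592
theorem N2109 : nd 2109 = n4593 := ndS (p := 1841) (l := 6) rfl N1841 D4593
theorem N2110 : nd 2110 = n4594 := ndS (p := 1842) (l := 5) rfl N1842 D4594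
theorem N2111 : nd 2111 = n4595 := ndS (p := 1844) (l := 1) rfl N1844 D4595
theorem N2112 : nd 2112 = n4596 := ndS (p := 1844) (l := 4) rfl N1844 D4596
theorem N2113 : nd 2113 = n4597 := ndS (p := 1844) (l := 6) rfl N1844 D4597
theorem N2114 : nd 2114 = n4598 := ndS (p := 1845) (l := 5) rfl N1845 D4598
theorem N2115 : nd 2115 = n4599 := ndS (p := 1846) (l := 3) rfl N1846 D4599
theorem N2116 : nd 2116 = n4600 := ndS (p := 1846) (l := 5) rfl N1846 D4600
theorem N2117 : nd 2117 = n4601 := ndS (p := 1846) (l := 6) rfl N1846 D4601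
theorem N2118 : nd 2118 = n4602 := ndS (p := 1847) (l := 7) rfl N1847 D4602
theorem N2119 : nd 2119 = n4603 := ndS (p := 1849) (l := 1) rfl N1849 D4603
theorem N2120 : nd 2120 = n4604 := ndS (p := 1849) (l := 4) rfl N1849 D4604
theorem N2121 : nd 2121 = n4605 := ndS (p := 1849) (l := 6) rfl N1849 D4605
theorem N2122 : nd 2122 = n4606 := ndS (p := 1850) (l := 5) rfl N1850 D4606
theorem N2123 : nd 2123 = n4607 := ndS (p := 1851) (l := 3) rfl N1851 D4607
theorem N2124 : nd 2124 = n4608 := ndS (p := 1851) (l := 5) rfl N1851 D4608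
theorem N2125 : nd 2125 = n4609 := ndS (p := 1851) (l := 6) rfl N1851 D4609
theorem N2126 : nd 2126 = n4610 := ndS (p := 1854) (l := 4) rfl N1854 D4610
theorem N2127 : nd 2127 = n4611 := ndS (p := 1855) (l := 3) rfl N1855 D4611
theorem N2128 : nd 2128 = n4612 := ndS (p := 1855) (l := 5) rfl N1855 D4612
theorem N2129 : nd 2129 = n4613 := ndS (p := 1857) (l := 5) rfl N1857 D4613
theorem N2130 : nd 2130 = n4625 := ndS (p := 1860) (l := 6) rfl N1860 D4625
theorem N2131 : nd 2131 = n4626 := ndS (p := 1861) (l := 7) rfl N1861 D4626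
theorem N2132 : nd 2132 = n4628 := ndS (p := 1862) (l := 7) rfl N1862 D4628
theorem N2133 : nd 2133 = n4638 := ndS (p := 1865) (l := 0) rfl N1865 D4638
theorem N2134 : nd 2134 = n4639 := ndS (p := 1865) (l := 3) rfl N1865 D4639
theorem N2135 : nd 2135 = n4640 := ndS (p := 1866) (l := 4) rfl N1866 D4640
theorem N2136 : nd 2136 = n4641 := ndS (p := 1867) (l := 0) rfl N1867 D4641
theorem N2137 : nd 2137 = n4642 := ndS (p := 1867) (l := 3) rfl N1867 D4642
theorem N2138 : nd 2138 = n4644 := ndS (p := 1869) (l := 3) rfl N1869 D4644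
theorem N2139 : nd 2139 = n4645 := ndS (p := 1870) (l := 2) rfl N1870 D4645
theorem N2140 : nd 2140 = n4646 := ndS (p := 1870) (l := 4) rfl N1870 D4646
theorem N2141 : nd 2141 = n4649 := ndS (p := 1872) (l := 2) rfl N1872 D4649
theorem N2142 : nd 2142 = n4665 := ndS (p := 1875) (l := 3) rfl N1875 D4665
theorem N2143 : nd 2143 = n4666 := ndS (p := 1876) (l := 2) rfl N1876 D4666
theorem N2144 : nd 2144 = n4667 := ndS (p := 1876) (l := 4) rfl N1876 D4667
theorem N2145 : nd 2145 = n4669 := ndS (p := 1878) (l := 2) rfl N1878 D4669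
theorem N2146 : nd 2146 = n4670 := ndS (p := 1878) (l := 4) rfl N1878 D4670
theorem N2147 : nd 2147 = n4729 := ndS (p := 1882) (l := 3) rfl N1882 D4729
theorem N2148 : nd 2148 = n4738 := ndS (p := 1885) (l := 1) rfl N1885 D4738
theorem N2149 : nd 2149 = n4739 := ndS (p := 1885) (l := 4) rfl N1885 D4739
theorem N2150 : nd 2150 = n4740 := ndS (p := 1885) (l := 6) rfl N1885 D4740
theorem N2151 : nd 2151 = n4742 := ndS (p := 1887) (l := 3) rfl N1887 D4742
theorem N2152 : nd 2152 = n4744 := ndS (p := 1887) (l := 6) rfl N1887 D4744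
theorem N2153 : nd 2153 = n4745 := ndS (p := 1888) (l := 7) rfl N1888 D4745
theorem N2154 : nd 2154 = n5010 := ndS (p := 1894) (l := 3) rfl N1894 D5010
theorem N2155 : nd 2155 = n5011 := ndS (p := 1895) (l := 2) rfl N1895 D5011
theorem N2156 : nd 2156 = n5012 := ndS (p := 1895) (l := 4) rfl N1895 D5012
theorem N2157 : nd 2157 = n5014 := ndS (p := 1897) (l := 3) rfl N1897 D5014
theorem N2158 : nd 2158 = n5015 := ndS (p := 1898) (l := 2) rfl N1898 D5015
theorem N2159 : nd 2159 = n5018 := ndS (p := 1899) (l := 2) rfl N1899 D5018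
theorem N2160 : nd 2160 = n5021 := ndS (p := 1900) (l := 6) rfl N1900 D5021
theorem N2161 : nd 2161 = n5040 := ndS (p := 1902) (l := 3) rfl N1902 D5040
theorem N2162 : nd 2162 = n5041 := ndS (p := 1903) (l := 2) rfl N1903 D5041
theorem N2163 : nd 2163 = n5042 := ndS (p := 1903) (l := 4) rfl N1903 D5042
theorem N2164 : nd 2164 = n5044 := ndS (p := 1905) (l := 2) rfl N1905 D5044
theorem N2165 : nd 2165 = n5045 := ndS (p := 1905) (l := 4) rfl N1905 D5045
theorem N2166 : nd 2166 = n5046 := ndS (p := 1906) (l := 4) rfl N1906 D5046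
theorem N2167 : nd 2167 = n5047 := ndS (p := 1906) (l := 6) rfl N1906 D5047
theorem N2168 : nd 2168 = n5049 := ndS (p := 1908) (l := 2) rfl N1908 D5049
theorem N2169 : nd 2169 = n5050 := ndS (p := 1908) (l := 4) rfl N1908 D5050
theorem N2170 : nd 2170 = n5051 := ndS (p := 1909) (l := 4) rfl N1909 D5051
theorem N2171 : nd 2171 = n5052 := ndS (p := 1909) (l := 6) rfl N1909 D5052
theorem N2172 : nd 2172 = n5054 := ndS (p := 1911) (l := 1) rfl N1911 D5054
theorem N2173 : nd 2173 = n5055 := ndS (p := 1911) (l := 4) rfl N1911 D5055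
theorem N2174 : nd 2174 = n5056 := ndS (p := 1911) (l := 6) rfl N1911 D5056
theorem N2175 : nd 2175 = n5061 := ndS (p := 1914) (l := 7) rfl N1914 D5061
theorem N2176 : nd 2176 = n5082 := ndS (p := 1916) (l := 6) rfl N1916 D5082
theorem N2177 : nd 2177 = n5087 := ndS (p := 1918) (l := 7) rfl N1918 D5087
theorem N2178 : nd 2178 = n5093 := ndS (p := 1919) (l := 7) rfl N1919 D5093
theorem N2179 : nd 2179 = n5112 := ndS (p := 1921) (l := 2) rfl N1921 D5112
theorem N2180 : nd 2180 = n5115 := ndS (p := 1922) (l := 6) rfl N1922 D5115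
theorem N2181 : nd 2181 = n5117 := ndS (p := 1924) (l := 1) rfl N1924 D5117
theorem N2182 : nd 2182 = n5125 := ndS (p := 1925) (l := 1) rfl N1925 D5125
theorem N2183 : nd 2183 = n5126 := ndS (p := 1925) (l := 4) rfl N1925 D5126
theorem N2184 : nd 2184 = n5127 := ndS (p := 1925) (l := 6) rfl N1925 D5127
theorem N2185 : nd 2185 = n5128 := ndS (p := 1926) (l := 5) rfl N1926 D5128
theorem N2186 : nd 2186 = n5129 := ndS (p := 1927) (l := 3) rfl N1927 D5129
theorem N2187 : nd 2187 = n5130 := ndS (p := 1927) (l := 5) rfl N1927 D5130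
theorem N2188 : nd 2188 = n5131 := ndS (p := 1927) (l := 6) rfl N1927 D5131
theorem N2189 : nd 2189 = n5132 := ndS (p := 1928) (l := 7) rfl N1928 D5132
theorem N2190 : nd 2190 = n5133 := ndS (p := 1930) (l := 4) rfl N1930 D5133
theorem N2191 : nd 2191 = n5134 := ndS (p := 1930) (l := 6) rfl N1930 D5134
theorem N2192 : nd 2192 = n5135 := ndS (p := 1931) (l := 3) rfl N1931 D5135
theorem N2193 : nd 2193 = n5136 := ndS (p := 1931) (l := 5) rfl N1931 D5136
theorem N2194 : nd 2194 = n5137 := ndS (p := 1931) (l := 6) rfl N1931 D5137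
theorem N2195 : nd 2195 = n5138 := ndS (p := 1932) (l := 7) rfl N1932 D5138
theorem N2196 : nd 2196 = n5139 := ndS (p := 1934) (l := 5) rfl N1934 D5139
theorem N2197 : nd 2197 = n5140 := ndS (p := 1934) (l := 6) rfl N1934 D5140
theorem N2198 : nd 2198 = n5142 := ndS (p := 1936) (l := 7) rfl N1936 D5142
theorem N2199 : nd 2199 = n5145 := ndS (p := 1938) (l := 3) rfl N1938 D5145
theorem N2200 : nd 2200 = n5146 := ndS (p := 1938) (l := 5) rfl N1938 D5146
theorem N2201 : nd 2201 = n5147 := ndS (p := 1938) (l := 6) rfl N1938 D5147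
theorem N2202 : nd 2202 = n5153 := ndS (p := 1944) (l := 5) rfl N1944 D5153
theorem N2203 : nd 2203 = n5170 := ndS (p := 1947) (l := 7) rfl N1947 D5170
theorem N2204 : nd 2204 = n5623 := ndS (p := 1950) (l := 3) rfl N1950 D5623
theorem N2205 : nd 2205 = n5624 := ndS (p := 1951) (l := 2) rfl N1951 D5624
theorem N2206 : nd 2206 = n5625 := ndS (p := 1951) (l := 4) rfl N1951 D5625
theorem N2207 : nd 2207 = n5626 := ndS (p := 1952) (l := 5) rfl N1952 D5626
theorem N2208 : nd 2208 = n5627 := ndS (p := 1953) (l := 3) rfl N1953 D5627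
theorem N2209 : nd 2209 = n5628 := ndS (p := 1954) (l := 2) rfl N1954 D5628
theorem N2210 : nd 2210 = n5629 := ndS (p := 1954) (l := 4) rfl N1954 D5629
theorem N2211 : nd 2211 = n5630 := ndS (p := 1955) (l := 5) rfl N1955 D5630
theorem N2212 : nd 2212 = n5631 := ndS (p := 1956) (l := 2) rfl N1956 D5631
theorem N2213 : nd 2213 = n5632 := ndS (p := 1956) (l := 4) rfl N1956 D5632
theorem N2214 : nd 2214 = n5633 := ndS (p := 1957) (l := 4) rfl N1957 D5633
theorem N2215 : nd 2215 = n5634 := ndS (p := 1957) (l := 6) rfl N1957 D5634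
theorem N2216 : nd 2216 = n5635 := ndS (p := 1958) (l := 5) rfl N1958 D5635
theorem N2217 : nd 2217 = n5636 := ndS (p := 1960) (l := 3) rfl N1960 D5636
theorem N2218 : nd 2218 = n5637 := ndS (p := 1961) (l := 2) rfl N1961 D5637
theorem N2219 : nd 2219 = n5638 := ndS (p := 1961) (l := 4) rfl N1961 D5638
theorem N2220 : nd 2220 = n5639 := ndS (p := 1962) (l := 5) rfl N1962 D5639
theorem N2221 : nd 2221 = n5640 := ndS (p := 1963) (l := 3) rfl N1963 D5640
theorem N2222 : nd 2222 = n5641 := ndS (p := 1964) (l := 2) rfl N1964 D5641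
theorem N2223 : nd 2223 = n5642 := ndS (p := 1964) (l := 4) rfl N1964 D5642
theorem N2224 : nd 2224 = n5643 := ndS (p := 1965) (l := 5) rfl N1965 D5643
theorem N2225 : nd 2225 = n5644 := ndS (p := 1966) (l := 3) rfl N1966 D5644
theorem N2226 : nd 2226 = n5645 := ndS (p := 1967) (l := 2) rfl N1967 D5645
theorem N2227 : nd 2227 = n5646 := ndS (p := 1967) (l := 4) rfl N1967 D5646
theorem N2228 : nd 2228 = n5647 := ndS (p := 1968) (l := 5) rfl N1968 D5647
theorem N2229 : nd 2229 = n5648 := ndS (p := 1969) (l := 2) rfl N1969 D5648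
theorem N2230 : nd 2230 = n5649 := ndS (p := 1969) (l := 4) rfl N1969 D5649
theorem N2231 : nd 2231 = n5650 := ndS (p := 1970) (l := 4) rfl N1970 D5650
theorem N2232 : nd 2232 = n5651 := ndS (p := 1970) (l := 6) rfl N1970 D5651
theorem N2233 : nd 2233 = n5652 := ndS (p := 1971) (l := 5) rfl N1971 D5652
theorem N2234 : nd 2234 = n5653 := ndS (p := 1973) (l := 2) rfl N1973 D5653
theorem N2235 : nd 2235 = n5654 := ndS (p := 1973) (l := 4) rfl N1973 D5654
theorem N2236 : nd 2236 = n5655 := ndS (p := 1974) (l := 4) rfl N1974 D5655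
theorem N2237 : nd 2237 = n5656 := ndS (p := 1974) (l := 6) rfl N1974 D5656
theorem N2238 : nd 2238 = n5657 := ndS (p := 1975) (l := 5) rfl N1975 D5657
theorem N2239 : nd 2239 = n5658 := ndS (p := 1977) (l := 1) rfl N1977 D5658
theorem N2240 : nd 2240 = n5659 := ndS (p := 1977) (l := 4) rfl N1977 D5659
theorem N2241 : nd 2241 = n5660 := ndS (p := 1977) (l := 6) rfl N1977 D5660
theorem N2242 : nd 2242 = n5661 := ndS (p := 1978) (l := 5) rfl N1978 D5661
theorem N2243 : nd 2243 = n5662 := ndS (p := 1979) (l := 3) rfl N1979 D5662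
theorem N2244 : nd 2244 = n5663 := ndS (p := 1979) (l := 5) rfl N1979 D5663
theorem N2245 : nd 2245 = n5664 := ndS (p := 1979) (l := 6) rfl N1979 D5664
theorem N2246 : nd 2246 = n5665 := ndS (p := 1980) (l := 7) rfl N1980 D5665
theorem N2247 : nd 2247 = n5666 := ndS (p := 1982) (l := 2) rfl N1982 D5666
theorem N2248 : nd 2248 = n5667 := ndS (p := 1982) (l := 4) rfl N1982 D5667
theorem N2249 : nd 2249 = n5668 := ndS (p := 1983) (l := 4) rfl N1983 D5668
theorem N2250 : nd 2250 = n5669 := ndS (p := 1983) (l := 6) rfl N1983 D5669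
theorem N2251 : nd 2251 = n5670 := ndS (p := 1984) (l := 5) rfl N1984 D5670
theorem N2252 : nd 2252 = n5671 := ndS (p := 1986) (l := 1) rfl N1986 D5671
theorem N2253 : nd 2253 = n5672 := ndS (p := 1986) (l := 4) rfl N1986 D5672
theorem N2254 : nd 2254 = n5673 := ndS (p := 1986) (l := 6) rfl N1986 D5673
theorem N2255 : nd 2255 = n5674 := ndS (p := 1987) (l := 5) rfl N1987 D5674
theorem N2256 : nd 2256 = n5675 := ndS (p := 1988) (l := 3) rfl N1988 D5675
theorem N2257 : nd 2257 = n5676 := ndS (p := 1988) (l := 5) rfl N1988 D5676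
theorem N2258 : nd 2258 = n5677 := ndS (p := 1988) (l := 6) rfl N1988 D5677
theorem N2259 : nd 2259 = n5678 := ndS (p := 1989) (l := 7) rfl N1989 D5678
theorem N2260 : nd 2260 = n5679 := ndS (p := 1991) (l := 3) rfl N1991 D5679
theorem N2261 : nd 2261 = n5680 := ndS (p := 1991) (l := 5) rfl N1991 D5680
theorem N2262 : nd 2262 = n5681 := ndS (p := 1991) (l := 6) rfl N1991 D5681
theorem N2263 : nd 2263 = n5682 := ndS (p := 1992) (l := 7) rfl N1992 D5682
theorem N2264 : nd 2264 = n5692 := ndS (p := 1998) (l := 2) rfl N1998 D5692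
theorem N2265 : nd 2265 = n5693 := ndS (p := 1998) (l := 4) rfl N1998 D5693
theorem N2266 : nd 2266 = n5694 := ndS (p := 1999) (l := 4) rfl N1999 D5694
theorem N2267 : nd 2267 = n5695 := ndS (p := 1999) (l := 6) rfl N1999 D5695
theorem N2268 : nd 2268 = n5696 := ndS (p := 2000) (l := 5) rfl N2000 D5696
theorem N2269 : nd 2269 = n5697 := ndS (p := 2002) (l := 2) rfl N2002 D5697
theorem N2270 : nd 2270 = n5698 := ndS (p := 2002) (l := 4) rfl N2002 D5698
theorem N2271 : nd 2271 = n5699 := ndS (p := 2003) (l := 4) rfl N2003 D5699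
theorem N2272 : nd 2272 = n5700 := ndS (p := 2003) (l := 6) rfl N2003 D5700
theorem N2273 : nd 2273 = n5701 := ndS (p := 2004) (l := 5) rfl N2004 D5701
theorem N2274 : nd 2274 = n5702 := ndS (p := 2006) (l := 2) rfl N2006 D5702
theorem N2275 : nd 2275 = n5703 := ndS (p := 2006) (l := 4) rfl N2006 D5703
theorem N2276 : nd 2276 = n5704 := ndS (p := 2007) (l := 4) rfl N2007 D5704
theorem N2277 : nd 2277 = n5705 := ndS (p := 2007) (l := 6) rfl N2007 D5705
theorem N2278 : nd 2278 = n5706 := ndS (p := 2008) (l := 5) rfl N2008 D5706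
theorem N2279 : nd 2279 = n5707 := ndS (p := 2010) (l := 1) rfl N2010 D5707
theorem N2280 : nd 2280 = n5708 := ndS (p := 2010) (l := 4) rfl N2010 D5708
theorem N2281 : nd 2281 = n5709 := ndS (p := 2010) (l := 6) rfl N2010 D5709
theorem N2282 : nd 2282 = n5710 := ndS (p := 2011) (l := 5) rfl N2011 D5710
theorem N2283 : nd 2283 = n5711 := ndS (p := 2012) (l := 3) rfl N2012 D5711
theorem N2284 : nd 2284 = n5712 := ndS (p := 2012) (l := 5) rfl N2012 D5712
theorem N2285 : nd 2285 = n5713 := ndS (p := 2012) (l := 6) rfl N2012 D5713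
theorem N2286 : nd 2286 = n5714 := ndS (p := 2013) (l := 7) rfl N2013 D5714
theorem N2287 : nd 2287 = n5715 := ndS (p := 2015) (l := 1) rfl N2015 D5715
theorem N2288 : nd 2288 = n5716 := ndS (p := 2015) (l := 4) rfl N2015 D5716
theorem N2289 : nd 2289 = n5717 := ndS (p := 2015) (l := 6) rfl N2015 D5717
theorem N2290 : nd 2290 = n5718 := ndS (p := 2016) (l := 5) rfl N2016 D5718
theorem N2291 : nd 2291 = n5719 := ndS (p := 2017) (l := 3) rfl N2017 D5719
theorem N2292 : nd 2292 = n5720 := ndS (p := 2017) (l := 5) rfl N2017 D5720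
theorem N2293 : nd 2293 = n5721 := ndS (p := 2017) (l := 6) rfl N2017 D5721
theorem N2294 : nd 2294 = n5722 := ndS (p := 2020) (l := 4) rfl N2020 D5722
theorem N2295 : nd 2295 = n5723 := ndS (p := 2021) (l := 3) rfl N2021 D5723
theorem N2296 : nd 2296 = n5724 := ndS (p := 2021) (l := 5) rfl N2021 D5724
theorem N2297 : nd 2297 = n5725 := ndS (p := 2023) (l := 5) rfl N2023 D5725
theorem N2298 : nd 2298 = n5726 := ndS (p := 2025) (l := 1) rfl N2025 D5726
theorem N2299 : nd 2299 = n5727 := ndS (p := 2025) (l := 4) rfl N2025 D5727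
theorem N2300 : nd 2300 = n5728 := ndS (p := 2025) (l := 6) rfl N2025 D5728
theorem N2301 : nd 2301 = n5729 := ndS (p := 2026) (l := 5) rfl N2026 D5729
theorem N2302 : nd 2302 = n5730 := ndS (p := 2027) (l := 3) rfl N2027 D5730
theorem N2303 : nd 2303 = n5731 := ndS (p := 2027) (l := 5) rfl N2027 D5731
theorem N2304 : nd 2304 = n5732 := ndS (p := 2027) (l := 6) rfl N2027 D5732
theorem N2305 : nd 2305 = n5733 := ndS (p := 2028) (l := 7) rfl N2028 D5733
theorem N2306 : nd 2306 = n5734 := ndS (p := 2030) (l := 4) rfl N2030 D5734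
theorem N2307 : nd 2307 = n5735 := ndS (p := 2030) (l := 6) rfl N2030 D5735
theorem N2308 : nd 2308 = n5736 := ndS (p := 2031) (l := 5) rfl N2031 D5736
theorem N2309 : nd 2309 = n5737 := ndS (p := 2031) (l := 6) rfl N2031 D5737
theorem N2310 : nd 2310 = n5738 := ndS (p := 2032) (l := 7) rfl N2032 D5738
theorem N2311 : nd 2311 = n5739 := ndS (p := 2034) (l := 6) rfl N2034 D5739
theorem N2312 : nd 2312 = n5740 := ndS (p := 2035) (l := 7) rfl N2035 D5740
theorem N2313 : nd 2313 = n5741 := ndS (p := 2037) (l := 4) rfl N2037 D5741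
theorem N2314 : nd 2314 = n5742 := ndS (p := 2037) (l := 6) rfl N2037 D5742
theorem N2315 : nd 2315 = n5743 := ndS (p := 2038) (l := 3) rfl N2038 D5743
theorem N2316 : nd 2316 = n5745 := ndS (p := 2039) (l := 7) rfl N2039 D5745
theorem N2317 : nd 2317 = n5748 := ndS (p := 2042) (l := 2) rfl N2042 D5748
theorem N2318 : nd 2318 = n5749 := ndS (p := 2042) (l := 7) rfl N2042 D5749
theorem N2319 : nd 2319 = n5750 := ndS (p := 2044) (l := 3) rfl N2044 D5750
theorem N2320 : nd 2320 = n5751 := ndS (p := 2045) (l := 2) rfl N2045 D5751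
theorem N2321 : nd 2321 = n5752 := ndS (p := 2045) (l := 4) rfl N2045 D5752
theorem N2322 : nd 2322 = n5754 := ndS (p := 2047) (l := 3) rfl N2047 D5754
theorem N2323 : nd 2323 = n5755 := ndS (p := 2048) (l := 2) rfl N2048 D5755
theorem N2324 : nd 2324 = n5756 := ndS (p := 2048) (l := 4) rfl N2048 D5756
theorem N2325 : nd 2325 = n5758 := ndS (p := 2050) (l := 3) rfl N2050 D5758
theorem N2326 : nd 2326 = n5759 := ndS (p := 2051) (l := 2) rfl N2051 D5759
theorem N2327 : nd 2327 = n5760 := ndS (p := 2051) (l := 4) rfl N2051 D5760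
theorem N2328 : nd 2328 = n5762 := ndS (p := 2053) (l := 2) rfl N2053 D5762
theorem N2329 : nd 2329 = n5763 := ndS (p := 2053) (l := 4) rfl N2053 D5763
theorem N2330 : nd 2330 = n5764 := ndS (p := 2054) (l := 4) rfl N2054 D5764
theorem N2331 : nd 2331 = n5765 := ndS (p := 2054) (l := 6) rfl N2054 D5765
theorem N2332 : nd 2332 = n5766 := ndS (p := 2055) (l := 5) rfl N2055 D5766
theorem N2333 : nd 2333 = n5767 := ndS (p := 2057) (l := 3) rfl N2057 D5767
theorem N2334 : nd 2334 = n5769 := ndS (p := 2058) (l := 4) rfl N2058 D5769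
theorem N2335 : nd 2335 = n5771 := ndS (p := 2060) (l := 2) rfl N2060 D5771
theorem N2336 : nd 2336 = n5772 := ndS (p := 2060) (l := 4) rfl N2060 D5772
theorem N2337 : nd 2337 = n5773 := ndS (p := 2061) (l := 4) rfl N2061 D5773
theorem N2338 : nd 2338 = n5775 := ndS (p := 2062) (l := 5) rfl N2062 D5775
theorem N2339 : nd 2339 = n5776 := ndS (p := 2064) (l := 1) rfl N2064 D5776
theorem N2340 : nd 2340 = n5777 := ndS (p := 2064) (l := 4) rfl N2064 D5777
theorem N2341 : nd 2341 = n5779 := ndS (p := 2065) (l := 5) rfl N2065 D5779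
theorem N2342 : nd 2342 = n5781 := ndS (p := 2066) (l := 5) rfl N2066 D5781
theorem N2343 : nd 2343 = n5784 := ndS (p := 2068) (l := 2) rfl N2068 D5784
theorem N2344 : nd 2344 = n5785 := ndS (p := 2068) (l := 4) rfl N2068 D5785
theorem N2345 : nd 2345 = n5786 := ndS (p := 2069) (l := 4) rfl N2069 D5786
theorem N2346 : nd 2346 = n5787 := ndS (p := 2069) (l := 6) rfl N2069 D5787
theorem N2347 : nd 2347 = n5789 := ndS (p := 2071) (l := 2) rfl N2071 D5789
theorem N2348 : nd 2348 = n5790 := ndS (p := 2071) (l := 4) rfl N2071 D5790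
theorem N2349 : nd 2349 = n5791 := ndS (p := 2072) (l := 4) rfl N2072 D5791
theorem N2350 : nd 2350 = n5792 := ndS (p := 2072) (l := 6) rfl N2072 D5792
theorem N2351 : nd 2351 = n5794 := ndS (p := 2074) (l := 2) rfl N2074 D5794
theorem N2352 : nd 2352 = n5795 := ndS (p := 2074) (l := 4) rfl N2074 D5795
theorem N2353 : nd 2353 = n5796 := ndS (p := 2075) (l := 4) rfl N2075 D5796
theorem N2354 : nd 2354 = n5797 := ndS (p := 2075) (l := 6) rfl N2075 D5797
theorem N2355 : nd 2355 = n5799 := ndS (p := 2077) (l := 1) rfl N2077 D5799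
theorem N2356 : nd 2356 = n5800 := ndS (p := 2077) (l := 4) rfl N2077 D5800
theorem N2357 : nd 2357 = n5801 := ndS (p := 2077) (l := 6) rfl N2077 D5801
theorem N2358 : nd 2358 = n5806 := ndS (p := 2080) (l := 7) rfl N2080 D5806
theorem N2359 : nd 2359 = n5807 := ndS (p := 2081) (l := 1) rfl N2081 D5807
theorem N2360 : nd 2360 = n5827 := ndS (p := 2084) (l := 6) rfl N2084 D5827
theorem N2361 : nd 2361 = n5832 := ndS (p := 2086) (l := 7) rfl N2086 D5832
theorem N2362 : nd 2362 = n5838 := ndS (p := 2087) (l := 7) rfl N2087 D5838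
theorem N2363 : nd 2363 = n5857 := ndS (p := 2089) (l := 2) rfl N2089 D5857
theorem N2364 : nd 2364 = n5858 := ndS (p := 2089) (l := 4) rfl N2089 D5858
theorem N2365 : nd 2365 = n5861 := ndS (p := 2091) (l := 5) rfl N2091 D5861
theorem N2366 : nd 2366 = n5862 := ndS (p := 2093) (l := 2) rfl N2093 D5862
theorem N2367 : nd 2367 = n5863 := ndS (p := 2093) (l := 4) rfl N2093 D5863
theorem N2368 : nd 2368 = n5864 := ndS (p := 2094) (l := 4) rfl N2094 D5864
theorem N2369 : nd 2369 = n5865 := ndS (p := 2094) (l := 6) rfl N2094 D5865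
theorem N2370 : nd 2370 = n5866 := ndS (p := 2095) (l := 5) rfl N2095 D5866
theorem N2371 : nd 2371 = n5867 := ndS (p := 2097) (l := 1) rfl N2097 D5867
theorem N2372 : nd 2372 = n5868 := ndS (p := 2097) (l := 4) rfl N2097 D5868
theorem N2373 : nd 2373 = n5869 := ndS (p := 2097) (l := 6) rfl N2097 D5869
theorem N2374 : nd 2374 = n5870 := ndS (p := 2098) (l := 5) rfl N2098 D5870
theorem N2375 : nd 2375 = n5871 := ndS (p := 2099) (l := 3) rfl N2099 D5871
theorem N2376 : nd 2376 = n5872 := ndS (p := 2099) (l := 5) rfl N2099 D5872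
theorem N2377 : nd 2377 = n5873 := ndS (p := 2099) (l := 6) rfl N2099 D5873
theorem N2378 : nd 2378 = n5874 := ndS (p := 2100) (l := 7) rfl N2100 D5874
theorem N2379 : nd 2379 = n5875 := ndS (p := 2102) (l := 2) rfl N2102 D5875
theorem N2380 : nd 2380 = n5878 := ndS (p := 2103) (l := 6) rfl N2103 D5878
theorem N2381 : nd 2381 = n5880 := ndS (p := 2105) (l := 1) rfl N2105 D5880
theorem N2382 : nd 2382 = n5888 := ndS (p := 2106) (l := 1) rfl N2106 D5888
theorem N2383 : nd 2383 = n5889 := ndS (p := 2106) (l := 4) rfl N2106 D5889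
theorem N2384 : nd 2384 = n5890 := ndS (p := 2106) (l := 6) rfl N2106 D5890
theorem N2385 : nd 2385 = n5891 := ndS (p := 2107) (l := 5) rfl N2107 D5891
theorem N2386 : nd 2386 = n5892 := ndS (p := 2108) (l := 3) rfl N2108 D5892
theorem N2387 : nd 2387 = n5893 := ndS (p := 2108) (l := 5) rfl N2108 D5893
theorem N2388 : nd 2388 = n5894 := ndS (p := 2108) (l := 6) rfl N2108 D5894
theorem N2389 : nd 2389 = n5895 := ndS (p := 2109) (l := 7) rfl N2109 D5895
theorem N2390 : nd 2390 = n5896 := ndS (p := 2111) (l := 4) rfl N2111 D5896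
theorem N2391 : nd 2391 = n5897 := ndS (p := 2111) (l := 6) rfl N2111 D5897
theorem N2392 : nd 2392 = n5898 := ndS (p := 2112) (l := 3) rfl N2112 D5898
theorem N2393 : nd 2393 = n5899 := ndS (p := 2112) (l := 5) rfl N2112 D5899
theorem N2394 : nd 2394 = n5900 := ndS (p := 2112) (l := 6) rfl N2112 D5900
theorem N2395 : nd 2395 = n5901 := ndS (p := 2113) (l := 7) rfl N2113 D5901
theorem N2396 : nd 2396 = n5902 := ndS (p := 2115) (l := 5) rfl N2115 D5902
theorem N2397 : nd 2397 = n5903 := ndS (p := 2115) (l := 6) rfl N2115 D5903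
theorem N2398 : nd 2398 = n5905 := ndS (p := 2117) (l := 7) rfl N2117 D5905
theorem N2399 : nd 2399 = n5906 := ndS (p := 2119) (l := 4) rfl N2119 D5906
theorem N2400 : nd 2400 = n5907 := ndS (p := 2119) (l := 6) rfl N2119 D5907
theorem N2401 : nd 2401 = n5908 := ndS (p := 2120) (l := 3) rfl N2120 D5908
theorem N2402 : nd 2402 = n5909 := ndS (p := 2120) (l := 5) rfl N2120 D5909
theorem N2403 : nd 2403 = n5910 := ndS (p := 2120) (l := 6) rfl N2120 D5910
theorem N2404 : nd 2404 = n5914 := ndS (p := 2126) (l := 3) rfl N2126 D5914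
theorem N2405 : nd 2405 = n5916 := ndS (p := 2127) (l := 5) rfl N2127 D5916
theorem N2406 : nd 2406 = n5933 := ndS (p := 2130) (l := 7) rfl N2130 D5933
theorem N2407 : nd 2407 = n5945 := ndS (p := 2133) (l := 3) rfl N2133 D5945
theorem N2408 : nd 2408 = n5946 := ndS (p := 2134) (l := 2) rfl N2134 D5946
theorem N2409 : nd 2409 = n5947 := ndS (p := 2134) (l := 4) rfl N2134 D5947
theorem N2410 : nd 2410 = n5949 := ndS (p := 2136) (l := 3) rfl N2136 D5949
theorem N2411 : nd 2411 = n5950 := ndS (p := 2137) (l := 2) rfl N2137 D5950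
theorem N2412 : nd 2412 = n5953 := ndS (p := 2138) (l := 2) rfl N2138 D5953
theorem N2413 : nd 2413 = n5954 := ndS (p := 2138) (l := 4) rfl N2138 D5954
theorem N2414 : nd 2414 = n5981 := ndS (p := 2142) (l := 2) rfl N2142 D5981
theorem N2415 : nd 2415 = n5982 := ndS (p := 2142) (l := 4) rfl N2142 D5982
theorem N2416 : nd 2416 = n6081 := ndS (p := 2149) (l := 3) rfl N2149 D6081
theorem N2417 : nd 2417 = n6083 := ndS (p := 2149) (l := 6) rfl N2149 D6083
theorem N2418 : nd 2418 = n6084 := ndS (p := 2150) (l := 7) rfl N2150 D6084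
theorem N2419 : nd 2419 = n6424 := ndS (p := 2154) (l := 2) rfl N2154 D6424
theorem N2420 : nd 2420 = n6425 := ndS (p := 2154) (l := 4) rfl N2154 D6425
theorem N2421 : nd 2421 = n6426 := ndS (p := 2155) (l := 4) rfl N2155 D6426
theorem N2422 : nd 2422 = n6427 := ndS (p := 2155) (l := 6) rfl N2155 D6427
theorem N2423 : nd 2423 = n6429 := ndS (p := 2157) (l := 2) rfl N2157 D6429
theorem N2424 : nd 2424 = n6432 := ndS (p := 2158) (l := 6) rfl N2158 D6432
theorem N2425 : nd 2425 = n6434 := ndS (p := 2159) (l := 1) rfl N2159 D6434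
theorem N2426 : nd 2426 = n6436 := ndS (p := 2159) (l := 6) rfl N2159 D6436
theorem N2427 : nd 2427 = n6441 := ndS (p := 2160) (l := 7) rfl N2160 D6441
theorem N2428 : nd 2428 = n6465 := ndS (p := 2161) (l := 2) rfl N2161 D6465
theorem N2429 : nd 2429 = n6466 := ndS (p := 2161) (l := 4) rfl N2161 D6466
theorem N2430 : nd 2430 = n6467 := ndS (p := 2162) (l := 4) rfl N2162 D6467
theorem N2431 : nd 2431 = n6468 := ndS (p := 2162) (l := 6) rfl N2162 D6468
theorem N2432 : nd 2432 = n6470 := ndS (p := 2164) (l := 1) rfl N2164 D6470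
theorem N2433 : nd 2433 = n6471 := ndS (p := 2164) (l := 4) rfl N2164 D6471
theorem N2434 : nd 2434 = n6472 := ndS (p := 2164) (l := 6) rfl N2164 D6472
theorem N2435 : nd 2435 = n6474 := ndS (p := 2166) (l := 3) rfl N2166 D6474
theorem N2436 : nd 2436 = n6477 := ndS (p := 2167) (l := 7) rfl N2167 D6477
theorem N2437 : nd 2437 = n6478 := ndS (p := 2168) (l := 1) rfl N2168 D6478
theorem N2438 : nd 2438 = n6479 := ndS (p := 2168) (l := 4) rfl N2168 D6479
theorem N2439 : nd 2439 = n6480 := ndS (p := 2168) (l := 6) rfl N2168 D6480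
theorem N2440 : nd 2440 = n6484 := ndS (p := 2170) (l := 6) rfl N2170 D6484
theorem N2441 : nd 2441 = n6485 := ndS (p := 2171) (l := 7) rfl N2171 D6485
theorem N2442 : nd 2442 = n6486 := ndS (p := 2172) (l := 4) rfl N2172 D6486
theorem N2443 : nd 2443 = n6487 := ndS (p := 2172) (l := 6) rfl N2172 D6487
theorem N2444 : nd 2444 = n6491 := ndS (p := 2174) (l := 7) rfl N2174 D6491
theorem N2445 : nd 2445 = n6524 := ndS (p := 2176) (l := 7) rfl N2176 D6524
theorem N2446 : nd 2446 = n6560 := ndS (p := 2179) (l := 1) rfl N2179 D6560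
theorem N2447 : nd 2447 = n6562 := ndS (p := 2179) (l := 6) rfl N2179 D6562
theorem N2448 : nd 2448 = n6578 := ndS (p := 2182) (l := 4) rfl N2182 D6578
theorem N2449 : nd 2449 = n6579 := ndS (p := 2182) (l := 6) rfl N2182 D6579
theorem N2450 : nd 2450 = n6580 := ndS (p := 2183) (l := 3) rfl N2183 D6580
theorem N2451 : nd 2451 = n6581 := ndS (p := 2183) (l := 5) rfl N2183 D6581
theorem N2452 : nd 2452 = n6582 := ndS (p := 2183) (l := 6) rfl N2183 D6582
theorem N2453 : nd 2453 = n6583 := ndS (p := 2184) (l := 7) rfl N2184 D6583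
theorem N2454 : nd 2454 = n6587 := ndS (p := 2188) (l := 7) rfl N2188 D6587
theorem N2455 : nd 2455 = n6588 := ndS (p := 2190) (l := 3) rfl N2190 D6588
theorem N2456 : nd 2456 = n6589 := ndS (p := 2190) (l := 5) rfl N2190 D6589
theorem N2457 : nd 2457 = n6590 := ndS (p := 2190) (l := 6) rfl N2190 D6590
theorem N2458 : nd 2458 = n6592 := ndS (p := 2191) (l := 7) rfl N2191 D6592
theorem N2459 : nd 2459 = n6593 := ndS (p := 2192) (l := 5) rfl N2192 D6593
theorem N2460 : nd 2460 = n6594 := ndS (p := 2192) (l := 6) rfl N2192 D6594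
theorem N2461 : nd 2461 = n6596 := ndS (p := 2194) (l := 7) rfl N2194 D6596
theorem N2462 : nd 2462 = n6599 := ndS (p := 2197) (l := 7) rfl N2197 D6599
theorem N2463 : nd 2463 = n7193 := ndS (p := 2204) (l := 2) rfl N2204 D7193
theorem N2464 : nd 2464 = n7194 := ndS (p := 2204) (l := 4) rfl N2204 D7194
theorem N2465 : nd 2465 = n7195 := ndS (p := 2205) (l := 4) rfl N2205 D7195
theorem N2466 : nd 2466 = n7196 := ndS (p := 2205) (l := 6) rfl N2205 D7196
theorem N2467 : nd 2467 = n7197 := ndS (p := 2206) (l := 5) rfl N2206 D7197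
theorem N2468 : nd 2468 = n7198 := ndS (p := 2208) (l := 2) rfl N2208 D7198
theorem N2469 : nd 2469 = n7199 := ndS (p := 2208) (l := 4) rfl N2208 D7199
theorem N2470 : nd 2470 = n7200 := ndS (p := 2209) (l := 4) rfl N2209 D7200
theorem N2471 : nd 2471 = n7201 := ndS (p := 2209) (l := 6) rfl N2209 D7201
theorem N2472 : nd 2472 = n7202 := ndS (p := 2210) (l := 5) rfl N2210 D7202
theorem N2473 : nd 2473 = n7203 := ndS (p := 2212) (l := 1) rfl N2212 D7203
theorem N2474 : nd 2474 = n7204 := ndS (p := 2212) (l := 4) rfl N2212 D7204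
theorem N2475 : nd 2475 = n7205 := ndS (p := 2212) (l := 6) rfl N2212 D7205
theorem N2476 : nd 2476 = n7206 := ndS (p := 2213) (l := 5) rfl N2213 D7206
theorem N2477 : nd 2477 = n7207 := ndS (p := 2214) (l := 3) rfl N2214 D7207
theorem N2478 : nd 2478 = n7208 := ndS (p := 2214) (l := 5) rfl N2214 D7208
theorem N2479 : nd 2479 = n7209 := ndS (p := 2214) (l := 6) rfl N2214 D7209
theorem N2480 : nd 2480 = n7210 := ndS (p := 2215) (l := 7) rfl N2215 D7210
theorem N2481 : nd 2481 = n7211 := ndS (p := 2217) (l := 2) rfl N2217 D7211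
theorem N2482 : nd 2482 = n7212 := ndS (p := 2217) (l := 4) rfl N2217 D7212
theorem N2483 : nd 2483 = n7213 := ndS (p := 2218) (l := 4) rfl N2218 D7213
theorem N2484 : nd 2484 = n7214 := ndS (p := 2218) (l := 6) rfl N2218 D7214
theorem N2485 : nd 2485 = n7215 := ndS (p := 2219) (l := 5) rfl N2219 D7215
theorem N2486 : nd 2486 = n7216 := ndS (p := 2221) (l := 2) rfl N2221 D7216
theorem N2487 : nd 2487 = n7217 := ndS (p := 2221) (l := 4) rfl N2221 D7217
theorem N2488 : nd 2488 = n7218 := ndS (p := 2222) (l := 4) rfl N2222 D7218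
theorem N2489 : nd 2489 = n7219 := ndS (p := 2222) (l := 6) rfl N2222 D7219
theorem N2490 : nd 2490 = n7220 := ndS (p := 2223) (l := 5) rfl N2223 D7220
theorem N2491 : nd 2491 = n7221 := ndS (p := 2225) (l := 2) rfl N2225 D7221
theorem N2492 : nd 2492 = n7222 := ndS (p := 2225) (l := 4) rfl N2225 D7222
theorem N2493 : nd 2493 = n7223 := ndS (p := 2226) (l := 4) rfl N2226 D7223
theorem N2494 : nd 2494 = n7224 := ndS (p := 2226) (l := 6) rfl N2226 D7224
theorem N2495 : nd 2495 = n7225 := ndS (p := 2227) (l := 5) rfl N2227 D7225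
theorem N2496 : nd 2496 = n7226 := ndS (p := 2229) (l := 1) rfl N2229 D7226
theorem N2497 : nd 2497 = n7227 := ndS (p := 2229) (l := 4) rfl N2229 D7227
theorem N2498 : nd 2498 = n7228 := ndS (p := 2229) (l := 6) rfl N2229 D7228
theorem N2499 : nd 2499 = n7229 := ndS (p := 2230) (l := 5) rfl N2230 D7229
theorem N2500 : nd 2500 = n7230 := ndS (p := 2231) (l := 3) rfl N2231 D7230
theorem N2501 : nd 2501 = n7231 := ndS (p := 2231) (l := 5) rfl N2231 D7231
theorem N2502 : nd 2502 = n7232 := ndS (p := 2231) (l := 6) rfl N2231 D7232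
theorem N2503 : nd 2503 = n7233 := ndS (p := 2232) (l := 7) rfl N2232 D7233
theorem N2504 : nd 2504 = n7234 := ndS (p := 2234) (l := 1) rfl N2234 D7234
theorem N2505 : nd 2505 = n7235 := ndS (p := 2234) (l := 4) rfl N2234 D7235
theorem N2506 : nd 2506 = n7236 := ndS (p := 2234) (l := 6) rfl N2234 D7236
theorem N2507 : nd 2507 = n7237 := ndS (p := 2235) (l := 5) rfl N2235 D7237
theorem N2508 : nd 2508 = n7238 := ndS (p := 2236) (l := 3) rfl N2236 D7238
theorem N2509 : nd 2509 = n7239 := ndS (p := 2236) (l := 5) rfl N2236 D7239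
theorem N2510 : nd 2510 = n7240 := ndS (p := 2236) (l := 6) rfl N2236 D7240
theorem N2511 : nd 2511 = n7241 := ndS (p := 2237) (l := 7) rfl N2237 D7241
theorem N2512 : nd 2512 = n7242 := ndS (p := 2239) (l := 4) rfl N2239 D7242
theorem N2513 : nd 2513 = n7243 := ndS (p := 2239) (l := 6) rfl N2239 D7243
theorem N2514 : nd 2514 = n7244 := ndS (p := 2240) (l := 3) rfl N2240 D7244
theorem N2515 : nd 2515 = n7245 := ndS (p := 2240) (l := 5) rfl N2240 D7245
theorem N2516 : nd 2516 = n7246 := ndS (p := 2240) (l := 6) rfl N2240 D7246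
theorem N2517 : nd 2517 = n7247 := ndS (p := 2241) (l := 7) rfl N2241 D7247
theorem N2518 : nd 2518 = n7252 := ndS (p := 2247) (l := 1) rfl N2247 D7252
theorem N2519 : nd 2519 = n7253 := ndS (p := 2247) (l := 4) rfl N2247 D7253
theorem N2520 : nd 2520 = n7254 := ndS (p := 2247) (l := 6) rfl N2247 D7254
theorem N2521 : nd 2521 = n7255 := ndS (p := 2248) (l := 5) rfl N2248 D7255
theorem N2522 : nd 2522 = n7256 := ndS (p := 2249) (l := 3) rfl N2249 D7256
theorem N2523 : nd 2523 = n7257 := ndS (p := 2249) (l := 5) rfl N2249 D7257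
theorem N2524 : nd 2524 = n7258 := ndS (p := 2249) (l := 6) rfl N2249 D7258
theorem N2525 : nd 2525 = n7259 := ndS (p := 2250) (l := 7) rfl N2250 D7259
theorem N2526 : nd 2526 = n7260 := ndS (p := 2252) (l := 4) rfl N2252 D7260
theorem N2527 : nd 2527 = n7261 := ndS (p := 2252) (l := 6) rfl N2252 D7261
theorem N2528 : nd 2528 = n7262 := ndS (p := 2253) (l := 3) rfl N2253 D7262
theorem N2529 : nd 2529 = n7263 := ndS (p := 2253) (l := 5) rfl N2253 D7263
theorem N2530 : nd 2530 = n7264 := ndS (p := 2253) (l := 6) rfl N2253 D7264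
theorem N2531 : nd 2531 = n7265 := ndS (p := 2254) (l := 7) rfl N2254 D7265
theorem N2532 : nd 2532 = n7284 := ndS (p := 2264) (l := 1) rfl N2264 D7284
theorem N2533 : nd 2533 = n7285 := ndS (p := 2264) (l := 4) rfl N2264 D7285
theorem N2534 : nd 2534 = n7286 := ndS (p := 2264) (l := 6) rfl N2264 D7286
theorem N2535 : nd 2535 = n7287 := ndS (p := 2265) (l := 5) rfl N2265 D7287
theorem N2536 : nd 2536 = n7288 := ndS (p := 2266) (l := 3) rfl N2266 D7288
theorem N2537 : nd 2537 = n7289 := ndS (p := 2266) (l := 5) rfl N2266 D7289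
theorem N2538 : nd 2538 = n7290 := ndS (p := 2266) (l := 6) rfl N2266 D7290
theorem N2539 : nd 2539 = n7291 := ndS (p := 2267) (l := 7) rfl N2267 D7291
theorem N2540 : nd 2540 = n7292 := ndS (p := 2269) (l := 1) rfl N2269 D7292
theorem N2541 : nd 2541 = n7293 := ndS (p := 2269) (l := 4) rfl N2269 D7293
theorem N2542 : nd 2542 = n7294 := ndS (p := 2269) (l := 6) rfl N2269 D7294
theorem N2543 : nd 2543 = n7295 := ndS (p := 2270) (l := 5) rfl N2270 D7295
theorem N2544 : nd 2544 = n7296 := ndS (p := 2271) (l := 3) rfl N2271 D7296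
theorem N2545 : nd 2545 = n7297 := ndS (p := 2271) (l := 5) rfl N2271 D7297
theorem N2546 : nd 2546 = n7298 := ndS (p := 2271) (l := 6) rfl N2271 D7298
theorem N2547 : nd 2547 = n7299 := ndS (p := 2272) (l := 7) rfl N2272 D7299
theorem N2548 : nd 2548 = n7300 := ndS (p := 2274) (l := 1) rfl N2274 D7300
theorem N2549 : nd 2549 = n7301 := ndS (p := 2274) (l := 4) rfl N2274 D7301
theorem N2550 : nd 2550 = n7302 := ndS (p := 2274) (l := 6) rfl N2274 D7302
theorem N2551 : nd 2551 = n7303 := ndS (p := 2275) (l := 5) rfl N2275 D7303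
theorem N2552 : nd 2552 = n7304 := ndS (p := 2276) (l := 3) rfl N2276 D7304
theorem N2553 : nd 2553 = n7305 := ndS (p := 2276) (l := 5) rfl N2276 D7305
theorem N2554 : nd 2554 = n7306 := ndS (p := 2276) (l := 6) rfl N2276 D7306
theorem N2555 : nd 2555 = n7307 := ndS (p := 2277) (l := 7) rfl N2277 D7307
theorem N2556 : nd 2556 = n7308 := ndS (p := 2279) (l := 4) rfl N2279 D7308
theorem N2557 : nd 2557 = n7309 := ndS (p := 2279) (l := 6) rfl N2279 D7309
theorem N2558 : nd 2558 = n7310 := ndS (p := 2280) (l := 3) rfl N2280 D7310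
theorem N2559 : nd 2559 = n7311 := ndS (p := 2280) (l := 5) rfl N2280 D7311
theorem N2560 : nd 2560 = n7312 := ndS (p := 2280) (l := 6) rfl N2280 D7312
theorem N2561 : nd 2561 = n7313 := ndS (p := 2281) (l := 7) rfl N2281 D7313
theorem N2562 : nd 2562 = n7314 := ndS (p := 2283) (l := 5) rfl N2283 D7314
theorem N2563 : nd 2563 = n7315 := ndS (p := 2283) (l := 6) rfl N2283 D7315
theorem N2564 : nd 2564 = n7316 := ndS (p := 2284) (l := 6) rfl N2284 D7316
theorem N2565 : nd 2565 = n7317 := ndS (p := 2285) (l := 7) rfl N2285 D7317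
theorem N2566 : nd 2566 = n7318 := ndS (p := 2287) (l := 4) rfl N2287 D7318
theorem N2567 : nd 2567 = n7319 := ndS (p := 2287) (l := 6) rfl N2287 D7319
theorem N2568 : nd 2568 = n7320 := ndS (p := 2288) (l := 3) rfl N2288 D7320
theorem N2569 : nd 2569 = n7321 := ndS (p := 2288) (l := 5) rfl N2288 D7321
theorem N2570 : nd 2570 = n7322 := ndS (p := 2288) (l := 6) rfl N2288 D7322
theorem N2571 : nd 2571 = n7326 := ndS (p := 2294) (l := 3) rfl N2294 D7326
theorem N2572 : nd 2572 = n7327 := ndS (p := 2294) (l := 5) rfl N2294 D7327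
theorem N2573 : nd 2573 = n7328 := ndS (p := 2295) (l := 5) rfl N2295 D7328
theorem N2574 : nd 2574 = n7330 := ndS (p := 2298) (l := 4) rfl N2298 D7330
theorem N2575 : nd 2575 = n7331 := ndS (p := 2298) (l := 6) rfl N2298 D7331
theorem N2576 : nd 2576 = n7332 := ndS (p := 2299) (l := 3) rfl N2299 D7332
theorem N2577 : nd 2577 = n7333 := ndS (p := 2299) (l := 5) rfl N2299 D7333
theorem N2578 : nd 2578 = n7334 := ndS (p := 2299) (l := 6) rfl N2299 D7334
theorem N2579 : nd 2579 = n7335 := ndS (p := 2300) (l := 7) rfl N2300 D7335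
theorem N2580 : nd 2580 = n7336 := ndS (p := 2302) (l := 5) rfl N2302 D7336
theorem N2581 : nd 2581 = n7338 := ndS (p := 2303) (l := 6) rfl N2303 D7338
theorem N2582 : nd 2582 = n7339 := ndS (p := 2304) (l := 7) rfl N2304 D7339
theorem N2583 : nd 2583 = n7340 := ndS (p := 2306) (l := 5) rfl N2306 D7340
theorem N2584 : nd 2584 = n7341 := ndS (p := 2306) (l := 6) rfl N2306 D7341
theorem N2585 : nd 2585 = n7342 := ndS (p := 2307) (l := 2) rfl N2307 D7342
theorem N2586 : nd 2586 = n7343 := ndS (p := 2307) (l := 7) rfl N2307 D7343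
theorem N2587 : nd 2587 = n7344 := ndS (p := 2308) (l := 6) rfl N2308 D7344
theorem N2588 : nd 2588 = n7345 := ndS (p := 2309) (l := 7) rfl N2309 D7345
theorem N2589 : nd 2589 = n7346 := ndS (p := 2311) (l := 7) rfl N2311 D7346
theorem N2590 : nd 2590 = n7347 := ndS (p := 2313) (l := 3) rfl N2313 D7347
theorem N2591 : nd 2591 = n7350 := ndS (p := 2314) (l := 7) rfl N2314 D7350
theorem N2592 : nd 2592 = n7355 := ndS (p := 2317) (l := 3) rfl N2317 D7355
theorem N2593 : nd 2593 = n7356 := ndS (p := 2317) (l := 7) rfl N2317 D7356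
theorem N2594 : nd 2594 = n7357 := ndS (p := 2319) (l := 2) rfl N2319 D7357
theorem N2595 : nd 2595 = n7358 := ndS (p := 2319) (l := 4) rfl N2319 D7358
theorem N2596 : nd 2596 = n7359 := ndS (p := 2320) (l := 4) rfl N2320 D7359
theorem N2597 : nd 2597 = n7360 := ndS (p := 2320) (l := 6) rfl N2320 D7360
theorem N2598 : nd 2598 = n7362 := ndS (p := 2322) (l := 2) rfl N2322 D7362
theorem N2599 : nd 2599 = n7363 := ndS (p := 2322) (l := 4) rfl N2322 D7363
theorem N2600 : nd 2600 = n7364 := ndS (p := 2323) (l := 4) rfl N2323 D7364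
theorem N2601 : nd 2601 = n7365 := ndS (p := 2323) (l := 6) rfl N2323 D7365
theorem N2602 : nd 2602 = n7367 := ndS (p := 2325) (l := 2) rfl N2325 D7367
theorem N2603 : nd 2603 = n7368 := ndS (p := 2325) (l := 4) rfl N2325 D7368
theorem N2604 : nd 2604 = n7369 := ndS (p := 2326) (l := 4) rfl N2326 D7369
theorem N2605 : nd 2605 = n7370 := ndS (p := 2326) (l := 6) rfl N2326 D7370
theorem N2606 : nd 2606 = n7372 := ndS (p := 2328) (l := 1) rfl N2328 D7372
theorem N2607 : nd 2607 = n7373 := ndS (p := 2328) (l := 4) rfl N2328 D7373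
theorem N2608 : nd 2608 = n7374 := ndS (p := 2328) (l := 6) rfl N2328 D7374
theorem N2609 : nd 2609 = n7375 := ndS (p := 2329) (l := 5) rfl N2329 D7375
theorem N2610 : nd 2610 = n7377 := ndS (p := 2330) (l := 5) rfl N2330 D7377
theorem N2611 : nd 2611 = n7379 := ndS (p := 2331) (l := 7) rfl N2331 D7379
theorem N2612 : nd 2612 = n7381 := ndS (p := 2333) (l := 4) rfl N2333 D7381
theorem N2613 : nd 2613 = n7385 := ndS (p := 2335) (l := 1) rfl N2335 D7385
theorem N2614 : nd 2614 = n7386 := ndS (p := 2335) (l := 4) rfl N2335 D7386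
theorem N2615 : nd 2615 = n7388 := ndS (p := 2336) (l := 5) rfl N2336 D7388
theorem N2616 : nd 2616 = n7390 := ndS (p := 2337) (l := 5) rfl N2337 D7390
theorem N2617 : nd 2617 = n7393 := ndS (p := 2339) (l := 4) rfl N2339 D7393
theorem N2618 : nd 2618 = n7396 := ndS (p := 2340) (l := 5) rfl N2340 D7396
theorem N2619 : nd 2619 = n7403 := ndS (p := 2343) (l := 1) rfl N2343 D7403
theorem N2620 : nd 2620 = n7404 := ndS (p := 2343) (l := 4) rfl N2343 D7404
theorem N2621 : nd 2621 = n7405 := ndS (p := 2343) (l := 6) rfl N2343 D7405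
theorem N2622 : nd 2622 = n7411 := ndS (p := 2347) (l := 1) rfl N2347 D7411
theorem N2623 : nd 2623 = n7412 := ndS (p := 2347) (l := 4) rfl N2347 D7412
theorem N2624 : nd 2624 = n7413 := ndS (p := 2347) (l := 6) rfl N2347 D7413
theorem N2625 : nd 2625 = n7415 := ndS (p := 2349) (l := 3) rfl N2349 D7415
theorem N2626 : nd 2626 = n7418 := ndS (p := 2350) (l := 7) rfl N2350 D7418
theorem N2627 : nd 2627 = n7419 := ndS (p := 2351) (l := 1) rfl N2351 D7419
theorem N2628 : nd 2628 = n7420 := ndS (p := 2351) (l := 4) rfl N2351 D7420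
theorem N2629 : nd 2629 = n7421 := ndS (p := 2351) (l := 6) rfl N2351 D7421
theorem N2630 : nd 2630 = n7425 := ndS (p := 2353) (l := 6) rfl N2353 D7425
theorem N2631 : nd 2631 = n7426 := ndS (p := 2354) (l := 7) rfl N2354 D7426
theorem N2632 : nd 2632 = n7427 := ndS (p := 2355) (l := 4) rfl N2355 D7427
theorem N2633 : nd 2633 = n7428 := ndS (p := 2355) (l := 6) rfl N2355 D7428
theorem N2634 : nd 2634 = n7432 := ndS (p := 2357) (l := 7) rfl N2357 D7432
theorem N2635 : nd 2635 = n7465 := ndS (p := 2360) (l := 7) rfl N2360 D7465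
theorem N2636 : nd 2636 = n7501 := ndS (p := 2363) (l := 1) rfl N2363 D7501
theorem N2637 : nd 2637 = n7504 := ndS (p := 2364) (l := 5) rfl N2364 D7504
theorem N2638 : nd 2638 = n7509 := ndS (p := 2366) (l := 1) rfl N2366 D7509
theorem N2639 : nd 2639 = n7510 := ndS (p := 2366) (l := 4) rfl N2366 D7510
theorem N2640 : nd 2640 = n7511 := ndS (p := 2366) (l := 6) rfl N2366 D7511
theorem N2641 : nd 2641 = n7512 := ndS (p := 2367) (l := 5) rfl N2367 D7512
theorem N2642 : nd 2642 = n7513 := ndS (p := 2368) (l := 3) rfl N2368 D7513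
theorem N2643 : nd 2643 = n7514 := ndS (p := 2368) (l := 5) rfl N2368 D7514
theorem N2644 : nd 2644 = n7515 := ndS (p := 2368) (l := 6) rfl N2368 D7515
theorem N2645 : nd 2645 = n7516 := ndS (p := 2369) (l := 7) rfl N2369 D7516
theorem N2646 : nd 2646 = n7517 := ndS (p := 2371) (l := 4) rfl N2371 D7517
theorem N2647 : nd 2647 = n7518 := ndS (p := 2371) (l := 6) rfl N2371 D7518
theorem N2648 : nd 2648 = n7519 := ndS (p := 2372) (l := 3) rfl N2372 D7519
theorem N2649 : nd 2649 = n7520 := ndS (p := 2372) (l := 5) rfl N2372 D7520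
theorem N2650 : nd 2650 = n7521 := ndS (p := 2372) (l := 6) rfl N2372 D7521
theorem N2651 : nd 2651 = n7522 := ndS (p := 2373) (l := 7) rfl N2373 D7522
theorem N2652 : nd 2652 = n7523 := ndS (p := 2375) (l := 5) rfl N2375 D7523
theorem N2653 : nd 2653 = n7524 := ndS (p := 2375) (l := 6) rfl N2375 D7524
theorem N2654 : nd 2654 = n7527 := ndS (p := 2379) (l := 1) rfl N2379 D7527
theorem N2655 : nd 2655 = n7529 := ndS (p := 2379) (l := 6) rfl N2379 D7529
theorem N2656 : nd 2656 = n7545 := ndS (p := 2382) (l := 4) rfl N2382 D7545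
theorem N2657 : nd 2657 = n7546 := ndS (p := 2382) (l := 6) rfl N2382 D7546
theorem N2658 : nd 2658 = n7547 := ndS (p := 2383) (l := 3) rfl N2383 D7547
theorem N2659 : nd 2659 = n7548 := ndS (p := 2383) (l := 5) rfl N2383 D7548
theorem N2660 : nd 2660 = n7549 := ndS (p := 2383) (l := 6) rfl N2383 D7549
theorem N2661 : nd 2661 = n7550 := ndS (p := 2384) (l := 7) rfl N2384 D7550
theorem N2662 : nd 2662 = n7554 := ndS (p := 2388) (l := 7) rfl N2388 D7554
theorem N2663 : nd 2663 = n7555 := ndS (p := 2390) (l := 3) rfl N2390 D7555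
theorem N2664 : nd 2664 = n7556 := ndS (p := 2390) (l := 5) rfl N2390 D7556
theorem N2665 : nd 2665 = n7557 := ndS (p := 2390) (l := 6) rfl N2390 D7557
theorem N2666 : nd 2666 = n7559 := ndS (p := 2391) (l := 7) rfl N2391 D7559
theorem N2667 : nd 2667 = n7560 := ndS (p := 2392) (l := 5) rfl N2392 D7560
theorem N2668 : nd 2668 = n7561 := ndS (p := 2392) (l := 6) rfl N2392 D7561
theorem N2669 : nd 2669 = n7563 := ndS (p := 2394) (l := 7) rfl N2394 D7563
theorem N2670 : nd 2670 = n7566 := ndS (p := 2397) (l := 7) rfl N2397 D7566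
theorem N2671 : nd 2671 = n7568 := ndS (p := 2399) (l := 3) rfl N2399 D7568
theorem N2672 : nd 2672 = n7570 := ndS (p := 2399) (l := 6) rfl N2399 D7570
theorem N2673 : nd 2673 = n7578 := ndS (p := 2404) (l := 2) rfl N2404 D7578
theorem N2674 : nd 2674 = n7613 := ndS (p := 2407) (l := 2) rfl N2407 D7613
theorem N2675 : nd 2675 = n7614 := ndS (p := 2407) (l := 4) rfl N2407 D7614
theorem N2676 : nd 2676 = n7618 := ndS (p := 2410) (l := 2) rfl N2410 D7618
theorem N2677 : nd 2677 = n8229 := ndS (p := 2419) (l := 1) rfl N2419 D8229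
theorem N2678 : nd 2678 = n8230 := ndS (p := 2419) (l := 4) rfl N2419 D8230
theorem N2679 : nd 2679 = n8231 := ndS (p := 2419) (l := 6) rfl N2419 D8231
theorem N2680 : nd 2680 = n8237 := ndS (p := 2423) (l := 1) rfl N2423 D8237
theorem N2681 : nd 2681 = n8239 := ndS (p := 2423) (l := 6) rfl N2423 D8239
theorem N2682 : nd 2682 = n8246 := ndS (p := 2425) (l := 6) rfl N2425 D8246
theorem N2683 : nd 2683 = n8250 := ndS (p := 2426) (l := 7) rfl N2426 D8250
theorem N2684 : nd 2684 = n8287 := ndS (p := 2428) (l := 1) rfl N2428 D8287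
theorem N2685 : nd 2685 = n8288 := ndS (p := 2428) (l := 4) rfl N2428 D8288
theorem N2686 : nd 2686 = n8289 := ndS (p := 2428) (l := 6) rfl N2428 D8289
theorem N2687 : nd 2687 = n8295 := ndS (p := 2432) (l := 4) rfl N2432 D8295
theorem N2688 : nd 2688 = n8296 := ndS (p := 2432) (l := 6) rfl N2432 D8296
theorem N2689 : nd 2689 = n8297 := ndS (p := 2433) (l := 3) rfl N2433 D8297
theorem N2690 : nd 2690 = n8300 := ndS (p := 2434) (l := 7) rfl N2434 D8300
theorem N2691 : nd 2691 = n8305 := ndS (p := 2437) (l := 4) rfl N2437 D8305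
theorem N2692 : nd 2692 = n8306 := ndS (p := 2437) (l := 6) rfl N2437 D8306
theorem N2693 : nd 2693 = n8309 := ndS (p := 2438) (l := 6) rfl N2438 D8309
theorem N2694 : nd 2694 = n8310 := ndS (p := 2439) (l := 7) rfl N2439 D8310
theorem N2695 : nd 2695 = n8319 := ndS (p := 2443) (l := 7) rfl N2443 D8319
theorem N2696 : nd 2696 = n8410 := ndS (p := 2446) (l := 6) rfl N2446 D8410
theorem N2697 : nd 2697 = n8433 := ndS (p := 2448) (l := 3) rfl N2448 D8433
theorem N2698 : nd 2698 = n8434 := ndS (p := 2448) (l := 5) rfl N2448 D8434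
theorem N2699 : nd 2699 = n8435 := ndS (p := 2448) (l := 6) rfl N2448 D8435
theorem N2700 : nd 2700 = n8436 := ndS (p := 2449) (l := 2) rfl N2449 D8436
theorem N2701 : nd 2701 = n8437 := ndS (p := 2449) (l := 7) rfl N2449 D8437
theorem N2702 : nd 2702 = n8441 := ndS (p := 2452) (l := 7) rfl N2452 D8441
theorem N2703 : nd 2703 = n8448 := ndS (p := 2455) (l := 5) rfl N2455 D8448
theorem N2704 : nd 2704 = n8449 := ndS (p := 2455) (l := 6) rfl N2455 D8449
theorem N2705 : nd 2705 = n8452 := ndS (p := 2457) (l := 7) rfl N2457 D8452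
theorem N2706 : nd 2706 = n8457 := ndS (p := 2460) (l := 7) rfl N2460 D8457
theorem N2707 : nd 2707 = n9198 := ndS (p := 2463) (l := 1) rfl N2463 D9198
theorem N2708 : nd 2708 = n9199 := ndS (p := 2463) (l := 4) rfl N2463 D9199
theorem N2709 : nd 2709 = n9200 := ndS (p := 2463) (l := 6) rfl N2463 D9200
theorem N2710 : nd 2710 = n9201 := ndS (p := 2464) (l := 5) rfl N2464 D9201
theorem N2711 : nd 2711 = n9202 := ndS (p := 2465) (l := 3) rfl N2465 D9202
theorem N2712 : nd 2712 = n9203 := ndS (p := 2465) (l := 5) rfl N2465 D9203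
theorem N2713 : nd 2713 = n9204 := ndS (p := 2465) (l := 6) rfl N2465 D9204
theorem N2714 : nd 2714 = n9205 := ndS (p := 2466) (l := 7) rfl N2466 D9205
theorem N2715 : nd 2715 = n9206 := ndS (p := 2468) (l := 1) rfl N2468 D9206
theorem N2716 : nd 2716 = n9207 := ndS (p := 2468) (l := 4) rfl N2468 D9207
theorem N2717 : nd 2717 = n9208 := ndS (p := 2468) (l := 6) rfl N2468 D9208
theorem N2718 : nd 2718 = n9209 := ndS (p := 2469) (l := 5) rfl N2469 D9209
theorem N2719 : nd 2719 = n9214 := ndS (p := 2473) (l := 4) rfl N2473 D9214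
theorem N2720 : nd 2720 = n9215 := ndS (p := 2473) (l := 6) rfl N2473 D9215
theorem N2721 : nd 2721 = n9216 := ndS (p := 2474) (l := 3) rfl N2474 D9216
theorem N2722 : nd 2722 = n9217 := ndS (p := 2474) (l := 5) rfl N2474 D9217
theorem N2723 : nd 2723 = n9218 := ndS (p := 2474) (l := 6) rfl N2474 D9218
theorem N2724 : nd 2724 = n9219 := ndS (p := 2475) (l := 7) rfl N2475 D9219
theorem N2725 : nd 2725 = n9224 := ndS (p := 2481) (l := 1) rfl N2481 D9224
theorem N2726 : nd 2726 = n9225 := ndS (p := 2481) (l := 4) rfl N2481 D9225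
theorem N2727 : nd 2727 = n9226 := ndS (p := 2481) (l := 6) rfl N2481 D9226
theorem N2728 : nd 2728 = n9227 := ndS (p := 2482) (l := 5) rfl N2482 D9227
theorem N2729 : nd 2729 = n9228 := ndS (p := 2483) (l := 3) rfl N2483 D9228
theorem N2730 : nd 2730 = n9229 := ndS (p := 2483) (l := 5) rfl N2483 D9229
theorem N2731 : nd 2731 = n9230 := ndS (p := 2483) (l := 6) rfl N2483 D9230
theorem N2732 : nd 2732 = n9231 := ndS (p := 2484) (l := 7) rfl N2484 D9231
theorem N2733 : nd 2733 = n9232 := ndS (p := 2486) (l := 1) rfl N2486 D9232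
theorem N2734 : nd 2734 = n9233 := ndS (p := 2486) (l := 4) rfl N2486 D9233
theorem N2735 : nd 2735 = n9234 := ndS (p := 2486) (l := 6) rfl N2486 D9234
theorem N2736 : nd 2736 = n9235 := ndS (p := 2487) (l := 5) rfl N2487 D9235
theorem N2737 : nd 2737 = n9236 := ndS (p := 2488) (l := 3) rfl N2488 D9236
theorem N2738 : nd 2738 = n9237 := ndS (p := 2488) (l := 5) rfl N2488 D9237
theorem N2739 : nd 2739 = n9238 := ndS (p := 2488) (l := 6) rfl N2488 D9238
theorem N2740 : nd 2740 = n9239 := ndS (p := 2489) (l := 7) rfl N2489 D9239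
theorem N2741 : nd 2741 = n9240 := ndS (p := 2491) (l := 1) rfl N2491 D9240
theorem N2742 : nd 2742 = n9241 := ndS (p := 2491) (l := 4) rfl N2491 D9241
theorem N2743 : nd 2743 = n9242 := ndS (p := 2491) (l := 6) rfl N2491 D9242
theorem N2744 : nd 2744 = n9243 := ndS (p := 2492) (l := 5) rfl N2492 D9243
theorem N2745 : nd 2745 = n9244 := ndS (p := 2493) (l := 3) rfl N2493 D9244
theorem N2746 : nd 2746 = n9245 := ndS (p := 2493) (l := 5) rfl N2493 D9245
theorem N2747 : nd 2747 = n9246 := ndS (p := 2493) (l := 6) rfl N2493 D9246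
theorem N2748 : nd 2748 = n9247 := ndS (p := 2494) (l := 7) rfl N2494 D9247
theorem N2749 : nd 2749 = n9248 := ndS (p := 2496) (l := 4) rfl N2496 D9248
theorem N2750 : nd 2750 = n9249 := ndS (p := 2496) (l := 6) rfl N2496 D9249
theorem N2751 : nd 2751 = n9250 := ndS (p := 2497) (l := 3) rfl N2497 D9250
theorem N2752 : nd 2752 = n9251 := ndS (p := 2497) (l := 5) rfl N2497 D9251
theorem N2753 : nd 2753 = n9252 := ndS (p := 2497) (l := 6) rfl N2497 D9252
theorem N2754 : nd 2754 = n9253 := ndS (p := 2498) (l := 7) rfl N2498 D9253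
theorem N2755 : nd 2755 = n9258 := ndS (p := 2504) (l := 4) rfl N2504 D9258
theorem N2756 : nd 2756 = n9259 := ndS (p := 2504) (l := 6) rfl N2504 D9259
theorem N2757 : nd 2757 = n9260 := ndS (p := 2505) (l := 3) rfl N2505 D9260
theorem N2758 : nd 2758 = n9261 := ndS (p := 2505) (l := 5) rfl N2505 D9261
theorem N2759 : nd 2759 = n9262 := ndS (p := 2505) (l := 6) rfl N2505 D9262
theorem N2760 : nd 2760 = n9263 := ndS (p := 2506) (l := 7) rfl N2506 D9263
theorem N2761 : nd 2761 = n9268 := ndS (p := 2512) (l := 3) rfl N2512 D9268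
theorem N2762 : nd 2762 = n9269 := ndS (p := 2512) (l := 5) rfl N2512 D9269
theorem N2763 : nd 2763 = n9270 := ndS (p := 2512) (l := 6) rfl N2512 D9270
theorem N2764 : nd 2764 = n9271 := ndS (p := 2513) (l := 7) rfl N2513 D9271
theorem N2765 : nd 2765 = n9281 := ndS (p := 2518) (l := 4) rfl N2518 D9281
theorem N2766 : nd 2766 = n9282 := ndS (p := 2518) (l := 6) rfl N2518 D9282
theorem N2767 : nd 2767 = n9283 := ndS (p := 2519) (l := 3) rfl N2519 D9283
theorem N2768 : nd 2768 = n9284 := ndS (p := 2519) (l := 5) rfl N2519 D9284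
theorem N2769 : nd 2769 = n9285 := ndS (p := 2519) (l := 6) rfl N2519 D9285
theorem N2770 : nd 2770 = n9286 := ndS (p := 2520) (l := 7) rfl N2520 D9286
theorem N2771 : nd 2771 = n9291 := ndS (p := 2526) (l := 3) rfl N2526 D9291
theorem N2772 : nd 2772 = n9292 := ndS (p := 2526) (l := 5) rfl N2526 D9292
theorem N2773 : nd 2773 = n9293 := ndS (p := 2526) (l := 6) rfl N2526 D9293
theorem N2774 : nd 2774 = n9294 := ndS (p := 2527) (l := 2) rfl N2527 D9294
theorem N2775 : nd 2775 = n9295 := ndS (p := 2527) (l := 7) rfl N2527 D9295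
theorem N2776 : nd 2776 = n9322 := ndS (p := 2532) (l := 4) rfl N2532 D9322
theorem N2777 : nd 2777 = n9323 := ndS (p := 2532) (l := 6) rfl N2532 D9323
theorem N2778 : nd 2778 = n9324 := ndS (p := 2533) (l := 3) rfl N2533 D9324
theorem N2779 : nd 2779 = n9325 := ndS (p := 2533) (l := 5) rfl N2533 D9325
theorem N2780 : nd 2780 = n9326 := ndS (p := 2533) (l := 6) rfl N2533 D9326
theorem N2781 : nd 2781 = n9327 := ndS (p := 2534) (l := 7) rfl N2534 D9327
theorem N2782 : nd 2782 = n9328 := ndS (p := 2536) (l := 5) rfl N2536 D9328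
theorem N2783 : nd 2783 = n9329 := ndS (p := 2536) (l := 6) rfl N2536 D9329
theorem N2784 : nd 2784 = n9330 := ndS (p := 2537) (l := 6) rfl N2537 D9330
theorem N2785 : nd 2785 = n9331 := ndS (p := 2538) (l := 7) rfl N2538 D9331
theorem N2786 : nd 2786 = n9332 := ndS (p := 2540) (l := 4) rfl N2540 D9332
theorem N2787 : nd 2787 = n9333 := ndS (p := 2540) (l := 6) rfl N2540 D9333
theorem N2788 : nd 2788 = n9334 := ndS (p := 2541) (l := 3) rfl N2541 D9334
theorem N2789 : nd 2789 = n9335 := ndS (p := 2541) (l := 5) rfl N2541 D9335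
theorem N2790 : nd 2790 = n9336 := ndS (p := 2541) (l := 6) rfl N2541 D9336
theorem N2791 : nd 2791 = n9337 := ndS (p := 2542) (l := 7) rfl N2542 D9337
theorem N2792 : nd 2792 = n9338 := ndS (p := 2544) (l := 5) rfl N2544 D9338
theorem N2793 : nd 2793 = n9340 := ndS (p := 2545) (l := 6) rfl N2545 D9340
theorem N2794 : nd 2794 = n9341 := ndS (p := 2546) (l := 7) rfl N2546 D9341
theorem N2795 : nd 2795 = n9342 := ndS (p := 2548) (l := 4) rfl N2548 D9342
theorem N2796 : nd 2796 = n9343 := ndS (p := 2548) (l := 6) rfl N2548 D9343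
theorem N2797 : nd 2797 = n9344 := ndS (p := 2549) (l := 3) rfl N2549 D9344
theorem N2798 : nd 2798 = n9345 := ndS (p := 2549) (l := 5) rfl N2549 D9345
theorem N2799 : nd 2799 = n9346 := ndS (p := 2549) (l := 6) rfl N2549 D9346
theorem N2800 : nd 2800 = n9347 := ndS (p := 2550) (l := 7) rfl N2550 D9347
theorem N2801 : nd 2801 = n9352 := ndS (p := 2556) (l := 3) rfl N2556 D9352
theorem N2802 : nd 2802 = n9353 := ndS (p := 2556) (l := 5) rfl N2556 D9353
theorem N2803 : nd 2803 = n9354 := ndS (p := 2556) (l := 6) rfl N2556 D9354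
theorem N2804 : nd 2804 = n9355 := ndS (p := 2557) (l := 2) rfl N2557 D9355
theorem N2805 : nd 2805 = n9356 := ndS (p := 2557) (l := 7) rfl N2557 D9356
theorem N2806 : nd 2806 = n9357 := ndS (p := 2558) (l := 5) rfl N2558 D9357
theorem N2807 : nd 2807 = n9358 := ndS (p := 2558) (l := 6) rfl N2558 D9358
theorem N2808 : nd 2808 = n9359 := ndS (p := 2559) (l := 6) rfl N2559 D9359
theorem N2809 : nd 2809 = n9360 := ndS (p := 2560) (l := 7) rfl N2560 D9360
theorem N2810 : nd 2810 = n9365 := ndS (p := 2566) (l := 3) rfl N2566 D9365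
theorem N2811 : nd 2811 = n9366 := ndS (p := 2566) (l := 5) rfl N2566 D9366
theorem N2812 : nd 2812 = n9367 := ndS (p := 2566) (l := 6) rfl N2566 D9367
theorem N2813 : nd 2813 = n9368 := ndS (p := 2567) (l := 2) rfl N2567 D9368
theorem N2814 : nd 2814 = n9375 := ndS (p := 2571) (l := 2) rfl N2571 D9375
theorem N2815 : nd 2815 = n9376 := ndS (p := 2571) (l := 5) rfl N2571 D9376
theorem N2816 : nd 2816 = n9378 := ndS (p := 2574) (l := 3) rfl N2574 D9378
theorem N2817 : nd 2817 = n9379 := ndS (p := 2574) (l := 5) rfl N2574 D9379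
theorem N2818 : nd 2818 = n9380 := ndS (p := 2574) (l := 6) rfl N2574 D9380
theorem N2819 : nd 2819 = n9381 := ndS (p := 2575) (l := 2) rfl N2575 D9381
theorem N2820 : nd 2820 = n9382 := ndS (p := 2575) (l := 7) rfl N2575 D9382
theorem N2821 : nd 2821 = n9383 := ndS (p := 2576) (l := 5) rfl N2576 D9383
theorem N2822 : nd 2822 = n9385 := ndS (p := 2577) (l := 6) rfl N2577 D9385
theorem N2823 : nd 2823 = n9386 := ndS (p := 2578) (l := 7) rfl N2578 D9386
theorem N2824 : nd 2824 = n9390 := ndS (p := 2581) (l := 7) rfl N2581 D9390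
theorem N2825 : nd 2825 = n9391 := ndS (p := 2583) (l := 6) rfl N2583 D9391
theorem N2826 : nd 2826 = n9392 := ndS (p := 2584) (l := 2) rfl N2584 D9392
theorem N2827 : nd 2827 = n9393 := ndS (p := 2584) (l := 7) rfl N2584 D9393
theorem N2828 : nd 2828 = n9394 := ndS (p := 2585) (l := 3) rfl N2585 D9394
theorem N2829 : nd 2829 = n9395 := ndS (p := 2585) (l := 7) rfl N2585 D9395
theorem N2830 : nd 2830 = n9396 := ndS (p := 2587) (l := 7) rfl N2587 D9396
theorem N2831 : nd 2831 = n9397 := ndS (p := 2590) (l := 2) rfl N2590 D9397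
theorem N2832 : nd 2832 = n9410 := ndS (p := 2594) (l := 1) rfl N2594 D9410
theorem N2833 : nd 2833 = n9411 := ndS (p := 2594) (l := 4) rfl N2594 D9411
theorem N2834 : nd 2834 = n9412 := ndS (p := 2594) (l := 6) rfl N2594 D9412
theorem N2835 : nd 2835 = n9418 := ndS (p := 2598) (l := 1) rfl N2598 D9418
theorem N2836 : nd 2836 = n9419 := ndS (p := 2598) (l := 4) rfl N2598 D9419
theorem N2837 : nd 2837 = n9420 := ndS (p := 2598) (l := 6) rfl N2598 D9420
theorem N2838 : nd 2838 = n9426 := ndS (p := 2602) (l := 1) rfl N2602 D9426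
theorem N2839 : nd 2839 = n9427 := ndS (p := 2602) (l := 4) rfl N2602 D9427
theorem N2840 : nd 2840 = n9428 := ndS (p := 2602) (l := 6) rfl N2602 D9428
theorem N2841 : nd 2841 = n9434 := ndS (p := 2606) (l := 4) rfl N2606 D9434
theorem N2842 : nd 2842 = n9435 := ndS (p := 2606) (l := 6) rfl N2606 D9435
theorem N2843 : nd 2843 = n9437 := ndS (p := 2607) (l := 5) rfl N2607 D9437
theorem N2844 : nd 2844 = n9439 := ndS (p := 2608) (l := 7) rfl N2608 D9439
theorem N2845 : nd 2845 = n9452 := ndS (p := 2613) (l := 4) rfl N2613 D9452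
theorem N2846 : nd 2846 = n9455 := ndS (p := 2614) (l := 5) rfl N2614 D9455
theorem N2847 : nd 2847 = n9463 := ndS (p := 2617) (l := 5) rfl N2617 D9463
theorem N2848 : nd 2848 = n9476 := ndS (p := 2619) (l := 4) rfl N2619 D9476
theorem N2849 : nd 2849 = n9477 := ndS (p := 2619) (l := 6) rfl N2619 D9477
theorem N2850 : nd 2850 = n9486 := ndS (p := 2622) (l := 4) rfl N2622 D9486
theorem N2851 : nd 2851 = n9487 := ndS (p := 2622) (l := 6) rfl N2622 D9487
theorem N2852 : nd 2852 = n9488 := ndS (p := 2623) (l := 3) rfl N2623 D9488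
theorem N2853 : nd 2853 = n9491 := ndS (p := 2624) (l := 7) rfl N2624 D9491
theorem N2854 : nd 2854 = n9496 := ndS (p := 2627) (l := 4) rfl N2627 D9496
theorem N2855 : nd 2855 = n9497 := ndS (p := 2627) (l := 6) rfl N2627 D9497
theorem N2856 : nd 2856 = n9500 := ndS (p := 2628) (l := 6) rfl N2628 D9500
theorem N2857 : nd 2857 = n9501 := ndS (p := 2629) (l := 7) rfl N2629 D9501
theorem N2858 : nd 2858 = n9510 := ndS (p := 2633) (l := 7) rfl N2633 D9510
theorem N2859 : nd 2859 = n9610 := ndS (p := 2638) (l := 4) rfl N2638 D9610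
theorem N2860 : nd 2860 = n9611 := ndS (p := 2638) (l := 6) rfl N2638 D9611
theorem N2861 : nd 2861 = n9612 := ndS (p := 2639) (l := 3) rfl N2639 D9612
theorem N2862 : nd 2862 = n9613 := ndS (p := 2639) (l := 5) rfl N2639 D9613
theorem N2863 : nd 2863 = n9614 := ndS (p := 2639) (l := 6) rfl N2639 D9614
theorem N2864 : nd 2864 = n9615 := ndS (p := 2640) (l := 7) rfl N2640 D9615
theorem N2865 : nd 2865 = n9620 := ndS (p := 2646) (l := 3) rfl N2646 D9620
theorem N2866 : nd 2866 = n9621 := ndS (p := 2646) (l := 5) rfl N2646 D9621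
theorem N2867 : nd 2867 = n9622 := ndS (p := 2646) (l := 6) rfl N2646 D9622
theorem N2868 : nd 2868 = n9624 := ndS (p := 2647) (l := 7) rfl N2647 D9624
theorem N2869 : nd 2869 = n9625 := ndS (p := 2648) (l := 5) rfl N2648 D9625
theorem N2870 : nd 2870 = n9626 := ndS (p := 2648) (l := 6) rfl N2648 D9626
theorem N2871 : nd 2871 = n9635 := ndS (p := 2654) (l := 6) rfl N2654 D9635
theorem N2872 : nd 2872 = n9658 := ndS (p := 2656) (l := 3) rfl N2656 D9658
theorem N2873 : nd 2873 = n9659 := ndS (p := 2656) (l := 5) rfl N2656 D9659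
theorem N2874 : nd 2874 = n9660 := ndS (p := 2656) (l := 6) rfl N2656 D9660
theorem N2875 : nd 2875 = n9661 := ndS (p := 2657) (l := 2) rfl N2657 D9661
theorem N2876 : nd 2876 = n9662 := ndS (p := 2657) (l := 7) rfl N2657 D9662
theorem N2877 : nd 2877 = n9666 := ndS (p := 2660) (l := 7) rfl N2660 D9666
theorem N2878 : nd 2878 = n9672 := ndS (p := 2663) (l := 2) rfl N2663 D9672
theorem N2879 : nd 2879 = n9673 := ndS (p := 2663) (l := 5) rfl N2663 D9673
theorem N2880 : nd 2880 = n9674 := ndS (p := 2663) (l := 6) rfl N2663 D9674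
theorem N2881 : nd 2881 = n9677 := ndS (p := 2665) (l := 7) rfl N2665 D9677
theorem N2882 : nd 2882 = n9682 := ndS (p := 2668) (l := 7) rfl N2668 D9682
theorem N2883 : nd 2883 = n9686 := ndS (p := 2671) (l := 2) rfl N2671 D9686
theorem N2884 : nd 2884 = n9699 := ndS (p := 2673) (l := 6) rfl N2673 D9699
theorem N2885 : nd 2885 = n9740 := ndS (p := 2674) (l := 1) rfl N2674 D9740
theorem N2886 : nd 2886 = n10533 := ndS (p := 2677) (l := 4) rfl N2677 D10533
theorem N2887 : nd 2887 = n10534 := ndS (p := 2677) (l := 6) rfl N2677 D10534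
theorem N2888 : nd 2888 = n10544 := ndS (p := 2680) (l := 6) rfl N2680 D10544
theorem N2889 : nd 2889 = n10556 := ndS (p := 2682) (l := 2) rfl N2682 D10556
theorem N2890 : nd 2890 = n10557 := ndS (p := 2682) (l := 7) rfl N2682 D10557
theorem N2891 : nd 2891 = n10608 := ndS (p := 2684) (l := 4) rfl N2684 D10608
theorem N2892 : nd 2892 = n10609 := ndS (p := 2684) (l := 6) rfl N2684 D10609
theorem N2893 : nd 2893 = n10618 := ndS (p := 2687) (l := 3) rfl N2687 D10618
theorem N2894 : nd 2894 = n10622 := ndS (p := 2688) (l := 7) rfl N2688 D10622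
theorem N2895 : nd 2895 = n10634 := ndS (p := 2691) (l := 6) rfl N2691 D10634
theorem N2896 : nd 2896 = n10635 := ndS (p := 2692) (l := 2) rfl N2692 D10635
theorem N2897 : nd 2897 = n10636 := ndS (p := 2692) (l := 7) rfl N2692 D10636
theorem N2898 : nd 2898 = n10769 := ndS (p := 2696) (l := 2) rfl N2696 D10769
theorem N2899 : nd 2899 = n10802 := ndS (p := 2699) (l := 2) rfl N2699 D10802
theorem N2900 : nd 2900 = n10803 := ndS (p := 2699) (l := 7) rfl N2699 D10803
theorem N2901 : nd 2901 = n10804 := ndS (p := 2700) (l := 3) rfl N2700 D10804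
theorem N2902 : nd 2902 = n10805 := ndS (p := 2700) (l := 7) rfl N2700 D10805
theorem N2903 : nd 2903 = n10820 := ndS (p := 2704) (l := 2) rfl N2704 D10820
theorem N2904 : nd 2904 = n10821 := ndS (p := 2704) (l := 7) rfl N2704 D10821
theorem N2905 : nd 2905 = n11747 := ndS (p := 2707) (l := 4) rfl N2707 D11747
theorem N2906 : nd 2906 = n11748 := ndS (p := 2707) (l := 6) rfl N2707 D11748
theorem N2907 : nd 2907 = n11749 := ndS (p := 2708) (l := 3) rfl N2708 D11749
theorem N2908 : nd 2908 = n11750 := ndS (p := 2708) (l := 5) rfl N2708 D11750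
theorem N2909 : nd 2909 = n11751 := ndS (p := 2708) (l := 6) rfl N2708 D11751
theorem N2910 : nd 2910 = n11752 := ndS (p := 2709) (l := 7) rfl N2709 D11752
theorem N2911 : nd 2911 = n11757 := ndS (p := 2715) (l := 4) rfl N2715 D11757
theorem N2912 : nd 2912 = n11758 := ndS (p := 2715) (l := 6) rfl N2715 D11758
theorem N2913 : nd 2913 = n11767 := ndS (p := 2719) (l := 3) rfl N2719 D11767
theorem N2914 : nd 2914 = n11768 := ndS (p := 2719) (l := 5) rfl N2719 D11768
theorem N2915 : nd 2915 = n11769 := ndS (p := 2719) (l := 6) rfl N2719 D11769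
theorem N2916 : nd 2916 = n11770 := ndS (p := 2720) (l := 2) rfl N2720 D11770
theorem N2917 : nd 2917 = n11771 := ndS (p := 2720) (l := 7) rfl N2720 D11771
theorem N2918 : nd 2918 = n11781 := ndS (p := 2725) (l := 4) rfl N2725 D11781
theorem N2919 : nd 2919 = n11782 := ndS (p := 2725) (l := 6) rfl N2725 D11782
theorem N2920 : nd 2920 = n11783 := ndS (p := 2726) (l := 3) rfl N2726 D11783
theorem N2921 : nd 2921 = n11784 := ndS (p := 2726) (l := 5) rfl N2726 D11784
theorem N2922 : nd 2922 = n11785 := ndS (p := 2726) (l := 6) rfl N2726 D11785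
theorem N2923 : nd 2923 = n11786 := ndS (p := 2727) (l := 7) rfl N2727 D11786
theorem N2924 : nd 2924 = n11791 := ndS (p := 2733) (l := 4) rfl N2733 D11791
theorem N2925 : nd 2925 = n11792 := ndS (p := 2733) (l := 6) rfl N2733 D11792
theorem N2926 : nd 2926 = n11793 := ndS (p := 2734) (l := 3) rfl N2734 D11793
theorem N2927 : nd 2927 = n11794 := ndS (p := 2734) (l := 5) rfl N2734 D11794
theorem N2928 : nd 2928 = n11795 := ndS (p := 2734) (l := 6) rfl N2734 D11795
theorem N2929 : nd 2929 = n11796 := ndS (p := 2735) (l := 7) rfl N2735 D11796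
theorem N2930 : nd 2930 = n11801 := ndS (p := 2741) (l := 4) rfl N2741 D11801
theorem N2931 : nd 2931 = n11802 := ndS (p := 2741) (l := 6) rfl N2741 D11802
theorem N2932 : nd 2932 = n11803 := ndS (p := 2742) (l := 3) rfl N2742 D11803
theorem N2933 : nd 2933 = n11804 := ndS (p := 2742) (l := 5) rfl N2742 D11804
theorem N2934 : nd 2934 = n11805 := ndS (p := 2742) (l := 6) rfl N2742 D11805
theorem N2935 : nd 2935 = n11806 := ndS (p := 2743) (l := 7) rfl N2743 D11806
theorem N2936 : nd 2936 = n11811 := ndS (p := 2749) (l := 3) rfl N2749 D11811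
theorem N2937 : nd 2937 = n11812 := ndS (p := 2749) (l := 5) rfl N2749 D11812
theorem N2938 : nd 2938 = n11813 := ndS (p := 2749) (l := 6) rfl N2749 D11813
theorem N2939 : nd 2939 = n11814 := ndS (p := 2750) (l := 2) rfl N2750 D11814
theorem N2940 : nd 2940 = n11815 := ndS (p := 2750) (l := 7) rfl N2750 D11815
theorem N2941 : nd 2941 = n11825 := ndS (p := 2755) (l := 3) rfl N2755 D11825
theorem N2942 : nd 2942 = n11826 := ndS (p := 2755) (l := 5) rfl N2755 D11826
theorem N2943 : nd 2943 = n11827 := ndS (p := 2755) (l := 6) rfl N2755 D11827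
theorem N2944 : nd 2944 = n11828 := ndS (p := 2756) (l := 2) rfl N2756 D11828
theorem N2945 : nd 2945 = n11829 := ndS (p := 2756) (l := 7) rfl N2756 D11829
theorem N2946 : nd 2946 = n11839 := ndS (p := 2761) (l := 2) rfl N2761 D11839
theorem N2947 : nd 2947 = n11854 := ndS (p := 2765) (l := 3) rfl N2765 D11854
theorem N2948 : nd 2948 = n11855 := ndS (p := 2765) (l := 5) rfl N2765 D11855
theorem N2949 : nd 2949 = n11856 := ndS (p := 2765) (l := 6) rfl N2765 D11856
theorem N2950 : nd 2950 = n11857 := ndS (p := 2766) (l := 2) rfl N2766 D11857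
theorem N2951 : nd 2951 = n11858 := ndS (p := 2766) (l := 7) rfl N2766 D11858
theorem N2952 : nd 2952 = n11871 := ndS (p := 2773) (l := 2) rfl N2773 D11871
theorem N2953 : nd 2953 = n11873 := ndS (p := 2774) (l := 3) rfl N2774 D11873
theorem N2954 : nd 2954 = n11874 := ndS (p := 2774) (l := 7) rfl N2774 D11874
theorem N2955 : nd 2955 = n11905 := ndS (p := 2776) (l := 3) rfl N2776 D11905
theorem N2956 : nd 2956 = n11906 := ndS (p := 2776) (l := 5) rfl N2776 D11906
theorem N2957 : nd 2957 = n11907 := ndS (p := 2776) (l := 6) rfl N2776 D11907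
theorem N2958 : nd 2958 = n11908 := ndS (p := 2777) (l := 2) rfl N2777 D11908
theorem N2959 : nd 2959 = n11909 := ndS (p := 2777) (l := 7) rfl N2777 D11909
theorem N2960 : nd 2960 = n11910 := ndS (p := 2778) (l := 5) rfl N2778 D11910
theorem N2961 : nd 2961 = n11911 := ndS (p := 2778) (l := 6) rfl N2778 D11911
theorem N2962 : nd 2962 = n11912 := ndS (p := 2779) (l := 6) rfl N2779 D11912
theorem N2963 : nd 2963 = n11913 := ndS (p := 2780) (l := 7) rfl N2780 D11913
theorem N2964 : nd 2964 = n11919 := ndS (p := 2786) (l := 3) rfl N2786 D11919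
theorem N2965 : nd 2965 = n11920 := ndS (p := 2786) (l := 5) rfl N2786 D11920
theorem N2966 : nd 2966 = n11921 := ndS (p := 2786) (l := 6) rfl N2786 D11921
theorem N2967 : nd 2967 = n11922 := ndS (p := 2787) (l := 2) rfl N2787 D11922
theorem N2968 : nd 2968 = n11923 := ndS (p := 2787) (l := 7) rfl N2787 D11923
theorem N2969 : nd 2969 = n11924 := ndS (p := 2788) (l := 5) rfl N2788 D11924
theorem N2970 : nd 2970 = n11926 := ndS (p := 2789) (l := 6) rfl N2789 D11926
theorem N2971 : nd 2971 = n11927 := ndS (p := 2790) (l := 7) rfl N2790 D11927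
theorem N2972 : nd 2972 = n11933 := ndS (p := 2795) (l := 3) rfl N2795 D11933
theorem N2973 : nd 2973 = n11934 := ndS (p := 2795) (l := 5) rfl N2795 D11934
theorem N2974 : nd 2974 = n11935 := ndS (p := 2795) (l := 6) rfl N2795 D11935
theorem N2975 : nd 2975 = n11936 := ndS (p := 2796) (l := 2) rfl N2796 D11936
theorem N2976 : nd 2976 = n11937 := ndS (p := 2796) (l := 7) rfl N2796 D11937
theorem N2977 : nd 2977 = n11947 := ndS (p := 2801) (l := 2) rfl N2801 D11947
theorem N2978 : nd 2978 = n11948 := ndS (p := 2801) (l := 5) rfl N2801 D11948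
theorem N2979 : nd 2979 = n11949 := ndS (p := 2801) (l := 6) rfl N2801 D11949
theorem N2980 : nd 2980 = n11950 := ndS (p := 2802) (l := 6) rfl N2802 D11950
theorem N2981 : nd 2981 = n11951 := ndS (p := 2803) (l := 2) rfl N2803 D11951
theorem N2982 : nd 2982 = n11952 := ndS (p := 2803) (l := 7) rfl N2803 D11952
theorem N2983 : nd 2983 = n11953 := ndS (p := 2804) (l := 3) rfl N2804 D11953
theorem N2984 : nd 2984 = n11954 := ndS (p := 2804) (l := 7) rfl N2804 D11954
theorem N2985 : nd 2985 = n11961 := ndS (p := 2810) (l := 2) rfl N2810 D11961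
theorem N2986 : nd 2986 = n11965 := ndS (p := 2812) (l := 2) rfl N2812 D11965
theorem N2987 : nd 2987 = n11973 := ndS (p := 2814) (l := 5) rfl N2814 D11973
theorem N2988 : nd 2988 = n11974 := ndS (p := 2814) (l := 6) rfl N2814 D11974
theorem N2989 : nd 2989 = n11976 := ndS (p := 2816) (l := 2) rfl N2816 D11976
theorem N2990 : nd 2990 = n11977 := ndS (p := 2816) (l := 5) rfl N2816 D11977
theorem N2991 : nd 2991 = n11979 := ndS (p := 2817) (l := 6) rfl N2817 D11979
theorem N2992 : nd 2992 = n11980 := ndS (p := 2818) (l := 2) rfl N2818 D11980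
theorem N2993 : nd 2993 = n11981 := ndS (p := 2818) (l := 7) rfl N2818 D11981
theorem N2994 : nd 2994 = n11983 := ndS (p := 2819) (l := 7) rfl N2819 D11983
theorem N2995 : nd 2995 = n11987 := ndS (p := 2822) (l := 7) rfl N2822 D11987
theorem N2996 : nd 2996 = n11992 := ndS (p := 2825) (l := 2) rfl N2825 D11992
theorem N2997 : nd 2997 = n11993 := ndS (p := 2825) (l := 7) rfl N2825 D11993
theorem N2998 : nd 2998 = n11994 := ndS (p := 2826) (l := 3) rfl N2826 D11994
theorem N2999 : nd 2999 = n11995 := ndS (p := 2826) (l := 7) rfl N2826 D11995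
theorem N3000 : nd 3000 = n12015 := ndS (p := 2832) (l := 4) rfl N2832 D12015
theorem N3001 : nd 3001 = n12016 := ndS (p := 2832) (l := 6) rfl N2832 D12016
theorem N3002 : nd 3002 = n12025 := ndS (p := 2835) (l := 4) rfl N2835 D12025
theorem N3003 : nd 3003 = n12026 := ndS (p := 2835) (l := 6) rfl N2835 D12026
theorem N3004 : nd 3004 = n12035 := ndS (p := 2838) (l := 4) rfl N2838 D12035
theorem N3005 : nd 3005 = n12036 := ndS (p := 2838) (l := 6) rfl N2838 D12036
theorem N3006 : nd 3006 = n12046 := ndS (p := 2841) (l := 5) rfl N2841 D12046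
theorem N3007 : nd 3007 = n12048 := ndS (p := 2842) (l := 2) rfl N2842 D12048
theorem N3008 : nd 3008 = n12049 := ndS (p := 2842) (l := 7) rfl N2842 D12049
theorem N3009 : nd 3009 = n12070 := ndS (p := 2845) (l := 5) rfl N2845 D12070
theorem N3010 : nd 3010 = n12114 := ndS (p := 2850) (l := 3) rfl N2850 D12114
theorem N3011 : nd 3011 = n12118 := ndS (p := 2851) (l := 7) rfl N2851 D12118
theorem N3012 : nd 3012 = n12130 := ndS (p := 2854) (l := 6) rfl N2854 D12130
theorem N3013 : nd 3013 = n12131 := ndS (p := 2855) (l := 2) rfl N2855 D12131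
theorem N3014 : nd 3014 = n12132 := ndS (p := 2855) (l := 7) rfl N2855 D12132
theorem N3015 : nd 3015 = n12276 := ndS (p := 2859) (l := 3) rfl N2859 D12276
theorem N3016 : nd 3016 = n12277 := ndS (p := 2859) (l := 5) rfl N2859 D12277
theorem N3017 : nd 3017 = n12278 := ndS (p := 2859) (l := 6) rfl N2859 D12278
theorem N3018 : nd 3018 = n12279 := ndS (p := 2860) (l := 2) rfl N2860 D12279
theorem N3019 : nd 3019 = n12280 := ndS (p := 2860) (l := 7) rfl N2860 D12280
theorem N3020 : nd 3020 = n12290 := ndS (p := 2865) (l := 2) rfl N2865 D12290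
theorem N3021 : nd 3021 = n12291 := ndS (p := 2865) (l := 5) rfl N2865 D12291
theorem N3022 : nd 3022 = n12292 := ndS (p := 2865) (l := 6) rfl N2865 D12292
theorem N3023 : nd 3023 = n12310 := ndS (p := 2871) (l := 2) rfl N2871 D12310
theorem N3024 : nd 3024 = n12339 := ndS (p := 2872) (l := 2) rfl N2872 D12339
theorem N3025 : nd 3025 = n12343 := ndS (p := 2874) (l := 2) rfl N2874 D12343
theorem N3026 : nd 3026 = n12344 := ndS (p := 2874) (l := 7) rfl N2874 D12344
theorem N3027 : nd 3027 = n12345 := ndS (p := 2875) (l := 3) rfl N2875 D12345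
theorem N3028 : nd 3028 = n12346 := ndS (p := 2875) (l := 7) rfl N2875 D12346
theorem N3029 : nd 3029 = n12358 := ndS (p := 2878) (l := 6) rfl N2878 D12358
theorem N3030 : nd 3030 = n12361 := ndS (p := 2880) (l := 2) rfl N2880 D12361
theorem N3031 : nd 3031 = n12362 := ndS (p := 2880) (l := 7) rfl N2880 D12362
theorem N3032 : nd 3032 = n12389 := ndS (p := 2884) (l := 7) rfl N2884 D12389
theorem N3033 : nd 3033 = n13457 := ndS (p := 2887) (l := 2) rfl N2887 D13457
theorem N3034 : nd 3034 = n13488 := ndS (p := 2889) (l := 3) rfl N2889 D13488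
theorem N3035 : nd 3035 = n13489 := ndS (p := 2889) (l := 7) rfl N2889 D13489
theorem N3036 : nd 3036 = n13558 := ndS (p := 2892) (l := 2) rfl N2892 D13558
theorem N3037 : nd 3037 = n13591 := ndS (p := 2895) (l := 2) rfl N2895 D13591
theorem N3038 : nd 3038 = n13593 := ndS (p := 2896) (l := 3) rfl N2896 D13593
theorem N3039 : nd 3039 = n13594 := ndS (p := 2896) (l := 7) rfl N2896 D13594
theorem N3040 : nd 3040 = n13765 := ndS (p := 2898) (l := 3) rfl N2898 D13765
theorem N3041 : nd 3041 = n13811 := ndS (p := 2899) (l := 7) rfl N2899 D13811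
theorem N3042 : nd 3042 = n13834 := ndS (p := 2903) (l := 7) rfl N2903 D13834
theorem N3043 : nd 3043 = n14979 := ndS (p := 2905) (l := 3) rfl N2905 D14979
theorem N3044 : nd 3044 = n14980 := ndS (p := 2905) (l := 5) rfl N2905 D14980
theorem N3045 : nd 3045 = n14981 := ndS (p := 2905) (l := 6) rfl N2905 D14981
theorem N3046 : nd 3046 = n14982 := ndS (p := 2906) (l := 2) rfl N2906 D14982
theorem N3047 : nd 3047 = n14983 := ndS (p := 2906) (l := 7) rfl N2906 D14983
theorem N3048 : nd 3048 = n15007 := ndS (p := 2913) (l := 2) rfl N2913 D15007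
theorem N3049 : nd 3049 = n15011 := ndS (p := 2915) (l := 2) rfl N2915 D15011
theorem N3050 : nd 3050 = n15013 := ndS (p := 2916) (l := 7) rfl N2916 D15013
theorem N3051 : nd 3051 = n15024 := ndS (p := 2918) (l := 3) rfl N2918 D15024
theorem N3052 : nd 3052 = n15025 := ndS (p := 2918) (l := 5) rfl N2918 D15025
theorem N3053 : nd 3053 = n15026 := ndS (p := 2918) (l := 6) rfl N2918 D15026
theorem N3054 : nd 3054 = n15027 := ndS (p := 2919) (l := 2) rfl N2919 D15027
theorem N3055 : nd 3055 = n15028 := ndS (p := 2919) (l := 7) rfl N2919 D15028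
theorem N3056 : nd 3056 = n15038 := ndS (p := 2924) (l := 3) rfl N2924 D15038
theorem N3057 : nd 3057 = n15039 := ndS (p := 2924) (l := 5) rfl N2924 D15039
theorem N3058 : nd 3058 = n15040 := ndS (p := 2924) (l := 6) rfl N2924 D15040
theorem N3059 : nd 3059 = n15041 := ndS (p := 2925) (l := 2) rfl N2925 D15041
theorem N3060 : nd 3060 = n15042 := ndS (p := 2925) (l := 7) rfl N2925 D15042
theorem N3061 : nd 3061 = n15052 := ndS (p := 2930) (l := 3) rfl N2930 D15052
theorem N3062 : nd 3062 = n15053 := ndS (p := 2930) (l := 5) rfl N2930 D15053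
theorem N3063 : nd 3063 = n15054 := ndS (p := 2930) (l := 6) rfl N2930 D15054
theorem N3064 : nd 3064 = n15055 := ndS (p := 2931) (l := 2) rfl N2931 D15055
theorem N3065 : nd 3065 = n15056 := ndS (p := 2931) (l := 7) rfl N2931 D15056
theorem N3066 : nd 3066 = n15066 := ndS (p := 2936) (l := 2) rfl N2936 D15066
theorem N3067 : nd 3067 = n15070 := ndS (p := 2938) (l := 2) rfl N2938 D15070
theorem N3068 : nd 3068 = n15072 := ndS (p := 2939) (l := 3) rfl N2939 D15072
theorem N3069 : nd 3069 = n15073 := ndS (p := 2939) (l := 7) rfl N2939 D15073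
theorem N3070 : nd 3070 = n15084 := ndS (p := 2941) (l := 2) rfl N2941 D15084
theorem N3071 : nd 3071 = n15088 := ndS (p := 2943) (l := 2) rfl N2943 D15088
theorem N3072 : nd 3072 = n15091 := ndS (p := 2944) (l := 7) rfl N2944 D15091
theorem N3073 : nd 3073 = n15121 := ndS (p := 2947) (l := 2) rfl N2947 D15121
theorem N3074 : nd 3074 = n15125 := ndS (p := 2949) (l := 2) rfl N2949 D15125
theorem N3075 : nd 3075 = n15128 := ndS (p := 2950) (l := 7) rfl N2950 D15128
theorem N3076 : nd 3076 = n15147 := ndS (p := 2953) (l := 4) rfl N2953 D15147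
theorem N3077 : nd 3077 = n15148 := ndS (p := 2953) (l := 7) rfl N2953 D15148
theorem N3078 : nd 3078 = n15186 := ndS (p := 2955) (l := 2) rfl N2955 D15186
theorem N3079 : nd 3079 = n15187 := ndS (p := 2955) (l := 5) rfl N2955 D15187
theorem N3080 : nd 3080 = n15188 := ndS (p := 2955) (l := 6) rfl N2955 D15188
theorem N3081 : nd 3081 = n15189 := ndS (p := 2956) (l := 6) rfl N2956 D15189
theorem N3082 : nd 3082 = n15190 := ndS (p := 2957) (l := 2) rfl N2957 D15190
theorem N3083 : nd 3083 = n15191 := ndS (p := 2957) (l := 7) rfl N2957 D15191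
theorem N3084 : nd 3084 = n15192 := ndS (p := 2958) (l := 3) rfl N2958 D15192
theorem N3085 : nd 3085 = n15193 := ndS (p := 2958) (l := 7) rfl N2958 D15193
theorem N3086 : nd 3086 = n15203 := ndS (p := 2964) (l := 2) rfl N2964 D15203
theorem N3087 : nd 3087 = n15204 := ndS (p := 2964) (l := 5) rfl N2964 D15204
theorem N3088 : nd 3088 = n15206 := ndS (p := 2965) (l := 6) rfl N2965 D15206
theorem N3089 : nd 3089 = n15207 := ndS (p := 2966) (l := 2) rfl N2966 D15207
theorem N3090 : nd 3090 = n15208 := ndS (p := 2966) (l := 7) rfl N2966 D15208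
theorem N3091 : nd 3091 = n15210 := ndS (p := 2967) (l := 7) rfl N2967 D15210
theorem N3092 : nd 3092 = n15221 := ndS (p := 2972) (l := 2) rfl N2972 D15221
theorem N3093 : nd 3093 = n15225 := ndS (p := 2974) (l := 2) rfl N2974 D15225
theorem N3094 : nd 3094 = n15227 := ndS (p := 2975) (l := 3) rfl N2975 D15227
theorem N3095 : nd 3095 = n15228 := ndS (p := 2975) (l := 7) rfl N2975 D15228
theorem N3096 : nd 3096 = n15239 := ndS (p := 2977) (l := 5) rfl N2977 D15239
theorem N3097 : nd 3097 = n15240 := ndS (p := 2977) (l := 6) rfl N2977 D15240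
theorem N3098 : nd 3098 = n15243 := ndS (p := 2979) (l := 2) rfl N2979 D15243
theorem N3099 : nd 3099 = n15245 := ndS (p := 2980) (l := 2) rfl N2980 D15245
theorem N3100 : nd 3100 = n15247 := ndS (p := 2981) (l := 3) rfl N2981 D15247
theorem N3101 : nd 3101 = n15248 := ndS (p := 2981) (l := 7) rfl N2981 D15248
theorem N3102 : nd 3102 = n15256 := ndS (p := 2985) (l := 6) rfl N2985 D15256
theorem N3103 : nd 3103 = n15261 := ndS (p := 2986) (l := 3) rfl N2986 D15261
theorem N3104 : nd 3104 = n15270 := ndS (p := 2987) (l := 6) rfl N2987 D15270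
theorem N3105 : nd 3105 = n15278 := ndS (p := 2991) (l := 7) rfl N2991 D15278
theorem N3106 : nd 3106 = n15280 := ndS (p := 2992) (l := 7) rfl N2992 D15280
theorem N3107 : nd 3107 = n15283 := ndS (p := 2994) (l := 6) rfl N2994 D15283
theorem N3108 : nd 3108 = n15294 := ndS (p := 2996) (l := 7) rfl N2996 D15294
theorem N3109 : nd 3109 = n15323 := ndS (p := 3001) (l := 2) rfl N3001 D15323
theorem N3110 : nd 3110 = n15337 := ndS (p := 3003) (l := 2) rfl N3003 D15337
theorem N3111 : nd 3111 = n15368 := ndS (p := 3007) (l := 3) rfl N3007 D15368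
theorem N3112 : nd 3112 = n15369 := ndS (p := 3007) (l := 7) rfl N3007 D15369
theorem N3113 : nd 3113 = n15475 := ndS (p := 3012) (l := 2) rfl N3012 D15475
theorem N3114 : nd 3114 = n15477 := ndS (p := 3013) (l := 3) rfl N3013 D15477
theorem N3115 : nd 3115 = n15478 := ndS (p := 3013) (l := 7) rfl N3013 D15478
theorem N3116 : nd 3116 = n15661 := ndS (p := 3015) (l := 2) rfl N3015 D15661
theorem N3117 : nd 3117 = n15665 := ndS (p := 3017) (l := 2) rfl N3017 D15665
theorem N3118 : nd 3118 = n15667 := ndS (p := 3018) (l := 3) rfl N3018 D15667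
theorem N3119 : nd 3119 = n15668 := ndS (p := 3018) (l := 7) rfl N3018 D15668
theorem N3120 : nd 3120 = n15707 := ndS (p := 3023) (l := 3) rfl N3023 D15707
theorem N3121 : nd 3121 = n15753 := ndS (p := 3025) (l := 7) rfl N3025 D15753
theorem N3122 : nd 3122 = n15754 := ndS (p := 3027) (l := 4) rfl N3027 D15754
theorem N3123 : nd 3123 = n15776 := ndS (p := 3030) (l := 7) rfl N3030 D15776
theorem N3124 : nd 3124 = n17003 := ndS (p := 3043) (l := 2) rfl N3043 D17003
theorem N3125 : nd 3125 = n17004 := ndS (p := 3045) (l := 2) rfl N3045 D17004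
theorem N3126 : nd 3126 = n17005 := ndS (p := 3046) (l := 3) rfl N3046 D17005
theorem N3127 : nd 3127 = n17006 := ndS (p := 3046) (l := 7) rfl N3046 D17006
theorem N3128 : nd 3128 = n17007 := ndS (p := 3051) (l := 2) rfl N3051 D17007
theorem N3129 : nd 3129 = n17008 := ndS (p := 3053) (l := 2) rfl N3053 D17008
theorem N3130 : nd 3130 = n17009 := ndS (p := 3054) (l := 3) rfl N3054 D17009
theorem N3131 : nd 3131 = n17010 := ndS (p := 3054) (l := 7) rfl N3054 D17010
theorem N3132 : nd 3132 = n17011 := ndS (p := 3056) (l := 2) rfl N3056 D17011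
theorem N3133 : nd 3133 = n17012 := ndS (p := 3058) (l := 2) rfl N3058 D17012
theorem N3134 : nd 3134 = n17013 := ndS (p := 3059) (l := 7) rfl N3059 D17013
theorem N3135 : nd 3135 = n17014 := ndS (p := 3061) (l := 2) rfl N3061 D17014
theorem N3136 : nd 3136 = n17015 := ndS (p := 3063) (l := 2) rfl N3063 D17015
theorem N3137 : nd 3137 = n17016 := ndS (p := 3064) (l := 7) rfl N3064 D17016
theorem N3138 : nd 3138 = n17017 := ndS (p := 3068) (l := 4) rfl N3068 D17017
theorem N3139 : nd 3139 = n17018 := ndS (p := 3068) (l := 7) rfl N3068 D17018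
theorem N3140 : nd 3140 = n17019 := ndS (p := 3075) (l := 6) rfl N3075 D17019
theorem N3141 : nd 3141 = n17020 := ndS (p := 3078) (l := 5) rfl N3078 D17020
theorem N3142 : nd 3142 = n17021 := ndS (p := 3078) (l := 6) rfl N3078 D17021
theorem N3143 : nd 3143 = n17022 := ndS (p := 3080) (l := 2) rfl N3080 D17022
theorem N3144 : nd 3144 = n17023 := ndS (p := 3081) (l := 2) rfl N3081 D17023
theorem N3145 : nd 3145 = n17024 := ndS (p := 3082) (l := 3) rfl N3082 D17024
theorem N3146 : nd 3146 = n17025 := ndS (p := 3082) (l := 7) rfl N3082 D17025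
theorem N3147 : nd 3147 = n17026 := ndS (p := 3086) (l := 5) rfl N3086 D17026
theorem N3148 : nd 3148 = n17027 := ndS (p := 3088) (l := 2) rfl N3088 D17027
theorem N3149 : nd 3149 = n17028 := ndS (p := 3089) (l := 7) rfl N3089 D17028
theorem N3150 : nd 3150 = n17029 := ndS (p := 3091) (l := 6) rfl N3091 D17029
theorem N3151 : nd 3151 = n17030 := ndS (p := 3094) (l := 7) rfl N3094 D17030
theorem N3152 : nd 3152 = n17031 := ndS (p := 3095) (l := 6) rfl N3095 D17031
theorem N3153 : nd 3153 = n17032 := ndS (p := 3096) (l := 6) rfl N3096 D17032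
theorem N3154 : nd 3154 = n17033 := ndS (p := 3126) (l := 4) rfl N3126 D17033
theorem N3155 : nd 3155 = n17034 := ndS (p := 3126) (l := 7) rfl N3126 D17034
theorem N3156 : nd 3156 = n17035 := ndS (p := 3130) (l := 4) rfl N3130 D17035
theorem N3157 : nd 3157 = n17036 := ndS (p := 3130) (l := 7) rfl N3130 D17036
theorem N3158 : nd 3158 = n17037 := ndS (p := 3134) (l := 6) rfl N3134 D17037
theorem Q1 : ∀ i, i < 1 → P i := stepQ 0 Q0 (allL N0 (tt N0 F1) (tt N0 F2) (tt N0 F3) (tt N0 F4) (tt N0 F5) (tt N0 F6) (tt N0 F7) (tt N1 D1))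
theorem Q2 : ∀ i, i < 2 → P i := stepQ 1 Q1 (allL N1 (tt N1 F8) (tt N1 F9) (tt N1 F10) (tt N1 F11) (tt N1 F12) (tt N1 F13) (tt N2 D2) (tt N0 (iv D1)))
theorem Q3 : ∀ i, i < 3 → P i := stepQ 2 Q2 (allL N2 (tt N2 F14) (tt N2 F15) (tt N3 D3) (tt N2 F16) (tt N2 F17) (tt N2 F18) (tt N1 (iv D2)) (tt N2 F19))
theorem Q4 : ∀ i, i < 4 → P i := stepQ 3 Q3 (allL N3 (tt N3 F20) (tt N4 D4) (tt N2 (iv D3)) (tt N5 D5) (tt N3 F21) (tt N3 F22) (tt N3 F23) (tt N3 F24))
theorem Q5 : ∀ i, i < 5 → P i := stepQ 4 Q4 (allL N4 (tt N6 D6) (tt N3 (iv D4)) (tt N4 F25) (tt N7 D7) (tt N4 F26) (tt N4 F27) (tt N4 F28) (tt N4 F29))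
theorem Q6 : ∀ i, i < 6 → P i := stepQ 5 Q5 (allL N5 (tt N5 F30) (tt N7 (iv F41)) (tt N5 F31) (tt N3 (iv D5)) (tt N8 D8) (tt N5 F32) (tt N5 F33) (tt N5 F34))
theorem Q7 : ∀ i, i < 7 → P i := stepQ 6 Q6 (allL N6 (tt N4 (iv D6)) (tt N6 F35) (tt N6 F36) (tt N9 D9) (tt N6 F37) (tt N6 F38) (tt N6 F39) (tt N6 F40))
theorem Q8 : ∀ i, i < 8 → P i := stepQ 7 Q7 (allL N7 (tt N9 (iv F50)) (tt N5 F41) (tt N10 D10) (tt N4 (iv D7)) (tt N11 D11) (tt N7 F42) (tt N7 F43) (tt N7 F44))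
theorem Q9 : ∀ i, i < 9 → P i := stepQ 8 Q8 (allL N8 (tt N8 F45) (tt N11 (iv F59)) (tt N8 F46) (tt N8 F47) (tt N5 (iv D8)) (tt N12 D12) (tt N8 F48) (tt N8 F49))
theorem Q10 : ∀ i, i < 10 → P i := stepQ 9 Q9 (allL N9 (tt N7 F50) (tt N9 F51) (tt N13 D13) (tt N6 (iv D9)) (tt N14 D14) (tt N9 F52) (tt N9 F53) (tt N9 F54))
theorem Q11 : ∀ i, i < 11 → P i := stepQ 10 Q10 (allL N10 (tt N13 (iv F69)) (tt N10 F55) (tt N7 (iv D10)) (tt N10 F56) (tt N15 D15) (tt N10 F57) (tt N16 D16) (tt N10 F58))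
theorem Q12 : ∀ i, i < 12 → P i := stepQ 11 Q11 (allL N11 (tt N14 (iv F73)) (tt N8 F59) (tt N15 (iv F79)) (tt N11 F60) (tt N7 (iv D11)) (tt N17 D17) (tt N11 F61) (tt N11 F62))
theorem Q13 : ∀ i, i < 13 → P i := stepQ 12 Q12 (allL N12 (tt N12 F63) (tt N17 (iv F85)) (tt N12 F64) (tt N12 F65) (tt N12 F66) (tt N8 (iv D12)) (tt N12 F67) (tt N12 F68))
theorem Q14 : ∀ i, i < 14 → P i := stepQ 13 Q13 (allL N13 (tt N10 F69) (tt N18 D18) (tt N9 (iv D13)) (tt N13 F70) (tt N19 D19) (tt N13 F71) (tt N20 D20) (tt N13 F72))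
theorem Q15 : ∀ i, i < 15 → P i := stepQ 14 Q14 (allL N14 (tt N11 F73) (tt N14 F74) (tt N19 (iv F96)) (tt N14 F75) (tt N9 (iv D14)) (tt N21 D21) (tt N14 F76) (tt N14 F77))
theorem Q16 : ∀ i, i < 16 → P i := stepQ 15 Q15 (allL N15 (tt N19 (iv F95)) (tt N15 F78) (tt N11 F79) (tt N22 D22) (tt N10 (iv D15)) (tt N23 D23) (tt N24 D24) (tt N15 F80))
theorem Q17 : ∀ i, i < 17 → P i := stepQ 16 Q16 (allL N16 (tt N20 (iv F98)) (tt N16 F81) (tt N16 F82) (tt N16 F83) (tt N24 (iv F118)) (tt N16 F84) (tt N10 (iv D16)) (tt N25 D25))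
theorem Q18 : ∀ i, i < 18 → P i := stepQ 17 Q17 (allL N17 (tt N21 (iv F102)) (tt N12 F85) (tt N23 (iv F113)) (tt N17 F86) (tt N17 F87) (tt N11 (iv D17)) (tt N17 F88) (tt N17 F89))
theorem Q19 : ∀ i, i < 19 → P i := stepQ 18 Q18 (allL N18 (tt N18 F90) (tt N13 (iv D18)) (tt N18 F91) (tt N18 F92) (tt N26 D26) (tt N18 F93) (tt N27 D27) (tt N18 F94))
theorem Q20 : ∀ i, i < 20 → P i := stepQ 19 Q19 (allL N19 (tt N15 F95) (tt N26 (iv F125)) (tt N14 F96) (tt N28 D28) (tt N13 (iv D19)) (tt N29 D29) (tt N30 D30) (tt N19 F97))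
theorem Q21 : ∀ i, i < 21 → P i := stepQ 20 Q20 (allL N20 (tt N16 F98) (tt N27 (iv F129)) (tt N20 F99) (tt N20 F100) (tt N30 (iv F142)) (tt N20 F101) (tt N13 (iv D20)) (tt N31 D31))
theorem Q22 : ∀ i, i < 22 → P i := stepQ 21 Q21 (allL N21 (tt N17 F102) (tt N21 F103) (tt N29 (iv F137)) (tt N21 F104) (tt N21 F105) (tt N14 (iv D21)) (tt N21 F106) (tt N21 F107))
theorem Q23 : ∀ i, i < 23 → P i := stepQ 22 Q22 (allL N22 (tt N28 (iv F132)) (tt N22 F108) (tt N22 F109) (tt N15 (iv D22)) (tt N22 F110) (tt N32 D32) (tt N33 D33) (tt N22 F111))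
theorem Q24 : ∀ i, i < 24 → P i := stepQ 23 Q23 (allL N23 (tt N29 (iv F136)) (tt N23 F112) (tt N17 F113) (tt N32 (iv F150)) (tt N23 F114) (tt N15 (iv D23)) (tt N34 D34) (tt N23 F115))
theorem Q25 : ∀ i, i < 25 → P i := stepQ 24 Q24 (allL N24 (tt N30 (iv F140)) (tt N24 F116) (tt N24 F117) (tt N33 (iv F153)) (tt N16 F118) (tt N34 (iv F158)) (tt N15 (iv D24)) (tt N35 D35))
theorem Q26 : ∀ i, i < 26 → P i := stepQ 25 Q25 (allL N25 (tt N31 (iv F143)) (tt N25 F119) (tt N25 F120) (tt N25 F121) (tt N35 (iv F161)) (tt N25 F122) (tt N25 F123) (tt N16 (iv D25)))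
theorem Q27 : ∀ i, i < 27 → P i := stepQ 26 Q26 (allL N26 (tt N26 F124) (tt N19 F125) (tt N26 F126) (tt N36 D36) (tt N18 (iv D26)) (tt N37 D37) (tt N38 D38) (tt N26 F127))
theorem Q28 : ∀ i, i < 28 → P i := stepQ 27 Q27 (allL N27 (tt N27 F128) (tt N20 F129) (tt N39 D39) (tt N27 F130) (tt N38 (iv F174)) (tt N27 F131) (tt N18 (iv D27)) (tt N40 D40))
theorem Q29 : ∀ i, i < 29 → P i := stepQ 28 Q28 (allL N28 (tt N22 F132) (tt N36 (iv F164)) (tt N28 F133) (tt N19 (iv D28)) (tt N28 F134) (tt N41 D41) (tt N42 D42) (tt N28 F135))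
theorem Q30 : ∀ i, i < 30 → P i := stepQ 29 Q29 (allL N29 (tt N23 F136) (tt N37 (iv F168)) (tt N21 F137) (tt N41 (iv F186)) (tt N29 F138) (tt N19 (iv D29)) (tt N43 D43) (tt N29 F139))
theorem Q31 : ∀ i, i < 31 → P i := stepQ 30 Q30 (allL N30 (tt N24 F140) (tt N38 (iv F173)) (tt N30 F141) (tt N42 (iv F189)) (tt N20 F142) (tt N43 (iv F194)) (tt N19 (iv D30)) (tt N44 D44))
theorem Q32 : ∀ i, i < 32 → P i := stepQ 31 Q31 (allL N31 (tt N25 F143) (tt N40 (iv F180)) (tt N31 F144) (tt N31 F145) (tt N44 (iv F197)) (tt N31 F146) (tt N31 F147) (tt N20 (iv D31)))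
theorem Q33 : ∀ i, i < 33 → P i := stepQ 32 Q32 (allL N32 (tt N41 (iv F184)) (tt N32 F148) (tt N32 F149) (tt N23 F150) (tt N45 D45) (tt N22 (iv D32)) (tt N46 D46) (tt N32 F151))
theorem Q34 : ∀ i, i < 34 → P i := stepQ 33 Q33 (allL N33 (tt N42 (iv F188)) (tt N33 F152) (tt N47 D47) (tt N24 F153) (tt N33 F154) (tt N46 (iv F206)) (tt N22 (iv D33)) (tt N48 D48))
theorem Q35 : ∀ i, i < 35 → P i := stepQ 34 Q34 (allL N34 (tt N43 (iv F191)) (tt N34 F155) (tt N34 F156) (tt N46 (iv F205)) (tt N34 F157) (tt N24 F158) (tt N23 (iv D34)) (tt N49 D49))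
theorem Q36 : ∀ i, i < 36 → P i := stepQ 35 Q35 (allL N35 (tt N44 (iv F195)) (tt N35 F159) (tt N35 F160) (tt N48 (iv F211)) (tt N25 F161) (tt N49 (iv F217)) (tt N35 F162) (tt N24 (iv D35)))
theorem Q37 : ∀ i, i < 37 → P i := stepQ 36 Q36 (allL N36 (tt N36 F163) (tt N28 F164) (tt N50 D50) (tt N26 (iv D36)) (tt N36 F165) (tt N51 D51) (tt N52 D52) (tt N36 F166))
theorem Q38 : ∀ i, i < 38 → P i := stepQ 37 Q37 (allL N37 (tt N37 F167) (tt N29 F168) (tt N37 F169) (tt N51 (iv F226)) (tt N37 F170) (tt N26 (iv D37)) (tt N53 D53) (tt N37 F171))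
theorem Q39 : ∀ i, i < 39 → P i := stepQ 38 Q38 (allL N38 (tt N38 F172) (tt N30 F173) (tt N54 D54) (tt N52 (iv F230)) (tt N27 F174) (tt N53 (iv F235)) (tt N26 (iv D38)) (tt N55 D55))
theorem Q40 : ∀ i, i < 40 → P i := stepQ 39 Q39 (allL N39 (tt N39 F175) (tt N39 F176) (tt N27 (iv D39)) (tt N56 D56) (tt N54 (iv F238)) (tt N39 F177) (tt N39 F178) (tt N57 D57))
theorem Q41 : ∀ i, i < 41 → P i := stepQ 40 Q40 (allL N40 (tt N40 F179) (tt N31 F180) (tt N57 (iv F251)) (tt N40 F181) (tt N55 (iv F242)) (tt N40 F182) (tt N40 F183) (tt N27 (iv D40)))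
theorem Q42 : ∀ i, i < 42 → P i := stepQ 41 Q41 (allL N41 (tt N32 F184) (tt N51 (iv F225)) (tt N41 F185) (tt N29 F186) (tt N58 D58) (tt N28 (iv D41)) (tt N59 D59) (tt N41 F187))
theorem Q43 : ∀ i, i < 43 → P i := stepQ 42 Q42 (allL N42 (tt N33 F188) (tt N52 (iv F229)) (tt N60 D60) (tt N30 F189) (tt N42 F190) (tt N59 (iv F260)) (tt N28 (iv D42)) (tt N61 D61))
theorem Q44 : ∀ i, i < 44 → P i := stepQ 43 Q43 (allL N43 (tt N34 F191) (tt N53 (iv F233)) (tt N43 F192) (tt N59 (iv F259)) (tt N43 F193) (tt N30 F194) (tt N29 (iv D43)) (tt N62 D62))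
theorem Q45 : ∀ i, i < 45 → P i := stepQ 44 Q44 (allL N44 (tt N35 F195) (tt N55 (iv F241)) (tt N44 F196) (tt N61 (iv F266)) (tt N31 F197) (tt N62 (iv F272)) (tt N44 F198) (tt N30 (iv D44)))
theorem Q46 : ∀ i, i < 46 → P i := stepQ 45 Q45 (allL N45 (tt N58 (iv F253)) (tt N45 F199) (tt N45 F200) (tt N45 F201) (tt N32 (iv D45)) (tt N45 F202) (tt N63 D63) (tt N45 F203))
theorem Q47 : ∀ i, i < 47 → P i := stepQ 46 Q46 (allL N46 (tt N59 (iv F258)) (tt N46 F204) (tt N64 D64) (tt N34 F205) (tt N63 (iv F276)) (tt N33 F206) (tt N32 (iv D46)) (tt N65 D65))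
theorem Q48 : ∀ i, i < 48 → P i := stepQ 47 Q47 (allL N47 (tt N60 (iv F261)) (tt N66 D66) (tt N33 (iv D47)) (tt N47 F207) (tt N47 F208) (tt N64 (iv F279)) (tt N47 F209) (tt N67 D67))
theorem Q49 : ∀ i, i < 49 → P i := stepQ 48 Q48 (allL N48 (tt N61 (iv F265)) (tt N48 F210) (tt N67 (iv F289)) (tt N35 F211) (tt N48 F212) (tt N65 (iv F283)) (tt N48 F213) (tt N33 (iv D48)))
theorem Q50 : ∀ i, i < 50 → P i := stepQ 49 Q49 (allL N49 (tt N62 (iv F269)) (tt N49 F214) (tt N49 F215) (tt N65 (iv F282)) (tt N49 F216) (tt N35 F217) (tt N49 F218) (tt N34 (iv D49)))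
theorem Q51 : ∀ i, i < 51 → P i := stepQ 50 Q50 (allL N50 (tt N50 F219) (tt N50 F220) (tt N36 (iv D50)) (tt N50 F221) (tt N50 F222) (tt N68 D68) (tt N69 D69) (tt N50 F223))
theorem Q52 : ∀ i, i < 52 → P i := stepQ 51 Q51 (allL N51 (tt N51 F224) (tt N41 F225) (tt N68 (iv F294)) (tt N37 F226) (tt N70 D70) (tt N36 (iv D51)) (tt N71 D71) (tt N51 F227))
theorem Q53 : ∀ i, i < 53 → P i := stepQ 52 Q52 (allL N52 (tt N52 F228) (tt N42 F229) (tt N72 D72) (tt N38 F230) (tt N52 F231) (tt N71 (iv F309)) (tt N36 (iv D52)) (tt N73 D73))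
theorem Q54 : ∀ i, i < 54 → P i := stepQ 53 Q53 (allL N53 (tt N53 F232) (tt N43 F233) (tt N74 D74) (tt N71 (iv F308)) (tt N53 F234) (tt N38 F235) (tt N37 (iv D53)) (tt N75 D75))
theorem Q55 : ∀ i, i < 55 → P i := stepQ 54 Q54 (allL N54 (tt N54 F236) (tt N54 F237) (tt N38 (iv D54)) (tt N76 D76) (tt N39 F238) (tt N74 (iv F320)) (tt N54 F239) (tt N77 D77))
theorem Q56 : ∀ i, i < 56 → P i := stepQ 55 Q55 (allL N55 (tt N55 F240) (tt N44 F241) (tt N77 (iv F332)) (tt N73 (iv F314)) (tt N40 F242) (tt N75 (iv F325)) (tt N55 F243) (tt N38 (iv D55)))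
theorem Q57 : ∀ i, i < 57 → P i := stepQ 56 Q56 (allL N56 (tt N56 F244) (tt N56 F245) (tt N56 F246) (tt N39 (iv D56)) (tt N78 D78) (tt N56 F247) (tt N56 F248) (tt N79 D79))
theorem Q58 : ∀ i, i < 58 → P i := stepQ 57 Q57 (allL N57 (tt N57 F249) (tt N57 F250) (tt N40 F251) (tt N79 (iv F341)) (tt N77 (iv F333)) (tt N57 F252) (tt N80 D80) (tt N39 (iv D57)))
theorem Q59 : ∀ i, i < 59 → P i := stepQ 58 Q58 (allL N58 (tt N45 F253) (tt N70 (iv F302)) (tt N58 F254) (tt N58 F255) (tt N41 (iv D58)) (tt N58 F256) (tt N81 D81) (tt N58 F257))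
theorem Q60 : ∀ i, i < 60 → P i := stepQ 59 Q59 (allL N59 (tt N46 F258) (tt N71 (iv F307)) (tt N82 D82) (tt N43 F259) (tt N81 (iv F350)) (tt N42 F260) (tt N41 (iv D59)) (tt N83 D83))
theorem Q61 : ∀ i, i < 61 → P i := stepQ 60 Q60 (allL N60 (tt N47 F261) (tt N84 D84) (tt N42 (iv D60)) (tt N60 F262) (tt N60 F263) (tt N82 (iv F354)) (tt N60 F264) (tt N85 D85))
theorem Q62 : ∀ i, i < 62 → P i := stepQ 61 Q61 (allL N61 (tt N48 F265) (tt N73 (iv F313)) (tt N85 (iv F364)) (tt N44 F266) (tt N61 F267) (tt N83 (iv F358)) (tt N61 F268) (tt N42 (iv D61)))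
theorem Q63 : ∀ i, i < 63 → P i := stepQ 62 Q62 (allL N62 (tt N49 F269) (tt N75 (iv F323)) (tt N62 F270) (tt N83 (iv F357)) (tt N62 F271) (tt N44 F272) (tt N62 F273) (tt N43 (iv D62)))
theorem Q64 : ∀ i, i < 64 → P i := stepQ 63 Q63 (allL N63 (tt N81 (iv F348)) (tt N63 F274) (tt N86 D86) (tt N63 F275) (tt N46 F276) (tt N63 F277) (tt N45 (iv D63)) (tt N87 D87))
theorem Q65 : ∀ i, i < 65 → P i := stepQ 64 Q64 (allL N64 (tt N82 (iv F352)) (tt N88 D88) (tt N46 (iv D64)) (tt N64 F278) (tt N86 (iv F367)) (tt N47 F279) (tt N64 F280) (tt N89 D89))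
theorem Q66 : ∀ i, i < 66 → P i := stepQ 65 Q65 (allL N65 (tt N83 (iv F356)) (tt N65 F281) (tt N89 (iv F379)) (tt N49 F282) (tt N87 (iv F372)) (tt N48 F283) (tt N65 F284) (tt N46 (iv D65)))
theorem Q67 : ∀ i, i < 67 → P i := stepQ 66 Q66 (allL N66 (tt N90 D90) (tt N47 (iv D66)) (tt N66 F285) (tt N66 F286) (tt N66 F287) (tt N88 (iv F377)) (tt N66 F288) (tt N91 D91))
theorem Q68 : ∀ i, i < 68 → P i := stepQ 67 Q67 (allL N67 (tt N85 (iv F363)) (tt N91 (iv F386)) (tt N48 F289) (tt N67 F290) (tt N67 F291) (tt N89 (iv F381)) (tt N92 D92) (tt N47 (iv D67)))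
theorem Q69 : ∀ i, i < 69 → P i := stepQ 68 Q68 (allL N68 (tt N68 F292) (tt N68 F293) (tt N51 F294) (tt N68 F295) (tt N93 D93) (tt N50 (iv D68)) (tt N94 D94) (tt N68 F296))
theorem Q70 : ∀ i, i < 70 → P i := stepQ 69 Q69 (allL N69 (tt N69 F297) (tt N69 F298) (tt N95 D95) (tt N69 F299) (tt N69 F300) (tt N94 (iv F402)) (tt N50 (iv D69)) (tt N96 D96))
theorem Q71 : ∀ i, i < 71 → P i := stepQ 70 Q70 (allL N70 (tt N70 F301) (tt N58 F302) (tt N93 (iv F396)) (tt N70 F303) (tt N51 (iv D70)) (tt N70 F304) (tt N97 D97) (tt N70 F305))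
theorem Q72 : ∀ i, i < 72 → P i := stepQ 71 Q71 (allL N71 (tt N71 F306) (tt N59 F307) (tt N98 D98) (tt N53 F308) (tt N97 (iv F414)) (tt N52 F309) (tt N51 (iv D71)) (tt N99 D99))
theorem Q73 : ∀ i, i < 73 → P i := stepQ 72 Q72 (allL N72 (tt N72 F310) (tt N100 D100) (tt N52 (iv D72)) (tt N101 D101) (tt N72 F311) (tt N98 (iv F417)) (tt N95 (iv F405)) (tt N102 D102))
theorem Q74 : ∀ i, i < 74 → P i := stepQ 73 Q73 (allL N73 (tt N73 F312) (tt N61 F313) (tt N102 (iv F428)) (tt N55 F314) (tt N73 F315) (tt N99 (iv F421)) (tt N73 F316) (tt N52 (iv D73)))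
theorem Q75 : ∀ i, i < 75 → P i := stepQ 74 Q74 (allL N74 (tt N74 F317) (tt N74 F318) (tt N53 (iv D74)) (tt N103 D103) (tt N74 F319) (tt N54 F320) (tt N74 F321) (tt N104 D104))
theorem Q76 : ∀ i, i < 76 → P i := stepQ 75 Q75 (allL N75 (tt N75 F322) (tt N62 F323) (tt N104 (iv F436)) (tt N99 (iv F420)) (tt N75 F324) (tt N55 F325) (tt N75 F326) (tt N53 (iv D75)))
theorem Q77 : ∀ i, i < 77 → P i := stepQ 76 Q76 (allL N76 (tt N76 F327) (tt N76 F328) (tt N101 (iv F426)) (tt N54 (iv D76)) (tt N105 D105) (tt N103 (iv F432)) (tt N76 F329) (tt N106 D106))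
theorem Q78 : ∀ i, i < 78 → P i := stepQ 77 Q77 (allL N77 (tt N77 F330) (tt N77 F331) (tt N55 F332) (tt N106 (iv F445)) (tt N57 F333) (tt N104 (iv F438)) (tt N107 D107) (tt N54 (iv D77)))
theorem Q79 : ∀ i, i < 79 → P i := stepQ 78 Q78 (allL N78 (tt N78 F334) (tt N78 F335) (tt N78 F336) (tt N105 (iv F441)) (tt N56 (iv D78)) (tt N108 D108) (tt N78 F337) (tt N109 D109))
theorem Q80 : ∀ i, i < 80 → P i := stepQ 79 Q79 (allL N79 (tt N79 F338) (tt N79 F339) (tt N79 F340) (tt N57 F341) (tt N109 (iv F459)) (tt N79 F342) (tt N110 D110) (tt N56 (iv D79)))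
theorem Q81 : ∀ i, i < 81 → P i := stepQ 80 Q80 (allL N80 (tt N80 F343) (tt N80 F344) (tt N80 F345) (tt N110 (iv F462)) (tt N107 (iv F449)) (tt N80 F346) (tt N57 (iv D80)) (tt N80 F347))
theorem Q82 : ∀ i, i < 82 → P i := stepQ 81 Q81 (allL N81 (tt N63 F348) (tt N97 (iv F412)) (tt N111 D111) (tt N81 F349) (tt N59 F350) (tt N81 F351) (tt N58 (iv D81)) (tt N112 D112))
theorem Q83 : ∀ i, i < 83 → P i := stepQ 82 Q82 (allL N82 (tt N64 F352) (tt N113 D113) (tt N59 (iv D82)) (tt N82 F353) (tt N111 (iv F466)) (tt N60 F354) (tt N82 F355) (tt N114 D114))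
theorem Q84 : ∀ i, i < 84 → P i := stepQ 83 Q83 (allL N83 (tt N65 F356) (tt N99 (iv F419)) (tt N114 (iv F478)) (tt N62 F357) (tt N112 (iv F471)) (tt N61 F358) (tt N83 F359) (tt N59 (iv D83)))
theorem Q85 : ∀ i, i < 85 → P i := stepQ 84 Q84 (allL N84 (tt N115 D115) (tt N60 (iv D84)) (tt N100 (iv F423)) (tt N84 F360) (tt N84 F361) (tt N113 (iv F475)) (tt N84 F362) (tt N116 D116))
theorem Q86 : ∀ i, i < 86 → P i := stepQ 85 Q85 (allL N85 (tt N67 F363) (tt N116 (iv F485)) (tt N61 F364) (tt N85 F365) (tt N85 F366) (tt N114 (iv F480)) (tt N117 D117) (tt N60 (iv D85)))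
theorem Q87 : ∀ i, i < 87 → P i := stepQ 86 Q86 (allL N86 (tt N111 (iv F465)) (tt N118 D118) (tt N63 (iv D86)) (tt N119 D119) (tt N64 F367) (tt N86 F368) (tt N86 F369) (tt N120 D120))
theorem Q88 : ∀ i, i < 88 → P i := stepQ 87 Q87 (allL N87 (tt N112 (iv F469)) (tt N87 F370) (tt N120 (iv F501)) (tt N87 F371) (tt N65 F372) (tt N87 F373) (tt N87 F374) (tt N63 (iv D87)))
theorem Q89 : ∀ i, i < 89 → P i := stepQ 88 Q88 (allL N88 (tt N121 D121) (tt N64 (iv D88)) (tt N88 F375) (tt N88 F376) (tt N118 (iv F494)) (tt N66 F377) (tt N88 F378) (tt N122 D122))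
theorem Q90 : ∀ i, i < 90 → P i := stepQ 89 Q89 (allL N89 (tt N114 (iv F477)) (tt N122 (iv F508)) (tt N65 F379) (tt N89 F380) (tt N120 (iv F502)) (tt N67 F381) (tt N123 D123) (tt N64 (iv D89)))
theorem Q91 : ∀ i, i < 91 → P i := stepQ 90 Q90 (allL N90 (tt N66 (iv D90)) (tt N115 (iv F481)) (tt N90 F382) (tt N90 F383) (tt N90 F384) (tt N121 (iv F506)) (tt N90 F385) (tt N124 D124))
theorem Q92 : ∀ i, i < 92 → P i := stepQ 91 Q91 (allL N91 (tt N124 (iv F516)) (tt N67 F386) (tt N91 F387) (tt N91 F388) (tt N91 F389) (tt N122 (iv F511)) (tt N125 D125) (tt N66 (iv D91)))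
theorem Q93 : ∀ i, i < 93 → P i := stepQ 92 Q92 (allL N92 (tt N117 (iv F488)) (tt N125 (iv F520)) (tt N92 F390) (tt N92 F391) (tt N92 F392) (tt N123 (iv F514)) (tt N67 (iv D92)) (tt N92 F393))
theorem Q94 : ∀ i, i < 94 → P i := stepQ 93 Q93 (allL N93 (tt N93 F394) (tt N93 F395) (tt N70 F396) (tt N126 D126) (tt N68 (iv D93)) (tt N93 F397) (tt N127 D127) (tt N93 F398))
theorem Q95 : ∀ i, i < 95 → P i := stepQ 94 Q94 (allL N94 (tt N94 F399) (tt N94 F400) (tt N128 D128) (tt N94 F401) (tt N127 (iv F532)) (tt N69 F402) (tt N68 (iv D94)) (tt N129 D129))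
theorem Q96 : ∀ i, i < 96 → P i := stepQ 95 Q95 (allL N95 (tt N95 F403) (tt N130 D130) (tt N69 (iv D95)) (tt N131 D131) (tt N95 F404) (tt N128 (iv F535)) (tt N72 F405) (tt N132 D132))
theorem Q97 : ∀ i, i < 97 → P i := stepQ 96 Q96 (allL N96 (tt N96 F406) (tt N96 F407) (tt N132 (iv F549)) (tt N96 F408) (tt N96 F409) (tt N129 (iv F540)) (tt N96 F410) (tt N69 (iv D96)))
theorem Q98 : ∀ i, i < 98 → P i := stepQ 97 Q97 (allL N97 (tt N97 F411) (tt N81 F412) (tt N133 D133) (tt N97 F413) (tt N71 F414) (tt N97 F415) (tt N70 (iv D97)) (tt N134 D134))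
theorem Q99 : ∀ i, i < 99 → P i := stepQ 98 Q98 (allL N98 (tt N98 F416) (tt N135 D135) (tt N71 (iv D98)) (tt N136 D136) (tt N133 (iv F552)) (tt N72 F417) (tt N128 (iv F536)) (tt N137 D137))
theorem Q100 : ∀ i, i < 100 → P i := stepQ 99 Q99 (allL N99 (tt N99 F418) (tt N83 F419) (tt N137 (iv F566)) (tt N75 F420) (tt N134 (iv F557)) (tt N73 F421) (tt N99 F422) (tt N71 (iv D99)))
theorem Q101 : ∀ i, i < 101 → P i := stepQ 100 Q100 (allL N100 (tt N138 D138) (tt N72 (iv D100)) (tt N84 F423) (tt N139 D139) (tt N100 F424) (tt N135 (iv F561)) (tt N130 (iv F544)) (tt N140 D140))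
theorem Q102 : ∀ i, i < 102 → P i := stepQ 101 Q101 (allL N101 (tt N101 F425) (tt N139 (iv F571)) (tt N76 F426) (tt N72 (iv D101)) (tt N141 D141) (tt N136 (iv F564)) (tt N131 (iv F547)) (tt N142 D142))
theorem Q103 : ∀ i, i < 103 → P i := stepQ 102 Q102 (allL N102 (tt N102 F427) (tt N140 (iv F573)) (tt N73 F428) (tt N142 (iv F581)) (tt N102 F429) (tt N137 (iv F567)) (tt N143 D143) (tt N72 (iv D102)))
theorem Q104 : ∀ i, i < 104 → P i := stepQ 103 Q103 (allL N103 (tt N103 F430) (tt N103 F431) (tt N136 (iv F563)) (tt N74 (iv D103)) (tt N144 D144) (tt N76 F432) (tt N103 F433) (tt N145 D145))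
theorem Q105 : ∀ i, i < 105 → P i := stepQ 104 Q104 (allL N104 (tt N104 F434) (tt N104 F435) (tt N75 F436) (tt N145 (iv F591)) (tt N104 F437) (tt N77 F438) (tt N146 D146) (tt N74 (iv D104)))
theorem Q106 : ∀ i, i < 106 → P i := stepQ 105 Q105 (allL N105 (tt N105 F439) (tt N105 F440) (tt N141 (iv F577)) (tt N78 F441) (tt N76 (iv D105)) (tt N147 D147) (tt N105 F442) (tt N148 D148))
theorem Q107 : ∀ i, i < 107 → P i := stepQ 106 Q106 (allL N106 (tt N106 F443) (tt N106 F444) (tt N142 (iv F580)) (tt N77 F445) (tt N148 (iv F606)) (tt N145 (iv F592)) (tt N149 D149) (tt N76 (iv D106)))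
theorem Q108 : ∀ i, i < 108 → P i := stepQ 107 Q107 (allL N107 (tt N107 F446) (tt N107 F447) (tt N107 F448) (tt N149 (iv F609)) (tt N80 F449) (tt N146 (iv F597)) (tt N77 (iv D107)) (tt N107 F450))
theorem Q109 : ∀ i, i < 109 → P i := stepQ 108 Q108 (allL N108 (tt N108 F451) (tt N108 F452) (tt N108 F453) (tt N147 (iv F601)) (tt N108 F454) (tt N78 (iv D108)) (tt N108 F455) (tt N150 D150))
theorem Q110 : ∀ i, i < 110 → P i := stepQ 109 Q109 (allL N109 (tt N109 F456) (tt N109 F457) (tt N109 F458) (tt N148 (iv F605)) (tt N79 F459) (tt N150 (iv F615)) (tt N151 D151) (tt N78 (iv D109)))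
theorem Q111 : ∀ i, i < 111 → P i := stepQ 110 Q110 (allL N110 (tt N110 F460) (tt N110 F461) (tt N152 D152) (tt N80 F462) (tt N151 (iv F618)) (tt N110 F463) (tt N79 (iv D110)) (tt N110 F464))
theorem Q112 : ∀ i, i < 112 → P i := stepQ 111 Q111 (allL N111 (tt N86 F465) (tt N153 D153) (tt N81 (iv D111)) (tt N154 D154) (tt N82 F466) (tt N111 F467) (tt N111 F468) (tt N155 D155))
theorem Q113 : ∀ i, i < 113 → P i := stepQ 112 Q112 (allL N112 (tt N87 F469) (tt N134 (iv F555)) (tt N155 (iv F634)) (tt N112 F470) (tt N83 F471) (tt N112 F472) (tt N112 F473) (tt N81 (iv D112)))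
theorem Q114 : ∀ i, i < 114 → P i := stepQ 113 Q113 (allL N113 (tt N156 D156) (tt N82 (iv D113)) (tt N135 (iv F560)) (tt N113 F474) (tt N153 (iv F625)) (tt N84 F475) (tt N113 F476) (tt N157 D157))
theorem Q115 : ∀ i, i < 115 → P i := stepQ 114 Q114 (allL N114 (tt N89 F477) (tt N157 (iv F641)) (tt N83 F478) (tt N114 F479) (tt N155 (iv F635)) (tt N85 F480) (tt N158 D158) (tt N82 (iv D114)))
theorem Q116 : ∀ i, i < 116 → P i := stepQ 115 Q115 (allL N115 (tt N84 (iv D115)) (tt N90 F481) (tt N138 (iv F569)) (tt N115 F482) (tt N115 F483) (tt N156 (iv F639)) (tt N115 F484) (tt N159 D159))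
theorem Q117 : ∀ i, i < 117 → P i := stepQ 116 Q116 (allL N116 (tt N159 (iv F649)) (tt N85 F485) (tt N140 (iv F574)) (tt N116 F486) (tt N116 F487) (tt N157 (iv F643)) (tt N160 D160) (tt N84 (iv D116)))
theorem Q118 : ∀ i, i < 118 → P i := stepQ 117 Q117 (allL N117 (tt N92 F488) (tt N160 (iv F653)) (tt N117 F489) (tt N117 F490) (tt N117 F491) (tt N158 (iv F647)) (tt N85 (iv D117)) (tt N117 F492))
theorem Q119 : ∀ i, i < 119 → P i := stepQ 118 Q118 (allL N118 (tt N161 D161) (tt N86 (iv D118)) (tt N118 F493) (tt N162 D162) (tt N88 F494) (tt N118 F495) (tt N118 F496) (tt N163 D163))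
theorem Q120 : ∀ i, i < 120 → P i := stepQ 119 Q119 (allL N119 (tt N154 (iv F628)) (tt N162 (iv F661)) (tt N119 F497) (tt N86 (iv D119)) (tt N119 F498) (tt N119 F499) (tt N119 F500) (tt N164 D164))
theorem Q121 : ∀ i, i < 121 → P i := stepQ 120 Q120 (allL N120 (tt N155 (iv F633)) (tt N163 (iv F665)) (tt N87 F501) (tt N164 (iv F670)) (tt N89 F502) (tt N120 F503) (tt N165 D165) (tt N86 (iv D120)))
theorem Q122 : ∀ i, i < 122 → P i := stepQ 121 Q121 (allL N121 (tt N88 (iv D121)) (tt N156 (iv F637)) (tt N121 F504) (tt N121 F505) (tt N161 (iv F658)) (tt N90 F506) (tt N121 F507) (tt N166 D166))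
theorem Q123 : ∀ i, i < 123 → P i := stepQ 122 Q122 (allL N122 (tt N166 (iv F677)) (tt N89 F508) (tt N122 F509) (tt N122 F510) (tt N163 (iv F667)) (tt N91 F511) (tt N167 D167) (tt N88 (iv D122)))
theorem Q124 : ∀ i, i < 124 → P i := stepQ 123 Q123 (allL N123 (tt N158 (iv F644)) (tt N167 (iv F681)) (tt N123 F512) (tt N123 F513) (tt N165 (iv F674)) (tt N92 F514) (tt N89 (iv D123)) (tt N123 F515))
theorem Q125 : ∀ i, i < 125 → P i := stepQ 124 Q124 (allL N124 (tt N91 F516) (tt N159 (iv F650)) (tt N124 F517) (tt N124 F518) (tt N124 F519) (tt N166 (iv F680)) (tt N168 D168) (tt N90 (iv D124)))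
theorem Q126 : ∀ i, i < 126 → P i := stepQ 125 Q125 (allL N125 (tt N168 (iv F685)) (tt N92 F520) (tt N169 D169) (tt N125 F521) (tt N125 F522) (tt N167 (iv F683)) (tt N91 (iv D125)) (tt N125 F523))
theorem Q127 : ∀ i, i < 127 → P i := stepQ 126 Q126 (allL N126 (tt N126 F524) (tt N126 F525) (tt N126 F526) (tt N93 (iv D126)) (tt N126 F527) (tt N126 F528) (tt N170 D170) (tt N126 F529))
theorem Q128 : ∀ i, i < 128 → P i := stepQ 127 Q127 (allL N127 (tt N127 F530) (tt N127 F531) (tt N171 D171) (tt N170 (iv F695)) (tt N94 F532) (tt N127 F533) (tt N93 (iv D127)) (tt N172 D172))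
theorem Q129 : ∀ i, i < 129 → P i := stepQ 128 Q128 (allL N128 (tt N128 F534) (tt N173 D173) (tt N94 (iv D128)) (tt N174 D174) (tt N171 (iv F699)) (tt N95 F535) (tt N98 F536) (tt N175 D175))
theorem Q130 : ∀ i, i < 130 → P i := stepQ 129 Q129 (allL N129 (tt N129 F537) (tt N129 F538) (tt N175 (iv F715)) (tt N129 F539) (tt N172 (iv F704)) (tt N96 F540) (tt N129 F541) (tt N94 (iv D129)))
theorem Q131 : ∀ i, i < 131 → P i := stepQ 130 Q130 (allL N130 (tt N176 D176) (tt N95 (iv D130)) (tt N130 F542) (tt N177 D177) (tt N130 F543) (tt N173 (iv F708)) (tt N100 F544) (tt N178 D178))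
theorem Q132 : ∀ i, i < 132 → P i := stepQ 131 Q131 (allL N131 (tt N131 F545) (tt N177 (iv F721)) (tt N131 F546) (tt N95 (iv D131)) (tt N179 D179) (tt N174 (iv F712)) (tt N101 F547) (tt N180 D180))
theorem Q133 : ∀ i, i < 133 → P i := stepQ 132 Q132 (allL N132 (tt N132 F548) (tt N178 (iv F723)) (tt N96 F549) (tt N180 (iv F732)) (tt N132 F550) (tt N175 (iv F716)) (tt N181 D181) (tt N95 (iv D132)))
theorem Q134 : ∀ i, i < 134 → P i := stepQ 133 Q133 (allL N133 (tt N133 F551) (tt N182 D182) (tt N97 (iv D133)) (tt N183 D183) (tt N98 F552) (tt N133 F553) (tt N171 (iv F701)) (tt N184 D184))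
theorem Q135 : ∀ i, i < 135 → P i := stepQ 134 Q134 (allL N134 (tt N134 F554) (tt N112 F555) (tt N184 (iv F744)) (tt N134 F556) (tt N99 F557) (tt N134 F558) (tt N134 F559) (tt N97 (iv D134)))
theorem Q136 : ∀ i, i < 136 → P i := stepQ 135 Q135 (allL N135 (tt N185 D185) (tt N98 (iv D135)) (tt N113 F560) (tt N186 D186) (tt N182 (iv F738)) (tt N100 F561) (tt N173 (iv F709)) (tt N187 D187))
theorem Q137 : ∀ i, i < 137 → P i := stepQ 136 Q136 (allL N136 (tt N136 F562) (tt N186 (iv F750)) (tt N103 F563) (tt N98 (iv D136)) (tt N188 D188) (tt N101 F564) (tt N174 (iv F713)) (tt N189 D189))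
theorem Q138 : ∀ i, i < 138 → P i := stepQ 137 Q137 (allL N137 (tt N137 F565) (tt N187 (iv F753)) (tt N99 F566) (tt N189 (iv F760)) (tt N184 (iv F745)) (tt N102 F567) (tt N190 D190) (tt N98 (iv D137)))
theorem Q139 : ∀ i, i < 139 → P i := stepQ 138 Q138 (allL N138 (tt N100 (iv D138)) (tt N138 F568) (tt N115 F569) (tt N191 D191) (tt N138 F570) (tt N185 (iv F749)) (tt N176 (iv F720)) (tt N192 D192))
theorem Q140 : ∀ i, i < 140 → P i := stepQ 139 Q139 (allL N139 (tt N191 (iv F765)) (tt N101 F571) (tt N139 F572) (tt N100 (iv D139)) (tt N193 D193) (tt N186 (iv F752)) (tt N177 (iv F722)) (tt N194 D194))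
theorem Q141 : ∀ i, i < 141 → P i := stepQ 140 Q140 (allL N140 (tt N192 (iv F768)) (tt N102 F573) (tt N116 F574) (tt N194 (iv F777)) (tt N140 F575) (tt N187 (iv F755)) (tt N195 D195) (tt N100 (iv D140)))
theorem Q142 : ∀ i, i < 142 → P i := stepQ 141 Q141 (allL N141 (tt N141 F576) (tt N193 (iv F772)) (tt N105 F577) (tt N141 F578) (tt N101 (iv D141)) (tt N196 D196) (tt N179 (iv F729)) (tt N197 D197))
theorem Q143 : ∀ i, i < 143 → P i := stepQ 142 Q142 (allL N142 (tt N142 F579) (tt N194 (iv F775)) (tt N106 F580) (tt N102 F581) (tt N197 (iv F786)) (tt N189 (iv F761)) (tt N198 D198) (tt N101 (iv D142)))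
theorem Q144 : ∀ i, i < 144 → P i := stepQ 143 Q143 (allL N143 (tt N143 F582) (tt N195 (iv F778)) (tt N143 F583) (tt N198 (iv F788)) (tt N143 F584) (tt N190 (iv F764)) (tt N102 (iv D143)) (tt N181 (iv F736)))
theorem Q145 : ∀ i, i < 145 → P i := stepQ 144 Q144 (allL N144 (tt N144 F585) (tt N144 F586) (tt N188 (iv F757)) (tt N144 F587) (tt N103 (iv D144)) (tt N199 D199) (tt N144 F588) (tt N200 D200))
theorem Q146 : ∀ i, i < 146 → P i := stepQ 145 Q145 (allL N145 (tt N145 F589) (tt N145 F590) (tt N189 (iv F759)) (tt N104 F591) (tt N200 (iv F797)) (tt N106 F592) (tt N201 D201) (tt N103 (iv D145)))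
theorem Q147 : ∀ i, i < 147 → P i := stepQ 146 Q146 (allL N146 (tt N146 F593) (tt N146 F594) (tt N146 F595) (tt N201 (iv F800)) (tt N146 F596) (tt N107 F597) (tt N104 (iv D146)) (tt N146 F598))
theorem Q148 : ∀ i, i < 148 → P i := stepQ 147 Q147 (allL N147 (tt N147 F599) (tt N147 F600) (tt N196 (iv F781)) (tt N108 F601) (tt N199 (iv F792)) (tt N105 (iv D147)) (tt N147 F602) (tt N202 D202))
theorem Q149 : ∀ i, i < 149 → P i := stepQ 148 Q148 (allL N148 (tt N148 F603) (tt N148 F604) (tt N197 (iv F784)) (tt N109 F605) (tt N106 F606) (tt N202 (iv F806)) (tt N203 D203) (tt N105 (iv D148)))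
theorem Q150 : ∀ i, i < 150 → P i := stepQ 149 Q149 (allL N149 (tt N149 F607) (tt N149 F608) (tt N204 D204) (tt N107 F609) (tt N203 (iv F810)) (tt N201 (iv F801)) (tt N106 (iv D149)) (tt N149 F610))
theorem Q151 : ∀ i, i < 151 → P i := stepQ 150 Q150 (allL N150 (tt N150 F611) (tt N150 F612) (tt N150 F613) (tt N202 (iv F805)) (tt N150 F614) (tt N109 F615) (tt N205 D205) (tt N108 (iv D150)))
theorem Q152 : ∀ i, i < 152 → P i := stepQ 151 Q151 (allL N151 (tt N151 F616) (tt N151 F617) (tt N206 D206) (tt N203 (iv F809)) (tt N110 F618) (tt N205 (iv F818)) (tt N109 (iv D151)) (tt N151 F619))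
theorem Q153 : ∀ i, i < 153 → P i := stepQ 152 Q152 (allL N152 (tt N152 F620) (tt N207 D207) (tt N110 (iv D152)) (tt N152 F621) (tt N206 (iv F821)) (tt N152 F622) (tt N152 F623) (tt N152 F624))
theorem Q154 : ∀ i, i < 154 → P i := stepQ 153 Q153 (allL N153 (tt N208 D208) (tt N111 (iv D153)) (tt N182 (iv F737)) (tt N209 D209) (tt N113 F625) (tt N153 F626) (tt N153 F627) (tt N210 D210))
theorem Q155 : ∀ i, i < 155 → P i := stepQ 154 Q154 (allL N154 (tt N119 F628) (tt N209 (iv F833)) (tt N154 F629) (tt N111 (iv D154)) (tt N154 F630) (tt N154 F631) (tt N154 F632) (tt N211 D211))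
theorem Q156 : ∀ i, i < 156 → P i := stepQ 155 Q155 (allL N155 (tt N120 F633) (tt N210 (iv F837)) (tt N112 F634) (tt N211 (iv F842)) (tt N114 F635) (tt N155 F636) (tt N212 D212) (tt N111 (iv D155)))
theorem Q157 : ∀ i, i < 157 → P i := stepQ 156 Q156 (allL N156 (tt N113 (iv D156)) (tt N121 F637) (tt N185 (iv F748)) (tt N156 F638) (tt N208 (iv F830)) (tt N115 F639) (tt N156 F640) (tt N213 D213))
theorem Q158 : ∀ i, i < 158 → P i := stepQ 157 Q157 (allL N157 (tt N213 (iv F850)) (tt N114 F641) (tt N187 (iv F754)) (tt N157 F642) (tt N210 (iv F838)) (tt N116 F643) (tt N214 D214) (tt N113 (iv D157)))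
theorem Q159 : ∀ i, i < 159 → P i := stepQ 158 Q158 (allL N158 (tt N123 F644) (tt N214 (iv F854)) (tt N158 F645) (tt N158 F646) (tt N212 (iv F847)) (tt N117 F647) (tt N114 (iv D158)) (tt N158 F648))
theorem Q160 : ∀ i, i < 160 → P i := stepQ 159 Q159 (allL N159 (tt N116 F649) (tt N124 F650) (tt N192 (iv F770)) (tt N159 F651) (tt N159 F652) (tt N213 (iv F853)) (tt N215 D215) (tt N115 (iv D159)))
theorem Q161 : ∀ i, i < 161 → P i := stepQ 160 Q160 (allL N160 (tt N215 (iv F858)) (tt N117 F653) (tt N216 D216) (tt N160 F654) (tt N160 F655) (tt N214 (iv F856)) (tt N116 (iv D160)) (tt N160 F656))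
theorem Q162 : ∀ i, i < 162 → P i := stepQ 161 Q161 (allL N161 (tt N118 (iv D161)) (tt N208 (iv F829)) (tt N161 F657) (tt N217 D217) (tt N121 F658) (tt N161 F659) (tt N161 F660) (tt N218 D218))
theorem Q163 : ∀ i, i < 163 → P i := stepQ 162 Q162 (allL N162 (tt N217 (iv F866)) (tt N119 F661) (tt N219 D219) (tt N118 (iv D162)) (tt N162 F662) (tt N162 F663) (tt N162 F664) (tt N220 D220))
theorem Q164 : ∀ i, i < 164 → P i := stepQ 163 Q163 (allL N163 (tt N218 (iv F870)) (tt N120 F665) (tt N163 F666) (tt N220 (iv F879)) (tt N122 F667) (tt N163 F668) (tt N221 D221) (tt N118 (iv D163)))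
theorem Q165 : ∀ i, i < 165 → P i := stepQ 164 Q164 (allL N164 (tt N211 (iv F840)) (tt N220 (iv F878)) (tt N164 F669) (tt N120 F670) (tt N164 F671) (tt N164 F672) (tt N222 D222) (tt N119 (iv D164)))
theorem Q166 : ∀ i, i < 166 → P i := stepQ 165 Q165 (allL N165 (tt N212 (iv F845)) (tt N221 (iv F882)) (tt N165 F673) (tt N222 (iv F886)) (tt N123 F674) (tt N165 F675) (tt N120 (iv D165)) (tt N165 F676))
theorem Q167 : ∀ i, i < 167 → P i := stepQ 166 Q166 (allL N166 (tt N122 F677) (tt N213 (iv F851)) (tt N166 F678) (tt N166 F679) (tt N218 (iv F872)) (tt N124 F680) (tt N223 D223) (tt N121 (iv D166)))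
theorem Q168 : ∀ i, i < 168 → P i := stepQ 167 Q167 (allL N167 (tt N223 (iv F890)) (tt N123 F681) (tt N224 D224) (tt N167 F682) (tt N221 (iv F883)) (tt N125 F683) (tt N122 (iv D167)) (tt N167 F684))
theorem Q169 : ∀ i, i < 169 → P i := stepQ 168 Q168 (allL N168 (tt N125 F685) (tt N215 (iv F859)) (tt N225 D225) (tt N168 F686) (tt N168 F687) (tt N223 (iv F892)) (tt N124 (iv D168)) (tt N168 F688))
theorem Q170 : ∀ i, i < 170 → P i := stepQ 169 Q169 (allL N169 (tt N225 (iv F898)) (tt N169 F689) (tt N125 (iv D169)) (tt N226 D226) (tt N169 F690) (tt N224 (iv F895)) (tt N169 F691) (tt N169 F692))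
theorem Q171 : ∀ i, i < 171 → P i := stepQ 170 Q170 (allL N170 (tt N170 F693) (tt N170 F694) (tt N227 D227) (tt N127 F695) (tt N170 F696) (tt N170 F697) (tt N126 (iv D170)) (tt N228 D228))
theorem Q172 : ∀ i, i < 172 → P i := stepQ 171 Q171 (allL N171 (tt N171 F698) (tt N229 D229) (tt N127 (iv D171)) (tt N230 D230) (tt N128 F699) (tt N171 F700) (tt N133 F701) (tt N231 D231))
theorem Q173 : ∀ i, i < 173 → P i := stepQ 172 Q172 (allL N172 (tt N172 F702) (tt N172 F703) (tt N231 (iv F924)) (tt N228 (iv F912)) (tt N129 F704) (tt N172 F705) (tt N172 F706) (tt N127 (iv D172)))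
theorem Q174 : ∀ i, i < 174 → P i := stepQ 173 Q173 (allL N173 (tt N232 D232) (tt N128 (iv D173)) (tt N173 F707) (tt N233 D233) (tt N229 (iv F917)) (tt N130 F708) (tt N135 F709) (tt N234 D234))
theorem Q175 : ∀ i, i < 175 → P i := stepQ 174 Q174 (allL N174 (tt N174 F710) (tt N233 (iv F931)) (tt N174 F711) (tt N128 (iv D174)) (tt N235 D235) (tt N131 F712) (tt N136 F713) (tt N236 D236))
theorem Q176 : ∀ i, i < 176 → P i := stepQ 175 Q175 (allL N175 (tt N175 F714) (tt N234 (iv F934)) (tt N129 F715) (tt N236 (iv F942)) (tt N231 (iv F925)) (tt N132 F716) (tt N237 D237) (tt N128 (iv D175)))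
theorem Q177 : ∀ i, i < 177 → P i := stepQ 176 Q176 (allL N176 (tt N130 (iv D176)) (tt N176 F717) (tt N176 F718) (tt N238 D238) (tt N176 F719) (tt N232 (iv F929)) (tt N138 F720) (tt N239 D239))
theorem Q178 : ∀ i, i < 178 → P i := stepQ 177 Q177 (allL N177 (tt N238 (iv F948)) (tt N131 F721) (tt N240 D240) (tt N130 (iv D177)) (tt N241 D241) (tt N233 (iv F932)) (tt N139 F722) (tt N242 D242))
theorem Q179 : ∀ i, i < 179 → P i := stepQ 178 Q178 (allL N178 (tt N239 (iv F951)) (tt N132 F723) (tt N178 F724) (tt N242 (iv F962)) (tt N178 F725) (tt N234 (iv F936)) (tt N243 D243) (tt N130 (iv D178)))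
theorem Q180 : ∀ i, i < 180 → P i := stepQ 179 Q179 (allL N179 (tt N179 F726) (tt N241 (iv F958)) (tt N179 F727) (tt N179 F728) (tt N131 (iv D179)) (tt N244 D244) (tt N141 F729) (tt N245 D245))
theorem Q181 : ∀ i, i < 181 → P i := stepQ 180 Q180 (allL N180 (tt N180 F730) (tt N242 (iv F961)) (tt N180 F731) (tt N132 F732) (tt N245 (iv F973)) (tt N236 (iv F943)) (tt N246 D246) (tt N131 (iv D180)))
theorem Q182 : ∀ i, i < 182 → P i := stepQ 181 Q181 (allL N181 (tt N181 F733) (tt N243 (iv F963)) (tt N181 F734) (tt N246 (iv F975)) (tt N181 F735) (tt N237 (iv F946)) (tt N132 (iv D181)) (tt N143 F736))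
theorem Q183 : ∀ i, i < 183 → P i := stepQ 182 Q182 (allL N182 (tt N247 D247) (tt N133 (iv D182)) (tt N153 F737) (tt N248 D248) (tt N135 F738) (tt N182 F739) (tt N229 (iv F919)) (tt N249 D249))
theorem Q184 : ∀ i, i < 184 → P i := stepQ 183 Q183 (allL N183 (tt N183 F740) (tt N248 (iv F981)) (tt N183 F741) (tt N133 (iv D183)) (tt N250 D250) (tt N183 F742) (tt N230 (iv F922)) (tt N251 D251))
theorem Q185 : ∀ i, i < 185 → P i := stepQ 184 Q184 (allL N184 (tt N184 F743) (tt N249 (iv F983)) (tt N134 F744) (tt N251 (iv F992)) (tt N137 F745) (tt N184 F746) (tt N252 D252) (tt N133 (iv D184)))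
theorem Q186 : ∀ i, i < 186 → P i := stepQ 185 Q185 (allL N185 (tt N135 (iv D185)) (tt N185 F747) (tt N156 F748) (tt N253 D253) (tt N247 (iv F979)) (tt N138 F749) (tt N232 (iv F930)) (tt N254 D254))
theorem Q187 : ∀ i, i < 187 → P i := stepQ 186 Q186 (allL N186 (tt N253 (iv F998)) (tt N136 F750) (tt N186 F751) (tt N135 (iv D186)) (tt N255 D255) (tt N139 F752) (tt N233 (iv F933)) (tt N256 D256))
theorem Q188 : ∀ i, i < 188 → P i := stepQ 187 Q187 (allL N187 (tt N254 (iv F1002)) (tt N137 F753) (tt N157 F754) (tt N256 (iv F1010)) (tt N249 (iv F985)) (tt N140 F755) (tt N257 D257) (tt N135 (iv D187)))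
theorem Q189 : ∀ i, i < 189 → P i := stepQ 188 Q188 (allL N188 (tt N188 F756) (tt N255 (iv F1006)) (tt N144 F757) (tt N250 (iv F989)) (tt N136 (iv D188)) (tt N258 D258) (tt N235 (iv F939)) (tt N259 D259))
theorem Q190 : ∀ i, i < 190 → P i := stepQ 189 Q189 (allL N189 (tt N189 F758) (tt N256 (iv F1008)) (tt N145 F759) (tt N137 F760) (tt N259 (iv F1019)) (tt N142 F761) (tt N260 D260) (tt N136 (iv D189)))
theorem Q191 : ∀ i, i < 191 → P i := stepQ 190 Q190 (allL N190 (tt N190 F762) (tt N257 (iv F1012)) (tt N190 F763) (tt N260 (iv F1021)) (tt N252 (iv F996)) (tt N143 F764) (tt N137 (iv D190)) (tt N237 (iv F947)))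
theorem Q192 : ∀ i, i < 192 → P i := stepQ 191 Q191 (allL N191 (tt N139 F765) (tt N191 F766) (tt N191 F767) (tt N138 (iv D191)) (tt N261 D261) (tt N253 (iv F1001)) (tt N238 (iv F950)) (tt N262 D262))
theorem Q193 : ∀ i, i < 193 → P i := stepQ 192 Q192 (allL N192 (tt N140 F768) (tt N192 F769) (tt N159 F770) (tt N262 (iv F1030)) (tt N192 F771) (tt N254 (iv F1005)) (tt N263 D263) (tt N138 (iv D192)))
theorem Q194 : ∀ i, i < 194 → P i := stepQ 193 Q193 (allL N193 (tt N261 (iv F1023)) (tt N141 F772) (tt N193 F773) (tt N193 F774) (tt N139 (iv D193)) (tt N264 D264) (tt N241 (iv F960)) (tt N265 D265))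
theorem Q195 : ∀ i, i < 195 → P i := stepQ 194 Q194 (allL N194 (tt N262 (iv F1027)) (tt N142 F775) (tt N194 F776) (tt N140 F777) (tt N265 (iv F1040)) (tt N256 (iv F1011)) (tt N266 D266) (tt N139 (iv D194)))
theorem Q196 : ∀ i, i < 196 → P i := stepQ 195 Q195 (allL N195 (tt N263 (iv F1031)) (tt N143 F778) (tt N267 D267) (tt N266 (iv F1042)) (tt N195 F779) (tt N257 (iv F1013)) (tt N140 (iv D195)) (tt N243 (iv F965)))
theorem Q197 : ∀ i, i < 197 → P i := stepQ 196 Q196 (allL N196 (tt N196 F780) (tt N264 (iv F1034)) (tt N147 F781) (tt N196 F782) (tt N258 (iv F1016)) (tt N141 (iv D196)) (tt N244 (iv F969)) (tt N268 D268))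
theorem Q198 : ∀ i, i < 198 → P i := stepQ 197 Q197 (allL N197 (tt N197 F783) (tt N265 (iv F1037)) (tt N148 F784) (tt N197 F785) (tt N142 F786) (tt N268 (iv F1049)) (tt N269 D269) (tt N141 (iv D197)))
theorem Q199 : ∀ i, i < 199 → P i := stepQ 198 Q198 (allL N198 (tt N198 F787) (tt N266 (iv F1041)) (tt N270 D270) (tt N143 F788) (tt N269 (iv F1052)) (tt N260 (iv F1022)) (tt N142 (iv D198)) (tt N246 (iv F976)))
theorem Q200 : ∀ i, i < 200 → P i := stepQ 199 Q199 (allL N199 (tt N199 F789) (tt N199 F790) (tt N258 (iv F1015)) (tt N199 F791) (tt N147 F792) (tt N144 (iv D199)) (tt N199 F793) (tt N271 D271))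
theorem Q201 : ∀ i, i < 201 → P i := stepQ 200 Q200 (allL N200 (tt N200 F794) (tt N200 F795) (tt N259 (iv F1018)) (tt N200 F796) (tt N145 F797) (tt N271 (iv F1060)) (tt N272 D272) (tt N144 (iv D200)))
theorem Q202 : ∀ i, i < 202 → P i := stepQ 201 Q201 (allL N201 (tt N201 F798) (tt N201 F799) (tt N273 D273) (tt N146 F800) (tt N272 (iv F1064)) (tt N149 F801) (tt N145 (iv D201)) (tt N201 F802))
theorem Q203 : ∀ i, i < 203 → P i := stepQ 202 Q202 (allL N202 (tt N202 F803) (tt N202 F804) (tt N268 (iv F1047)) (tt N150 F805) (tt N271 (iv F1059)) (tt N148 F806) (tt N274 D274) (tt N147 (iv D202)))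
theorem Q204 : ∀ i, i < 204 → P i := stepQ 203 Q203 (allL N203 (tt N203 F807) (tt N203 F808) (tt N275 D275) (tt N151 F809) (tt N149 F810) (tt N274 (iv F1073)) (tt N148 (iv D203)) (tt N203 F811))
theorem Q205 : ∀ i, i < 205 → P i := stepQ 204 Q204 (allL N204 (tt N204 F812) (tt N276 D276) (tt N149 (iv D204)) (tt N204 F813) (tt N275 (iv F1076)) (tt N273 (iv F1068)) (tt N270 (iv F1055)) (tt N204 F814))
theorem Q206 : ∀ i, i < 206 → P i := stepQ 205 Q205 (allL N205 (tt N205 F815) (tt N205 F816) (tt N277 D277) (tt N274 (iv F1072)) (tt N205 F817) (tt N151 F818) (tt N150 (iv D205)) (tt N205 F819))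
theorem Q207 : ∀ i, i < 207 → P i := stepQ 206 Q206 (allL N206 (tt N206 F820) (tt N278 D278) (tt N151 (iv D206)) (tt N279 D279) (tt N152 F821) (tt N277 (iv F1083)) (tt N206 F822) (tt N206 F823))
theorem Q208 : ∀ i, i < 208 → P i := stepQ 207 Q207 (allL N207 (tt N280 D280) (tt N152 (iv D207)) (tt N207 F824) (tt N207 F825) (tt N278 (iv F1087)) (tt N207 F826) (tt N207 F827) (tt N207 F828))
theorem Q209 : ∀ i, i < 209 → P i := stepQ 208 Q208 (allL N208 (tt N153 (iv D208)) (tt N161 F829) (tt N247 (iv F978)) (tt N281 D281) (tt N156 F830) (tt N208 F831) (tt N208 F832) (tt N282 D282))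
theorem Q210 : ∀ i, i < 210 → P i := stepQ 209 Q209 (allL N209 (tt N281 (iv F1100)) (tt N154 F833) (tt N283 D283) (tt N153 (iv D209)) (tt N209 F834) (tt N209 F835) (tt N209 F836) (tt N284 D284))
theorem Q211 : ∀ i, i < 211 → P i := stepQ 210 Q210 (allL N210 (tt N282 (iv F1105)) (tt N155 F837) (tt N249 (iv F984)) (tt N284 (iv F1113)) (tt N157 F838) (tt N210 F839) (tt N285 D285) (tt N153 (iv D210)))
theorem Q212 : ∀ i, i < 212 → P i := stepQ 211 Q211 (allL N211 (tt N164 F840) (tt N284 (iv F1112)) (tt N211 F841) (tt N155 F842) (tt N211 F843) (tt N211 F844) (tt N286 D286) (tt N154 (iv D211)))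
theorem Q213 : ∀ i, i < 213 → P i := stepQ 212 Q212 (allL N212 (tt N165 F845) (tt N285 (iv F1116)) (tt N212 F846) (tt N286 (iv F1121)) (tt N158 F847) (tt N212 F848) (tt N155 (iv D212)) (tt N212 F849))
theorem Q214 : ∀ i, i < 214 → P i := stepQ 213 Q213 (allL N213 (tt N157 F850) (tt N166 F851) (tt N254 (iv F1004)) (tt N213 F852) (tt N282 (iv F1107)) (tt N159 F853) (tt N287 D287) (tt N156 (iv D213)))
theorem Q215 : ∀ i, i < 215 → P i := stepQ 214 Q214 (allL N214 (tt N287 (iv F1125)) (tt N158 F854) (tt N288 D288) (tt N214 F855) (tt N285 (iv F1117)) (tt N160 F856) (tt N157 (iv D214)) (tt N214 F857))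
theorem Q216 : ∀ i, i < 216 → P i := stepQ 215 Q215 (allL N215 (tt N160 F858) (tt N168 F859) (tt N289 D289) (tt N215 F860) (tt N215 F861) (tt N287 (iv F1128)) (tt N159 (iv D215)) (tt N215 F862))
theorem Q217 : ∀ i, i < 217 → P i := stepQ 216 Q216 (allL N216 (tt N289 (iv F1133)) (tt N216 F863) (tt N160 (iv D216)) (tt N290 D290) (tt N216 F864) (tt N288 (iv F1131)) (tt N267 (iv F1045)) (tt N216 F865))
theorem Q218 : ∀ i, i < 218 → P i := stepQ 217 Q217 (allL N217 (tt N162 F866) (tt N281 (iv F1101)) (tt N291 D291) (tt N161 (iv D217)) (tt N217 F867) (tt N217 F868) (tt N217 F869) (tt N292 D292))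
theorem Q219 : ∀ i, i < 219 → P i := stepQ 218 Q218 (allL N218 (tt N163 F870) (tt N282 (iv F1106)) (tt N218 F871) (tt N292 (iv F1144)) (tt N166 F872) (tt N218 F873) (tt N293 D293) (tt N161 (iv D218)))
theorem Q220 : ∀ i, i < 220 → P i := stepQ 219 Q219 (allL N219 (tt N291 (iv F1139)) (tt N219 F874) (tt N162 (iv D219)) (tt N219 F875) (tt N219 F876) (tt N219 F877) (tt N294 D294) (tt N295 D295))
theorem Q221 : ∀ i, i < 221 → P i := stepQ 220 Q220 (allL N220 (tt N292 (iv F1143)) (tt N164 F878) (tt N295 (iv F1157)) (tt N163 F879) (tt N220 F880) (tt N220 F881) (tt N296 D296) (tt N162 (iv D220)))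
theorem Q222 : ∀ i, i < 222 → P i := stepQ 221 Q221 (allL N221 (tt N293 (iv F1147)) (tt N165 F882) (tt N297 D297) (tt N296 (iv F1162)) (tt N167 F883) (tt N221 F884) (tt N163 (iv D221)) (tt N221 F885))
theorem Q223 : ∀ i, i < 223 → P i := stepQ 222 Q222 (allL N222 (tt N286 (iv F1120)) (tt N296 (iv F1161)) (tt N298 D298) (tt N165 F886) (tt N222 F887) (tt N222 F888) (tt N164 (iv D222)) (tt N222 F889))
theorem Q224 : ∀ i, i < 224 → P i := stepQ 223 Q223 (allL N223 (tt N167 F890) (tt N287 (iv F1126)) (tt N299 D299) (tt N223 F891) (tt N293 (iv F1148)) (tt N168 F892) (tt N166 (iv D223)) (tt N223 F893))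
theorem Q225 : ∀ i, i < 225 → P i := stepQ 224 Q224 (allL N224 (tt N299 (iv F1176)) (tt N224 F894) (tt N167 (iv D224)) (tt N300 D300) (tt N297 (iv F1167)) (tt N169 F895) (tt N224 F896) (tt N224 F897))
theorem Q226 : ∀ i, i < 226 → P i := stepQ 225 Q225 (allL N225 (tt N169 F898) (tt N279 F56287) (tt N168 (iv D225)) (tt N278 (iv F56443)) (tt N225 F899) (tt N299 (iv F1177)) (tt N225 F900) (tt N225 F901))
theorem Q227 : ∀ i, i < 227 → P i := stepQ 226 Q226 (allL N226 (tt N278 F56602) (tt N226 F902) (tt N226 F903) (tt N169 (iv D226)) (tt N280 (iv F56754)) (tt N300 (iv F1182)) (tt N226 F904) (tt N226 F905))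
theorem Q228 : ∀ i, i < 228 → P i := stepQ 227 Q227 (allL N227 (tt N227 F906) (tt N301 D304) (tt N170 (iv D227)) (tt N302 D305) (tt N227 F907) (tt N227 F908) (tt N227 F909) (tt N303 D306))
theorem Q229 : ∀ i, i < 229 → P i := stepQ 228 Q228 (allL N228 (tt N228 F910) (tt N228 F911) (tt N303 (iv F1207)) (tt N172 F912) (tt N228 F913) (tt N228 F914) (tt N228 F915) (tt N170 (iv D228)))
theorem Q230 : ∀ i, i < 230 → P i := stepQ 229 Q229 (allL N229 (tt N304 D307) (tt N171 (iv D229)) (tt N229 F916) (tt N305 D308) (tt N173 F917) (tt N229 F918) (tt N182 F919) (tt N306 D309))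
theorem Q231 : ∀ i, i < 231 → P i := stepQ 230 Q230 (allL N230 (tt N230 F920) (tt N305 (iv F1215)) (tt N302 (iv F1203)) (tt N171 (iv D230)) (tt N307 D310) (tt N230 F921) (tt N183 F922) (tt N308 D311))
theorem Q232 : ∀ i, i < 232 → P i := stepQ 231 Q231 (allL N231 (tt N231 F923) (tt N306 (iv F1218)) (tt N172 F924) (tt N308 (iv F1226)) (tt N175 F925) (tt N231 F926) (tt N309 D312) (tt N171 (iv D231)))
theorem Q233 : ∀ i, i < 233 → P i := stepQ 232 Q232 (allL N232 (tt N173 (iv D232)) (tt N232 F927) (tt N232 F928) (tt N310 D313) (tt N304 (iv F1212)) (tt N176 F929) (tt N185 F930) (tt N311 D314))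
theorem Q234 : ∀ i, i < 234 → P i := stepQ 233 Q233 (allL N233 (tt N310 (iv F1233)) (tt N174 F931) (tt N312 D315) (tt N173 (iv D233)) (tt N313 D316) (tt N177 F932) (tt N186 F933) (tt N314 D317))
theorem Q235 : ∀ i, i < 235 → P i := stepQ 234 Q234 (allL N234 (tt N311 (iv F1237)) (tt N175 F934) (tt N234 F935) (tt N314 (iv F1248)) (tt N306 (iv F1220)) (tt N178 F936) (tt N315 D318) (tt N173 (iv D234)))
theorem Q236 : ∀ i, i < 236 → P i := stepQ 235 Q235 (allL N235 (tt N235 F937) (tt N313 (iv F1245)) (tt N235 F938) (tt N307 (iv F1223)) (tt N174 (iv D235)) (tt N316 D319) (tt N188 F939) (tt N317 D320))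
theorem Q237 : ∀ i, i < 237 → P i := stepQ 236 Q236 (allL N236 (tt N236 F940) (tt N314 (iv F1247)) (tt N236 F941) (tt N175 F942) (tt N317 (iv F1259)) (tt N180 F943) (tt N318 D321) (tt N174 (iv D236)))
theorem Q238 : ∀ i, i < 238 → P i := stepQ 237 Q237 (allL N237 (tt N237 F944) (tt N315 (iv F1250)) (tt N237 F945) (tt N318 (iv F1261)) (tt N309 (iv F1230)) (tt N181 F946) (tt N175 (iv D237)) (tt N190 F947))
theorem Q239 : ∀ i, i < 239 → P i := stepQ 238 Q238 (allL N238 (tt N177 F948) (tt N238 F949) (tt N319 D322) (tt N176 (iv D238)) (tt N320 D323) (tt N310 (iv F1235)) (tt N191 F950) (tt N321 D324))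
theorem Q240 : ∀ i, i < 240 → P i := stepQ 239 Q239 (allL N239 (tt N178 F951) (tt N239 F952) (tt N239 F953) (tt N321 (iv F1273)) (tt N239 F954) (tt N311 (iv F1240)) (tt N322 D325) (tt N176 (iv D239)))
theorem Q241 : ∀ i, i < 241 → P i := stepQ 240 Q240 (allL N240 (tt N319 (iv F1264)) (tt N240 F955) (tt N177 (iv D240)) (tt N240 F956) (tt N323 D326) (tt N312 (iv F1243)) (tt N240 F957) (tt N324 D327))
theorem Q242 : ∀ i, i < 242 → P i := stepQ 241 Q241 (allL N241 (tt N320 (iv F1267)) (tt N179 F958) (tt N323 (iv F1279)) (tt N241 F959) (tt N177 (iv D241)) (tt N325 D328) (tt N193 F960) (tt N326 D329))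
theorem Q243 : ∀ i, i < 243 → P i := stepQ 242 Q242 (allL N242 (tt N321 (iv F1271)) (tt N180 F961) (tt N324 (iv F1282)) (tt N178 F962) (tt N326 (iv F1289)) (tt N314 (iv F1249)) (tt N327 D330) (tt N177 (iv D242)))
theorem Q244 : ∀ i, i < 244 → P i := stepQ 243 Q243 (allL N243 (tt N322 (iv F1274)) (tt N181 F963) (tt N328 D331) (tt N327 (iv F1291)) (tt N243 F964) (tt N315 (iv F1251)) (tt N178 (iv D243)) (tt N195 F965))
theorem Q245 : ∀ i, i < 245 → P i := stepQ 244 Q244 (allL N244 (tt N244 F966) (tt N325 (iv F1284)) (tt N244 F967) (tt N244 F968) (tt N316 (iv F1255)) (tt N179 (iv D244)) (tt N196 F969) (tt N329 D332))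
theorem Q246 : ∀ i, i < 246 → P i := stepQ 245 Q245 (allL N245 (tt N245 F970) (tt N326 (iv F1287)) (tt N245 F971) (tt N245 F972) (tt N180 F973) (tt N329 (iv F1300)) (tt N330 D333) (tt N179 (iv D245)))
theorem Q247 : ∀ i, i < 247 → P i := stepQ 246 Q246 (allL N246 (tt N246 F974) (tt N327 (iv F1290)) (tt N331 D334) (tt N181 F975) (tt N330 (iv F1303)) (tt N318 (iv F1262)) (tt N180 (iv D246)) (tt N198 F976))
theorem Q248 : ∀ i, i < 248 → P i := stepQ 247 Q247 (allL N247 (tt N182 (iv D247)) (tt N247 F977) (tt N208 F978) (tt N332 D335) (tt N185 F979) (tt N247 F980) (tt N304 (iv F1214)) (tt N333 D336))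
theorem Q249 : ∀ i, i < 249 → P i := stepQ 248 Q248 (allL N248 (tt N332 (iv F1309)) (tt N183 F981) (tt N334 D337) (tt N182 (iv D248)) (tt N335 D338) (tt N248 F982) (tt N305 (iv F1217)) (tt N336 D339))
theorem Q250 : ∀ i, i < 250 → P i := stepQ 249 Q249 (allL N249 (tt N333 (iv F1312)) (tt N184 F983) (tt N210 F984) (tt N336 (iv F1323)) (tt N187 F985) (tt N249 F986) (tt N337 D340) (tt N182 (iv D249)))
theorem Q251 : ∀ i, i < 251 → P i := stepQ 250 Q250 (allL N250 (tt N250 F987) (tt N335 (iv F1320)) (tt N250 F988) (tt N188 F989) (tt N183 (iv D250)) (tt N338 D341) (tt N307 (iv F1224)) (tt N339 D342))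
theorem Q252 : ∀ i, i < 252 → P i := stepQ 251 Q251 (allL N251 (tt N251 F990) (tt N336 (iv F1322)) (tt N251 F991) (tt N184 F992) (tt N339 (iv F1335)) (tt N251 F993) (tt N340 D343) (tt N183 (iv D251)))
theorem Q253 : ∀ i, i < 253 → P i := stepQ 252 Q252 (allL N252 (tt N252 F994) (tt N337 (iv F1325)) (tt N252 F995) (tt N340 (iv F1337)) (tt N190 F996) (tt N252 F997) (tt N184 (iv D252)) (tt N309 (iv F1232)))
theorem Q254 : ∀ i, i < 254 → P i := stepQ 253 Q253 (allL N253 (tt N186 F998) (tt N253 F999) (tt N253 F1000) (tt N185 (iv D253)) (tt N341 D344) (tt N191 F1001) (tt N310 (iv F1236)) (tt N342 D345))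
theorem Q255 : ∀ i, i < 255 → P i := stepQ 254 Q254 (allL N254 (tt N187 F1002) (tt N254 F1003) (tt N213 F1004) (tt N342 (iv F1345)) (tt N333 (iv F1315)) (tt N192 F1005) (tt N343 D346) (tt N185 (iv D254)))
theorem Q256 : ∀ i, i < 256 → P i := stepQ 255 Q255 (allL N255 (tt N341 (iv F1339)) (tt N188 F1006) (tt N255 F1007) (tt N335 (iv F1321)) (tt N186 (iv D255)) (tt N344 D347) (tt N313 (iv F1246)) (tt N345 D348))
theorem Q257 : ∀ i, i < 257 → P i := stepQ 256 Q256 (allL N256 (tt N342 (iv F1342)) (tt N189 F1008) (tt N256 F1009) (tt N187 F1010) (tt N345 (iv F1355)) (tt N194 F1011) (tt N346 D349) (tt N186 (iv D256)))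
theorem Q258 : ∀ i, i < 258 → P i := stepQ 257 Q257 (allL N257 (tt N343 (iv F1347)) (tt N190 F1012) (tt N347 D350) (tt N346 (iv F1357)) (tt N337 (iv F1326)) (tt N195 F1013) (tt N187 (iv D257)) (tt N315 (iv F1252)))
theorem Q259 : ∀ i, i < 259 → P i := stepQ 258 Q258 (allL N258 (tt N258 F1014) (tt N344 (iv F1350)) (tt N199 F1015) (tt N338 (iv F1330)) (tt N196 F1016) (tt N188 (iv D258)) (tt N316 (iv F1256)) (tt N348 D351))
theorem Q260 : ∀ i, i < 260 → P i := stepQ 259 Q259 (allL N259 (tt N259 F1017) (tt N345 (iv F1353)) (tt N200 F1018) (tt N339 (iv F1334)) (tt N189 F1019) (tt N348 (iv F1365)) (tt N349 D352) (tt N188 (iv D259)))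
theorem Q261 : ∀ i, i < 261 → P i := stepQ 260 Q260 (allL N260 (tt N260 F1020) (tt N346 (iv F1356)) (tt N350 D353) (tt N190 F1021) (tt N349 (iv F1367)) (tt N198 F1022) (tt N189 (iv D260)) (tt N318 (iv F1263)))
theorem Q262 : ∀ i, i < 262 → P i := stepQ 261 Q261 (allL N261 (tt N193 F1023) (tt N261 F1024) (tt N261 F1025) (tt N261 F1026) (tt N191 (iv D261)) (tt N351 D354) (tt N320 (iv F1270)) (tt N352 D355))
theorem Q263 : ∀ i, i < 263 → P i := stepQ 262 Q262 (allL N262 (tt N194 F1027) (tt N262 F1028) (tt N262 F1029) (tt N192 F1030) (tt N352 (iv F1380)) (tt N342 (iv F1346)) (tt N353 D356) (tt N191 (iv D262)))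
theorem Q264 : ∀ i, i < 264 → P i := stepQ 263 Q263 (allL N263 (tt N195 F1031) (tt N263 F1032) (tt N354 D357) (tt N353 (iv F1383)) (tt N263 F1033) (tt N343 (iv F1349)) (tt N192 (iv D263)) (tt N322 (iv F1277)))
theorem Q265 : ∀ i, i < 265 → P i := stepQ 264 Q264 (allL N264 (tt N351 (iv F1372)) (tt N196 F1034) (tt N264 F1035) (tt N264 F1036) (tt N344 (iv F1352)) (tt N193 (iv D264)) (tt N325 (iv F1286)) (tt N355 D358))
theorem Q266 : ∀ i, i < 266 → P i := stepQ 265 Q265 (allL N265 (tt N352 (iv F1376)) (tt N197 F1037) (tt N265 F1038) (tt N265 F1039) (tt N194 F1040) (tt N355 (iv F1390)) (tt N356 D359) (tt N193 (iv D265)))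
theorem Q267 : ∀ i, i < 267 → P i := stepQ 266 Q266 (allL N266 (tt N353 (iv F1381)) (tt N198 F1041) (tt N357 D360) (tt N195 F1042) (tt N356 (iv F1393)) (tt N346 (iv F1358)) (tt N194 (iv D266)) (tt N327 (iv F1292)))
theorem Q268 : ∀ i, i < 268 → P i := stepQ 267 Q267 (allL N267 (tt N354 (iv F1384)) (tt N267 F1043) (tt N195 (iv D267)) (tt N358 D361) (tt N267 F1044) (tt N347 (iv F1360)) (tt N216 F1045) (tt N328 (iv F1296)))
theorem Q269 : ∀ i, i < 269 → P i := stepQ 268 Q268 (allL N268 (tt N268 F1046) (tt N355 (iv F1387)) (tt N202 F1047) (tt N268 F1048) (tt N348 (iv F1364)) (tt N197 F1049) (tt N359 D362) (tt N196 (iv D268)))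
theorem Q270 : ∀ i, i < 270 → P i := stepQ 269 Q269 (allL N269 (tt N269 F1050) (tt N356 (iv F1391)) (tt N360 D363) (tt N269 F1051) (tt N198 F1052) (tt N359 (iv F1399)) (tt N197 (iv D269)) (tt N330 (iv F1304)))
theorem Q271 : ∀ i, i < 271 → P i := stepQ 270 Q270 (allL N270 (tt N270 F1053) (tt N361 D364) (tt N198 (iv D270)) (tt N270 F1054) (tt N360 (iv F1401)) (tt N350 (iv F1370)) (tt N204 F1055) (tt N331 (iv F1308)))
theorem Q272 : ∀ i, i < 272 → P i := stepQ 271 Q271 (allL N271 (tt N271 F1056) (tt N271 F1057) (tt N348 (iv F1363)) (tt N271 F1058) (tt N202 F1059) (tt N200 F1060) (tt N362 D365) (tt N199 (iv D271)))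
theorem Q273 : ∀ i, i < 273 → P i := stepQ 272 Q272 (allL N272 (tt N272 F1061) (tt N272 F1062) (tt N363 D366) (tt N272 F1063) (tt N201 F1064) (tt N362 (iv F1409)) (tt N200 (iv D272)) (tt N272 F1065))
theorem Q274 : ∀ i, i < 274 → P i := stepQ 273 Q273 (allL N273 (tt N273 F1066) (tt N364 D367) (tt N201 (iv D273)) (tt N273 F1067) (tt N363 (iv F1412)) (tt N204 F1068) (tt N350 (iv F1371)) (tt N273 F1069))
theorem Q275 : ∀ i, i < 275 → P i := stepQ 274 Q274 (allL N274 (tt N274 F1070) (tt N274 F1071) (tt N365 D368) (tt N205 F1072) (tt N362 (iv F1408)) (tt N203 F1073) (tt N202 (iv D274)) (tt N274 F1074))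
theorem Q276 : ∀ i, i < 276 → P i := stepQ 275 Q275 (allL N275 (tt N275 F1075) (tt N366 D369) (tt N203 (iv D275)) (tt N367 D370) (tt N204 F1076) (tt N365 (iv F1419)) (tt N360 (iv F1402)) (tt N275 F1077))
theorem Q277 : ∀ i, i < 277 → P i := stepQ 276 Q276 (allL N276 (tt N368 D371) (tt N204 (iv D276)) (tt N276 F1078) (tt N276 F1079) (tt N366 (iv F1422)) (tt N364 (iv F1416)) (tt N361 (iv F1404)) (tt N276 F1080))
theorem Q278 : ∀ i, i < 278 → P i := stepQ 277 Q277 (allL N277 (tt N277 F1081) (tt N369 D372) (tt N205 (iv D277)) (tt N370 D373) (tt N277 F1082) (tt N206 F1083) (tt N277 F1084) (tt N277 F1085))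
theorem Q279 : ∀ i, i < 279 → P i := stepQ 278 Q278 (allL N278 (tt N226 (iv F56602)) (tt N206 (iv D278)) (tt N278 F1086) (tt N225 F56443) (tt N207 F1087) (tt N369 (iv F1434)) (tt N278 F1088) (tt N278 F1089))
theorem Q280 : ∀ i, i < 280 → P i := stepQ 279 Q279 (allL N279 (tt N279 F1090) (tt N225 (iv F56287)) (tt N367 (iv F1425)) (tt N206 (iv D279)) (tt N279 F1091) (tt N370 (iv F1438)) (tt N279 F1092) (tt N279 F1093))
theorem Q281 : ∀ i, i < 281 → P i := stepQ 280 Q280 (allL N280 (tt N207 (iv D280)) (tt N280 F1094) (tt N280 F1095) (tt N280 F1096) (tt N226 F56754) (tt N280 F1097) (tt N280 F1098) (tt N280 F1099))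
theorem Q282 : ∀ i, i < 282 → P i := stepQ 281 Q281 (allL N281 (tt N209 F1100) (tt N217 F1101) (tt N371 D376) (tt N208 (iv D281)) (tt N281 F1102) (tt N281 F1103) (tt N281 F1104) (tt N372 D377))
theorem Q283 : ∀ i, i < 283 → P i := stepQ 282 Q282 (allL N282 (tt N210 F1105) (tt N218 F1106) (tt N333 (iv F1314)) (tt N372 (iv F1455)) (tt N213 F1107) (tt N282 F1108) (tt N373 D378) (tt N208 (iv D282)))
theorem Q284 : ∀ i, i < 284 → P i := stepQ 283 Q283 (allL N283 (tt N371 (iv F1450)) (tt N283 F1109) (tt N209 (iv D283)) (tt N334 (iv F1318)) (tt N283 F1110) (tt N283 F1111) (tt N374 D379) (tt N375 D380))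
theorem Q285 : ∀ i, i < 285 → P i := stepQ 284 Q284 (allL N284 (tt N372 (iv F1453)) (tt N211 F1112) (tt N375 (iv F1468)) (tt N210 F1113) (tt N284 F1114) (tt N284 F1115) (tt N376 D381) (tt N209 (iv D284)))
theorem Q286 : ∀ i, i < 286 → P i := stepQ 285 Q285 (allL N285 (tt N373 (iv F1458)) (tt N212 F1116) (tt N377 D382) (tt N376 (iv F1472)) (tt N214 F1117) (tt N285 F1118) (tt N210 (iv D285)) (tt N285 F1119))
theorem Q287 : ∀ i, i < 287 → P i := stepQ 286 Q286 (allL N286 (tt N222 F1120) (tt N376 (iv F1471)) (tt N378 D383) (tt N212 F1121) (tt N286 F1122) (tt N286 F1123) (tt N211 (iv D286)) (tt N286 F1124))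
theorem Q288 : ∀ i, i < 288 → P i := stepQ 287 Q287 (allL N287 (tt N214 F1125) (tt N223 F1126) (tt N379 D384) (tt N287 F1127) (tt N373 (iv F1460)) (tt N215 F1128) (tt N213 (iv D287)) (tt N287 F1129))
theorem Q289 : ∀ i, i < 289 → P i := stepQ 288 Q288 (allL N288 (tt N379 (iv F1486)) (tt N288 F1130) (tt N214 (iv D288)) (tt N380 D385) (tt N377 (iv F1477)) (tt N216 F1131) (tt N347 (iv F1361)) (tt N288 F1132))
theorem Q290 : ∀ i, i < 290 → P i := stepQ 289 Q289 (allL N289 (tt N216 F1133) (tt N367 (iv F55999)) (tt N215 (iv D289)) (tt N366 F55916) (tt N289 F1134) (tt N379 (iv F1487)) (tt N354 (iv F1386)) (tt N289 F1135))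
theorem Q291 : ∀ i, i < 291 → P i := stepQ 290 Q290 (allL N290 (tt N366 F55913) (tt N290 F1136) (tt N290 F1137) (tt N216 (iv D290)) (tt N368 F55914) (tt N380 (iv F1491)) (tt N358 (iv F1396)) (tt N290 F1138))
theorem Q292 : ∀ i, i < 292 → P i := stepQ 291 Q291 (allL N291 (tt N219 F1139) (tt N381 D389) (tt N217 (iv D291)) (tt N291 F1140) (tt N291 F1141) (tt N291 F1142) (tt N382 D390) (tt N383 D391))
theorem Q293 : ∀ i, i < 293 → P i := stepQ 292 Q292 (allL N292 (tt N220 F1143) (tt N372 (iv F1454)) (tt N383 (iv F1514)) (tt N218 F1144) (tt N292 F1145) (tt N292 F1146) (tt N384 D392) (tt N217 (iv D292)))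
theorem Q294 : ∀ i, i < 294 → P i := stepQ 293 Q293 (allL N293 (tt N221 F1147) (tt N373 (iv F1459)) (tt N385 D393) (tt N384 (iv F1519)) (tt N223 F1148) (tt N293 F1149) (tt N218 (iv D293)) (tt N293 F1150))
theorem Q295 : ∀ i, i < 295 → P i := stepQ 294 Q294 (allL N294 (tt N382 (iv F1508)) (tt N294 F1151) (tt N294 F1152) (tt N294 F1153) (tt N294 F1154) (tt N294 F1155) (tt N219 (iv D294)) (tt N294 F56948))
theorem Q296 : ∀ i, i < 296 → P i := stepQ 295 Q295 (allL N295 (tt N383 (iv F1513)) (tt N295 F1156) (tt N220 F1157) (tt N295 F1158) (tt N295 F1159) (tt N295 F1160) (tt N295 F56925) (tt N219 (iv D295)))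
theorem Q297 : ∀ i, i < 297 → P i := stepQ 296 Q296 (allL N296 (tt N384 (iv F1518)) (tt N222 F1161) (tt N296 F56613) (tt N221 F1162) (tt N296 F1163) (tt N296 F1164) (tt N220 (iv D296)) (tt N296 F1165))
theorem Q298 : ∀ i, i < 298 → P i := stepQ 297 Q297 (allL N297 (tt N385 (iv F1523)) (tt N297 F1166) (tt N221 (iv D297)) (tt N297 F56612) (tt N224 F1167) (tt N297 F1168) (tt N297 F1169) (tt N297 F1170))
theorem Q299 : ∀ i, i < 299 → P i := stepQ 298 Q298 (allL N298 (tt N378 (iv F1480)) (tt N298 F56759) (tt N222 (iv D298)) (tt N298 F1171) (tt N298 F1172) (tt N298 F1173) (tt N298 F1174) (tt N298 F1175))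
theorem Q300 : ∀ i, i < 300 → P i := stepQ 299 Q299 (allL N299 (tt N224 F1176) (tt N370 F56444) (tt N223 (iv D299)) (tt N369 (iv F56604)) (tt N385 (iv F1524)) (tt N225 F1177) (tt N299 F1178) (tt N299 F1179))
theorem Q301 : ∀ i, i < 301 → P i := stepQ 300 Q300 (allL N300 (tt N369 (iv F56603)) (tt N300 F1180) (tt N300 F1181) (tt N224 (iv D300)) (tt N300 F56611) (tt N226 F1182) (tt N300 F1183) (tt N300 F1184))
theorem Q302 : ∀ i, i < 302 → P i := stepQ 301 Q301 (allL N301 (tt N386 D405) (tt N227 (iv D304)) (tt N301 F1198) (tt N387 D406) (tt N301 F1199) (tt N301 F1200) (tt N301 F1201) (tt N388 D407))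
theorem Q303 : ∀ i, i < 303 → P i := stepQ 302 Q302 (allL N302 (tt N302 F1202) (tt N387 (iv F1581)) (tt N230 F1203) (tt N227 (iv D305)) (tt N389 D408) (tt N302 F1204) (tt N302 F1205) (tt N390 D409))
theorem Q304 : ∀ i, i < 304 → P i := stepQ 303 Q303 (allL N303 (tt N303 F1206) (tt N388 (iv F1584)) (tt N228 F1207) (tt N390 (iv F1594)) (tt N303 F1208) (tt N303 F1209) (tt N391 D410) (tt N227 (iv D306)))
theorem Q305 : ∀ i, i < 305 → P i := stepQ 304 Q304 (allL N304 (tt N229 (iv D307)) (tt N304 F1210) (tt N304 F1211) (tt N392 D411) (tt N232 F1212) (tt N304 F1213) (tt N247 F1214) (tt N393 D412))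
theorem Q306 : ∀ i, i < 306 → P i := stepQ 305 Q305 (allL N305 (tt N392 (iv F1601)) (tt N230 F1215) (tt N394 D413) (tt N229 (iv D308)) (tt N395 D414) (tt N305 F1216) (tt N248 F1217) (tt N396 D415))
theorem Q307 : ∀ i, i < 307 → P i := stepQ 306 Q306 (allL N306 (tt N393 (iv F1605)) (tt N231 F1218) (tt N306 F1219) (tt N396 (iv F1616)) (tt N234 F1220) (tt N306 F1221) (tt N397 D416) (tt N229 (iv D309)))
theorem Q308 : ∀ i, i < 308 → P i := stepQ 307 Q307 (allL N307 (tt N307 F1222) (tt N395 (iv F1612)) (tt N389 (iv F1589)) (tt N235 F1223) (tt N230 (iv D310)) (tt N398 D417) (tt N250 F1224) (tt N399 D418))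
theorem Q309 : ∀ i, i < 309 → P i := stepQ 308 Q308 (allL N308 (tt N308 F1225) (tt N396 (iv F1615)) (tt N390 (iv F1593)) (tt N231 F1226) (tt N399 (iv F1628)) (tt N308 F1227) (tt N400 D419) (tt N230 (iv D311)))
theorem Q310 : ∀ i, i < 310 → P i := stepQ 309 Q309 (allL N309 (tt N309 F1228) (tt N397 (iv F1618)) (tt N309 F1229) (tt N400 (iv F1630)) (tt N237 F1230) (tt N309 F1231) (tt N231 (iv D312)) (tt N252 F1232))
theorem Q311 : ∀ i, i < 311 → P i := stepQ 310 Q310 (allL N310 (tt N233 F1233) (tt N310 F1234) (tt N401 D420) (tt N232 (iv D313)) (tt N402 D421) (tt N238 F1235) (tt N253 F1236) (tt N403 D422))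
theorem Q312 : ∀ i, i < 312 → P i := stepQ 311 Q311 (allL N311 (tt N234 F1237) (tt N311 F1238) (tt N311 F1239) (tt N403 (iv F1642)) (tt N393 (iv F1608)) (tt N239 F1240) (tt N404 D423) (tt N232 (iv D314)))
theorem Q313 : ∀ i, i < 313 → P i := stepQ 312 Q312 (allL N312 (tt N401 (iv F1633)) (tt N312 F1241) (tt N233 (iv D315)) (tt N312 F1242) (tt N405 D424) (tt N240 F1243) (tt N312 F1244) (tt N406 D425))
theorem Q314 : ∀ i, i < 314 → P i := stepQ 313 Q313 (allL N313 (tt N402 (iv F1637)) (tt N235 F1245) (tt N405 (iv F1649)) (tt N395 (iv F1613)) (tt N233 (iv D316)) (tt N407 D426) (tt N255 F1246) (tt N408 D427))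
theorem Q315 : ∀ i, i < 315 → P i := stepQ 314 Q314 (allL N314 (tt N403 (iv F1640)) (tt N236 F1247) (tt N406 (iv F1652)) (tt N234 F1248) (tt N408 (iv F1659)) (tt N242 F1249) (tt N409 D428) (tt N233 (iv D317)))
theorem Q316 : ∀ i, i < 316 → P i := stepQ 315 Q315 (allL N315 (tt N404 (iv F1644)) (tt N237 F1250) (tt N410 D429) (tt N409 (iv F1661)) (tt N397 (iv F1619)) (tt N243 F1251) (tt N234 (iv D318)) (tt N257 F1252))
theorem Q317 : ∀ i, i < 317 → P i := stepQ 316 Q316 (allL N316 (tt N316 F1253) (tt N407 (iv F1655)) (tt N316 F1254) (tt N398 (iv F1623)) (tt N244 F1255) (tt N235 (iv D319)) (tt N258 F1256) (tt N411 D430))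
theorem Q318 : ∀ i, i < 318 → P i := stepQ 317 Q317 (allL N317 (tt N317 F1257) (tt N408 (iv F1658)) (tt N317 F1258) (tt N399 (iv F1627)) (tt N236 F1259) (tt N411 (iv F1671)) (tt N412 D431) (tt N235 (iv D320)))
theorem Q319 : ∀ i, i < 319 → P i := stepQ 318 Q318 (allL N318 (tt N318 F1260) (tt N409 (iv F1660)) (tt N413 D432) (tt N237 F1261) (tt N412 (iv F1673)) (tt N246 F1262) (tt N236 (iv D321)) (tt N260 F1263))
theorem Q320 : ∀ i, i < 320 → P i := stepQ 319 Q319 (allL N319 (tt N240 F1264) (tt N414 D433) (tt N238 (iv D322)) (tt N319 F1265) (tt N415 D434) (tt N401 (iv F1635)) (tt N319 F1266) (tt N416 D435))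
theorem Q321 : ∀ i, i < 321 → P i := stepQ 320 Q320 (allL N320 (tt N241 F1267) (tt N320 F1268) (tt N415 (iv F1685)) (tt N320 F1269) (tt N238 (iv D323)) (tt N417 D436) (tt N261 F1270) (tt N418 D437))
theorem Q322 : ∀ i, i < 322 → P i := stepQ 321 Q321 (allL N321 (tt N242 F1271) (tt N321 F1272) (tt N416 (iv F1688)) (tt N239 F1273) (tt N418 (iv F1697)) (tt N403 (iv F1643)) (tt N419 D438) (tt N238 (iv D324)))
theorem Q323 : ∀ i, i < 323 → P i := stepQ 322 Q322 (allL N322 (tt N243 F1274) (tt N322 F1275) (tt N420 D439) (tt N419 (iv F1700)) (tt N322 F1276) (tt N404 (iv F1646)) (tt N239 (iv D325)) (tt N263 F1277))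
theorem Q324 : ∀ i, i < 324 → P i := stepQ 323 Q323 (allL N323 (tt N415 (iv F1684)) (tt N323 F1278) (tt N241 F1279) (tt N421 D440) (tt N240 (iv D326)) (tt N422 D441) (tt N323 F1280) (tt N423 D442))
theorem Q325 : ∀ i, i < 325 → P i := stepQ 324 Q324 (allL N324 (tt N416 (iv F1687)) (tt N324 F1281) (tt N242 F1282) (tt N324 F1283) (tt N423 (iv F1715)) (tt N406 (iv F1654)) (tt N424 D443) (tt N240 (iv D327)))
theorem Q326 : ∀ i, i < 326 → P i := stepQ 325 Q325 (allL N325 (tt N417 (iv F1690)) (tt N244 F1284) (tt N422 (iv F1711)) (tt N325 F1285) (tt N407 (iv F1656)) (tt N241 (iv D328)) (tt N264 F1286) (tt N425 D444))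
theorem Q327 : ∀ i, i < 327 → P i := stepQ 326 Q326 (allL N326 (tt N418 (iv F1694)) (tt N245 F1287) (tt N423 (iv F1714)) (tt N326 F1288) (tt N242 F1289) (tt N425 (iv F1721)) (tt N426 D445) (tt N241 (iv D329)))
theorem Q328 : ∀ i, i < 328 → P i := stepQ 327 Q327 (allL N327 (tt N419 (iv F1698)) (tt N246 F1290) (tt N427 D446) (tt N243 F1291) (tt N426 (iv F1724)) (tt N409 (iv F1662)) (tt N242 (iv D330)) (tt N266 F1292))
theorem Q329 : ∀ i, i < 329 → P i := stepQ 328 Q328 (allL N328 (tt N420 (iv F1702)) (tt N328 F1293) (tt N243 (iv D331)) (tt N428 D447) (tt N328 F1294) (tt N410 (iv F1665)) (tt N328 F1295) (tt N267 F1296))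
theorem Q330 : ∀ i, i < 330 → P i := stepQ 329 Q329 (allL N329 (tt N329 F1297) (tt N425 (iv F1719)) (tt N329 F1298) (tt N329 F1299) (tt N411 (iv F1670)) (tt N245 F1300) (tt N429 D448) (tt N244 (iv D332)))
theorem Q331 : ∀ i, i < 331 → P i := stepQ 330 Q330 (allL N330 (tt N330 F1301) (tt N426 (iv F1722)) (tt N430 D449) (tt N330 F1302) (tt N246 F1303) (tt N429 (iv F1732)) (tt N245 (iv D333)) (tt N269 F1304))
theorem Q332 : ∀ i, i < 332 → P i := stepQ 331 Q331 (allL N331 (tt N331 F1305) (tt N431 D450) (tt N246 (iv D334)) (tt N331 F1306) (tt N430 (iv F1735)) (tt N413 (iv F1677)) (tt N331 F1307) (tt N270 F1308))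
theorem Q333 : ∀ i, i < 333 → P i := stepQ 332 Q332 (allL N332 (tt N248 F1309) (tt N332 F1310) (tt N432 D451) (tt N247 (iv D335)) (tt N433 D452) (tt N332 F1311) (tt N392 (iv F1604)) (tt N434 D453))
theorem Q334 : ∀ i, i < 334 → P i := stepQ 333 Q333 (allL N333 (tt N249 F1312) (tt N333 F1313) (tt N282 F1314) (tt N434 (iv F1749)) (tt N254 F1315) (tt N333 F1316) (tt N435 D454) (tt N247 (iv D336)))
theorem Q335 : ∀ i, i < 335 → P i := stepQ 334 Q334 (allL N334 (tt N432 (iv F1741)) (tt N334 F1317) (tt N248 (iv D337)) (tt N283 F1318) (tt N436 D455) (tt N334 F1319) (tt N437 D456) (tt N438 D457))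
theorem Q336 : ∀ i, i < 336 → P i := stepQ 335 Q335 (allL N335 (tt N433 (iv F1744)) (tt N250 F1320) (tt N436 (iv F1756)) (tt N255 F1321) (tt N248 (iv D338)) (tt N439 D458) (tt N395 (iv F1614)) (tt N440 D459))
theorem Q337 : ∀ i, i < 337 → P i := stepQ 336 Q336 (allL N336 (tt N434 (iv F1747)) (tt N251 F1322) (tt N438 (iv F1762)) (tt N249 F1323) (tt N440 (iv F1770)) (tt N336 F1324) (tt N441 D460) (tt N248 (iv D339)))
theorem Q338 : ∀ i, i < 338 → P i := stepQ 337 Q337 (allL N337 (tt N435 (iv F1751)) (tt N252 F1325) (tt N442 D461) (tt N441 (iv F1772)) (tt N257 F1326) (tt N337 F1327) (tt N249 (iv D340)) (tt N397 (iv F1621)))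
theorem Q339 : ∀ i, i < 339 → P i := stepQ 338 Q338 (allL N338 (tt N338 F1328) (tt N439 (iv F1765)) (tt N338 F1329) (tt N258 F1330) (tt N338 F1331) (tt N250 (iv D341)) (tt N398 (iv F1625)) (tt N443 D462))
theorem Q340 : ∀ i, i < 340 → P i := stepQ 339 Q339 (allL N339 (tt N339 F1332) (tt N440 (iv F1768)) (tt N339 F1333) (tt N259 F1334) (tt N251 F1335) (tt N443 (iv F1782)) (tt N444 D463) (tt N250 (iv D342)))
theorem Q341 : ∀ i, i < 341 → P i := stepQ 340 Q340 (allL N340 (tt N340 F1336) (tt N441 (iv F1771)) (tt N445 D464) (tt N252 F1337) (tt N444 (iv F1785)) (tt N340 F1338) (tt N251 (iv D343)) (tt N400 (iv F1632)))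
theorem Q342 : ∀ i, i < 342 → P i := stepQ 341 Q341 (allL N341 (tt N255 F1339) (tt N341 F1340) (tt N341 F1341) (tt N433 (iv F1746)) (tt N253 (iv D344)) (tt N446 D465) (tt N402 (iv F1639)) (tt N447 D466))
theorem Q343 : ∀ i, i < 343 → P i := stepQ 342 Q342 (allL N342 (tt N256 F1342) (tt N342 F1343) (tt N342 F1344) (tt N254 F1345) (tt N447 (iv F1797)) (tt N262 F1346) (tt N448 D467) (tt N253 (iv D345)))
theorem Q344 : ∀ i, i < 344 → P i := stepQ 343 Q343 (allL N343 (tt N257 F1347) (tt N343 F1348) (tt N449 D468) (tt N448 (iv F1800)) (tt N435 (iv F1753)) (tt N263 F1349) (tt N254 (iv D346)) (tt N404 (iv F1647)))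
theorem Q345 : ∀ i, i < 345 → P i := stepQ 344 Q344 (allL N344 (tt N446 (iv F1790)) (tt N258 F1350) (tt N344 F1351) (tt N439 (iv F1766)) (tt N264 F1352) (tt N255 (iv D347)) (tt N407 (iv F1657)) (tt N450 D469))
theorem Q346 : ∀ i, i < 346 → P i := stepQ 345 Q345 (allL N345 (tt N447 (iv F1794)) (tt N259 F1353) (tt N345 F1354) (tt N440 (iv F1769)) (tt N256 F1355) (tt N450 (iv F1808)) (tt N451 D470) (tt N255 (iv D348)))
theorem Q347 : ∀ i, i < 347 → P i := stepQ 346 Q346 (allL N346 (tt N448 (iv F1798)) (tt N260 F1356) (tt N452 D471) (tt N257 F1357) (tt N451 (iv F1810)) (tt N266 F1358) (tt N256 (iv D349)) (tt N409 (iv F1663)))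
theorem Q348 : ∀ i, i < 348 → P i := stepQ 347 Q347 (allL N347 (tt N449 (iv F1802)) (tt N347 F1359) (tt N257 (iv D350)) (tt N453 D472) (tt N442 (iv F1775)) (tt N267 F1360) (tt N288 F1361) (tt N410 (iv F1667)))
theorem Q349 : ∀ i, i < 349 → P i := stepQ 348 Q348 (allL N348 (tt N348 F1362) (tt N450 (iv F1805)) (tt N271 F1363) (tt N443 (iv F1780)) (tt N268 F1364) (tt N259 F1365) (tt N454 D473) (tt N258 (iv D351)))
theorem Q350 : ∀ i, i < 350 → P i := stepQ 349 Q349 (allL N349 (tt N349 F1366) (tt N451 (iv F1809)) (tt N455 D474) (tt N444 (iv F1784)) (tt N260 F1367) (tt N454 (iv F1818)) (tt N259 (iv D352)) (tt N412 (iv F1674)))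
theorem Q351 : ∀ i, i < 351 → P i := stepQ 350 Q350 (allL N350 (tt N350 F1368) (tt N456 D475) (tt N260 (iv D353)) (tt N350 F1369) (tt N455 (iv F1820)) (tt N270 F1370) (tt N273 F1371) (tt N413 (iv F1679)))
theorem Q352 : ∀ i, i < 352 → P i := stepQ 351 Q351 (allL N351 (tt N264 F1372) (tt N351 F1373) (tt N351 F1374) (tt N351 F1375) (tt N446 (iv F1793)) (tt N261 (iv D354)) (tt N417 (iv F1693)) (tt N457 D476))
theorem Q353 : ∀ i, i < 353 → P i := stepQ 352 Q352 (allL N352 (tt N265 F1376) (tt N352 F1377) (tt N352 F1378) (tt N352 F1379) (tt N262 F1380) (tt N457 (iv F1829)) (tt N458 D477) (tt N261 (iv D355)))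
theorem Q354 : ∀ i, i < 354 → P i := stepQ 353 Q353 (allL N353 (tt N266 F1381) (tt N353 F1382) (tt N459 D478) (tt N263 F1383) (tt N458 (iv F1833)) (tt N448 (iv F1801)) (tt N262 (iv D356)) (tt N419 (iv F1701)))
theorem Q355 : ∀ i, i < 355 → P i := stepQ 354 Q354 (allL N354 (tt N267 F1384) (tt N460 D479) (tt N263 (iv D357)) (tt N461 D480) (tt N354 F1385) (tt N449 (iv F1803)) (tt N289 F1386) (tt N420 (iv F1705)))
theorem Q356 : ∀ i, i < 356 → P i := stepQ 355 Q355 (allL N355 (tt N457 (iv F1825)) (tt N268 F1387) (tt N355 F1388) (tt N355 F1389) (tt N450 (iv F1807)) (tt N265 F1390) (tt N462 D481) (tt N264 (iv D358)))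
theorem Q357 : ∀ i, i < 357 → P i := stepQ 356 Q356 (allL N356 (tt N458 (iv F1830)) (tt N269 F1391) (tt N463 D482) (tt N356 F1392) (tt N266 F1393) (tt N462 (iv F1844)) (tt N265 (iv D359)) (tt N426 (iv F1725)))
theorem Q358 : ∀ i, i < 358 → P i := stepQ 357 Q357 (allL N357 (tt N459 (iv F1834)) (tt N464 D483) (tt N266 (iv D360)) (tt N465 D484) (tt N463 (iv F1845)) (tt N452 (iv F1811)) (tt N357 F1394) (tt N427 (iv F1726)))
theorem Q359 : ∀ i, i < 359 → P i := stepQ 358 Q358 (allL N358 (tt N461 (iv F1840)) (tt N358 F1395) (tt N465 (iv F1849)) (tt N267 (iv D361)) (tt N466 D485) (tt N453 (iv F1814)) (tt N290 F1396) (tt N428 (iv F1729)))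
theorem Q360 : ∀ i, i < 360 → P i := stepQ 359 Q359 (allL N359 (tt N359 F1397) (tt N462 (iv F1842)) (tt N467 D486) (tt N359 F1398) (tt N454 (iv F1817)) (tt N269 F1399) (tt N268 (iv D362)) (tt N429 (iv F1733)))
theorem Q361 : ∀ i, i < 361 → P i := stepQ 360 Q360 (allL N360 (tt N360 F1400) (tt N461 F55769) (tt N269 (iv D363)) (tt N460 (iv F55915)) (tt N270 F1401) (tt N467 (iv F1855)) (tt N275 F1402) (tt N430 (iv F1737)))
theorem Q362 : ∀ i, i < 362 → P i := stepQ 361 Q361 (allL N361 (tt N466 (iv F55661)) (tt N270 (iv D364)) (tt N464 (iv F1847)) (tt N361 F1403) (tt N461 (iv F55648)) (tt N456 (iv F1823)) (tt N276 F1404) (tt N431 (iv F1740)))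
theorem Q363 : ∀ i, i < 363 → P i := stepQ 362 Q362 (allL N362 (tt N362 F1405) (tt N362 F1406) (tt N468 D490) (tt N362 F1407) (tt N274 F1408) (tt N272 F1409) (tt N271 (iv D365)) (tt N362 F1410))
theorem Q364 : ∀ i, i < 364 → P i := stepQ 363 Q363 (allL N363 (tt N363 F1411) (tt N469 D491) (tt N272 (iv D366)) (tt N470 D492) (tt N273 F1412) (tt N468 (iv F1868)) (tt N455 (iv F1821)) (tt N363 F1413))
theorem Q365 : ∀ i, i < 365 → P i := stepQ 364 Q364 (allL N364 (tt N471 D493) (tt N273 (iv D367)) (tt N364 F1414) (tt N364 F1415) (tt N469 (iv F1871)) (tt N276 F1416) (tt N456 (iv F1824)) (tt N364 F1417))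
theorem Q366 : ∀ i, i < 366 → P i := stepQ 365 Q365 (allL N365 (tt N365 F1418) (tt N472 D494) (tt N274 (iv D368)) (tt N473 D495) (tt N468 (iv F1867)) (tt N275 F1419) (tt N467 (iv F1856)) (tt N365 F1420))
theorem Q367 : ∀ i, i < 367 → P i := stepQ 366 Q366 (allL N366 (tt N290 (iv F55913)) (tt N275 (iv D369)) (tt N366 F1421) (tt N289 (iv F55916)) (tt N276 F1422) (tt N472 (iv F1883)) (tt N461 F55770) (tt N366 F1423))
theorem Q368 : ∀ i, i < 368 → P i := stepQ 367 Q367 (allL N367 (tt N367 F1424) (tt N289 F55999) (tt N279 F1425) (tt N275 (iv D370)) (tt N367 F1426) (tt N473 (iv F1887)) (tt N460 F56000) (tt N367 F1427))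
theorem Q369 : ∀ i, i < 369 → P i := stepQ 368 Q368 (allL N368 (tt N276 (iv D371)) (tt N368 F1428) (tt N368 F1429) (tt N368 F1430) (tt N290 (iv F55914)) (tt N471 (iv F1880)) (tt N466 F55792) (tt N368 F1431))
theorem Q370 : ∀ i, i < 370 → P i := stepQ 369 Q369 (allL N369 (tt N300 F56603) (tt N277 (iv D372)) (tt N369 F1432) (tt N299 F56604) (tt N369 F1433) (tt N278 F1434) (tt N369 F1435) (tt N369 F1436))
theorem Q371 : ∀ i, i < 371 → P i := stepQ 370 Q370 (allL N370 (tt N370 F1437) (tt N299 (iv F56444)) (tt N473 (iv F1886)) (tt N277 (iv D373)) (tt N474 D500) (tt N279 F1438) (tt N370 F1439) (tt N370 F1440))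
theorem Q372 : ∀ i, i < 372 → P i := stepQ 371 Q371 (allL N371 (tt N283 F1450) (tt N475 D503) (tt N281 (iv D376)) (tt N432 (iv F1742)) (tt N371 F1451) (tt N371 F1452) (tt N476 D504) (tt N477 D505))
theorem Q373 : ∀ i, i < 373 → P i := stepQ 372 Q372 (allL N372 (tt N284 F1453) (tt N292 F1454) (tt N477 (iv F1928)) (tt N282 F1455) (tt N372 F1456) (tt N372 F1457) (tt N478 D506) (tt N281 (iv D377)))
theorem Q374 : ∀ i, i < 374 → P i := stepQ 373 Q373 (allL N373 (tt N285 F1458) (tt N293 F1459) (tt N479 D507) (tt N478 (iv F1933)) (tt N287 F1460) (tt N373 F1461) (tt N282 (iv D378)) (tt N373 F1462))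
theorem Q375 : ∀ i, i < 375 → P i := stepQ 374 Q374 (allL N374 (tt N476 (iv F1923)) (tt N374 F1463) (tt N374 F1464) (tt N437 (iv F1759)) (tt N374 F1465) (tt N374 F1466) (tt N283 (iv D379)) (tt N480 D508))
theorem Q376 : ∀ i, i < 376 → P i := stepQ 375 Q375 (allL N375 (tt N477 (iv F1927)) (tt N375 F1467) (tt N284 F1468) (tt N438 (iv F1763)) (tt N375 F1469) (tt N375 F1470) (tt N481 D509) (tt N283 (iv D380)))
theorem Q377 : ∀ i, i < 377 → P i := stepQ 376 Q376 (allL N376 (tt N478 (iv F1931)) (tt N286 F1471) (tt N482 D510) (tt N285 F1472) (tt N376 F1473) (tt N376 F1474) (tt N284 (iv D381)) (tt N376 F1475))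
theorem Q378 : ∀ i, i < 378 → P i := stepQ 377 Q377 (allL N377 (tt N479 (iv F1937)) (tt N377 F1476) (tt N285 (iv D382)) (tt N483 D511) (tt N288 F1477) (tt N377 F1478) (tt N442 (iv F1777)) (tt N377 F1479))
theorem Q379 : ∀ i, i < 379 → P i := stepQ 378 Q378 (allL N378 (tt N298 F1480) (tt N484 D512) (tt N286 (iv D383)) (tt N378 F1481) (tt N378 F1482) (tt N378 F1483) (tt N378 F1484) (tt N378 F1485))
theorem Q380 : ∀ i, i < 380 → P i := stepQ 379 Q379 (allL N379 (tt N288 F1486) (tt N473 (iv F56147)) (tt N287 (iv D384)) (tt N472 F56050) (tt N479 (iv F1938)) (tt N289 F1487) (tt N449 (iv F1804)) (tt N379 F1488))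
theorem Q381 : ∀ i, i < 381 → P i := stepQ 380 Q380 (allL N380 (tt N472 F56046) (tt N380 F1489) (tt N380 F1490) (tt N288 (iv D385)) (tt N485 D515) (tt N290 F1491) (tt N453 (iv F1815)) (tt N380 F1492))
theorem Q382 : ∀ i, i < 382 → P i := stepQ 381 Q381 (allL N381 (tt N381 F1504) (tt N291 (iv D389)) (tt N475 (iv F1920)) (tt N381 F1505) (tt N381 F1506) (tt N381 F1507) (tt N486 D519) (tt N487 D520))
theorem Q383 : ∀ i, i < 383 → P i := stepQ 382 Q382 (allL N382 (tt N294 F1508) (tt N486 (iv F1982)) (tt N382 F1509) (tt N382 F1510) (tt N382 F1511) (tt N382 F1512) (tt N291 (iv D390)) (tt N382 F56793))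
theorem Q384 : ∀ i, i < 384 → P i := stepQ 383 Q383 (allL N383 (tt N295 F1513) (tt N487 (iv F1987)) (tt N292 F1514) (tt N383 F1515) (tt N383 F1516) (tt N383 F1517) (tt N383 F57084) (tt N291 (iv D391)))
theorem Q385 : ∀ i, i < 385 → P i := stepQ 384 Q384 (allL N384 (tt N296 F1518) (tt N478 (iv F1932)) (tt N384 F56756) (tt N293 F1519) (tt N384 F1520) (tt N384 F1521) (tt N292 (iv D392)) (tt N384 F1522))
theorem Q386 : ∀ i, i < 386 → P i := stepQ 385 Q385 (allL N385 (tt N297 F1523) (tt N474 F56605) (tt N293 (iv D393)) (tt N385 F56755) (tt N299 F1524) (tt N385 F1525) (tt N385 F1526) (tt N385 F1527))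
theorem Q387 : ∀ i, i < 387 → P i := stepQ 386 Q386 (allL N386 (tt N301 (iv D405)) (tt N386 F1576) (tt N386 F1577) (tt N488 D538) (tt N386 F1578) (tt N386 F1579) (tt N386 F1580) (tt N489 D539))
theorem Q388 : ∀ i, i < 388 → P i := stepQ 387 Q387 (allL N387 (tt N488 (iv F2064)) (tt N302 F1581) (tt N490 D540) (tt N301 (iv D406)) (tt N491 D541) (tt N387 F1582) (tt N387 F1583) (tt N492 D542))
theorem Q389 : ∀ i, i < 389 → P i := stepQ 388 Q388 (allL N388 (tt N489 (iv F2068)) (tt N303 F1584) (tt N388 F1585) (tt N492 (iv F2080)) (tt N388 F1586) (tt N388 F1587) (tt N493 D543) (tt N301 (iv D407)))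
theorem Q390 : ∀ i, i < 390 → P i := stepQ 389 Q389 (allL N389 (tt N389 F1588) (tt N491 (iv F2076)) (tt N307 F1589) (tt N389 F1590) (tt N302 (iv D408)) (tt N494 D544) (tt N389 F1591) (tt N495 D545))
theorem Q391 : ∀ i, i < 391 → P i := stepQ 390 Q390 (allL N390 (tt N390 F1592) (tt N492 (iv F2079)) (tt N308 F1593) (tt N303 F1594) (tt N495 (iv F2094)) (tt N390 F1595) (tt N496 D546) (tt N302 (iv D409)))
theorem Q392 : ∀ i, i < 392 → P i := stepQ 391 Q391 (allL N391 (tt N391 F1596) (tt N493 (iv F2082)) (tt N391 F1597) (tt N496 (iv F2096)) (tt N391 F1598) (tt N391 F1599) (tt N303 (iv D410)) (tt N391 F1600))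
theorem Q393 : ∀ i, i < 393 → P i := stepQ 392 Q392 (allL N392 (tt N305 F1601) (tt N392 F1602) (tt N497 D547) (tt N304 (iv D411)) (tt N498 D548) (tt N392 F1603) (tt N332 F1604) (tt N499 D549))
theorem Q394 : ∀ i, i < 394 → P i := stepQ 393 Q393 (allL N393 (tt N306 F1605) (tt N393 F1606) (tt N393 F1607) (tt N499 (iv F2108)) (tt N311 F1608) (tt N393 F1609) (tt N500 D550) (tt N304 (iv D412)))
theorem Q395 : ∀ i, i < 395 → P i := stepQ 394 Q394 (allL N394 (tt N497 (iv F2099)) (tt N490 (iv F2073)) (tt N305 (iv D413)) (tt N394 F1610) (tt N501 D551) (tt N394 F1611) (tt N502 D552) (tt N503 D553))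
theorem Q396 : ∀ i, i < 396 → P i := stepQ 395 Q395 (allL N395 (tt N498 (iv F2102)) (tt N307 F1612) (tt N501 (iv F2115)) (tt N313 F1613) (tt N305 (iv D414)) (tt N504 D554) (tt N335 F1614) (tt N505 D555))
theorem Q397 : ∀ i, i < 397 → P i := stepQ 396 Q396 (allL N396 (tt N499 (iv F2106)) (tt N308 F1615) (tt N503 (iv F2119)) (tt N306 F1616) (tt N505 (iv F2128)) (tt N396 F1617) (tt N506 D556) (tt N305 (iv D415)))
theorem Q398 : ∀ i, i < 398 → P i := stepQ 397 Q397 (allL N397 (tt N500 (iv F2110)) (tt N309 F1618) (tt N507 D557) (tt N506 (iv F2130)) (tt N315 F1619) (tt N397 F1620) (tt N306 (iv D416)) (tt N337 F1621))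
theorem Q399 : ∀ i, i < 399 → P i := stepQ 398 Q398 (allL N398 (tt N398 F1622) (tt N504 (iv F2122)) (tt N494 (iv F2087)) (tt N316 F1623) (tt N398 F1624) (tt N307 (iv D417)) (tt N338 F1625) (tt N508 D558))
theorem Q400 : ∀ i, i < 400 → P i := stepQ 399 Q399 (allL N399 (tt N399 F1626) (tt N505 (iv F2126)) (tt N495 (iv F2092)) (tt N317 F1627) (tt N308 F1628) (tt N508 (iv F2141)) (tt N509 D559) (tt N307 (iv D418)))
theorem Q401 : ∀ i, i < 401 → P i := stepQ 400 Q400 (allL N400 (tt N400 F1629) (tt N506 (iv F2129)) (tt N510 D560) (tt N309 F1630) (tt N509 (iv F2144)) (tt N400 F1631) (tt N308 (iv D419)) (tt N340 F1632))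
theorem Q402 : ∀ i, i < 402 → P i := stepQ 401 Q401 (allL N401 (tt N312 F1633) (tt N511 D561) (tt N310 (iv D420)) (tt N401 F1634) (tt N512 D562) (tt N319 F1635) (tt N401 F1636) (tt N513 D563))
theorem Q403 : ∀ i, i < 403 → P i := stepQ 402 Q402 (allL N402 (tt N313 F1637) (tt N402 F1638) (tt N512 (iv F2156)) (tt N498 (iv F2104)) (tt N310 (iv D421)) (tt N514 D564) (tt N341 F1639) (tt N515 D565))
theorem Q404 : ∀ i, i < 404 → P i := stepQ 403 Q403 (allL N403 (tt N314 F1640) (tt N403 F1641) (tt N513 (iv F2159)) (tt N311 F1642) (tt N515 (iv F2168)) (tt N321 F1643) (tt N516 D566) (tt N310 (iv D422)))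
theorem Q405 : ∀ i, i < 405 → P i := stepQ 404 Q404 (allL N404 (tt N315 F1644) (tt N404 F1645) (tt N517 D567) (tt N516 (iv F2171)) (tt N500 (iv F2112)) (tt N322 F1646) (tt N311 (iv D423)) (tt N343 F1647))
theorem Q406 : ∀ i, i < 406 → P i := stepQ 405 Q405 (allL N405 (tt N512 (iv F2155)) (tt N405 F1648) (tt N313 F1649) (tt N518 D568) (tt N312 (iv D424)) (tt N519 D569) (tt N405 F1650) (tt N520 D570))
theorem Q407 : ∀ i, i < 407 → P i := stepQ 406 Q406 (allL N406 (tt N513 (iv F2158)) (tt N406 F1651) (tt N314 F1652) (tt N406 F1653) (tt N520 (iv F2187)) (tt N324 F1654) (tt N521 D571) (tt N312 (iv D425)))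
theorem Q408 : ∀ i, i < 408 → P i := stepQ 407 Q407 (allL N407 (tt N514 (iv F2162)) (tt N316 F1655) (tt N519 (iv F2182)) (tt N504 (iv F2123)) (tt N325 F1656) (tt N313 (iv D426)) (tt N344 F1657) (tt N522 D572))
theorem Q409 : ∀ i, i < 409 → P i := stepQ 408 Q408 (allL N408 (tt N515 (iv F2166)) (tt N317 F1658) (tt N520 (iv F2186)) (tt N505 (iv F2127)) (tt N314 F1659) (tt N522 (iv F2194)) (tt N523 D573) (tt N313 (iv D427)))
theorem Q410 : ∀ i, i < 410 → P i := stepQ 409 Q409 (allL N409 (tt N516 (iv F2169)) (tt N318 F1660) (tt N524 D574) (tt N315 F1661) (tt N523 (iv F2196)) (tt N327 F1662) (tt N314 (iv D428)) (tt N346 F1663))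
theorem Q411 : ∀ i, i < 411 → P i := stepQ 410 Q410 (allL N410 (tt N517 (iv F2174)) (tt N410 F1664) (tt N315 (iv D429)) (tt N525 D575) (tt N507 (iv F2134)) (tt N328 F1665) (tt N410 F1666) (tt N347 F1667))
theorem Q412 : ∀ i, i < 412 → P i := stepQ 411 Q411 (allL N411 (tt N411 F1668) (tt N522 (iv F2192)) (tt N411 F1669) (tt N508 (iv F2139)) (tt N329 F1670) (tt N317 F1671) (tt N526 D576) (tt N316 (iv D430)))
theorem Q413 : ∀ i, i < 413 → P i := stepQ 412 Q412 (allL N412 (tt N412 F1672) (tt N523 (iv F2195)) (tt N527 D577) (tt N509 (iv F2143)) (tt N318 F1673) (tt N526 (iv F2206)) (tt N317 (iv D431)) (tt N349 F1674))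
theorem Q414 : ∀ i, i < 414 → P i := stepQ 413 Q413 (allL N413 (tt N413 F1675) (tt N528 D578) (tt N318 (iv D432)) (tt N413 F1676) (tt N527 (iv F2209)) (tt N331 F1677) (tt N413 F1678) (tt N350 F1679))
theorem Q415 : ∀ i, i < 415 → P i := stepQ 414 Q414 (allL N414 (tt N414 F1680) (tt N319 (iv D433)) (tt N414 F1681) (tt N414 F1682) (tt N529 D579) (tt N511 (iv F2153)) (tt N414 F1683) (tt N530 D580))
theorem Q416 : ∀ i, i < 416 → P i := stepQ 415 Q415 (allL N415 (tt N323 F1684) (tt N529 (iv F2217)) (tt N320 F1685) (tt N531 D581) (tt N319 (iv D434)) (tt N532 D582) (tt N415 F1686) (tt N533 D583))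
theorem Q417 : ∀ i, i < 417 → P i := stepQ 416 Q416 (allL N416 (tt N324 F1687) (tt N530 (iv F2221)) (tt N321 F1688) (tt N416 F1689) (tt N533 (iv F2233)) (tt N513 (iv F2161)) (tt N534 D584) (tt N319 (iv D435)))
theorem Q418 : ∀ i, i < 418 → P i := stepQ 417 Q417 (allL N417 (tt N325 F1690) (tt N417 F1691) (tt N532 (iv F2229)) (tt N417 F1692) (tt N514 (iv F2164)) (tt N320 (iv D436)) (tt N351 F1693) (tt N535 D585))
theorem Q419 : ∀ i, i < 419 → P i := stepQ 418 Q418 (allL N418 (tt N326 F1694) (tt N418 F1695) (tt N533 (iv F2232)) (tt N418 F1696) (tt N321 F1697) (tt N535 (iv F2240)) (tt N536 D586) (tt N320 (iv D437)))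
theorem Q420 : ∀ i, i < 420 → P i := stepQ 419 Q419 (allL N419 (tt N327 F1698) (tt N419 F1699) (tt N537 D587) (tt N322 F1700) (tt N536 (iv F2244)) (tt N516 (iv F2172)) (tt N321 (iv D438)) (tt N353 F1701))
theorem Q421 : ∀ i, i < 421 → P i := stepQ 420 Q420 (allL N420 (tt N328 F1702) (tt N538 D588) (tt N322 (iv D439)) (tt N539 D589) (tt N420 F1703) (tt N517 (iv F2175)) (tt N420 F1704) (tt N354 F1705))
theorem Q422 : ∀ i, i < 422 → P i := stepQ 421 Q421 (allL N421 (tt N531 (iv F2224)) (tt N421 F1706) (tt N421 F1707) (tt N323 (iv D440)) (tt N421 F1708) (tt N540 D590) (tt N421 F1709) (tt N541 D591))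
theorem Q423 : ∀ i, i < 423 → P i := stepQ 422 Q422 (allL N422 (tt N532 (iv F2228)) (tt N422 F1710) (tt N325 F1711) (tt N540 (iv F2258)) (tt N519 (iv F2183)) (tt N323 (iv D441)) (tt N422 F1712) (tt N542 D592))
theorem Q424 : ∀ i, i < 424 → P i := stepQ 423 Q423 (allL N423 (tt N533 (iv F2231)) (tt N423 F1713) (tt N326 F1714) (tt N541 (iv F2262)) (tt N324 F1715) (tt N542 (iv F2266)) (tt N543 D593) (tt N323 (iv D442)))
theorem Q425 : ∀ i, i < 425 → P i := stepQ 424 Q424 (allL N424 (tt N534 (iv F2234)) (tt N424 F1716) (tt N544 D594) (tt N424 F1717) (tt N543 (iv F2268)) (tt N521 (iv F2190)) (tt N324 (iv D443)) (tt N424 F1718))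
theorem Q426 : ∀ i, i < 426 → P i := stepQ 425 Q425 (allL N425 (tt N535 (iv F2237)) (tt N329 F1719) (tt N542 (iv F2265)) (tt N425 F1720) (tt N522 (iv F2193)) (tt N326 F1721) (tt N545 D595) (tt N325 (iv D444)))
theorem Q427 : ∀ i, i < 427 → P i := stepQ 426 Q426 (allL N426 (tt N536 (iv F2241)) (tt N330 F1722) (tt N546 D596) (tt N426 F1723) (tt N327 F1724) (tt N545 (iv F2274)) (tt N326 (iv D445)) (tt N356 F1725))
theorem Q428 : ∀ i, i < 428 → P i := stepQ 427 Q427 (allL N427 (tt N537 (iv F2246)) (tt N547 D597) (tt N327 (iv D446)) (tt N548 D598) (tt N546 (iv F2276)) (tt N524 (iv F2198)) (tt N544 (iv F2270)) (tt N357 F1726))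
theorem Q429 : ∀ i, i < 429 → P i := stepQ 428 Q428 (allL N428 (tt N539 (iv F2253)) (tt N428 F1727) (tt N548 (iv F2280)) (tt N328 (iv D447)) (tt N549 D599) (tt N525 (iv F2201)) (tt N428 F1728) (tt N358 F1729))
theorem Q430 : ∀ i, i < 430 → P i := stepQ 429 Q429 (allL N429 (tt N429 F1730) (tt N545 (iv F2272)) (tt N550 D600) (tt N429 F1731) (tt N526 (iv F2205)) (tt N330 F1732) (tt N329 (iv D448)) (tt N359 F1733))
theorem Q431 : ∀ i, i < 431 → P i := stepQ 430 Q430 (allL N430 (tt N430 F1734) (tt N539 F55647) (tt N330 (iv D449)) (tt N538 (iv F55771)) (tt N331 F1735) (tt N550 (iv F2287)) (tt N430 F1736) (tt N360 F1737))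
theorem Q432 : ∀ i, i < 432 → P i := stepQ 431 Q431 (allL N431 (tt N549 F55635) (tt N331 (iv D450)) (tt N547 (iv F2278)) (tt N431 F1738) (tt N539 F55636) (tt N528 (iv F2213)) (tt N431 F1739) (tt N361 F1740))
theorem Q433 : ∀ i, i < 433 → P i := stepQ 432 Q432 (allL N432 (tt N334 F1741) (tt N551 D604) (tt N332 (iv D451)) (tt N371 F1742) (tt N552 D605) (tt N432 F1743) (tt N553 D606) (tt N554 D607))
theorem Q434 : ∀ i, i < 434 → P i := stepQ 433 Q433 (allL N433 (tt N335 F1744) (tt N433 F1745) (tt N552 (iv F2307)) (tt N341 F1746) (tt N332 (iv D452)) (tt N555 D608) (tt N498 (iv F2105)) (tt N556 D609))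
theorem Q435 : ∀ i, i < 435 → P i := stepQ 434 Q434 (allL N434 (tt N336 F1747) (tt N434 F1748) (tt N554 (iv F2313)) (tt N333 F1749) (tt N556 (iv F2323)) (tt N434 F1750) (tt N557 D610) (tt N332 (iv D453)))
theorem Q436 : ∀ i, i < 436 → P i := stepQ 435 Q435 (allL N435 (tt N337 F1751) (tt N435 F1752) (tt N558 D611) (tt N557 (iv F2326)) (tt N343 F1753) (tt N435 F1754) (tt N333 (iv D454)) (tt N500 (iv F2114)))
theorem Q437 : ∀ i, i < 437 → P i := stepQ 436 Q436 (allL N436 (tt N552 (iv F2306)) (tt N436 F1755) (tt N335 F1756) (tt N436 F1757) (tt N334 (iv D455)) (tt N559 D612) (tt N560 D613) (tt N561 D614))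
theorem Q438 : ∀ i, i < 438 → P i := stepQ 437 Q437 (allL N437 (tt N553 (iv F2309)) (tt N437 F1758) (tt N502 (iv F2116)) (tt N374 F1759) (tt N560 (iv F2338)) (tt N437 F1760) (tt N334 (iv D456)) (tt N562 D615))
theorem Q439 : ∀ i, i < 439 → P i := stepQ 438 Q438 (allL N438 (tt N554 (iv F2312)) (tt N438 F1761) (tt N336 F1762) (tt N375 F1763) (tt N561 (iv F2342)) (tt N438 F1764) (tt N563 D616) (tt N334 (iv D457)))
theorem Q440 : ∀ i, i < 440 → P i := stepQ 439 Q439 (allL N439 (tt N555 (iv F2316)) (tt N338 F1765) (tt N559 (iv F2333)) (tt N344 F1766) (tt N439 F1767) (tt N335 (iv D458)) (tt N504 (iv F2125)) (tt N564 D617))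
theorem Q441 : ∀ i, i < 441 → P i := stepQ 440 Q440 (allL N440 (tt N556 (iv F2320)) (tt N339 F1768) (tt N561 (iv F2340)) (tt N345 F1769) (tt N336 F1770) (tt N564 (iv F2352)) (tt N565 D618) (tt N335 (iv D459)))
theorem Q442 : ∀ i, i < 442 → P i := stepQ 441 Q441 (allL N441 (tt N557 (iv F2324)) (tt N340 F1771) (tt N566 D619) (tt N337 F1772) (tt N565 (iv F2355)) (tt N441 F1773) (tt N336 (iv D460)) (tt N506 (iv F2132)))
theorem Q443 : ∀ i, i < 443 → P i := stepQ 442 Q442 (allL N442 (tt N558 (iv F2328)) (tt N442 F1774) (tt N337 (iv D461)) (tt N567 D620) (tt N347 F1775) (tt N442 F1776) (tt N377 F1777) (tt N507 (iv F2137)))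
theorem Q444 : ∀ i, i < 444 → P i := stepQ 443 Q443 (allL N443 (tt N443 F1778) (tt N564 (iv F2349)) (tt N443 F1779) (tt N348 F1780) (tt N443 F1781) (tt N339 F1782) (tt N568 D621) (tt N338 (iv D462)))
theorem Q445 : ∀ i, i < 445 → P i := stepQ 444 Q444 (allL N444 (tt N444 F1783) (tt N565 (iv F2353)) (tt N569 D622) (tt N349 F1784) (tt N340 F1785) (tt N568 (iv F2363)) (tt N339 (iv D463)) (tt N509 (iv F2145)))
theorem Q446 : ∀ i, i < 446 → P i := stepQ 445 Q445 (allL N445 (tt N445 F1786) (tt N570 D623) (tt N340 (iv D464)) (tt N445 F1787) (tt N569 (iv F2365)) (tt N445 F1788) (tt N445 F1789) (tt N510 (iv F2149)))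
theorem Q447 : ∀ i, i < 447 → P i := stepQ 446 Q446 (allL N446 (tt N344 F1790) (tt N446 F1791) (tt N446 F1792) (tt N555 (iv F2318)) (tt N351 F1793) (tt N341 (iv D465)) (tt N514 (iv F2165)) (tt N571 D624))
theorem Q448 : ∀ i, i < 448 → P i := stepQ 447 Q447 (allL N447 (tt N345 F1794) (tt N447 F1795) (tt N447 F1796) (tt N556 (iv F2322)) (tt N342 F1797) (tt N571 (iv F2374)) (tt N572 D625) (tt N341 (iv D466)))
theorem Q449 : ∀ i, i < 449 → P i := stepQ 448 Q448 (allL N448 (tt N346 F1798) (tt N448 F1799) (tt N573 D626) (tt N343 F1800) (tt N572 (iv F2377)) (tt N353 F1801) (tt N342 (iv D467)) (tt N516 (iv F2173)))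
theorem Q450 : ∀ i, i < 450 → P i := stepQ 449 Q449 (allL N449 (tt N347 F1802) (tt N574 D627) (tt N343 (iv D468)) (tt N575 D628) (tt N558 (iv F2329)) (tt N354 F1803) (tt N379 F1804) (tt N517 (iv F2177)))
theorem Q451 : ∀ i, i < 451 → P i := stepQ 450 Q450 (allL N450 (tt N571 (iv F2370)) (tt N348 F1805) (tt N450 F1806) (tt N564 (iv F2350)) (tt N355 F1807) (tt N345 F1808) (tt N576 D629) (tt N344 (iv D469)))
theorem Q452 : ∀ i, i < 452 → P i := stepQ 451 Q451 (allL N451 (tt N572 (iv F2375)) (tt N349 F1809) (tt N577 D630) (tt N565 (iv F2354)) (tt N346 F1810) (tt N576 (iv F2390)) (tt N345 (iv D470)) (tt N523 (iv F2197)))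
theorem Q453 : ∀ i, i < 453 → P i := stepQ 452 Q452 (allL N452 (tt N573 (iv F2378)) (tt N578 D631) (tt N346 (iv D471)) (tt N579 D632) (tt N577 (iv F2391)) (tt N357 F1811) (tt N452 F1812) (tt N524 (iv F2199)))
theorem Q454 : ∀ i, i < 454 → P i := stepQ 453 Q453 (allL N453 (tt N575 (iv F2385)) (tt N453 F1813) (tt N579 (iv F2396)) (tt N347 (iv D472)) (tt N580 D633) (tt N358 F1814) (tt N380 F1815) (tt N525 (iv F2203)))
theorem Q455 : ∀ i, i < 455 → P i := stepQ 454 Q454 (allL N454 (tt N454 F1816) (tt N576 (iv F2388)) (tt N581 D634) (tt N568 (iv F2361)) (tt N359 F1817) (tt N349 F1818) (tt N348 (iv D473)) (tt N526 (iv F2207)))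
theorem Q456 : ∀ i, i < 456 → P i := stepQ 455 Q455 (allL N455 (tt N455 F1819) (tt N582 D635) (tt N349 (iv D474)) (tt N583 D636) (tt N350 F1820) (tt N581 (iv F2403)) (tt N363 F1821) (tt N527 (iv F2211)))
theorem Q457 : ∀ i, i < 457 → P i := stepQ 456 Q456 (allL N456 (tt N584 D637) (tt N350 (iv D475)) (tt N578 (iv F2393)) (tt N456 F1822) (tt N582 (iv F2405)) (tt N361 F1823) (tt N364 F1824) (tt N528 (iv F2215)))
theorem Q458 : ∀ i, i < 458 → P i := stepQ 457 Q457 (allL N457 (tt N355 F1825) (tt N457 F1826) (tt N457 F1827) (tt N457 F1828) (tt N571 (iv F2373)) (tt N352 F1829) (tt N585 D638) (tt N351 (iv D476)))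
theorem Q459 : ∀ i, i < 459 → P i := stepQ 458 Q458 (allL N458 (tt N356 F1830) (tt N458 F1831) (tt N586 D639) (tt N458 F1832) (tt N353 F1833) (tt N585 (iv F2417)) (tt N352 (iv D477)) (tt N536 (iv F2245)))
theorem Q460 : ∀ i, i < 460 → P i := stepQ 459 Q459 (allL N459 (tt N357 F1834) (tt N587 D640) (tt N353 (iv D478)) (tt N588 D641) (tt N586 (iv F2419)) (tt N573 (iv F2379)) (tt N459 F1835) (tt N537 (iv F2247)))
theorem Q461 : ∀ i, i < 461 → P i := stepQ 460 Q460 (allL N460 (tt N460 F1836) (tt N354 (iv D479)) (tt N460 F1837) (tt N360 F55915) (tt N460 F1838) (tt N574 (iv F2383)) (tt N367 (iv F56000)) (tt N538 (iv F2252)))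
theorem Q462 : ∀ i, i < 462 → P i := stepQ 461 Q461 (allL N461 (tt N358 F1840) (tt N360 (iv F55769)) (tt N588 (iv F2424)) (tt N354 (iv D480)) (tt N361 F55648) (tt N575 (iv F2386)) (tt N366 (iv F55770)) (tt N539 (iv F2255)))
theorem Q463 : ∀ i, i < 463 → P i := stepQ 462 Q462 (allL N462 (tt N585 (iv F2414)) (tt N359 F1842) (tt N589 D644) (tt N462 F1843) (tt N576 (iv F2389)) (tt N356 F1844) (tt N355 (iv D481)) (tt N545 (iv F2275)))
theorem Q464 : ∀ i, i < 464 → P i := stepQ 463 Q463 (allL N463 (tt N586 (iv F2418)) (tt N588 F55657) (tt N356 (iv D482)) (tt N587 (iv F55790)) (tt N357 F1845) (tt N589 (iv F2432)) (tt N463 F1846) (tt N546 (iv F2277)))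
theorem Q465 : ∀ i, i < 465 → P i := stepQ 464 Q464 (allL N464 (tt N590 D647) (tt N357 (iv D483)) (tt N361 F1847) (tt N591 D648) (tt N588 F55660) (tt N578 (iv F2394)) (tt N464 F1848) (tt N547 (iv F2279)))
theorem Q466 : ∀ i, i < 466 → P i := stepQ 465 Q465 (allL N465 (tt N588 (iv F2423)) (tt N591 (iv F2441)) (tt N358 F1849) (tt N357 (iv D484)) (tt N590 F55659) (tt N579 (iv F2397)) (tt N465 F1850) (tt N548 (iv F2281)))
theorem Q467 : ∀ i, i < 467 → P i := stepQ 466 Q466 (allL N466 (tt N361 F55661) (tt N466 F1851) (tt N590 F55662) (tt N466 F1852) (tt N358 (iv D485)) (tt N584 (iv F55791)) (tt N368 (iv F55792)) (tt N549 (iv F2285)))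
theorem Q468 : ∀ i, i < 468 → P i := stepQ 467 Q467 (allL N467 (tt N467 F1854) (tt N575 F55908) (tt N359 (iv D486)) (tt N574 (iv F56047)) (tt N581 (iv F2402)) (tt N360 F1855) (tt N365 F1856) (tt N550 (iv F2289)))
theorem Q469 : ∀ i, i < 469 → P i := stepQ 468 Q468 (allL N468 (tt N468 F1866) (tt N592 D655) (tt N362 (iv D490)) (tt N593 D656) (tt N365 F1867) (tt N363 F1868) (tt N581 (iv F2404)) (tt N468 F1869))
theorem Q470 : ∀ i, i < 470 → P i := stepQ 469 Q469 (allL N469 (tt N594 D657) (tt N363 (iv D491)) (tt N469 F1870) (tt N595 D658) (tt N364 F1871) (tt N592 (iv F2463)) (tt N582 (iv F2406)) (tt N469 F1872))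
theorem Q471 : ∀ i, i < 471 → P i := stepQ 470 Q470 (allL N470 (tt N470 F1873) (tt N595 (iv F2473)) (tt N470 F1874) (tt N363 (iv D492)) (tt N470 F1875) (tt N593 (iv F2467)) (tt N583 (iv F2409)) (tt N470 F1876))
theorem Q472 : ∀ i, i < 472 → P i := stepQ 471 Q471 (allL N471 (tt N364 (iv D493)) (tt N471 F1877) (tt N471 F1878) (tt N471 F1879) (tt N594 (iv F2471)) (tt N368 F1880) (tt N584 (iv F2413)) (tt N471 F1881))
theorem Q473 : ∀ i, i < 473 → P i := stepQ 472 Q472 (allL N472 (tt N380 (iv F56046)) (tt N365 (iv D494)) (tt N472 F1882) (tt N379 (iv F56050)) (tt N592 (iv F2462)) (tt N366 F1883) (tt N575 F55909) (tt N472 F1884))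
theorem Q474 : ∀ i, i < 474 → P i := stepQ 473 Q473 (allL N473 (tt N473 F1885) (tt N379 F56147) (tt N370 F1886) (tt N365 (iv D495)) (tt N596 D661) (tt N367 F1887) (tt N574 F56148) (tt N473 F1888))
theorem Q475 : ∀ i, i < 475 → P i := stepQ 474 Q474 (allL N474 (tt N474 F1906) (tt N385 (iv F56605)) (tt N596 (iv F2484)) (tt N474 F1907) (tt N370 (iv D500)) (tt N474 F1908) (tt N474 F1909) (tt N474 F1910))
theorem Q476 : ∀ i, i < 476 → P i := stepQ 475 Q475 (allL N475 (tt N475 F1919) (tt N371 (iv D503)) (tt N381 F1920) (tt N551 (iv F2304)) (tt N475 F1921) (tt N475 F1922) (tt N597 D669) (tt N598 D670))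
theorem Q477 : ∀ i, i < 477 → P i := stepQ 476 Q476 (allL N476 (tt N374 F1923) (tt N597 (iv F2516)) (tt N476 F1924) (tt N553 (iv F2310)) (tt N476 F1925) (tt N476 F1926) (tt N371 (iv D504)) (tt N599 D671))
theorem Q478 : ∀ i, i < 478 → P i := stepQ 477 Q477 (allL N477 (tt N375 F1927) (tt N598 (iv F2520)) (tt N372 F1928) (tt N554 (iv F2314)) (tt N477 F1929) (tt N477 F1930) (tt N600 D672) (tt N371 (iv D505)))
theorem Q479 : ∀ i, i < 479 → P i := stepQ 478 Q478 (allL N478 (tt N376 F1931) (tt N384 F1932) (tt N601 D673) (tt N373 F1933) (tt N478 F1934) (tt N478 F1935) (tt N372 (iv D506)) (tt N478 F1936))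
theorem Q480 : ∀ i, i < 480 → P i := stepQ 479 Q479 (allL N479 (tt N377 F1937) (tt N596 (iv F56288)) (tt N373 (iv D507)) (tt N602 D675) (tt N379 F1938) (tt N479 F1939) (tt N558 (iv F2331)) (tt N479 F1940))
theorem Q481 : ∀ i, i < 481 → P i := stepQ 480 Q480 (allL N480 (tt N599 (iv F2524)) (tt N480 F1941) (tt N480 F1942) (tt N562 (iv F2344)) (tt N480 F1943) (tt N480 F1944) (tt N603 D676) (tt N374 (iv D508)))
theorem Q482 : ∀ i, i < 482 → P i := stepQ 481 Q481 (allL N481 (tt N600 (iv F2528)) (tt N481 F1945) (tt N604 D677) (tt N563 (iv F2347)) (tt N481 F1946) (tt N481 F1947) (tt N375 (iv D509)) (tt N603 (iv F2546)))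
theorem Q483 : ∀ i, i < 483 → P i := stepQ 482 Q482 (allL N482 (tt N601 (iv F2531)) (tt N605 D678) (tt N376 (iv D510)) (tt N606 D679) (tt N482 F1948) (tt N482 F1949) (tt N604 (iv F2549)) (tt N482 F1950))
theorem Q484 : ∀ i, i < 484 → P i := stepQ 483 Q483 (allL N483 (tt N602 (iv F2540)) (tt N483 F1951) (tt N606 (iv F2554)) (tt N377 (iv D511)) (tt N607 D680) (tt N483 F1952) (tt N567 (iv F2359)) (tt N483 F1953))
theorem Q485 : ∀ i, i < 485 → P i := stepQ 484 Q484 (allL N484 (tt N484 F56760) (tt N378 (iv D512)) (tt N605 (iv F2550)) (tt N484 F1954) (tt N484 F1955) (tt N484 F1956) (tt N484 F1957) (tt N484 F1958))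
theorem Q486 : ∀ i, i < 486 → P i := stepQ 485 Q485 (allL N485 (tt N592 F56196) (tt N485 F1967) (tt N485 F1968) (tt N607 (iv F2558)) (tt N380 (iv D515)) (tt N594 F56197) (tt N580 (iv F2400)) (tt N485 F1969))
theorem Q487 : ∀ i, i < 487 → P i := stepQ 486 Q486 (allL N486 (tt N486 F1981) (tt N382 F1982) (tt N608 D688) (tt N486 F1983) (tt N486 F1984) (tt N486 F1985) (tt N381 (iv D519)) (tt N486 F56643))
theorem Q488 : ∀ i, i < 488 → P i := stepQ 487 Q487 (allL N487 (tt N487 F1986) (tt N383 F1987) (tt N598 (iv F2521)) (tt N487 F1988) (tt N487 F1989) (tt N487 F1990) (tt N487 F56947) (tt N381 (iv D520)))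
theorem Q489 : ∀ i, i < 489 → P i := stepQ 488 Q488 (allL N488 (tt N387 F2064) (tt N488 F2065) (tt N609 D710) (tt N386 (iv D538)) (tt N610 D711) (tt N488 F2066) (tt N488 F2067) (tt N611 D712))
theorem Q490 : ∀ i, i < 490 → P i := stepQ 489 Q489 (allL N489 (tt N388 F2068) (tt N489 F2069) (tt N489 F2070) (tt N611 (iv F2689)) (tt N489 F2071) (tt N489 F2072) (tt N612 D713) (tt N386 (iv D539)))
theorem Q491 : ∀ i, i < 491 → P i := stepQ 490 Q490 (allL N490 (tt N609 (iv F2680)) (tt N394 F2073) (tt N387 (iv D540)) (tt N490 F2074) (tt N613 D714) (tt N490 F2075) (tt N614 D715) (tt N615 D716))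
theorem Q492 : ∀ i, i < 492 → P i := stepQ 491 Q491 (allL N491 (tt N610 (iv F2683)) (tt N389 F2076) (tt N613 (iv F2697)) (tt N491 F2077) (tt N387 (iv D541)) (tt N616 D717) (tt N491 F2078) (tt N617 D718))
theorem Q493 : ∀ i, i < 493 → P i := stepQ 492 Q492 (allL N492 (tt N611 (iv F2687)) (tt N390 F2079) (tt N615 (iv F2703)) (tt N388 F2080) (tt N617 (iv F2712)) (tt N492 F2081) (tt N618 D719) (tt N387 (iv D542)))
theorem Q494 : ∀ i, i < 494 → P i := stepQ 493 Q493 (allL N493 (tt N612 (iv F2691)) (tt N391 F2082) (tt N619 D720) (tt N618 (iv F2714)) (tt N493 F2083) (tt N493 F2084) (tt N388 (iv D543)) (tt N493 F2085))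
theorem Q495 : ∀ i, i < 495 → P i := stepQ 494 Q494 (allL N494 (tt N494 F2086) (tt N616 (iv F2706)) (tt N398 F2087) (tt N494 F2088) (tt N494 F2089) (tt N389 (iv D544)) (tt N494 F2090) (tt N620 D721))
theorem Q496 : ∀ i, i < 496 → P i := stepQ 495 Q495 (allL N495 (tt N495 F2091) (tt N617 (iv F2710)) (tt N399 F2092) (tt N495 F2093) (tt N390 F2094) (tt N620 (iv F2726)) (tt N621 D722) (tt N389 (iv D545)))
theorem Q497 : ∀ i, i < 497 → P i := stepQ 496 Q496 (allL N496 (tt N496 F2095) (tt N618 (iv F2713)) (tt N622 D723) (tt N391 F2096) (tt N621 (iv F2729)) (tt N496 F2097) (tt N390 (iv D546)) (tt N496 F2098))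
theorem Q498 : ∀ i, i < 498 → P i := stepQ 497 Q497 (allL N497 (tt N394 F2099) (tt N623 D724) (tt N392 (iv D547)) (tt N497 F2100) (tt N624 D725) (tt N497 F2101) (tt N625 D726) (tt N626 D727))
theorem Q499 : ∀ i, i < 499 → P i := stepQ 498 Q498 (allL N498 (tt N395 F2102) (tt N498 F2103) (tt N624 (iv F2740)) (tt N402 F2104) (tt N392 (iv D548)) (tt N627 D728) (tt N433 F2105) (tt N628 D729))
theorem Q500 : ∀ i, i < 500 → P i := stepQ 499 Q499 (allL N499 (tt N396 F2106) (tt N499 F2107) (tt N626 (iv F2746)) (tt N393 F2108) (tt N628 (iv F2757)) (tt N499 F2109) (tt N629 D730) (tt N392 (iv D549)))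
theorem Q501 : ∀ i, i < 501 → P i := stepQ 500 Q500 (allL N500 (tt N397 F2110) (tt N500 F2111) (tt N630 D731) (tt N629 (iv F2760)) (tt N404 F2112) (tt N500 F2113) (tt N393 (iv D550)) (tt N435 F2114))
theorem Q502 : ∀ i, i < 502 → P i := stepQ 501 Q501 (allL N501 (tt N624 (iv F2739)) (tt N613 (iv F2696)) (tt N395 F2115) (tt N631 D732) (tt N394 (iv D551)) (tt N632 D733) (tt N633 D734) (tt N634 D735))
theorem Q503 : ∀ i, i < 503 → P i := stepQ 502 Q502 (allL N502 (tt N625 (iv F2741)) (tt N614 (iv F2698)) (tt N437 F2116) (tt N502 F2117) (tt N633 (iv F2773)) (tt N502 F2118) (tt N394 (iv D552)) (tt N635 D736))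
theorem Q504 : ∀ i, i < 504 → P i := stepQ 503 Q503 (allL N503 (tt N626 (iv F2745)) (tt N615 (iv F2702)) (tt N396 F2119) (tt N503 F2120) (tt N634 (iv F2775)) (tt N503 F2121) (tt N636 D737) (tt N394 (iv D553)))
theorem Q505 : ∀ i, i < 505 → P i := stepQ 504 Q504 (allL N504 (tt N627 (iv F2749)) (tt N398 F2122) (tt N632 (iv F2770)) (tt N407 F2123) (tt N504 F2124) (tt N395 (iv D554)) (tt N439 F2125) (tt N637 D738))
theorem Q506 : ∀ i, i < 506 → P i := stepQ 505 Q505 (allL N505 (tt N628 (iv F2754)) (tt N399 F2126) (tt N634 (iv F2774)) (tt N408 F2127) (tt N396 F2128) (tt N637 (iv F2784)) (tt N638 D739) (tt N395 (iv D555)))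
theorem Q507 : ∀ i, i < 507 → P i := stepQ 506 Q506 (allL N506 (tt N629 (iv F2758)) (tt N400 F2129) (tt N639 D740) (tt N397 F2130) (tt N638 (iv F2787)) (tt N506 F2131) (tt N396 (iv D556)) (tt N441 F2132))
theorem Q508 : ∀ i, i < 508 → P i := stepQ 507 Q507 (allL N507 (tt N630 (iv F2763)) (tt N507 F2133) (tt N397 (iv D557)) (tt N640 D741) (tt N410 F2134) (tt N507 F2135) (tt N507 F2136) (tt N442 F2137))
theorem Q509 : ∀ i, i < 509 → P i := stepQ 508 Q508 (allL N508 (tt N508 F2138) (tt N637 (iv F2781)) (tt N620 (iv F2723)) (tt N411 F2139) (tt N508 F2140) (tt N399 F2141) (tt N641 D742) (tt N398 (iv D558)))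
theorem Q510 : ∀ i, i < 510 → P i := stepQ 509 Q509 (allL N509 (tt N509 F2142) (tt N638 (iv F2785)) (tt N642 D743) (tt N412 F2143) (tt N400 F2144) (tt N641 (iv F2798)) (tt N399 (iv D559)) (tt N444 F2145))
theorem Q511 : ∀ i, i < 511 → P i := stepQ 510 Q510 (allL N510 (tt N510 F2146) (tt N643 D744) (tt N400 (iv D560)) (tt N510 F2147) (tt N642 (iv F2801)) (tt N510 F2148) (tt N622 (iv F2734)) (tt N445 F2149))
theorem Q512 : ∀ i, i < 512 → P i := stepQ 511 Q511 (allL N511 (tt N511 F2150) (tt N401 (iv D561)) (tt N511 F2151) (tt N511 F2152) (tt N644 D745) (tt N414 F2153) (tt N511 F2154) (tt N645 D746))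
theorem Q513 : ∀ i, i < 513 → P i := stepQ 512 Q512 (allL N512 (tt N405 F2155) (tt N644 (iv F2807)) (tt N402 F2156) (tt N646 D747) (tt N401 (iv D562)) (tt N647 D748) (tt N512 F2157) (tt N648 D749))
theorem Q514 : ∀ i, i < 514 → P i := stepQ 513 Q513 (allL N513 (tt N406 F2158) (tt N645 (iv F2811)) (tt N403 F2159) (tt N513 F2160) (tt N648 (iv F2824)) (tt N416 F2161) (tt N649 D750) (tt N401 (iv D563)))
theorem Q515 : ∀ i, i < 515 → P i := stepQ 514 Q514 (allL N514 (tt N407 F2162) (tt N514 F2163) (tt N647 (iv F2819)) (tt N627 (iv F2751)) (tt N417 F2164) (tt N402 (iv D564)) (tt N446 F2165) (tt N650 D751))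
theorem Q516 : ∀ i, i < 516 → P i := stepQ 515 Q515 (allL N515 (tt N408 F2166) (tt N515 F2167) (tt N648 (iv F2823)) (tt N628 (iv F2756)) (tt N403 F2168) (tt N650 (iv F2832)) (tt N651 D752) (tt N402 (iv D565)))
theorem Q517 : ∀ i, i < 517 → P i := stepQ 516 Q516 (allL N516 (tt N409 F2169) (tt N516 F2170) (tt N652 D753) (tt N404 F2171) (tt N651 (iv F2835)) (tt N419 F2172) (tt N403 (iv D566)) (tt N448 F2173))
theorem Q518 : ∀ i, i < 518 → P i := stepQ 517 Q517 (allL N517 (tt N410 F2174) (tt N653 D754) (tt N404 (iv D567)) (tt N654 D755) (tt N630 (iv F2764)) (tt N420 F2175) (tt N517 F2176) (tt N449 F2177))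
theorem Q519 : ∀ i, i < 519 → P i := stepQ 518 Q518 (allL N518 (tt N646 (iv F2815)) (tt N518 F2178) (tt N631 (iv F2768)) (tt N405 (iv D568)) (tt N518 F2179) (tt N655 D756) (tt N518 F2180) (tt N656 D757))
theorem Q520 : ∀ i, i < 520 → P i := stepQ 519 Q519 (allL N519 (tt N647 (iv F2818)) (tt N519 F2181) (tt N407 F2182) (tt N655 (iv F2850)) (tt N422 F2183) (tt N405 (iv D569)) (tt N519 F2184) (tt N657 D758))
theorem Q521 : ∀ i, i < 521 → P i := stepQ 520 Q520 (allL N520 (tt N648 (iv F2822)) (tt N520 F2185) (tt N408 F2186) (tt N656 (iv F2853)) (tt N406 F2187) (tt N657 (iv F2858)) (tt N658 D759) (tt N405 (iv D570)))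
theorem Q522 : ∀ i, i < 522 → P i := stepQ 521 Q521 (allL N521 (tt N649 (iv F2825)) (tt N521 F2188) (tt N659 D760) (tt N521 F2189) (tt N658 (iv F2860)) (tt N424 F2190) (tt N406 (iv D571)) (tt N521 F2191))
theorem Q523 : ∀ i, i < 523 → P i := stepQ 522 Q522 (allL N522 (tt N650 (iv F2829)) (tt N411 F2192) (tt N657 (iv F2856)) (tt N637 (iv F2782)) (tt N425 F2193) (tt N408 F2194) (tt N660 D761) (tt N407 (iv D572)))
theorem Q524 : ∀ i, i < 524 → P i := stepQ 523 Q523 (allL N523 (tt N651 (iv F2833)) (tt N412 F2195) (tt N661 D762) (tt N638 (iv F2786)) (tt N409 F2196) (tt N660 (iv F2867)) (tt N408 (iv D573)) (tt N451 F2197))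
theorem Q525 : ∀ i, i < 525 → P i := stepQ 524 Q524 (allL N524 (tt N652 (iv F2837)) (tt N662 D763) (tt N409 (iv D574)) (tt N663 D764) (tt N661 (iv F2869)) (tt N427 F2198) (tt N659 (iv F2863)) (tt N452 F2199))
theorem Q526 : ∀ i, i < 526 → P i := stepQ 525 Q525 (allL N525 (tt N654 (iv F2845)) (tt N525 F2200) (tt N663 (iv F2874)) (tt N410 (iv D575)) (tt N664 D765) (tt N428 F2201) (tt N525 F2202) (tt N453 F2203))
theorem Q527 : ∀ i, i < 527 → P i := stepQ 526 Q526 (allL N526 (tt N526 F2204) (tt N660 (iv F2865)) (tt N665 D766) (tt N641 (iv F2796)) (tt N429 F2205) (tt N412 F2206) (tt N411 (iv D576)) (tt N454 F2207))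
theorem Q528 : ∀ i, i < 528 → P i := stepQ 527 Q527 (allL N527 (tt N527 F2208) (tt N666 D767) (tt N412 (iv D577)) (tt N667 D768) (tt N413 F2209) (tt N665 (iv F2882)) (tt N527 F2210) (tt N455 F2211))
theorem Q529 : ∀ i, i < 529 → P i := stepQ 528 Q528 (allL N528 (tt N668 D769) (tt N413 (iv D578)) (tt N662 (iv F2871)) (tt N528 F2212) (tt N666 (iv F2885)) (tt N431 F2213) (tt N528 F2214) (tt N456 F2215))
theorem Q530 : ∀ i, i < 530 → P i := stepQ 529 Q529 (allL N529 (tt N529 F2216) (tt N415 F2217) (tt N529 F2218) (tt N669 D770) (tt N414 (iv D579)) (tt N670 D771) (tt N529 F2219) (tt N671 D772))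
theorem Q531 : ∀ i, i < 531 → P i := stepQ 530 Q530 (allL N530 (tt N530 F2220) (tt N416 F2221) (tt N530 F2222) (tt N530 F2223) (tt N671 (iv F2908)) (tt N645 (iv F2814)) (tt N672 D773) (tt N414 (iv D580)))
theorem Q532 : ∀ i, i < 532 → P i := stepQ 531 Q531 (allL N531 (tt N421 F2224) (tt N669 (iv F2898)) (tt N531 F2225) (tt N415 (iv D581)) (tt N531 F2226) (tt N673 D774) (tt N531 F2227) (tt N674 D775))
theorem Q533 : ∀ i, i < 533 → P i := stepQ 532 Q532 (allL N532 (tt N422 F2228) (tt N670 (iv F2902)) (tt N417 F2229) (tt N673 (iv F2915)) (tt N647 (iv F2820)) (tt N415 (iv D582)) (tt N532 F2230) (tt N675 D776))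
theorem Q534 : ∀ i, i < 534 → P i := stepQ 533 Q533 (allL N533 (tt N423 F2231) (tt N671 (iv F2906)) (tt N418 F2232) (tt N674 (iv F2919)) (tt N416 F2233) (tt N675 (iv F2923)) (tt N676 D777) (tt N415 (iv D583)))
theorem Q535 : ∀ i, i < 535 → P i := stepQ 534 Q534 (allL N534 (tt N424 F2234) (tt N672 (iv F2910)) (tt N677 D778) (tt N534 F2235) (tt N676 (iv F2925)) (tt N649 (iv F2827)) (tt N416 (iv D584)) (tt N534 F2236))
theorem Q536 : ∀ i, i < 536 → P i := stepQ 535 Q535 (allL N535 (tt N425 F2237) (tt N535 F2238) (tt N675 (iv F2922)) (tt N535 F2239) (tt N650 (iv F2831)) (tt N418 F2240) (tt N678 D779) (tt N417 (iv D585)))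
theorem Q537 : ∀ i, i < 537 → P i := stepQ 536 Q536 (allL N536 (tt N426 F2241) (tt N536 F2242) (tt N679 D780) (tt N536 F2243) (tt N419 F2244) (tt N678 (iv F2933)) (tt N418 (iv D586)) (tt N458 F2245))
theorem Q538 : ∀ i, i < 538 → P i := stepQ 537 Q537 (allL N537 (tt N427 F2246) (tt N680 D781) (tt N419 (iv D587)) (tt N681 D782) (tt N679 (iv F2936)) (tt N652 (iv F2838)) (tt N677 (iv F2928)) (tt N459 F2247))
theorem Q539 : ∀ i, i < 539 → P i := stepQ 538 Q538 (allL N538 (tt N538 F2248) (tt N420 (iv D588)) (tt N538 F2249) (tt N430 F55771) (tt N538 F2250) (tt N653 (iv F2842)) (tt N538 F2251) (tt N460 F2252))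
theorem Q540 : ∀ i, i < 540 → P i := stepQ 539 Q539 (allL N539 (tt N428 F2253) (tt N430 (iv F55647)) (tt N681 (iv F2941)) (tt N420 (iv D589)) (tt N431 (iv F55636)) (tt N654 (iv F2846)) (tt N539 F2254) (tt N461 F2255))
theorem Q541 : ∀ i, i < 541 → P i := stepQ 540 Q540 (allL N540 (tt N673 (iv F2913)) (tt N540 F2256) (tt N540 F2257) (tt N422 F2258) (tt N682 D785) (tt N421 (iv D590)) (tt N540 F2259) (tt N683 D786))
theorem Q542 : ∀ i, i < 542 → P i := stepQ 541 Q541 (allL N541 (tt N674 (iv F2917)) (tt N541 F2260) (tt N541 F2261) (tt N423 F2262) (tt N541 F2263) (tt N683 (iv F2958)) (tt N684 D787) (tt N421 (iv D591)))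
theorem Q543 : ∀ i, i < 543 → P i := stepQ 542 Q542 (allL N542 (tt N675 (iv F2921)) (tt N542 F2264) (tt N425 F2265) (tt N683 (iv F2957)) (tt N657 (iv F2857)) (tt N423 F2266) (tt N685 D788) (tt N422 (iv D592)))
theorem Q544 : ∀ i, i < 544 → P i := stepQ 543 Q543 (allL N543 (tt N676 (iv F2924)) (tt N543 F2267) (tt N686 D789) (tt N684 (iv F2960)) (tt N424 F2268) (tt N685 (iv F2964)) (tt N423 (iv D593)) (tt N543 F2269))
theorem Q545 : ∀ i, i < 545 → P i := stepQ 544 Q544 (allL N544 (tt N677 (iv F2927)) (tt N687 D790) (tt N424 (iv D594)) (tt N688 D791) (tt N686 (iv F2966)) (tt N659 (iv F2862)) (tt N427 F2270) (tt N544 F2271))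
theorem Q546 : ∀ i, i < 546 → P i := stepQ 545 Q545 (allL N545 (tt N678 (iv F2930)) (tt N429 F2272) (tt N689 D792) (tt N545 F2273) (tt N660 (iv F2866)) (tt N426 F2274) (tt N425 (iv D595)) (tt N462 F2275))
theorem Q547 : ∀ i, i < 547 → P i := stepQ 546 Q546 (allL N546 (tt N679 (iv F2935)) (tt N681 F55541) (tt N426 (iv D596)) (tt N680 (iv F55666)) (tt N427 F2276) (tt N689 (iv F2975)) (tt N686 (iv F2967)) (tt N463 F2277))
theorem Q548 : ∀ i, i < 548 → P i := stepQ 547 Q547 (allL N547 (tt N690 D795) (tt N427 (iv D597)) (tt N431 F2278) (tt N691 D796) (tt N681 F55544) (tt N662 (iv F2872)) (tt N687 (iv F2970)) (tt N464 F2279))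
theorem Q549 : ∀ i, i < 549 → P i := stepQ 548 Q548 (allL N548 (tt N681 (iv F2940)) (tt N691 (iv F2984)) (tt N428 F2280) (tt N427 (iv D598)) (tt N690 F55543) (tt N663 (iv F2875)) (tt N688 (iv F2973)) (tt N465 F2281))
theorem Q550 : ∀ i, i < 550 → P i := stepQ 549 Q549 (allL N549 (tt N431 (iv F55635)) (tt N549 F2282) (tt N690 F55547) (tt N549 F2283) (tt N428 (iv D599)) (tt N668 (iv F55670)) (tt N549 F2284) (tt N466 F2285))
theorem Q551 : ∀ i, i < 551 → P i := stepQ 550 Q550 (allL N550 (tt N550 F2286) (tt N654 F55768) (tt N429 (iv D600)) (tt N653 (iv F55910)) (tt N665 (iv F2881)) (tt N430 F2287) (tt N550 F2288) (tt N467 F2289))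
theorem Q552 : ∀ i, i < 552 → P i := stepQ 551 Q551 (allL N551 (tt N551 F2302) (tt N432 (iv D604)) (tt N551 F2303) (tt N475 F2304) (tt N692 D803) (tt N551 F2305) (tt N693 D804) (tt N694 D805))
theorem Q553 : ∀ i, i < 553 → P i := stepQ 552 Q552 (allL N552 (tt N436 F2306) (tt N692 (iv F3010)) (tt N433 F2307) (tt N552 F2308) (tt N432 (iv D605)) (tt N695 D806) (tt N696 D807) (tt N697 D808))
theorem Q554 : ∀ i, i < 554 → P i := stepQ 553 Q553 (allL N553 (tt N437 F2309) (tt N693 (iv F3014)) (tt N625 (iv F2742)) (tt N476 F2310) (tt N696 (iv F3028)) (tt N553 F2311) (tt N432 (iv D606)) (tt N698 D809))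
theorem Q555 : ∀ i, i < 555 → P i := stepQ 554 Q554 (allL N554 (tt N438 F2312) (tt N694 (iv F3018)) (tt N434 F2313) (tt N477 F2314) (tt N697 (iv F3032)) (tt N554 F2315) (tt N699 D810) (tt N432 (iv D607)))
theorem Q556 : ∀ i, i < 556 → P i := stepQ 555 Q555 (allL N555 (tt N439 F2316) (tt N555 F2317) (tt N695 (iv F3023)) (tt N446 F2318) (tt N555 F2319) (tt N433 (iv D608)) (tt N627 (iv F2753)) (tt N700 D811))
theorem Q557 : ∀ i, i < 557 → P i := stepQ 556 Q556 (allL N556 (tt N440 F2320) (tt N556 F2321) (tt N697 (iv F3030)) (tt N447 F2322) (tt N434 F2323) (tt N700 (iv F3043)) (tt N701 D812) (tt N433 (iv D609)))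
theorem Q558 : ∀ i, i < 558 → P i := stepQ 557 Q557 (allL N557 (tt N441 F2324) (tt N557 F2325) (tt N702 D813) (tt N435 F2326) (tt N701 (iv F3047)) (tt N557 F2327) (tt N434 (iv D610)) (tt N629 (iv F2762)))
theorem Q559 : ∀ i, i < 559 → P i := stepQ 558 Q558 (allL N558 (tt N442 F2328) (tt N703 D814) (tt N435 (iv D611)) (tt N704 D815) (tt N449 F2329) (tt N558 F2330) (tt N479 F2331) (tt N630 (iv F2767)))
theorem Q560 : ∀ i, i < 560 → P i := stepQ 559 Q559 (allL N559 (tt N695 (iv F3022)) (tt N559 F2332) (tt N439 F2333) (tt N559 F2334) (tt N559 F2335) (tt N436 (iv D612)) (tt N705 D816) (tt N706 D817))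
theorem Q561 : ∀ i, i < 561 → P i := stepQ 560 Q560 (allL N560 (tt N696 (iv F3026)) (tt N560 F2336) (tt N633 (iv F2772)) (tt N560 F2337) (tt N437 F2338) (tt N705 (iv F3061)) (tt N436 (iv D613)) (tt N707 D818))
theorem Q562 : ∀ i, i < 562 → P i := stepQ 561 Q561 (allL N561 (tt N697 (iv F3029)) (tt N561 F2339) (tt N440 F2340) (tt N561 F2341) (tt N438 F2342) (tt N706 (iv F3066)) (tt N708 D819) (tt N436 (iv D614)))
theorem Q563 : ∀ i, i < 563 → P i := stepQ 562 Q562 (allL N562 (tt N698 (iv F3033)) (tt N562 F2343) (tt N635 (iv F2776)) (tt N480 F2344) (tt N707 (iv F3069)) (tt N562 F2345) (tt N709 D820) (tt N437 (iv D615)))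
theorem Q564 : ∀ i, i < 564 → P i := stepQ 563 Q563 (allL N563 (tt N699 (iv F3036)) (tt N563 F2346) (tt N710 D821) (tt N481 F2347) (tt N708 (iv F3072)) (tt N563 F2348) (tt N438 (iv D616)) (tt N709 (iv F3076)))
theorem Q565 : ∀ i, i < 565 → P i := stepQ 564 Q564 (allL N564 (tt N700 (iv F3039)) (tt N443 F2349) (tt N706 (iv F3063)) (tt N450 F2350) (tt N564 F2351) (tt N440 F2352) (tt N711 D822) (tt N439 (iv D617)))
theorem Q566 : ∀ i, i < 566 → P i := stepQ 565 Q565 (allL N565 (tt N701 (iv F3044)) (tt N444 F2353) (tt N712 D823) (tt N451 F2354) (tt N441 F2355) (tt N711 (iv F3082)) (tt N440 (iv D618)) (tt N638 (iv F2788)))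
theorem Q567 : ∀ i, i < 567 → P i := stepQ 566 Q566 (allL N566 (tt N702 (iv F3048)) (tt N713 D824) (tt N441 (iv D619)) (tt N714 D825) (tt N712 (iv F3083)) (tt N566 F2356) (tt N710 (iv F3078)) (tt N639 (iv F2790)))
theorem Q568 : ∀ i, i < 568 → P i := stepQ 567 Q567 (allL N567 (tt N704 (iv F3055)) (tt N567 F2357) (tt N714 (iv F3086)) (tt N442 (iv D620)) (tt N715 D826) (tt N567 F2358) (tt N483 F2359) (tt N640 (iv F2794)))
theorem Q569 : ∀ i, i < 569 → P i := stepQ 568 Q568 (allL N568 (tt N568 F2360) (tt N711 (iv F3079)) (tt N716 D827) (tt N454 F2361) (tt N568 F2362) (tt N444 F2363) (tt N443 (iv D621)) (tt N641 (iv F2799)))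
theorem Q570 : ∀ i, i < 570 → P i := stepQ 569 Q569 (allL N569 (tt N569 F2364) (tt N717 D828) (tt N444 (iv D622)) (tt N718 D829) (tt N445 F2365) (tt N716 (iv F3093)) (tt N569 F2366) (tt N642 (iv F2802)))
theorem Q571 : ∀ i, i < 571 → P i := stepQ 570 Q570 (allL N570 (tt N719 D830) (tt N445 (iv D623)) (tt N713 (iv F3084)) (tt N570 F2367) (tt N717 (iv F3095)) (tt N570 F2368) (tt N570 F2369) (tt N643 (iv F2805)))
theorem Q572 : ∀ i, i < 572 → P i := stepQ 571 Q571 (allL N571 (tt N450 F2370) (tt N571 F2371) (tt N571 F2372) (tt N700 (iv F3041)) (tt N457 F2373) (tt N447 F2374) (tt N720 D831) (tt N446 (iv D624)))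
theorem Q573 : ∀ i, i < 573 → P i := stepQ 572 Q572 (allL N572 (tt N451 F2375) (tt N572 F2376) (tt N721 D832) (tt N701 (iv F3046)) (tt N448 F2377) (tt N720 (iv F3108)) (tt N447 (iv D625)) (tt N651 (iv F2836)))
theorem Q574 : ∀ i, i < 574 → P i := stepQ 573 Q573 (allL N573 (tt N452 F2378) (tt N722 D833) (tt N448 (iv D626)) (tt N723 D834) (tt N721 (iv F3110)) (tt N459 F2379) (tt N573 F2380) (tt N652 (iv F2839)))
theorem Q575 : ∀ i, i < 575 → P i := stepQ 574 Q574 (allL N574 (tt N574 F2381) (tt N449 (iv D627)) (tt N574 F2382) (tt N467 F56047) (tt N703 (iv F3052)) (tt N460 F2383) (tt N473 (iv F56148)) (tt N653 (iv F2844)))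
theorem Q576 : ∀ i, i < 576 → P i := stepQ 575 Q575 (allL N575 (tt N453 F2385) (tt N467 (iv F55908)) (tt N723 (iv F3116)) (tt N449 (iv D628)) (tt N724 D836) (tt N461 F2386) (tt N472 (iv F55909)) (tt N654 (iv F2848)))
theorem Q577 : ∀ i, i < 577 → P i := stepQ 576 Q576 (allL N576 (tt N720 (iv F3105)) (tt N454 F2388) (tt N725 D837) (tt N711 (iv F3080)) (tt N462 F2389) (tt N451 F2390) (tt N450 (iv D629)) (tt N660 (iv F2868)))
theorem Q578 : ∀ i, i < 578 → P i := stepQ 577 Q577 (allL N577 (tt N721 (iv F3109)) (tt N726 D838) (tt N451 (iv D630)) (tt N727 D839) (tt N452 F2391) (tt N725 (iv F3126)) (tt N577 F2392) (tt N661 (iv F2870)))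
theorem Q579 : ∀ i, i < 579 → P i := stepQ 578 Q578 (allL N578 (tt N728 D840) (tt N452 (iv D631)) (tt N456 F2393) (tt N729 D841) (tt N726 (iv F3129)) (tt N464 F2394) (tt N578 F2395) (tt N662 (iv F2873)))
theorem Q580 : ∀ i, i < 580 → P i := stepQ 579 Q579 (allL N579 (tt N723 (iv F3115)) (tt N729 (iv F3135)) (tt N453 F2396) (tt N452 (iv D632)) (tt N730 D842) (tt N465 F2397) (tt N579 F2398) (tt N663 (iv F2876)))
theorem Q581 : ∀ i, i < 581 → P i := stepQ 580 Q580 (allL N580 (tt N724 (iv F3123)) (tt N580 F2399) (tt N730 (iv F3139)) (tt N715 (iv F3089)) (tt N453 (iv D633)) (tt N731 D843) (tt N485 F2400) (tt N664 (iv F2879)))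
theorem Q582 : ∀ i, i < 582 → P i := stepQ 581 Q581 (allL N581 (tt N581 F2401) (tt N724 F55998) (tt N454 (iv D634)) (tt N732 D845) (tt N467 F2402) (tt N455 F2403) (tt N468 F2404) (tt N665 (iv F2884)))
theorem Q583 : ∀ i, i < 583 → P i := stepQ 582 Q582 (allL N582 (tt N731 (iv F55934)) (tt N455 (iv D635)) (tt N726 (iv F3128)) (tt N733 D847) (tt N456 F2405) (tt N724 (iv F55911)) (tt N469 F2406) (tt N666 (iv F2887)))
theorem Q584 : ∀ i, i < 584 → P i := stepQ 583 Q583 (allL N583 (tt N583 F2407) (tt N733 (iv F3153)) (tt N718 (iv F3098)) (tt N455 (iv D636)) (tt N583 F2408) (tt N732 (iv F3148)) (tt N470 F2409) (tt N667 (iv F2891)))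
theorem Q585 : ∀ i, i < 585 → P i := stepQ 584 Q584 (allL N584 (tt N456 (iv D637)) (tt N584 F2410) (tt N728 (iv F3132)) (tt N584 F2411) (tt N731 (iv F55936)) (tt N466 F55791) (tt N471 F2413) (tt N668 (iv F2896)))
theorem Q586 : ∀ i, i < 586 → P i := stepQ 585 Q585 (allL N585 (tt N462 F2414) (tt N585 F2415) (tt N734 D848) (tt N585 F2416) (tt N720 (iv F3107)) (tt N458 F2417) (tt N457 (iv D638)) (tt N678 (iv F2934)))
theorem Q587 : ∀ i, i < 587 → P i := stepQ 586 Q586 (allL N586 (tt N463 F2418) (tt N735 D849) (tt N458 (iv D639)) (tt N736 D850) (tt N459 F2419) (tt N734 (iv F3157)) (tt N586 F2420) (tt N679 (iv F2937)))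
theorem Q588 : ∀ i, i < 588 → P i := stepQ 587 Q587 (allL N587 (tt N736 F55789) (tt N459 (iv D640)) (tt N587 F2421) (tt N463 F55790) (tt N735 (iv F3160)) (tt N722 (iv F3113)) (tt N587 F2422) (tt N680 (iv F2939)))
theorem Q589 : ∀ i, i < 589 → P i := stepQ 588 Q588 (allL N588 (tt N465 F2423) (tt N463 (iv F55657)) (tt N461 F2424) (tt N459 (iv D641)) (tt N464 (iv F55660)) (tt N723 (iv F3117)) (tt N588 F2425) (tt N681 (iv F2942)))
theorem Q590 : ∀ i, i < 590 → P i := stepQ 589 Q589 (allL N589 (tt N734 (iv F3156)) (tt N723 F55784) (tt N462 (iv D644)) (tt N722 (iv F55928)) (tt N725 (iv F3125)) (tt N463 F2432) (tt N589 F2433) (tt N689 (iv F2976)))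
theorem Q591 : ∀ i, i < 591 → P i := stepQ 590 Q590 (allL N590 (tt N464 (iv D647)) (tt N736 F55787) (tt N466 (iv F55662)) (tt N735 F55788) (tt N465 (iv F55659)) (tt N728 (iv F3133)) (tt N590 F2440) (tt N690 (iv F2983)))
theorem Q592 : ∀ i, i < 592 → P i := stepQ 591 Q591 (allL N591 (tt N735 (iv F55724)) (tt N465 F2441) (tt N591 F2442) (tt N464 (iv D648)) (tt N736 (iv F55656)) (tt N729 (iv F3137)) (tt N591 F2443) (tt N691 (iv F2986)))
theorem Q593 : ∀ i, i < 593 → P i := stepQ 592 Q592 (allL N592 (tt N485 (iv F56196)) (tt N468 (iv D655)) (tt N592 F2461) (tt N737 D871) (tt N472 F2462) (tt N469 F2463) (tt N724 F56048) (tt N592 F2464))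
theorem Q594 : ∀ i, i < 594 → P i := stepQ 593 Q593 (allL N593 (tt N593 F2465) (tt N737 (iv F3225)) (tt N593 F2466) (tt N468 (iv D656)) (tt N738 D872) (tt N470 F2467) (tt N732 (iv F3149)) (tt N593 F2468))
theorem Q595 : ∀ i, i < 595 → P i := stepQ 594 Q594 (allL N594 (tt N469 (iv D657)) (tt N594 F2469) (tt N594 F2470) (tt N739 D873) (tt N471 F2471) (tt N485 (iv F56197)) (tt N731 F56070) (tt N594 F2472))
theorem Q596 : ∀ i, i < 596 → P i := stepQ 595 Q595 (allL N595 (tt N739 (iv F3233)) (tt N470 F2473) (tt N740 D874) (tt N469 (iv D658)) (tt N595 F2474) (tt N737 (iv F3226)) (tt N733 (iv F3155)) (tt N595 F2475))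
theorem Q597 : ∀ i, i < 597 → P i := stepQ 596 Q596 (allL N596 (tt N596 F2483) (tt N479 F56288) (tt N474 F2484) (tt N738 (iv F3230)) (tt N473 (iv D661)) (tt N596 F2485) (tt N703 F56289) (tt N596 F2486))
theorem Q598 : ∀ i, i < 598 → P i := stepQ 597 Q597 (allL N597 (tt N597 F2515) (tt N476 F2516) (tt N741 D887) (tt N693 (iv F3015)) (tt N597 F2517) (tt N597 F2518) (tt N475 (iv D669)) (tt N742 D888))
theorem Q599 : ∀ i, i < 599 → P i := stepQ 598 Q598 (allL N598 (tt N598 F2519) (tt N477 F2520) (tt N487 F2521) (tt N694 (iv F3020)) (tt N598 F2522) (tt N598 F2523) (tt N743 D889) (tt N475 (iv D670)))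
theorem Q600 : ∀ i, i < 600 → P i := stepQ 599 Q599 (allL N599 (tt N480 F2524) (tt N742 (iv F3293)) (tt N599 F2525) (tt N698 (iv F3034)) (tt N599 F2526) (tt N599 F2527) (tt N744 D890) (tt N476 (iv D671)))
theorem Q601 : ∀ i, i < 601 → P i := stepQ 600 Q600 (allL N600 (tt N481 F2528) (tt N743 (iv F3297)) (tt N745 D891) (tt N699 (iv F3037)) (tt N600 F2529) (tt N600 F2530) (tt N477 (iv D672)) (tt N744 (iv F3303)))
theorem Q602 : ∀ i, i < 602 → P i := stepQ 601 Q601 (allL N601 (tt N482 F2531) (tt N601 F56757) (tt N478 (iv D673)) (tt N746 D893) (tt N601 F2532) (tt N601 F2533) (tt N745 (iv F3307)) (tt N601 F2534))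
theorem Q603 : ∀ i, i < 603 → P i := stepQ 602 Q602 (allL N602 (tt N483 F2540) (tt N738 (iv F56441)) (tt N746 (iv F3313)) (tt N479 (iv D675)) (tt N737 F56335) (tt N602 F2541) (tt N704 (iv F3057)) (tt N602 F2542))
theorem Q604 : ∀ i, i < 604 → P i := stepQ 603 Q603 (allL N603 (tt N744 (iv F3300)) (tt N603 F2543) (tt N747 D896) (tt N709 (iv F3074)) (tt N603 F2544) (tt N603 F2545) (tt N480 (iv D676)) (tt N481 F2546))
theorem Q605 : ∀ i, i < 605 → P i := stepQ 604 Q604 (allL N604 (tt N745 (iv F3304)) (tt N748 D897) (tt N481 (iv D677)) (tt N749 D898) (tt N604 F2547) (tt N604 F2548) (tt N482 F2549) (tt N747 (iv F3326)))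
theorem Q606 : ∀ i, i < 606 → P i := stepQ 605 Q605 (allL N605 (tt N605 F56758) (tt N482 (iv D678)) (tt N484 F2550) (tt N750 D900) (tt N605 F2551) (tt N605 F2552) (tt N748 (iv F3330)) (tt N605 F2553))
theorem Q607 : ∀ i, i < 607 → P i := stepQ 606 Q606 (allL N606 (tt N746 (iv F3312)) (tt N750 (iv F3337)) (tt N483 F2554) (tt N482 (iv D679)) (tt N751 D901) (tt N606 F2555) (tt N749 (iv F3332)) (tt N606 F2556))
theorem Q608 : ∀ i, i < 608 → P i := stepQ 607 Q607 (allL N607 (tt N737 F56333) (tt N607 F2557) (tt N751 (iv F3341)) (tt N485 F2558) (tt N483 (iv D680)) (tt N739 F56334) (tt N715 (iv F3090)) (tt N607 F2559))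
theorem Q609 : ∀ i, i < 609 → P i := stepQ 608 Q608 (allL N608 (tt N608 F2589) (tt N608 F2590) (tt N486 (iv D688)) (tt N752 D909) (tt N608 F2591) (tt N608 F2592) (tt N741 (iv F3291)) (tt N608 F56487))
theorem Q610 : ∀ i, i < 610 → P i := stepQ 609 Q609 (allL N609 (tt N490 F2680) (tt N753 D937) (tt N488 (iv D710)) (tt N609 F2681) (tt N754 D938) (tt N609 F2682) (tt N755 D939) (tt N756 D940))
theorem Q611 : ∀ i, i < 611 → P i := stepQ 610 Q610 (allL N610 (tt N491 F2683) (tt N610 F2684) (tt N754 (iv F3490)) (tt N610 F2685) (tt N488 (iv D711)) (tt N757 D941) (tt N610 F2686) (tt N758 D942))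
theorem Q612 : ∀ i, i < 612 → P i := stepQ 611 Q611 (allL N611 (tt N492 F2687) (tt N611 F2688) (tt N756 (iv F3496)) (tt N489 F2689) (tt N758 (iv F3507)) (tt N611 F2690) (tt N759 D943) (tt N488 (iv D712)))
theorem Q613 : ∀ i, i < 613 → P i := stepQ 612 Q612 (allL N612 (tt N493 F2691) (tt N612 F2692) (tt N760 D944) (tt N759 (iv F3510)) (tt N612 F2693) (tt N612 F2694) (tt N489 (iv D713)) (tt N612 F2695))
theorem Q614 : ∀ i, i < 614 → P i := stepQ 613 Q613 (allL N613 (tt N754 (iv F3489)) (tt N501 F2696) (tt N491 F2697) (tt N761 D945) (tt N490 (iv D714)) (tt N762 D946) (tt N763 D947) (tt N764 D948))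
theorem Q615 : ∀ i, i < 615 → P i := stepQ 614 Q614 (allL N614 (tt N755 (iv F3491)) (tt N502 F2698) (tt N614 F2699) (tt N614 F2700) (tt N763 (iv F3526)) (tt N614 F2701) (tt N490 (iv D715)) (tt N765 D949))
theorem Q616 : ∀ i, i < 616 → P i := stepQ 615 Q615 (allL N615 (tt N756 (iv F3495)) (tt N503 F2702) (tt N492 F2703) (tt N615 F2704) (tt N764 (iv F3529)) (tt N615 F2705) (tt N766 D950) (tt N490 (iv D716)))
theorem Q617 : ∀ i, i < 617 → P i := stepQ 616 Q616 (allL N616 (tt N757 (iv F3499)) (tt N494 F2706) (tt N762 (iv F3522)) (tt N616 F2707) (tt N616 F2708) (tt N491 (iv D717)) (tt N616 F2709) (tt N767 D951))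
theorem Q618 : ∀ i, i < 618 → P i := stepQ 617 Q617 (allL N617 (tt N758 (iv F3504)) (tt N495 F2710) (tt N764 (iv F3528)) (tt N617 F2711) (tt N492 F2712) (tt N767 (iv F3540)) (tt N768 D952) (tt N491 (iv D718)))
theorem Q619 : ∀ i, i < 619 → P i := stepQ 618 Q618 (allL N618 (tt N759 (iv F3508)) (tt N496 F2713) (tt N769 D953) (tt N493 F2714) (tt N768 (iv F3543)) (tt N618 F2715) (tt N492 (iv D719)) (tt N618 F2716))
theorem Q620 : ∀ i, i < 620 → P i := stepQ 619 Q619 (allL N619 (tt N760 (iv F3513)) (tt N619 F2717) (tt N493 (iv D720)) (tt N770 D954) (tt N619 F2718) (tt N619 F2719) (tt N619 F2720) (tt N619 F2721))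
theorem Q621 : ∀ i, i < 621 → P i := stepQ 620 Q620 (allL N620 (tt N620 F2722) (tt N767 (iv F3537)) (tt N508 F2723) (tt N620 F2724) (tt N620 F2725) (tt N495 F2726) (tt N771 D955) (tt N494 (iv D721)))
theorem Q622 : ∀ i, i < 622 → P i := stepQ 621 Q621 (allL N621 (tt N621 F2727) (tt N768 (iv F3541)) (tt N772 D956) (tt N621 F2728) (tt N496 F2729) (tt N771 (iv F3554)) (tt N495 (iv D722)) (tt N621 F2730))
theorem Q623 : ∀ i, i < 623 → P i := stepQ 622 Q622 (allL N622 (tt N622 F2731) (tt N773 D957) (tt N496 (iv D723)) (tt N622 F2732) (tt N772 (iv F3557)) (tt N622 F2733) (tt N510 F2734) (tt N622 F2735))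
theorem Q624 : ∀ i, i < 624 → P i := stepQ 623 Q623 (allL N623 (tt N753 (iv F3485)) (tt N497 (iv D724)) (tt N623 F2736) (tt N623 F2737) (tt N774 D958) (tt N623 F2738) (tt N775 D959) (tt N776 D960))
theorem Q625 : ∀ i, i < 625 → P i := stepQ 624 Q624 (allL N624 (tt N501 F2739) (tt N774 (iv F3564)) (tt N498 F2740) (tt N777 D961) (tt N497 (iv D725)) (tt N778 D962) (tt N779 D963) (tt N780 D964))
theorem Q626 : ∀ i, i < 626 → P i := stepQ 625 Q625 (allL N625 (tt N502 F2741) (tt N775 (iv F3566)) (tt N553 F2742) (tt N625 F2743) (tt N779 (iv F3581)) (tt N625 F2744) (tt N497 (iv D726)) (tt N781 D965))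
theorem Q627 : ∀ i, i < 627 → P i := stepQ 626 Q626 (allL N626 (tt N503 F2745) (tt N776 (iv F3569)) (tt N499 F2746) (tt N626 F2747) (tt N780 (iv F3584)) (tt N626 F2748) (tt N782 D966) (tt N497 (iv D727)))
theorem Q628 : ∀ i, i < 628 → P i := stepQ 627 Q627 (allL N627 (tt N504 F2749) (tt N627 F2750) (tt N778 (iv F3577)) (tt N514 F2751) (tt N627 F2752) (tt N498 (iv D728)) (tt N555 F2753) (tt N783 D967))
theorem Q629 : ∀ i, i < 629 → P i := stepQ 628 Q628 (allL N628 (tt N505 F2754) (tt N628 F2755) (tt N780 (iv F3583)) (tt N515 F2756) (tt N499 F2757) (tt N783 (iv F3596)) (tt N784 D968) (tt N498 (iv D729)))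
theorem Q630 : ∀ i, i < 630 → P i := stepQ 629 Q629 (allL N629 (tt N506 F2758) (tt N629 F2759) (tt N785 D969) (tt N500 F2760) (tt N784 (iv F3600)) (tt N629 F2761) (tt N499 (iv D730)) (tt N557 F2762))
theorem Q631 : ∀ i, i < 631 → P i := stepQ 630 Q630 (allL N630 (tt N507 F2763) (tt N786 D970) (tt N500 (iv D731)) (tt N787 D971) (tt N517 F2764) (tt N630 F2765) (tt N630 F2766) (tt N558 F2767))
theorem Q632 : ∀ i, i < 632 → P i := stepQ 631 Q631 (allL N631 (tt N777 (iv F3573)) (tt N761 (iv F3518)) (tt N518 F2768) (tt N501 (iv D732)) (tt N631 F2769) (tt N788 D972) (tt N789 D973) (tt N790 D974))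
theorem Q633 : ∀ i, i < 633 → P i := stepQ 632 Q632 (allL N632 (tt N778 (iv F3576)) (tt N762 (iv F3521)) (tt N504 F2770) (tt N788 (iv F3616)) (tt N632 F2771) (tt N501 (iv D733)) (tt N791 D975) (tt N792 D976))
theorem Q634 : ∀ i, i < 634 → P i := stepQ 633 Q633 (allL N633 (tt N779 (iv F3579)) (tt N763 (iv F3524)) (tt N560 F2772) (tt N789 (iv F3618)) (tt N502 F2773) (tt N791 (iv F3625)) (tt N501 (iv D734)) (tt N793 D977))
theorem Q635 : ∀ i, i < 635 → P i := stepQ 634 Q634 (allL N634 (tt N780 (iv F3582)) (tt N764 (iv F3527)) (tt N505 F2774) (tt N790 (iv F3621)) (tt N503 F2775) (tt N792 (iv F3628)) (tt N794 D978) (tt N501 (iv D735)))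
theorem Q636 : ∀ i, i < 636 → P i := stepQ 635 Q635 (allL N635 (tt N781 (iv F3585)) (tt N765 (iv F3530)) (tt N562 F2776) (tt N635 F2777) (tt N793 (iv F3630)) (tt N635 F2778) (tt N795 D979) (tt N502 (iv D736)))
theorem Q637 : ∀ i, i < 637 → P i := stepQ 636 Q636 (allL N636 (tt N782 (iv F3589)) (tt N766 (iv F3534)) (tt N796 D980) (tt N636 F2779) (tt N794 (iv F3631)) (tt N636 F2780) (tt N503 (iv D737)) (tt N795 (iv F3634)))
theorem Q638 : ∀ i, i < 638 → P i := stepQ 637 Q637 (allL N637 (tt N783 (iv F3592)) (tt N508 F2781) (tt N792 (iv F3626)) (tt N522 F2782) (tt N637 F2783) (tt N505 F2784) (tt N797 D981) (tt N504 (iv D738)))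
theorem Q639 : ∀ i, i < 639 → P i := stepQ 638 Q638 (allL N638 (tt N784 (iv F3597)) (tt N509 F2785) (tt N798 D982) (tt N523 F2786) (tt N506 F2787) (tt N797 (iv F3640)) (tt N505 (iv D739)) (tt N565 F2788))
theorem Q640 : ∀ i, i < 640 → P i := stepQ 639 Q639 (allL N639 (tt N785 (iv F3602)) (tt N799 D983) (tt N506 (iv D740)) (tt N800 D984) (tt N798 (iv F3642)) (tt N639 F2789) (tt N796 (iv F3636)) (tt N566 F2790))
theorem Q641 : ∀ i, i < 641 → P i := stepQ 640 Q640 (allL N640 (tt N787 (iv F3611)) (tt N640 F2791) (tt N800 (iv F3647)) (tt N507 (iv D741)) (tt N801 D985) (tt N640 F2792) (tt N640 F2793) (tt N567 F2794))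
theorem Q642 : ∀ i, i < 642 → P i := stepQ 641 Q641 (allL N641 (tt N641 F2795) (tt N797 (iv F3637)) (tt N802 D986) (tt N526 F2796) (tt N641 F2797) (tt N509 F2798) (tt N508 (iv D742)) (tt N568 F2799))
theorem Q643 : ∀ i, i < 643 → P i := stepQ 642 Q642 (allL N642 (tt N642 F2800) (tt N803 D987) (tt N509 (iv D743)) (tt N804 D988) (tt N510 F2801) (tt N802 (iv F3656)) (tt N772 (iv F3558)) (tt N569 F2802))
theorem Q644 : ∀ i, i < 644 → P i := stepQ 643 Q643 (allL N643 (tt N805 D989) (tt N510 (iv D744)) (tt N799 (iv F3644)) (tt N643 F2803) (tt N803 (iv F3658)) (tt N643 F2804) (tt N773 (iv F3562)) (tt N570 F2805))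
theorem Q645 : ∀ i, i < 645 → P i := stepQ 644 Q644 (allL N644 (tt N644 F2806) (tt N512 F2807) (tt N644 F2808) (tt N806 D990) (tt N511 (iv D745)) (tt N807 D991) (tt N644 F2809) (tt N808 D992))
theorem Q646 : ∀ i, i < 646 → P i := stepQ 645 Q645 (allL N645 (tt N645 F2810) (tt N513 F2811) (tt N645 F2812) (tt N645 F2813) (tt N808 (iv F3680)) (tt N530 F2814) (tt N809 D993) (tt N511 (iv D746)))
theorem Q647 : ∀ i, i < 647 → P i := stepQ 646 Q646 (allL N646 (tt N518 F2815) (tt N806 (iv F3669)) (tt N777 (iv F3574)) (tt N512 (iv D747)) (tt N646 F2816) (tt N810 D994) (tt N646 F2817) (tt N811 D995))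
theorem Q648 : ∀ i, i < 648 → P i := stepQ 647 Q647 (allL N647 (tt N519 F2818) (tt N807 (iv F3673)) (tt N514 F2819) (tt N810 (iv F3687)) (tt N532 F2820) (tt N512 (iv D748)) (tt N647 F2821) (tt N812 D996))
theorem Q649 : ∀ i, i < 649 → P i := stepQ 648 Q648 (allL N648 (tt N520 F2822) (tt N808 (iv F3678)) (tt N515 F2823) (tt N811 (iv F3690)) (tt N513 F2824) (tt N812 (iv F3695)) (tt N813 D997) (tt N512 (iv D749)))
theorem Q650 : ∀ i, i < 650 → P i := stepQ 649 Q649 (allL N649 (tt N521 F2825) (tt N809 (iv F3682)) (tt N814 D998) (tt N649 F2826) (tt N813 (iv F3697)) (tt N534 F2827) (tt N513 (iv D750)) (tt N649 F2828))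
theorem Q651 : ∀ i, i < 651 → P i := stepQ 650 Q650 (allL N650 (tt N522 F2829) (tt N650 F2830) (tt N812 (iv F3693)) (tt N783 (iv F3594)) (tt N535 F2831) (tt N515 F2832) (tt N815 D999) (tt N514 (iv D751)))
theorem Q652 : ∀ i, i < 652 → P i := stepQ 651 Q651 (allL N651 (tt N523 F2833) (tt N651 F2834) (tt N816 D1000) (tt N784 (iv F3599)) (tt N516 F2835) (tt N815 (iv F3706)) (tt N515 (iv D752)) (tt N572 F2836))
theorem Q653 : ∀ i, i < 653 → P i := stepQ 652 Q652 (allL N652 (tt N524 F2837) (tt N817 D1001) (tt N516 (iv D753)) (tt N818 D1002) (tt N816 (iv F3709)) (tt N537 F2838) (tt N814 (iv F3701)) (tt N573 F2839))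
theorem Q654 : ∀ i, i < 654 → P i := stepQ 653 Q653 (allL N653 (tt N653 F2840) (tt N517 (iv D754)) (tt N653 F2841) (tt N550 F55910) (tt N786 (iv F3607)) (tt N538 F2842) (tt N653 F2843) (tt N574 F2844))
theorem Q655 : ∀ i, i < 655 → P i := stepQ 654 Q654 (allL N654 (tt N525 F2845) (tt N550 (iv F55768)) (tt N818 (iv F3715)) (tt N517 (iv D755)) (tt N819 D1004) (tt N539 F2846) (tt N654 F2847) (tt N575 F2848))
theorem Q656 : ∀ i, i < 656 → P i := stepQ 655 Q655 (allL N655 (tt N810 (iv F3686)) (tt N655 F2849) (tt N788 (iv F3615)) (tt N519 F2850) (tt N820 D1005) (tt N518 (iv D756)) (tt N655 F2851) (tt N821 D1006))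
theorem Q657 : ∀ i, i < 657 → P i := stepQ 656 Q656 (allL N656 (tt N811 (iv F3689)) (tt N656 F2852) (tt N790 (iv F3620)) (tt N520 F2853) (tt N656 F2854) (tt N821 (iv F3732)) (tt N822 D1007) (tt N518 (iv D757)))
theorem Q658 : ∀ i, i < 658 → P i := stepQ 657 Q657 (allL N657 (tt N812 (iv F3692)) (tt N657 F2855) (tt N522 F2856) (tt N821 (iv F3731)) (tt N542 F2857) (tt N520 F2858) (tt N823 D1008) (tt N519 (iv D758)))
theorem Q659 : ∀ i, i < 659 → P i := stepQ 658 Q658 (allL N658 (tt N813 (iv F3696)) (tt N658 F2859) (tt N824 D1009) (tt N822 (iv F3734)) (tt N521 F2860) (tt N823 (iv F3739)) (tt N520 (iv D759)) (tt N658 F2861))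
theorem Q660 : ∀ i, i < 660 → P i := stepQ 659 Q659 (allL N659 (tt N814 (iv F3699)) (tt N825 D1010) (tt N521 (iv D760)) (tt N826 D1011) (tt N824 (iv F3741)) (tt N544 F2862) (tt N524 F2863) (tt N659 F2864))
theorem Q661 : ∀ i, i < 661 → P i := stepQ 660 Q660 (allL N660 (tt N815 (iv F3703)) (tt N526 F2865) (tt N827 D1012) (tt N797 (iv F3638)) (tt N545 F2866) (tt N523 F2867) (tt N522 (iv D761)) (tt N576 F2868))
theorem Q662 : ∀ i, i < 662 → P i := stepQ 661 Q661 (allL N661 (tt N816 (iv F3708)) (tt N828 D1013) (tt N523 (iv D762)) (tt N829 D1014) (tt N524 F2869) (tt N827 (iv F3753)) (tt N824 (iv F3742)) (tt N577 F2870))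
theorem Q663 : ∀ i, i < 663 → P i := stepQ 662 Q662 (allL N662 (tt N830 D1015) (tt N524 (iv D763)) (tt N528 F2871) (tt N831 D1016) (tt N828 (iv F3756)) (tt N547 F2872) (tt N825 (iv F3746)) (tt N578 F2873))
theorem Q664 : ∀ i, i < 664 → P i := stepQ 663 Q663 (allL N663 (tt N818 (iv F3714)) (tt N831 (iv F3762)) (tt N525 F2874) (tt N524 (iv D764)) (tt N832 D1017) (tt N548 F2875) (tt N826 (iv F3750)) (tt N579 F2876))
theorem Q665 : ∀ i, i < 665 → P i := stepQ 664 Q664 (allL N664 (tt N819 (iv F3723)) (tt N664 F2877) (tt N832 (iv F3766)) (tt N801 (iv F3651)) (tt N525 (iv D765)) (tt N833 D1018) (tt N664 F2878) (tt N580 F2879))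
theorem Q666 : ∀ i, i < 666 → P i := stepQ 665 Q665 (allL N665 (tt N665 F2880) (tt N819 F55867) (tt N526 (iv D766)) (tt N834 D1020) (tt N550 F2881) (tt N527 F2882) (tt N665 F2883) (tt N581 F2884))
theorem Q667 : ∀ i, i < 667 → P i := stepQ 666 Q666 (allL N666 (tt N833 (iv F55797)) (tt N527 (iv D767)) (tt N828 (iv F3755)) (tt N835 D1022) (tt N528 F2885) (tt N819 (iv F55772)) (tt N666 F2886) (tt N582 F2887))
theorem Q668 : ∀ i, i < 668 → P i := stepQ 667 Q667 (allL N667 (tt N667 F2888) (tt N835 (iv F3784)) (tt N804 (iv F3661)) (tt N527 (iv D768)) (tt N667 F2889) (tt N834 (iv F3777)) (tt N667 F2890) (tt N583 F2891))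
theorem Q669 : ∀ i, i < 669 → P i := stepQ 668 Q668 (allL N668 (tt N528 (iv D769)) (tt N668 F2892) (tt N830 (iv F3759)) (tt N668 F2893) (tt N833 (iv F55799)) (tt N549 F55670) (tt N668 F2895) (tt N584 F2896))
theorem Q670 : ∀ i, i < 670 → P i := stepQ 669 Q669 (allL N669 (tt N669 F2897) (tt N531 F2898) (tt N836 D1023) (tt N529 (iv D770)) (tt N669 F2899) (tt N837 D1024) (tt N669 F2900) (tt N838 D1025))
theorem Q671 : ∀ i, i < 671 → P i := stepQ 670 Q670 (allL N670 (tt N670 F2901) (tt N532 F2902) (tt N670 F2903) (tt N837 (iv F3794)) (tt N807 (iv F3675)) (tt N529 (iv D771)) (tt N670 F2904) (tt N839 D1026))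
theorem Q672 : ∀ i, i < 672 → P i := stepQ 671 Q671 (allL N671 (tt N671 F2905) (tt N533 F2906) (tt N671 F2907) (tt N838 (iv F3798)) (tt N530 F2908) (tt N839 (iv F3803)) (tt N840 D1027) (tt N529 (iv D772)))
theorem Q673 : ∀ i, i < 673 → P i := stepQ 672 Q672 (allL N672 (tt N672 F2909) (tt N534 F2910) (tt N841 D1028) (tt N672 F2911) (tt N840 (iv F3806)) (tt N809 (iv F3684)) (tt N530 (iv D773)) (tt N672 F2912))
theorem Q674 : ∀ i, i < 674 → P i := stepQ 673 Q673 (allL N673 (tt N540 F2913) (tt N837 (iv F3793)) (tt N673 F2914) (tt N532 F2915) (tt N842 D1029) (tt N531 (iv D774)) (tt N673 F2916) (tt N843 D1030))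
theorem Q675 : ∀ i, i < 675 → P i := stepQ 674 Q674 (allL N674 (tt N541 F2917) (tt N838 (iv F3797)) (tt N674 F2918) (tt N533 F2919) (tt N674 F2920) (tt N843 (iv F3818)) (tt N844 D1031) (tt N531 (iv D775)))
theorem Q676 : ∀ i, i < 676 → P i := stepQ 675 Q675 (allL N675 (tt N542 F2921) (tt N839 (iv F3801)) (tt N535 F2922) (tt N843 (iv F3817)) (tt N812 (iv F3694)) (tt N533 F2923) (tt N845 D1032) (tt N532 (iv D776)))
theorem Q677 : ∀ i, i < 677 → P i := stepQ 676 Q676 (allL N676 (tt N543 F2924) (tt N840 (iv F3805)) (tt N846 D1033) (tt N844 (iv F3820)) (tt N534 F2925) (tt N845 (iv F3824)) (tt N533 (iv D777)) (tt N676 F2926))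
theorem Q678 : ∀ i, i < 678 → P i := stepQ 677 Q677 (allL N677 (tt N544 F2927) (tt N847 D1034) (tt N534 (iv D778)) (tt N848 D1035) (tt N846 (iv F3827)) (tt N814 (iv F3700)) (tt N537 F2928) (tt N677 F2929))
theorem Q679 : ∀ i, i < 679 → P i := stepQ 678 Q678 (allL N678 (tt N545 F2930) (tt N678 F2931) (tt N849 D1036) (tt N678 F2932) (tt N815 (iv F3705)) (tt N536 F2933) (tt N535 (iv D779)) (tt N585 F2934))
theorem Q680 : ∀ i, i < 680 → P i := stepQ 679 Q679 (allL N679 (tt N546 F2935) (tt N850 D1037) (tt N536 (iv D780)) (tt N851 D1038) (tt N537 F2936) (tt N849 (iv F3837)) (tt N846 (iv F3828)) (tt N586 F2937))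
theorem Q681 : ∀ i, i < 681 → P i := stepQ 680 Q680 (allL N680 (tt N851 F55665) (tt N537 (iv D781)) (tt N680 F2938) (tt N546 F55666) (tt N850 (iv F3840)) (tt N817 (iv F3712)) (tt N847 (iv F3830)) (tt N587 F2939))
theorem Q682 : ∀ i, i < 682 → P i := stepQ 681 Q681 (allL N681 (tt N548 F2940) (tt N546 (iv F55541)) (tt N539 F2941) (tt N537 (iv D782)) (tt N547 (iv F55544)) (tt N818 (iv F3716)) (tt N848 (iv F3834)) (tt N588 F2942))
theorem Q683 : ∀ i, i < 683 → P i := stepQ 682 Q682 (allL N682 (tt N842 (iv F3811)) (tt N682 F2951) (tt N682 F2952) (tt N820 (iv F3727)) (tt N540 (iv D785)) (tt N682 F2953) (tt N682 F2954) (tt N852 D1045))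
theorem Q684 : ∀ i, i < 684 → P i := stepQ 683 Q683 (allL N683 (tt N843 (iv F3815)) (tt N683 F2955) (tt N683 F2956) (tt N542 F2957) (tt N852 (iv F3867)) (tt N541 F2958) (tt N853 D1046) (tt N540 (iv D786)))
theorem Q685 : ∀ i, i < 685 → P i := stepQ 684 Q684 (allL N684 (tt N844 (iv F3819)) (tt N684 F2959) (tt N854 D1047) (tt N543 F2960) (tt N684 F2961) (tt N853 (iv F3871)) (tt N541 (iv D787)) (tt N684 F2962))
theorem Q686 : ∀ i, i < 686 → P i := stepQ 685 Q685 (allL N685 (tt N845 (iv F3823)) (tt N685 F2963) (tt N855 D1048) (tt N853 (iv F3870)) (tt N823 (iv F3738)) (tt N543 F2964) (tt N542 (iv D788)) (tt N685 F2965))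
theorem Q687 : ∀ i, i < 687 → P i := stepQ 686 Q686 (allL N686 (tt N846 (iv F3826)) (tt N848 (iv F55554)) (tt N543 (iv D789)) (tt N847 (iv F55557)) (tt N544 F2966) (tt N855 (iv F3876)) (tt N546 F2967) (tt N686 F2968))
theorem Q688 : ∀ i, i < 688 → P i := stepQ 687 Q687 (allL N687 (tt N856 D1051) (tt N544 (iv D790)) (tt N687 F2969) (tt N857 D1052) (tt N848 (iv F55555)) (tt N825 (iv F3745)) (tt N547 F2970) (tt N687 F2971))
theorem Q689 : ∀ i, i < 689 → P i := stepQ 688 Q688 (allL N688 (tt N848 (iv F3832)) (tt N857 (iv F3888)) (tt N688 F2972) (tt N544 (iv D791)) (tt N856 F55667) (tt N826 (iv F3749)) (tt N548 F2973) (tt N688 F2974))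
theorem Q690 : ∀ i, i < 690 → P i := stepQ 689 Q689 (allL N689 (tt N849 (iv F3836)) (tt N818 F55653) (tt N545 (iv D792)) (tt N817 (iv F55783)) (tt N827 (iv F3752)) (tt N546 F2975) (tt N855 (iv F3877)) (tt N589 F2976))
theorem Q691 : ∀ i, i < 691 → P i := stepQ 690 Q690 (allL N690 (tt N547 (iv D795)) (tt N851 F55663) (tt N549 (iv F55547)) (tt N850 F55664) (tt N548 (iv F55543)) (tt N830 (iv F3760)) (tt N856 (iv F3886)) (tt N590 F2983))
theorem Q692 : ∀ i, i < 692 → P i := stepQ 691 Q691 (allL N691 (tt N850 (iv F55626)) (tt N548 F2984) (tt N691 F2985) (tt N547 (iv D796)) (tt N851 (iv F55540)) (tt N831 (iv F3764)) (tt N857 (iv F3889)) (tt N591 F2986))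
theorem Q693 : ∀ i, i < 693 → P i := stepQ 692 Q692 (allL N692 (tt N692 F3009) (tt N552 F3010) (tt N692 F3011) (tt N692 F3012) (tt N551 (iv D803)) (tt N858 D1067) (tt N859 D1068) (tt N860 D1069))
theorem Q694 : ∀ i, i < 694 → P i := stepQ 693 Q693 (allL N693 (tt N693 F3013) (tt N553 F3014) (tt N861 D1070) (tt N597 F3015) (tt N859 (iv F3945)) (tt N693 F3016) (tt N551 (iv D804)) (tt N862 D1071))
theorem Q695 : ∀ i, i < 695 → P i := stepQ 694 Q694 (allL N694 (tt N694 F3017) (tt N554 F3018) (tt N694 F3019) (tt N598 F3020) (tt N860 (iv F3950)) (tt N694 F3021) (tt N863 D1072) (tt N551 (iv D805)))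
theorem Q696 : ∀ i, i < 696 → P i := stepQ 695 Q695 (allL N695 (tt N559 F3022) (tt N858 (iv F3938)) (tt N555 F3023) (tt N695 F3024) (tt N695 F3025) (tt N552 (iv D806)) (tt N864 D1073) (tt N865 D1074))
theorem Q697 : ∀ i, i < 697 → P i := stepQ 696 Q696 (allL N696 (tt N560 F3026) (tt N859 (iv F3943)) (tt N779 (iv F3580)) (tt N696 F3027) (tt N553 F3028) (tt N864 (iv F3965)) (tt N552 (iv D807)) (tt N866 D1075))
theorem Q698 : ∀ i, i < 698 → P i := stepQ 697 Q697 (allL N697 (tt N561 F3029) (tt N860 (iv F3947)) (tt N556 F3030) (tt N697 F3031) (tt N554 F3032) (tt N865 (iv F3970)) (tt N867 D1076) (tt N552 (iv D808)))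
theorem Q699 : ∀ i, i < 699 → P i := stepQ 698 Q698 (allL N698 (tt N562 F3033) (tt N862 (iv F3955)) (tt N781 (iv F3586)) (tt N599 F3034) (tt N866 (iv F3973)) (tt N698 F3035) (tt N868 D1077) (tt N553 (iv D809)))
theorem Q700 : ∀ i, i < 700 → P i := stepQ 699 Q699 (allL N699 (tt N563 F3036) (tt N863 (iv F3959)) (tt N869 D1078) (tt N600 F3037) (tt N867 (iv F3976)) (tt N699 F3038) (tt N554 (iv D810)) (tt N868 (iv F3980)))
theorem Q701 : ∀ i, i < 701 → P i := stepQ 700 Q700 (allL N700 (tt N564 F3039) (tt N700 F3040) (tt N865 (iv F3967)) (tt N571 F3041) (tt N700 F3042) (tt N556 F3043) (tt N870 D1079) (tt N555 (iv D811)))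
theorem Q702 : ∀ i, i < 702 → P i := stepQ 701 Q701 (allL N701 (tt N565 F3044) (tt N701 F3045) (tt N871 D1080) (tt N572 F3046) (tt N557 F3047) (tt N870 (iv F3988)) (tt N556 (iv D812)) (tt N784 (iv F3601)))
theorem Q703 : ∀ i, i < 703 → P i := stepQ 702 Q702 (allL N702 (tt N566 F3048) (tt N872 D1081) (tt N557 (iv D813)) (tt N873 D1082) (tt N871 (iv F3990)) (tt N702 F3049) (tt N869 (iv F3983)) (tt N785 (iv F3604)))
theorem Q704 : ∀ i, i < 704 → P i := stepQ 703 Q703 (allL N703 (tt N703 F3050) (tt N558 (iv D814)) (tt N703 F3051) (tt N874 D1083) (tt N574 F3052) (tt N703 F3053) (tt N596 (iv F56289)) (tt N786 (iv F3610)))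
theorem Q705 : ∀ i, i < 705 → P i := stepQ 704 Q704 (allL N704 (tt N567 F3055) (tt N874 (iv F3997)) (tt N873 (iv F3994)) (tt N558 (iv D815)) (tt N875 D1084) (tt N704 F3056) (tt N602 F3057) (tt N787 (iv F3614)))
theorem Q706 : ∀ i, i < 706 → P i := stepQ 705 Q705 (allL N705 (tt N864 (iv F3962)) (tt N705 F3058) (tt N791 (iv F3623)) (tt N705 F3059) (tt N705 F3060) (tt N560 F3061) (tt N559 (iv D816)) (tt N876 D1085))
theorem Q707 : ∀ i, i < 707 → P i := stepQ 706 Q706 (allL N706 (tt N865 (iv F3966)) (tt N706 F3062) (tt N564 F3063) (tt N706 F3064) (tt N706 F3065) (tt N561 F3066) (tt N877 D1086) (tt N559 (iv D817)))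
theorem Q708 : ∀ i, i < 708 → P i := stepQ 707 Q707 (allL N707 (tt N866 (iv F3971)) (tt N707 F3067) (tt N793 (iv F3629)) (tt N707 F3068) (tt N562 F3069) (tt N876 (iv F4006)) (tt N878 D1087) (tt N560 (iv D818)))
theorem Q709 : ∀ i, i < 709 → P i := stepQ 708 Q708 (allL N708 (tt N867 (iv F3974)) (tt N708 F3070) (tt N879 D1088) (tt N708 F3071) (tt N563 F3072) (tt N877 (iv F4010)) (tt N561 (iv D819)) (tt N878 (iv F4014)))
theorem Q710 : ∀ i, i < 710 → P i := stepQ 709 Q709 (allL N709 (tt N868 (iv F3977)) (tt N709 F3073) (tt N880 D1089) (tt N603 F3074) (tt N878 (iv F4013)) (tt N709 F3075) (tt N562 (iv D820)) (tt N563 F3076))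
theorem Q711 : ∀ i, i < 711 → P i := stepQ 710 Q710 (allL N710 (tt N869 (iv F3981)) (tt N881 D1090) (tt N563 (iv D821)) (tt N882 D1091) (tt N879 (iv F4015)) (tt N710 F3077) (tt N566 F3078) (tt N880 (iv F4018)))
theorem Q712 : ∀ i, i < 712 → P i := stepQ 711 Q711 (allL N711 (tt N870 (iv F3984)) (tt N568 F3079) (tt N883 D1092) (tt N576 F3080) (tt N711 F3081) (tt N565 F3082) (tt N564 (iv D822)) (tt N797 (iv F3641)))
theorem Q713 : ∀ i, i < 713 → P i := stepQ 712 Q712 (allL N712 (tt N871 (iv F3989)) (tt N884 D1093) (tt N565 (iv D823)) (tt N885 D1094) (tt N566 F3083) (tt N883 (iv F4026)) (tt N879 (iv F4016)) (tt N798 (iv F3643)))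
theorem Q714 : ∀ i, i < 714 → P i := stepQ 713 Q713 (allL N713 (tt N886 D1095) (tt N566 (iv D824)) (tt N570 F3084) (tt N887 D1096) (tt N884 (iv F4028)) (tt N713 F3085) (tt N881 (iv F4021)) (tt N799 (iv F3646)))
theorem Q715 : ∀ i, i < 715 → P i := stepQ 714 Q714 (allL N714 (tt N873 (iv F3993)) (tt N887 (iv F4032)) (tt N567 F3086) (tt N566 (iv D825)) (tt N888 D1097) (tt N714 F3087) (tt N882 (iv F4024)) (tt N800 (iv F3649)))
theorem Q716 : ∀ i, i < 716 → P i := stepQ 715 Q715 (allL N715 (tt N875 (iv F4000)) (tt N715 F3088) (tt N888 (iv F4035)) (tt N580 F3089) (tt N567 (iv D826)) (tt N889 D1098) (tt N607 F3090) (tt N801 (iv F3653)))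
theorem Q717 : ∀ i, i < 717 → P i := stepQ 716 Q716 (allL N716 (tt N716 F3091) (tt N890 D1099) (tt N568 (iv D827)) (tt N891 D1100) (tt N716 F3092) (tt N569 F3093) (tt N716 F3094) (tt N802 (iv F3657)))
theorem Q718 : ∀ i, i < 718 → P i := stepQ 717 Q717 (allL N717 (tt N892 D1101) (tt N569 (iv D828)) (tt N884 (iv F4027)) (tt N893 D1102) (tt N570 F3095) (tt N890 (iv F4041)) (tt N717 F3096) (tt N803 (iv F3659)))
theorem Q719 : ∀ i, i < 719 → P i := stepQ 718 Q718 (allL N718 (tt N718 F3097) (tt N893 (iv F4050)) (tt N583 F3098) (tt N569 (iv D829)) (tt N718 F3099) (tt N891 (iv F4045)) (tt N718 F3100) (tt N804 (iv F3663)))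
theorem Q720 : ∀ i, i < 720 → P i := stepQ 719 Q719 (allL N719 (tt N570 (iv D830)) (tt N719 F3101) (tt N886 (iv F4030)) (tt N719 F3102) (tt N892 (iv F4048)) (tt N719 F3103) (tt N719 F3104) (tt N805 (iv F3667)))
theorem Q721 : ∀ i, i < 721 → P i := stepQ 720 Q720 (allL N720 (tt N576 F3105) (tt N720 F3106) (tt N894 D1103) (tt N870 (iv F3986)) (tt N585 F3107) (tt N572 F3108) (tt N571 (iv D831)) (tt N815 (iv F3707)))
theorem Q722 : ∀ i, i < 722 → P i := stepQ 721 Q721 (allL N721 (tt N577 F3109) (tt N895 D1104) (tt N572 (iv D832)) (tt N896 D1105) (tt N573 F3110) (tt N894 (iv F4055)) (tt N721 F3111) (tt N816 (iv F3710)))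
theorem Q723 : ∀ i, i < 723 → P i := stepQ 722 Q722 (allL N722 (tt N897 D1106) (tt N573 (iv D833)) (tt N722 F3112) (tt N589 F55928) (tt N895 (iv F4058)) (tt N587 F3113) (tt N722 F3114) (tt N817 (iv F3713)))
theorem Q724 : ∀ i, i < 724 → P i := stepQ 723 Q723 (allL N723 (tt N579 F3115) (tt N589 (iv F55784)) (tt N575 F3116) (tt N573 (iv D834)) (tt N898 D1108) (tt N588 F3117) (tt N723 F3118) (tt N818 (iv F3717)))
theorem Q725 : ∀ i, i < 725 → P i := stepQ 724 Q724 (allL N724 (tt N580 F3123) (tt N581 (iv F55998)) (tt N898 (iv F4070)) (tt N875 (iv F4001)) (tt N575 (iv D836)) (tt N582 F55911) (tt N592 (iv F56048)) (tt N819 (iv F3725)))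
theorem Q726 : ∀ i, i < 726 → P i := stepQ 725 Q725 (allL N725 (tt N894 (iv F4053)) (tt N898 F55923) (tt N576 (iv D837)) (tt N899 D1113) (tt N589 F3125) (tt N577 F3126) (tt N725 F3127) (tt N827 (iv F3754)))
theorem Q727 : ∀ i, i < 727 → P i := stepQ 726 Q726 (allL N726 (tt N900 D1114) (tt N577 (iv D838)) (tt N582 F3128) (tt N901 D1115) (tt N578 F3129) (tt N898 F55918) (tt N726 F3130) (tt N828 (iv F3757)))
theorem Q728 : ∀ i, i < 728 → P i := stepQ 727 Q727 (allL N727 (tt N896 (iv F4060)) (tt N901 (iv F4090)) (tt N885 (iv F4029)) (tt N577 (iv D839)) (tt N902 D1116) (tt N899 (iv F4085)) (tt N727 F3131) (tt N829 (iv F3758)))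
theorem Q729 : ∀ i, i < 729 → P i := stepQ 728 Q728 (allL N728 (tt N578 (iv D840)) (tt N897 (iv F4062)) (tt N584 F3132) (tt N903 D1117) (tt N900 (iv F4088)) (tt N590 F3133) (tt N728 F3134) (tt N830 (iv F3761)))
theorem Q730 : ∀ i, i < 730 → P i := stepQ 729 Q729 (allL N729 (tt N903 (iv F4094)) (tt N579 F3135) (tt N729 F3136) (tt N578 (iv D841)) (tt N904 D1118) (tt N591 F3137) (tt N729 F3138) (tt N831 (iv F3765)))
theorem Q731 : ∀ i, i < 731 → P i := stepQ 730 Q730 (allL N730 (tt N898 (iv F4069)) (tt N904 (iv F4098)) (tt N580 F3139) (tt N902 (iv F4092)) (tt N579 (iv D842)) (tt N900 F55924) (tt N730 F3140) (tt N832 (iv F3767)))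
theorem Q732 : ∀ i, i < 732 → P i := stepQ 731 Q731 (allL N731 (tt N582 F55934) (tt N731 F3141) (tt N900 F55935) (tt N889 (iv F4037)) (tt N584 F55936) (tt N580 (iv D843)) (tt N594 (iv F56070)) (tt N833 (iv F3771)))
theorem Q733 : ∀ i, i < 733 → P i := stepQ 732 Q732 (allL N732 (tt N732 F3147) (tt N875 F56146) (tt N891 (iv F4044)) (tt N581 (iv D845)) (tt N874 (iv F56286)) (tt N583 F3148) (tt N593 F3149) (tt N834 (iv F3779)))
theorem Q734 : ∀ i, i < 734 → P i := stepQ 733 Q733 (allL N733 (tt N889 (iv F56069)) (tt N583 F3153) (tt N905 D1124) (tt N582 (iv D847)) (tt N733 F3154) (tt N875 (iv F56049)) (tt N595 F3155) (tt N835 (iv F3787)))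
theorem Q735 : ∀ i, i < 735 → P i := stepQ 734 Q734 (allL N734 (tt N589 F3156) (tt N903 F55929) (tt N585 (iv D848)) (tt N897 F55930) (tt N894 (iv F4054)) (tt N586 F3157) (tt N734 F3158) (tt N849 (iv F3838)))
theorem Q736 : ∀ i, i < 736 → P i := stepQ 735 Q735 (allL N735 (tt N591 F55724) (tt N586 (iv D849)) (tt N735 F3159) (tt N590 (iv F55788)) (tt N587 F3160) (tt N903 (iv F55872)) (tt N735 F3161) (tt N850 (iv F3841)))
theorem Q737 : ∀ i, i < 737 → P i := stepQ 736 Q736 (allL N736 (tt N587 (iv F55789)) (tt N590 (iv F55787)) (tt N736 F3163) (tt N586 (iv D850)) (tt N591 F55656) (tt N897 (iv F55779)) (tt N736 F3164) (tt N851 (iv F3844)))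
theorem Q738 : ∀ i, i < 738 → P i := stepQ 737 Q737 (allL N737 (tt N607 (iv F56333)) (tt N593 F3225) (tt N906 D1152) (tt N592 (iv D871)) (tt N602 (iv F56335)) (tt N595 F3226) (tt N875 F56198) (tt N737 F3227))
theorem Q739 : ∀ i, i < 739 → P i := stepQ 738 Q738 (allL N738 (tt N738 F3228) (tt N602 F56441) (tt N738 F3229) (tt N596 F3230) (tt N593 (iv D872)) (tt N738 F3231) (tt N874 F56442) (tt N738 F3232))
theorem Q740 : ∀ i, i < 740 → P i := stepQ 739 Q739 (allL N739 (tt N595 F3233) (tt N739 F3234) (tt N907 D1154) (tt N594 (iv D873)) (tt N739 F3235) (tt N607 (iv F56334)) (tt N889 F56223) (tt N739 F3236))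
theorem Q741 : ∀ i, i < 741 → P i := stepQ 740 Q740 (allL N740 (tt N907 (iv F4206)) (tt N740 F3237) (tt N595 (iv D874)) (tt N740 F3238) (tt N740 F3239) (tt N906 (iv F4200)) (tt N908 D1155) (tt N740 F3240))
theorem Q742 : ∀ i, i < 742 → P i := stepQ 741 Q741 (allL N741 (tt N741 F3287) (tt N741 F3288) (tt N597 (iv D887)) (tt N909 D1171) (tt N741 F3289) (tt N741 F3290) (tt N608 F3291) (tt N910 D1172))
theorem Q743 : ∀ i, i < 743 → P i := stepQ 742 Q742 (allL N742 (tt N742 F3292) (tt N599 F3293) (tt N910 (iv F4277)) (tt N862 (iv F3956)) (tt N742 F3294) (tt N742 F3295) (tt N911 D1173) (tt N597 (iv D888)))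
theorem Q744 : ∀ i, i < 744 → P i := stepQ 743 Q743 (allL N743 (tt N743 F3296) (tt N600 F3297) (tt N743 F56642) (tt N863 (iv F3960)) (tt N743 F3298) (tt N743 F3299) (tt N598 (iv D889)) (tt N911 (iv F4284)))
theorem Q745 : ∀ i, i < 745 → P i := stepQ 744 Q744 (allL N744 (tt N603 F3300) (tt N911 (iv F4281)) (tt N912 D1175) (tt N868 (iv F3978)) (tt N744 F3301) (tt N744 F3302) (tt N599 (iv D890)) (tt N600 F3303))
theorem Q746 : ∀ i, i < 746 → P i := stepQ 745 Q745 (allL N745 (tt N604 F3304) (tt N745 F56926) (tt N600 (iv D891)) (tt N913 D1177) (tt N745 F3305) (tt N745 F3306) (tt N601 F3307) (tt N912 (iv F4293)))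
theorem Q747 : ∀ i, i < 747 → P i := stepQ 746 Q746 (allL N746 (tt N606 F3312) (tt N746 F56650) (tt N602 F3313) (tt N601 (iv D893)) (tt N906 F56498) (tt N746 F3314) (tt N913 (iv F4299)) (tt N746 F3315))
theorem Q748 : ∀ i, i < 748 → P i := stepQ 747 Q747 (allL N747 (tt N912 (iv F4289)) (tt N914 D1184) (tt N603 (iv D896)) (tt N915 D1185) (tt N747 F3323) (tt N747 F3324) (tt N747 F3325) (tt N604 F3326))
theorem Q749 : ∀ i, i < 749 → P i := stepQ 748 Q748 (allL N748 (tt N748 F56927) (tt N604 (iv D897)) (tt N748 F3327) (tt N916 D1187) (tt N748 F3328) (tt N748 F3329) (tt N605 F3330) (tt N914 (iv F4328)))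
theorem Q750 : ∀ i, i < 750 → P i := stepQ 749 Q749 (allL N749 (tt N913 (iv F4297)) (tt N916 (iv F4336)) (tt N882 (iv F4022)) (tt N604 (iv D898)) (tt N917 D1188) (tt N749 F3331) (tt N606 F3332) (tt N915 (iv F4331)))
theorem Q751 : ∀ i, i < 751 → P i := stepQ 750 Q750 (allL N750 (tt N750 F56651) (tt N606 F3337) (tt N750 F3338) (tt N605 (iv D900)) (tt N918 D1190) (tt N750 F3339) (tt N916 (iv F4338)) (tt N750 F3340))
theorem Q752 : ∀ i, i < 752 → P i := stepQ 751 Q751 (allL N751 (tt N906 F56496) (tt N918 (iv F4345)) (tt N607 F3341) (tt N751 F3342) (tt N606 (iv D901)) (tt N907 F56497) (tt N917 (iv F4340)) (tt N751 F3343))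
theorem Q753 : ∀ i, i < 753 → P i := stepQ 752 Q752 (allL N752 (tt N752 F3371) (tt N752 F3372) (tt N752 F3373) (tt N608 (iv D909)) (tt N919 D1199) (tt N752 F3374) (tt N909 (iv F4274)) (tt N752 F56326))
theorem Q754 : ∀ i, i < 754 → P i := stepQ 753 Q753 (allL N753 (tt N623 F3485) (tt N609 (iv D937)) (tt N753 F3486) (tt N753 F3487) (tt N920 D1234) (tt N753 F3488) (tt N921 D1235) (tt N922 D1236))
theorem Q755 : ∀ i, i < 755 → P i := stepQ 754 Q754 (allL N754 (tt N613 F3489) (tt N920 (iv F4522)) (tt N610 F3490) (tt N923 D1237) (tt N609 (iv D938)) (tt N924 D1238) (tt N925 D1239) (tt N926 D1240))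
theorem Q756 : ∀ i, i < 756 → P i := stepQ 755 Q755 (allL N755 (tt N614 F3491) (tt N921 (iv F4528)) (tt N755 F3492) (tt N755 F3493) (tt N925 (iv F4554)) (tt N755 F3494) (tt N609 (iv D939)) (tt N927 D1241))
theorem Q757 : ∀ i, i < 757 → P i := stepQ 756 Q756 (allL N756 (tt N615 F3495) (tt N922 (iv F4534)) (tt N611 F3496) (tt N756 F3497) (tt N926 (iv F4558)) (tt N756 F3498) (tt N928 D1242) (tt N609 (iv D940)))
theorem Q758 : ∀ i, i < 758 → P i := stepQ 757 Q757 (allL N757 (tt N616 F3499) (tt N757 F3500) (tt N924 (iv F4546)) (tt N757 F3501) (tt N757 F3502) (tt N610 (iv D941)) (tt N757 F3503) (tt N929 D1243))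
theorem Q759 : ∀ i, i < 759 → P i := stepQ 758 Q758 (allL N758 (tt N617 F3504) (tt N758 F3505) (tt N926 (iv F4557)) (tt N758 F3506) (tt N611 F3507) (tt N929 (iv F4570)) (tt N930 D1244) (tt N610 (iv D942)))
theorem Q760 : ∀ i, i < 760 → P i := stepQ 759 Q759 (allL N759 (tt N618 F3508) (tt N759 F3509) (tt N931 D1245) (tt N612 F3510) (tt N930 (iv F4574)) (tt N759 F3511) (tt N611 (iv D943)) (tt N759 F3512))
theorem Q761 : ∀ i, i < 761 → P i := stepQ 760 Q760 (allL N760 (tt N619 F3513) (tt N932 D1246) (tt N612 (iv D944)) (tt N933 D1247) (tt N760 F3514) (tt N760 F3515) (tt N760 F3516) (tt N760 F3517))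
theorem Q762 : ∀ i, i < 762 → P i := stepQ 761 Q761 (allL N761 (tt N923 (iv F4538)) (tt N631 F3518) (tt N761 F3519) (tt N613 (iv D945)) (tt N761 F3520) (tt N925 (iv F4555)) (tt N924 F4549) (tt N934 D1248))
theorem Q763 : ∀ i, i < 763 → P i := stepQ 762 Q762 (allL N762 (tt N924 (iv F4544)) (tt N632 F3521) (tt N616 F3522) (tt N925 (iv F4553)) (tt N762 F3523) (tt N613 (iv D946)) (tt N923 F4543) (tt N935 D1249))
theorem Q764 : ∀ i, i < 764 → P i := stepQ 763 Q763 (allL N763 (tt N925 (iv F4550)) (tt N633 F3524) (tt N763 F3525) (tt N924 (iv F4547)) (tt N614 F3526) (tt N923 F4542) (tt N613 (iv D947)) (tt N936 D1250))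
theorem Q765 : ∀ i, i < 765 → P i := stepQ 764 Q764 (allL N764 (tt N926 (iv F4556)) (tt N634 F3527) (tt N617 F3528) (tt N934 (iv F4591)) (tt N615 F3529) (tt N935 (iv F4596)) (tt N937 D1251) (tt N613 (iv D948)))
theorem Q766 : ∀ i, i < 766 → P i := stepQ 765 Q765 (allL N765 (tt N927 (iv F4559)) (tt N635 F3530) (tt N765 F3531) (tt N765 F3532) (tt N936 (iv F4599)) (tt N765 F3533) (tt N938 D1252) (tt N614 (iv D949)))
theorem Q767 : ∀ i, i < 767 → P i := stepQ 766 Q766 (allL N766 (tt N928 (iv F4563)) (tt N636 F3534) (tt N939 D1253) (tt N766 F3535) (tt N937 (iv F4601)) (tt N766 F3536) (tt N615 (iv D950)) (tt N938 (iv F4605)))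
theorem Q768 : ∀ i, i < 768 → P i := stepQ 767 Q767 (allL N767 (tt N929 (iv F4566)) (tt N620 F3537) (tt N935 (iv F4594)) (tt N767 F3538) (tt N767 F3539) (tt N617 F3540) (tt N940 D1254) (tt N616 (iv D951)))
theorem Q769 : ∀ i, i < 769 → P i := stepQ 768 Q768 (allL N768 (tt N930 (iv F4571)) (tt N621 F3541) (tt N941 D1255) (tt N768 F3542) (tt N618 F3543) (tt N940 (iv F4611)) (tt N617 (iv D952)) (tt N768 F3544))
theorem Q770 : ∀ i, i < 770 → P i := stepQ 769 Q769 (allL N769 (tt N931 (iv F4576)) (tt N942 D1256) (tt N618 (iv D953)) (tt N943 D1257) (tt N941 (iv F4613)) (tt N769 F3545) (tt N939 (iv F4607)) (tt N769 F3546))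
theorem Q771 : ∀ i, i < 771 → P i := stepQ 770 Q770 (allL N770 (tt N933 (iv F4585)) (tt N770 F3547) (tt N943 (iv F4618)) (tt N619 (iv D954)) (tt N944 D1258) (tt N770 F3548) (tt N770 F3549) (tt N770 F3550))
theorem Q772 : ∀ i, i < 772 → P i := stepQ 771 Q771 (allL N771 (tt N771 F3551) (tt N940 (iv F4608)) (tt N945 D1259) (tt N771 F3552) (tt N771 F3553) (tt N621 F3554) (tt N620 (iv D955)) (tt N771 F3555))
theorem Q773 : ∀ i, i < 773 → P i := stepQ 772 Q772 (allL N772 (tt N772 F3556) (tt N946 D1260) (tt N621 (iv D956)) (tt N947 D1261) (tt N622 F3557) (tt N945 (iv F4627)) (tt N642 F3558) (tt N772 F3559))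
theorem Q774 : ∀ i, i < 774 → P i := stepQ 773 Q773 (allL N773 (tt N948 D1262) (tt N622 (iv D957)) (tt N942 (iv F4615)) (tt N773 F3560) (tt N946 (iv F4630)) (tt N773 F3561) (tt N643 F3562) (tt N773 F3563))
theorem Q775 : ∀ i, i < 775 → P i := stepQ 774 Q774 (allL N774 (tt N920 (iv F4521)) (tt N624 F3564) (tt N774 F3565) (tt N949 D1263) (tt N623 (iv D958)) (tt N950 D1264) (tt N951 D1265) (tt N952 D1266))
theorem Q776 : ∀ i, i < 776 → P i := stepQ 775 Q775 (allL N775 (tt N921 (iv F4527)) (tt N625 F3566) (tt N953 D1267) (tt N775 F3567) (tt N951 (iv F4658)) (tt N775 F3568) (tt N623 (iv D959)) (tt N954 D1268))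
theorem Q777 : ∀ i, i < 777 → P i := stepQ 776 Q776 (allL N776 (tt N922 (iv F4533)) (tt N626 F3569) (tt N776 F3570) (tt N776 F3571) (tt N952 (iv F4663)) (tt N776 F3572) (tt N955 D1269) (tt N623 (iv D960)))
theorem Q778 : ∀ i, i < 778 → P i := stepQ 777 Q777 (allL N777 (tt N631 F3573) (tt N949 (iv F4644)) (tt N646 F3574) (tt N624 (iv D961)) (tt N777 F3575) (tt N951 (iv F4659)) (tt N950 F4654) (tt N956 D1270))
theorem Q779 : ∀ i, i < 779 → P i := stepQ 778 Q778 (allL N778 (tt N632 F3576) (tt N950 (iv F4650)) (tt N627 F3577) (tt N951 (iv F4657)) (tt N778 F3578) (tt N624 (iv D962)) (tt N949 (iv F4648)) (tt N957 D1271))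
theorem Q780 : ∀ i, i < 780 → P i := stepQ 779 Q779 (allL N779 (tt N633 F3579) (tt N951 (iv F4656)) (tt N696 F3580) (tt N950 (iv F4652)) (tt N625 F3581) (tt N949 (iv F4647)) (tt N624 (iv D963)) (tt N958 D1272))
theorem Q781 : ∀ i, i < 781 → P i := stepQ 780 Q780 (allL N780 (tt N634 F3582) (tt N952 (iv F4661)) (tt N628 F3583) (tt N956 (iv F4678)) (tt N626 F3584) (tt N957 (iv F4683)) (tt N959 D1273) (tt N624 (iv D964)))
theorem Q782 : ∀ i, i < 782 → P i := stepQ 781 Q781 (allL N781 (tt N635 F3585) (tt N954 (iv F4670)) (tt N698 F3586) (tt N781 F3587) (tt N958 (iv F4686)) (tt N781 F3588) (tt N960 D1274) (tt N625 (iv D965)))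
theorem Q783 : ∀ i, i < 783 → P i := stepQ 782 Q782 (allL N782 (tt N636 F3589) (tt N955 (iv F4673)) (tt N961 D1275) (tt N782 F3590) (tt N959 (iv F4688)) (tt N782 F3591) (tt N626 (iv D966)) (tt N960 (iv F4692)))
theorem Q784 : ∀ i, i < 784 → P i := stepQ 783 Q783 (allL N783 (tt N637 F3592) (tt N783 F3593) (tt N957 (iv F4681)) (tt N650 F3594) (tt N783 F3595) (tt N628 F3596) (tt N962 D1276) (tt N627 (iv D967)))
theorem Q785 : ∀ i, i < 785 → P i := stepQ 784 Q784 (allL N784 (tt N638 F3597) (tt N784 F3598) (tt N963 D1277) (tt N651 F3599) (tt N629 F3600) (tt N962 (iv F4700)) (tt N628 (iv D968)) (tt N701 F3601))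
theorem Q786 : ∀ i, i < 786 → P i := stepQ 785 Q785 (allL N785 (tt N639 F3602) (tt N964 D1278) (tt N629 (iv D969)) (tt N965 D1279) (tt N963 (iv F4703)) (tt N785 F3603) (tt N961 (iv F4695)) (tt N702 F3604))
theorem Q787 : ∀ i, i < 787 → P i := stepQ 786 Q786 (allL N786 (tt N786 F3605) (tt N630 (iv D970)) (tt N786 F3606) (tt N966 D1280) (tt N653 F3607) (tt N786 F3608) (tt N786 F3609) (tt N703 F3610))
theorem Q788 : ∀ i, i < 788 → P i := stepQ 787 Q787 (allL N787 (tt N640 F3611) (tt N966 (iv F4713)) (tt N965 (iv F4709)) (tt N630 (iv D971)) (tt N967 D1281) (tt N787 F3612) (tt N787 F3613) (tt N704 F3614))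
theorem Q789 : ∀ i, i < 789 → P i := stepQ 788 Q788 (allL N788 (tt N951 (iv F4655)) (tt N925 (iv F4551)) (tt N655 F3615) (tt N632 F3616) (tt N921 (iv F4530)) (tt N631 (iv D972)) (tt N920 (iv F4524)) (tt N968 D1282))
theorem Q790 : ∀ i, i < 790 → P i := stepQ 789 Q789 (allL N789 (tt N950 (iv F4649)) (tt N924 (iv F4545)) (tt N789 F3617) (tt N633 F3618) (tt N789 F3619) (tt N920 F4526) (tt N631 (iv D973)) (tt N969 D1283))
theorem Q791 : ∀ i, i < 791 → P i := stepQ 790 Q790 (allL N790 (tt N956 (iv F4676)) (tt N934 (iv F4589)) (tt N656 F3620) (tt N634 F3621) (tt N790 F3622) (tt N968 (iv F4723)) (tt N970 D1284) (tt N631 (iv D974)))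
theorem Q792 : ∀ i, i < 792 → P i := stepQ 791 Q791 (allL N791 (tt N949 (iv F4643)) (tt N923 (iv F4539)) (tt N705 F3623) (tt N920 F4525) (tt N791 F3624) (tt N633 F3625) (tt N632 (iv D975)) (tt N971 D1285))
theorem Q793 : ∀ i, i < 793 → P i := stepQ 792 Q792 (allL N792 (tt N957 (iv F4680)) (tt N935 (iv F4593)) (tt N637 F3626) (tt N968 (iv F4722)) (tt N792 F3627) (tt N634 F3628) (tt N972 D1286) (tt N632 (iv D976)))
theorem Q794 : ∀ i, i < 794 → P i := stepQ 793 Q793 (allL N793 (tt N958 (iv F4684)) (tt N936 (iv F4597)) (tt N707 F3629) (tt N969 (iv F4725)) (tt N635 F3630) (tt N971 (iv F4731)) (tt N973 D1287) (tt N633 (iv D977)))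
theorem Q795 : ∀ i, i < 795 → P i := stepQ 794 Q794 (allL N794 (tt N959 (iv F4687)) (tt N937 (iv F4600)) (tt N974 D1288) (tt N970 (iv F4727)) (tt N636 F3631) (tt N972 (iv F4733)) (tt N634 (iv D978)) (tt N973 (iv F4735)))
theorem Q796 : ∀ i, i < 796 → P i := stepQ 795 Q795 (allL N795 (tt N960 (iv F4689)) (tt N938 (iv F4602)) (tt N975 D1289) (tt N795 F3632) (tt N973 (iv F4734)) (tt N795 F3633) (tt N635 (iv D979)) (tt N636 F3634))
theorem Q797 : ∀ i, i < 797 → P i := stepQ 796 Q796 (allL N796 (tt N961 (iv F4693)) (tt N976 D1290) (tt N636 (iv D980)) (tt N977 D1291) (tt N974 (iv F4736)) (tt N796 F3635) (tt N639 F3636) (tt N975 (iv F4740)))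
theorem Q798 : ∀ i, i < 798 → P i := stepQ 797 Q797 (allL N797 (tt N962 (iv F4696)) (tt N641 F3637) (tt N978 D1292) (tt N660 F3638) (tt N797 F3639) (tt N638 F3640) (tt N637 (iv D981)) (tt N711 F3641))
theorem Q799 : ∀ i, i < 799 → P i := stepQ 798 Q798 (allL N798 (tt N963 (iv F4702)) (tt N979 D1293) (tt N638 (iv D982)) (tt N980 D1294) (tt N639 F3642) (tt N978 (iv F4747)) (tt N974 (iv F4737)) (tt N712 F3643))
theorem Q800 : ∀ i, i < 800 → P i := stepQ 799 Q799 (allL N799 (tt N981 D1295) (tt N639 (iv D983)) (tt N643 F3644) (tt N982 D1296) (tt N979 (iv F4750)) (tt N799 F3645) (tt N976 (iv F4742)) (tt N713 F3646))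
theorem Q801 : ∀ i, i < 801 → P i := stepQ 800 Q800 (allL N800 (tt N965 (iv F4708)) (tt N982 (iv F4757)) (tt N640 F3647) (tt N639 (iv D984)) (tt N983 D1297) (tt N800 F3648) (tt N977 (iv F4745)) (tt N714 F3649))
theorem Q802 : ∀ i, i < 802 → P i := stepQ 801 Q801 (allL N801 (tt N967 (iv F4717)) (tt N801 F3650) (tt N983 (iv F4761)) (tt N664 F3651) (tt N640 (iv D985)) (tt N984 D1298) (tt N801 F3652) (tt N715 F3653))
theorem Q803 : ∀ i, i < 803 → P i := stepQ 802 Q802 (allL N802 (tt N802 F3654) (tt N985 D1299) (tt N641 (iv D986)) (tt N986 D1300) (tt N802 F3655) (tt N642 F3656) (tt N945 (iv F4628)) (tt N716 F3657))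
theorem Q804 : ∀ i, i < 804 → P i := stepQ 803 Q803 (allL N803 (tt N987 D1301) (tt N642 (iv D987)) (tt N979 (iv F4749)) (tt N988 D1302) (tt N643 F3658) (tt N985 (iv F4769)) (tt N946 (iv F4631)) (tt N717 F3659))
theorem Q805 : ∀ i, i < 805 → P i := stepQ 804 Q804 (allL N804 (tt N804 F3660) (tt N988 (iv F4778)) (tt N667 F3661) (tt N642 (iv D988)) (tt N804 F3662) (tt N986 (iv F4773)) (tt N947 (iv F4636)) (tt N718 F3663))
theorem Q806 : ∀ i, i < 806 → P i := stepQ 805 Q805 (allL N805 (tt N643 (iv D989)) (tt N805 F3664) (tt N981 (iv F4754)) (tt N805 F3665) (tt N987 (iv F4776)) (tt N805 F3666) (tt N948 (iv F4641)) (tt N719 F3667))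
theorem Q807 : ∀ i, i < 807 → P i := stepQ 806 Q806 (allL N806 (tt N806 F3668) (tt N646 F3669) (tt N989 D1303) (tt N644 (iv D990)) (tt N806 F3670) (tt N990 D1304) (tt N806 F3671) (tt N991 D1305))
theorem Q808 : ∀ i, i < 808 → P i := stepQ 807 Q807 (allL N807 (tt N807 F3672) (tt N647 F3673) (tt N807 F3674) (tt N990 (iv F4790)) (tt N670 F3675) (tt N644 (iv D991)) (tt N807 F3676) (tt N992 D1306))
theorem Q809 : ∀ i, i < 809 → P i := stepQ 808 Q808 (allL N808 (tt N808 F3677) (tt N648 F3678) (tt N808 F3679) (tt N991 (iv F4795)) (tt N645 F3680) (tt N992 (iv F4801)) (tt N993 D1307) (tt N644 (iv D992)))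
theorem Q810 : ∀ i, i < 810 → P i := stepQ 809 Q809 (allL N809 (tt N809 F3681) (tt N649 F3682) (tt N994 D1308) (tt N809 F3683) (tt N993 (iv F4804)) (tt N672 F3684) (tt N645 (iv D993)) (tt N809 F3685))
theorem Q811 : ∀ i, i < 811 → P i := stepQ 810 Q810 (allL N810 (tt N655 F3686) (tt N990 (iv F4788)) (tt N951 F4660) (tt N647 F3687) (tt N953 (iv F4666)) (tt N646 (iv D994)) (tt N810 F3688) (tt N995 D1309))
theorem Q812 : ∀ i, i < 812 → P i := stepQ 811 Q811 (allL N811 (tt N656 F3689) (tt N991 (iv F4794)) (tt N956 (iv F4677)) (tt N648 F3690) (tt N811 F3691) (tt N995 (iv F4812)) (tt N996 D1310) (tt N646 (iv D995)))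
theorem Q813 : ∀ i, i < 813 → P i := stepQ 812 Q812 (allL N812 (tt N657 F3692) (tt N992 (iv F4798)) (tt N650 F3693) (tt N995 (iv F4811)) (tt N675 F3694) (tt N648 F3695) (tt N997 D1311) (tt N647 (iv D996)))
theorem Q814 : ∀ i, i < 814 → P i := stepQ 813 Q813 (allL N813 (tt N658 F3696) (tt N993 (iv F4803)) (tt N998 D1312) (tt N996 (iv F4814)) (tt N649 F3697) (tt N997 (iv F4819)) (tt N648 (iv D997)) (tt N813 F3698))
theorem Q815 : ∀ i, i < 815 → P i := stepQ 814 Q814 (allL N814 (tt N659 F3699) (tt N999 D1313) (tt N649 (iv D998)) (tt N1000 D1314) (tt N998 (iv F4822)) (tt N677 F3700) (tt N652 F3701) (tt N814 F3702))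
theorem Q816 : ∀ i, i < 816 → P i := stepQ 815 Q815 (allL N815 (tt N660 F3703) (tt N815 F3704) (tt N1001 D1315) (tt N962 (iv F4698)) (tt N678 F3705) (tt N651 F3706) (tt N650 (iv D999)) (tt N720 F3707))
theorem Q817 : ∀ i, i < 817 → P i := stepQ 816 Q816 (allL N816 (tt N661 F3708) (tt N1002 D1316) (tt N651 (iv D1000)) (tt N1003 D1317) (tt N652 F3709) (tt N1001 (iv F4835)) (tt N998 (iv F4823)) (tt N721 F3710))
theorem Q818 : ∀ i, i < 818 → P i := stepQ 817 Q817 (allL N817 (tt N1004 D1318) (tt N652 (iv D1001)) (tt N817 F3711) (tt N689 F55783) (tt N1002 (iv F4838)) (tt N680 F3712) (tt N999 (iv F4826)) (tt N722 F3713))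
theorem Q819 : ∀ i, i < 819 → P i := stepQ 818 Q818 (allL N818 (tt N663 F3714) (tt N689 (iv F55653)) (tt N654 F3715) (tt N652 (iv D1002)) (tt N1005 D1320) (tt N681 F3716) (tt N1000 (iv F4831)) (tt N723 F3717))
theorem Q820 : ∀ i, i < 820 → P i := stepQ 819 Q819 (allL N819 (tt N664 F3723) (tt N665 (iv F55867)) (tt N1005 (iv F4850)) (tt N967 (iv F4718)) (tt N654 (iv D1004)) (tt N666 F55772) (tt N819 F3724) (tt N724 F3725))
theorem Q821 : ∀ i, i < 821 → P i := stepQ 820 Q820 (allL N820 (tt N953 (iv F4664)) (tt N820 F3726) (tt N921 F4532) (tt N682 F3727) (tt N655 (iv D1005)) (tt N820 F3728) (tt N820 F3729) (tt N1006 D1324))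
theorem Q822 : ∀ i, i < 822 → P i := stepQ 821 Q821 (allL N821 (tt N995 (iv F4810)) (tt N821 F3730) (tt N968 (iv F4721)) (tt N657 F3731) (tt N1006 (iv F4866)) (tt N656 F3732) (tt N1007 D1325) (tt N655 (iv D1006)))
theorem Q823 : ∀ i, i < 823 → P i := stepQ 822 Q822 (allL N822 (tt N996 (iv F4813)) (tt N822 F3733) (tt N1008 D1326) (tt N658 F3734) (tt N822 F3735) (tt N1007 (iv F4870)) (tt N656 (iv D1007)) (tt N822 F3736))
theorem Q824 : ∀ i, i < 824 → P i := stepQ 823 Q823 (allL N823 (tt N997 (iv F4817)) (tt N823 F3737) (tt N1009 D1327) (tt N1007 (iv F4869)) (tt N685 F3738) (tt N658 F3739) (tt N657 (iv D1008)) (tt N823 F3740))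
theorem Q825 : ∀ i, i < 825 → P i := stepQ 824 Q824 (allL N824 (tt N998 (iv F4821)) (tt N1010 D1328) (tt N658 (iv D1009)) (tt N1011 D1329) (tt N659 F3741) (tt N1009 (iv F4875)) (tt N661 F3742) (tt N824 F3743))
theorem Q826 : ∀ i, i < 826 → P i := stepQ 825 Q825 (allL N825 (tt N1012 D1330) (tt N659 (iv D1010)) (tt N825 F3744) (tt N1013 D1331) (tt N1010 (iv F4879)) (tt N687 F3745) (tt N662 F3746) (tt N825 F3747))
theorem Q827 : ∀ i, i < 827 → P i := stepQ 826 Q826 (allL N826 (tt N1000 (iv F4828)) (tt N1013 (iv F4888)) (tt N826 F3748) (tt N659 (iv D1011)) (tt N1014 D1332) (tt N688 F3749) (tt N663 F3750) (tt N826 F3751))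
theorem Q828 : ∀ i, i < 828 → P i := stepQ 827 Q827 (allL N827 (tt N1001 (iv F4833)) (tt N1005 F55777) (tt N660 (iv D1012)) (tt N1015 D1334) (tt N689 F3752) (tt N661 F3753) (tt N1009 (iv F4876)) (tt N725 F3754))
theorem Q829 : ∀ i, i < 829 → P i := stepQ 828 Q828 (allL N828 (tt N1016 D1335) (tt N661 (iv D1013)) (tt N666 F3755) (tt N1017 D1336) (tt N662 F3756) (tt N1005 F55773) (tt N1010 (iv F4880)) (tt N726 F3757))
theorem Q830 : ∀ i, i < 830 → P i := stepQ 829 Q829 (allL N829 (tt N1003 (iv F4840)) (tt N1017 (iv F4904)) (tt N980 (iv F4752)) (tt N661 (iv D1014)) (tt N1018 D1337) (tt N1015 (iv F4899)) (tt N1011 (iv F4882)) (tt N727 F3758))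
theorem Q831 : ∀ i, i < 831 → P i := stepQ 830 Q830 (allL N830 (tt N662 (iv D1015)) (tt N1004 (iv F4842)) (tt N668 F3759) (tt N1019 D1338) (tt N1016 (iv F4902)) (tt N690 F3760) (tt N1012 (iv F4886)) (tt N728 F3761))
theorem Q832 : ∀ i, i < 832 → P i := stepQ 831 Q831 (allL N831 (tt N1019 (iv F4908)) (tt N663 F3762) (tt N831 F3763) (tt N662 (iv D1016)) (tt N1020 D1339) (tt N691 F3764) (tt N1013 (iv F4890)) (tt N729 F3765))
theorem Q833 : ∀ i, i < 833 → P i := stepQ 832 Q832 (allL N832 (tt N1005 (iv F4849)) (tt N1020 (iv F4912)) (tt N664 F3766) (tt N1018 (iv F4906)) (tt N663 (iv D1017)) (tt N1016 F55780) (tt N1014 (iv F4893)) (tt N730 F3767))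
theorem Q834 : ∀ i, i < 834 → P i := stepQ 833 Q833 (allL N833 (tt N666 F55797) (tt N833 F3768) (tt N1016 F55798) (tt N984 (iv F4764)) (tt N668 F55799) (tt N664 (iv D1018)) (tt N833 F3770) (tt N731 F3771))
theorem Q835 : ∀ i, i < 835 → P i := stepQ 834 Q834 (allL N834 (tt N834 F3776) (tt N967 F55997) (tt N986 (iv F4772)) (tt N665 (iv D1020)) (tt N966 (iv F56145)) (tt N667 F3777) (tt N834 F3778) (tt N732 F3779))
theorem Q836 : ∀ i, i < 836 → P i := stepQ 835 Q835 (allL N835 (tt N984 (iv F55940)) (tt N667 F3784) (tt N1021 D1345) (tt N666 (iv D1022)) (tt N835 F3785) (tt N967 (iv F55912)) (tt N835 F3786) (tt N733 F3787))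
theorem Q837 : ∀ i, i < 837 → P i := stepQ 836 Q836 (allL N836 (tt N836 F3788) (tt N836 F3789) (tt N669 (iv D1023)) (tt N836 F3790) (tt N836 F3791) (tt N1022 D1346) (tt N1023 D1347) (tt N1024 D1348))
theorem Q838 : ∀ i, i < 838 → P i := stepQ 837 Q837 (allL N837 (tt N837 F3792) (tt N673 F3793) (tt N1022 (iv F4941)) (tt N670 F3794) (tt N1025 D1349) (tt N669 (iv D1024)) (tt N837 F3795) (tt N1026 D1350))
theorem Q839 : ∀ i, i < 839 → P i := stepQ 838 Q838 (allL N838 (tt N838 F3796) (tt N674 F3797) (tt N1024 (iv F4953)) (tt N671 F3798) (tt N838 F3799) (tt N1026 (iv F4965)) (tt N1027 D1351) (tt N669 (iv D1025)))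
theorem Q840 : ∀ i, i < 840 → P i := stepQ 839 Q839 (allL N839 (tt N839 F3800) (tt N675 F3801) (tt N839 F3802) (tt N1026 (iv F4964)) (tt N992 (iv F4800)) (tt N671 F3803) (tt N1028 D1352) (tt N670 (iv D1026)))
theorem Q841 : ∀ i, i < 841 → P i := stepQ 840 Q840 (allL N840 (tt N840 F3804) (tt N676 F3805) (tt N1029 D1353) (tt N1027 (iv F4968)) (tt N672 F3806) (tt N1028 (iv F4973)) (tt N671 (iv D1027)) (tt N840 F3807))
theorem Q842 : ∀ i, i < 842 → P i := stepQ 841 Q841 (allL N841 (tt N841 F3808) (tt N1030 D1354) (tt N672 (iv D1028)) (tt N1031 D1355) (tt N1029 (iv F4976)) (tt N994 (iv F4807)) (tt N841 F3809) (tt N841 F3810))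
theorem Q843 : ∀ i, i < 843 → P i := stepQ 842 Q842 (allL N842 (tt N682 F3811) (tt N1025 (iv F4957)) (tt N842 F3812) (tt N953 F4669) (tt N673 (iv D1029)) (tt N842 F3813) (tt N842 F3814) (tt N1032 D1356))
theorem Q844 : ∀ i, i < 844 → P i := stepQ 843 Q843 (allL N843 (tt N683 F3815) (tt N1026 (iv F4963)) (tt N843 F3816) (tt N675 F3817) (tt N1032 (iv F4988)) (tt N674 F3818) (tt N1033 D1357) (tt N673 (iv D1030)))
theorem Q845 : ∀ i, i < 845 → P i := stepQ 844 Q844 (allL N844 (tt N684 F3819) (tt N1027 (iv F4967)) (tt N1034 D1358) (tt N676 F3820) (tt N844 F3821) (tt N1033 (iv F4992)) (tt N674 (iv D1031)) (tt N844 F3822))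
theorem Q846 : ∀ i, i < 846 → P i := stepQ 845 Q845 (allL N845 (tt N685 F3823) (tt N1028 (iv F4972)) (tt N1035 D1359) (tt N1033 (iv F4991)) (tt N997 (iv F4818)) (tt N676 F3824) (tt N675 (iv D1032)) (tt N845 F3825))
theorem Q847 : ∀ i, i < 847 → P i := stepQ 846 Q846 (allL N846 (tt N686 F3826) (tt N1036 D1360) (tt N676 (iv D1033)) (tt N1037 D1361) (tt N677 F3827) (tt N1035 (iv F4999)) (tt N679 F3828) (tt N846 F3829))
theorem Q848 : ∀ i, i < 848 → P i := stepQ 847 Q847 (allL N847 (tt N1037 F55556) (tt N677 (iv D1034)) (tt N1030 (iv F4979)) (tt N686 F55557) (tt N1036 (iv F5002)) (tt N999 (iv F4825)) (tt N680 F3830) (tt N847 F3831))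
theorem Q849 : ∀ i, i < 849 → P i := stepQ 848 Q848 (allL N848 (tt N688 F3832) (tt N686 F55554) (tt N848 F3833) (tt N677 (iv D1035)) (tt N687 F55555) (tt N1000 (iv F4830)) (tt N681 F3834) (tt N848 F3835))
theorem Q850 : ∀ i, i < 850 → P i := stepQ 849 Q849 (allL N849 (tt N689 F3836) (tt N1019 F55781) (tt N678 (iv D1036)) (tt N1004 F55782) (tt N1001 (iv F4834)) (tt N679 F3837) (tt N1035 (iv F5000)) (tt N734 F3838))
theorem Q851 : ∀ i, i < 851 → P i := stepQ 850 Q850 (allL N850 (tt N691 F55626) (tt N679 (iv D1037)) (tt N850 F3839) (tt N690 (iv F55664)) (tt N680 F3840) (tt N1019 (iv F55725)) (tt N1036 (iv F5003)) (tt N735 F3841))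
theorem Q852 : ∀ i, i < 852 → P i := stepQ 851 Q851 (allL N851 (tt N680 (iv F55665)) (tt N690 (iv F55663)) (tt N851 F3843) (tt N679 (iv D1038)) (tt N691 F55540) (tt N1004 (iv F55669)) (tt N1037 (iv F5006)) (tt N736 F3844))
theorem Q853 : ∀ i, i < 853 → P i := stepQ 852 Q852 (allL N852 (tt N1032 (iv F4986)) (tt N852 F3865) (tt N852 F3866) (tt N1006 (iv F4865)) (tt N683 F3867) (tt N852 F3868) (tt N1038 D1377) (tt N682 (iv D1045)))
theorem Q854 : ∀ i, i < 854 → P i := stepQ 853 Q853 (allL N853 (tt N1033 (iv F4990)) (tt N853 F3869) (tt N1039 D1378) (tt N685 F3870) (tt N1038 (iv F5058)) (tt N684 F3871) (tt N683 (iv D1046)) (tt N853 F3872))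
theorem Q855 : ∀ i, i < 855 → P i := stepQ 854 Q854 (allL N854 (tt N1034 (iv F4994)) (tt N1031 (iv F55593)) (tt N684 (iv D1047)) (tt N1030 (iv F55594)) (tt N854 F3873) (tt N1039 (iv F5061)) (tt N854 F3874) (tt N854 F3875))
theorem Q856 : ∀ i, i < 856 → P i := stepQ 855 Q855 (allL N855 (tt N1035 (iv F4998)) (tt N1000 (iv F55668)) (tt N685 (iv D1048)) (tt N999 (iv F55678)) (tt N1009 (iv F4874)) (tt N686 F3876) (tt N689 F3877) (tt N855 F3878))
theorem Q857 : ∀ i, i < 857 → P i := stepQ 856 Q856 (allL N856 (tt N687 (iv D1051)) (tt N1037 F55550) (tt N856 F3885) (tt N1036 (iv F55674)) (tt N688 (iv F55667)) (tt N1012 (iv F4885)) (tt N690 F3886) (tt N856 F3887))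
theorem Q858 : ∀ i, i < 858 → P i := stepQ 857 Q857 (allL N857 (tt N1036 (iv F55673)) (tt N688 F3888) (tt N1040 D1387) (tt N687 (iv D1052)) (tt N1037 F55546) (tt N1013 (iv F4889)) (tt N691 F3889) (tt N857 F3890))
theorem Q859 : ∀ i, i < 859 → P i := stepQ 858 Q858 (allL N858 (tt N858 F3937) (tt N695 F3938) (tt N858 F3939) (tt N858 F3940) (tt N858 F3941) (tt N692 (iv D1067)) (tt N989 (iv F4786)) (tt N1041 D1404))
theorem Q860 : ∀ i, i < 860 → P i := stepQ 859 Q859 (allL N859 (tt N859 F3942) (tt N696 F3943) (tt N990 (iv F4789)) (tt N859 F3944) (tt N693 F3945) (tt N989 F4785) (tt N692 (iv D1068)) (tt N1042 D1405))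
theorem Q861 : ∀ i, i < 861 → P i := stepQ 860 Q860 (allL N860 (tt N860 F3946) (tt N697 F3947) (tt N860 F3948) (tt N860 F3949) (tt N694 F3950) (tt N1041 (iv F5149)) (tt N1043 D1406) (tt N692 (iv D1069)))
theorem Q862 : ∀ i, i < 862 → P i := stepQ 861 Q861 (allL N861 (tt N861 F3951) (tt N953 (iv F4665)) (tt N693 (iv D1070)) (tt N1025 (iv F4959)) (tt N990 F4792) (tt N861 F3952) (tt N861 F3953) (tt N1044 D1407))
theorem Q863 : ∀ i, i < 863 → P i := stepQ 862 Q862 (allL N862 (tt N862 F3954) (tt N698 F3955) (tt N1044 (iv F5159)) (tt N742 F3956) (tt N1042 (iv F5153)) (tt N862 F3957) (tt N1045 D1408) (tt N693 (iv D1071)))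
theorem Q864 : ∀ i, i < 864 → P i := stepQ 863 Q863 (allL N863 (tt N863 F3958) (tt N699 F3959) (tt N1046 D1409) (tt N743 F3960) (tt N1043 (iv F5157)) (tt N863 F3961) (tt N694 (iv D1072)) (tt N1045 (iv F5165)))
theorem Q865 : ∀ i, i < 865 → P i := stepQ 864 Q864 (allL N864 (tt N705 F3962) (tt N989 (iv F4782)) (tt N949 F4646) (tt N864 F3963) (tt N864 F3964) (tt N696 F3965) (tt N695 (iv D1073)) (tt N1047 D1410))
theorem Q866 : ∀ i, i < 866 → P i := stepQ 865 Q865 (allL N865 (tt N706 F3966) (tt N1041 (iv F5145)) (tt N700 F3967) (tt N865 F3968) (tt N865 F3969) (tt N697 F3970) (tt N1048 D1411) (tt N695 (iv D1074)))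
theorem Q867 : ∀ i, i < 867 → P i := stepQ 866 Q866 (allL N866 (tt N707 F3971) (tt N1042 (iv F5151)) (tt N958 (iv F4685)) (tt N866 F3972) (tt N698 F3973) (tt N1047 (iv F5172)) (tt N1049 D1412) (tt N696 (iv D1075)))
theorem Q868 : ∀ i, i < 868 → P i := stepQ 867 Q867 (allL N867 (tt N708 F3974) (tt N1043 (iv F5155)) (tt N1050 D1413) (tt N867 F3975) (tt N699 F3976) (tt N1048 (iv F5176)) (tt N697 (iv D1076)) (tt N1049 (iv F5180)))
theorem Q869 : ∀ i, i < 869 → P i := stepQ 868 Q868 (allL N868 (tt N709 F3977) (tt N1045 (iv F5162)) (tt N1051 D1414) (tt N744 F3978) (tt N1049 (iv F5179)) (tt N868 F3979) (tt N698 (iv D1077)) (tt N699 F3980))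
theorem Q870 : ∀ i, i < 870 → P i := stepQ 869 Q869 (allL N869 (tt N710 F3981) (tt N1052 D1415) (tt N699 (iv D1078)) (tt N1053 D1416) (tt N1050 (iv F5182)) (tt N869 F3982) (tt N702 F3983) (tt N1051 (iv F5186)))
theorem Q871 : ∀ i, i < 871 → P i := stepQ 870 Q870 (allL N870 (tt N711 F3984) (tt N870 F3985) (tt N1054 D1417) (tt N720 F3986) (tt N870 F3987) (tt N701 F3988) (tt N700 (iv D1079)) (tt N962 (iv F4701)))
theorem Q872 : ∀ i, i < 872 → P i := stepQ 871 Q871 (allL N871 (tt N712 F3989) (tt N1055 D1418) (tt N701 (iv D1080)) (tt N1056 D1419) (tt N702 F3990) (tt N1054 (iv F5195)) (tt N1050 (iv F5183)) (tt N963 (iv F4704)))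
theorem Q873 : ∀ i, i < 873 → P i := stepQ 872 Q872 (allL N872 (tt N1057 D1420) (tt N702 (iv D1081)) (tt N872 F3991) (tt N1058 D1421) (tt N1055 (iv F5197)) (tt N872 F3992) (tt N1052 (iv F5188)) (tt N964 (iv F4707)))
theorem Q874 : ∀ i, i < 874 → P i := stepQ 873 Q873 (allL N873 (tt N714 F3993) (tt N1058 (iv F5203)) (tt N704 F3994) (tt N702 (iv D1082)) (tt N1059 D1422) (tt N873 F3995) (tt N1053 (iv F5192)) (tt N965 (iv F4711)))
theorem Q875 : ∀ i, i < 875 → P i := stepQ 874 Q874 (allL N874 (tt N874 F3996) (tt N704 F3997) (tt N1060 D1423) (tt N703 (iv D1083)) (tt N732 F56286) (tt N874 F3998) (tt N738 (iv F56442)) (tt N966 (iv F4716)))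
theorem Q876 : ∀ i, i < 876 → P i := stepQ 875 Q875 (allL N875 (tt N715 F4000) (tt N732 (iv F56146)) (tt N1059 (iv F5206)) (tt N724 F4001) (tt N704 (iv D1084)) (tt N733 F56049) (tt N737 (iv F56198)) (tt N967 (iv F4720)))
theorem Q877 : ∀ i, i < 877 → P i := stepQ 876 Q876 (allL N876 (tt N1047 (iv F5169)) (tt N876 F4003) (tt N971 (iv F4729)) (tt N876 F4004) (tt N876 F4005) (tt N707 F4006) (tt N1061 D1426) (tt N705 (iv D1085)))
theorem Q878 : ∀ i, i < 878 → P i := stepQ 877 Q877 (allL N877 (tt N1048 (iv F5173)) (tt N877 F4007) (tt N1062 D1427) (tt N877 F4008) (tt N877 F4009) (tt N708 F4010) (tt N706 (iv D1086)) (tt N1061 (iv F5222)))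
theorem Q879 : ∀ i, i < 879 → P i := stepQ 878 Q878 (allL N878 (tt N1049 (iv F5177)) (tt N878 F4011) (tt N1063 D1428) (tt N878 F4012) (tt N709 F4013) (tt N1061 (iv F5221)) (tt N707 (iv D1087)) (tt N708 F4014))
theorem Q880 : ∀ i, i < 880 → P i := stepQ 879 Q879 (allL N879 (tt N1050 (iv F5181)) (tt N1064 D1429) (tt N708 (iv D1088)) (tt N1065 D1430) (tt N710 F4015) (tt N1062 (iv F5224)) (tt N712 F4016) (tt N1063 (iv F5227)))
theorem Q881 : ∀ i, i < 881 → P i := stepQ 880 Q880 (allL N880 (tt N1051 (iv F5184)) (tt N1066 D1431) (tt N709 (iv D1089)) (tt N1067 D1432) (tt N1063 (iv F5226)) (tt N880 F4017) (tt N975 (iv F4739)) (tt N710 F4018))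
theorem Q882 : ∀ i, i < 882 → P i := stepQ 881 Q881 (allL N881 (tt N1068 D1433) (tt N710 (iv D1090)) (tt N881 F4019) (tt N1069 D1434) (tt N1064 (iv F5229)) (tt N881 F4020) (tt N713 F4021) (tt N1066 (iv F5235)))
theorem Q883 : ∀ i, i < 883 → P i := stepQ 882 Q882 (allL N882 (tt N1053 (iv F5189)) (tt N1069 (iv F5242)) (tt N749 F4022) (tt N710 (iv D1091)) (tt N1070 D1435) (tt N882 F4023) (tt N714 F4024) (tt N1067 (iv F5238)))
theorem Q884 : ∀ i, i < 884 → P i := stepQ 883 Q883 (allL N883 (tt N1054 (iv F5193)) (tt N1071 D1436) (tt N711 (iv D1092)) (tt N1072 D1437) (tt N883 F4025) (tt N712 F4026) (tt N1062 (iv F5225)) (tt N978 (iv F4748)))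
theorem Q885 : ∀ i, i < 885 → P i := stepQ 884 Q884 (allL N884 (tt N1073 D1438) (tt N712 (iv D1093)) (tt N717 F4027) (tt N1074 D1439) (tt N713 F4028) (tt N1071 (iv F5249)) (tt N1064 (iv F5230)) (tt N979 (iv F4751)))
theorem Q886 : ∀ i, i < 886 → P i := stepQ 885 Q885 (allL N885 (tt N1056 (iv F5198)) (tt N1074 (iv F5254)) (tt N727 F4029) (tt N712 (iv D1094)) (tt N1075 D1440) (tt N1072 (iv F5251)) (tt N1065 (iv F5232)) (tt N980 (iv F4753)))
theorem Q887 : ∀ i, i < 887 → P i := stepQ 886 Q886 (allL N886 (tt N713 (iv D1095)) (tt N1057 (iv F5200)) (tt N719 F4030) (tt N1076 D1441) (tt N1073 (iv F5253)) (tt N886 F4031) (tt N1068 (iv F5241)) (tt N981 (iv F4756)))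
theorem Q888 : ∀ i, i < 888 → P i := stepQ 887 Q887 (allL N887 (tt N1076 (iv F5257)) (tt N714 F4032) (tt N887 F4033) (tt N713 (iv D1096)) (tt N1077 D1442) (tt N887 F4034) (tt N1069 (iv F5244)) (tt N982 (iv F4760)))
theorem Q889 : ∀ i, i < 889 → P i := stepQ 888 Q888 (allL N888 (tt N1059 (iv F5205)) (tt N1077 (iv F5260)) (tt N715 F4035) (tt N1075 (iv F5256)) (tt N714 (iv D1097)) (tt N1078 D1443) (tt N1070 (iv F5246)) (tt N983 (iv F4762)))
theorem Q890 : ∀ i, i < 890 → P i := stepQ 889 Q889 (allL N889 (tt N733 F56069) (tt N889 F4036) (tt N1078 (iv F5262)) (tt N731 F4037) (tt N889 F4038) (tt N715 (iv D1098)) (tt N739 (iv F56223)) (tt N984 (iv F4767)))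
theorem Q891 : ∀ i, i < 891 → P i := stepQ 890 Q890 (allL N890 (tt N1079 D1444) (tt N716 (iv D1099)) (tt N1071 (iv F5247)) (tt N1080 D1445) (tt N890 F4040) (tt N717 F4041) (tt N890 F4042) (tt N985 (iv F4770)))
theorem Q892 : ∀ i, i < 892 → P i := stepQ 891 Q891 (allL N891 (tt N891 F4043) (tt N1080 (iv F5268)) (tt N732 F4044) (tt N716 (iv D1100)) (tt N1060 (iv F56440)) (tt N718 F4045) (tt N891 F4046) (tt N986 (iv F4774)))
theorem Q893 : ∀ i, i < 893 → P i := stepQ 892 Q892 (allL N892 (tt N717 (iv D1101)) (tt N892 F4047) (tt N1073 (iv F5252)) (tt N1081 D1447) (tt N719 F4048) (tt N1079 (iv F5266)) (tt N892 F4049) (tt N987 (iv F4777)))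
theorem Q894 : ∀ i, i < 894 → P i := stepQ 893 Q893 (allL N893 (tt N1081 (iv F5276)) (tt N718 F4050) (tt N1082 D1448) (tt N717 (iv D1102)) (tt N893 F4051) (tt N1080 (iv F5269)) (tt N893 F4052) (tt N988 (iv F4780)))
theorem Q895 : ∀ i, i < 895 → P i := stepQ 894 Q894 (allL N894 (tt N725 F4053) (tt N1083 D1449) (tt N720 (iv D1103)) (tt N1084 D1450) (tt N734 F4054) (tt N721 F4055) (tt N894 F4056) (tt N1001 (iv F4836)))
theorem Q896 : ∀ i, i < 896 → P i := stepQ 895 Q895 (allL N895 (tt N1085 D1451) (tt N721 (iv D1104)) (tt N895 F4057) (tt N1086 D1452) (tt N722 F4058) (tt N1083 (iv F5284)) (tt N895 F4059) (tt N1002 (iv F4839)))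
theorem Q897 : ∀ i, i < 897 → P i := stepQ 896 Q896 (allL N896 (tt N727 F4060) (tt N1086 (iv F5293)) (tt N1056 (iv F5199)) (tt N721 (iv D1105)) (tt N1087 D1453) (tt N1084 (iv F5287)) (tt N896 F4061) (tt N1003 (iv F4841)))
theorem Q898 : ∀ i, i < 898 → P i := stepQ 897 Q897 (allL N897 (tt N722 (iv D1106)) (tt N728 F4062) (tt N897 F4063) (tt N734 (iv F55930)) (tt N1085 (iv F5291)) (tt N736 F55779) (tt N897 F4065) (tt N1004 (iv F4845)))
theorem Q899 : ∀ i, i < 899 → P i := stepQ 898 Q898 (allL N898 (tt N730 F4069) (tt N725 (iv F55923)) (tt N724 F4070) (tt N1087 (iv F5296)) (tt N723 (iv D1108)) (tt N726 (iv F55918)) (tt N898 F4071) (tt N1005 (iv F4851)))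
theorem Q900 : ∀ i, i < 900 → P i := stepQ 899 Q899 (allL N899 (tt N1084 (iv F5286)) (tt N1087 F56061) (tt N1072 (iv F5250)) (tt N725 (iv D1113)) (tt N1086 (iv F56213)) (tt N727 F4085) (tt N899 F4086) (tt N1015 (iv F4900)))
theorem Q901 : ∀ i, i < 901 → P i := stepQ 900 Q900 (allL N900 (tt N726 (iv D1114)) (tt N1085 (iv F5289)) (tt N731 (iv F55935)) (tt N1088 D1464) (tt N728 F4088) (tt N730 (iv F55924)) (tt N900 F4089) (tt N1016 (iv F4903)))
theorem Q902 : ∀ i, i < 902 → P i := stepQ 901 Q901 (allL N901 (tt N1088 (iv F5330)) (tt N727 F4090) (tt N1089 D1465) (tt N726 (iv D1115)) (tt N1090 D1466) (tt N1087 F56056) (tt N901 F4091) (tt N1017 (iv F4905)))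
theorem Q903 : ∀ i, i < 903 → P i := stepQ 902 Q902 (allL N902 (tt N1087 (iv F5295)) (tt N1090 (iv F5333)) (tt N1075 (iv F5255)) (tt N730 F4092) (tt N727 (iv D1116)) (tt N1088 F56060) (tt N902 F4093) (tt N1018 (iv F4907)))
theorem Q904 : ∀ i, i < 904 → P i := stepQ 903 Q903 (allL N903 (tt N729 F4094) (tt N734 (iv F55929)) (tt N903 F4095) (tt N728 (iv D1117)) (tt N1083 (iv F56008)) (tt N735 F55872) (tt N903 F4097) (tt N1019 (iv F4911)))
theorem Q905 : ∀ i, i < 905 → P i := stepQ 904 Q904 (allL N904 (tt N1083 (iv F56007)) (tt N730 F4098) (tt N904 F4099) (tt N1090 (iv F5334)) (tt N729 (iv D1118)) (tt N1085 (iv F55926)) (tt N904 F4100) (tt N1020 (iv F4914)))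
theorem Q906 : ∀ i, i < 906 → P i := stepQ 905 Q905 (allL N905 (tt N1078 (iv F56222)) (tt N1082 (iv F5280)) (tt N733 (iv D1124)) (tt N1089 (iv F5332)) (tt N905 F4119) (tt N1059 (iv F56199)) (tt N1091 D1474) (tt N1021 (iv F4938)))
theorem Q907 : ∀ i, i < 907 → P i := stepQ 906 Q906 (allL N906 (tt N751 (iv F56496)) (tt N906 F4198) (tt N737 (iv D1152)) (tt N906 F4199) (tt N746 (iv F56498)) (tt N740 F4200) (tt N1092 D1511) (tt N906 F4201))
theorem Q908 : ∀ i, i < 908 → P i := stepQ 907 Q907 (allL N907 (tt N740 F4206) (tt N1093 D1512) (tt N739 (iv D1154)) (tt N907 F4207) (tt N907 F4208) (tt N751 (iv F56497)) (tt N1094 D1513) (tt N907 F4209))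
theorem Q909 : ∀ i, i < 909 → P i := stepQ 908 Q908 (allL N908 (tt N1094 (iv F5474)) (tt N908 F4210) (tt N1091 (iv F5356)) (tt N908 F4211) (tt N908 F4212) (tt N1092 (iv F5468)) (tt N740 (iv D1155)) (tt N1095 D1514))
theorem Q910 : ∀ i, i < 910 → P i := stepQ 909 Q909 (allL N909 (tt N909 F4271) (tt N909 F4272) (tt N1025 (iv F4958)) (tt N741 (iv D1171)) (tt N1022 F4943) (tt N909 F4273) (tt N752 F4274) (tt N1096 D1532))
theorem Q911 : ∀ i, i < 911 → P i := stepQ 910 Q910 (allL N910 (tt N910 F4275) (tt N910 F4276) (tt N742 F4277) (tt N1096 (iv F5549)) (tt N910 F4278) (tt N910 F4279) (tt N910 F56185) (tt N741 (iv D1172)))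
theorem Q912 : ∀ i, i < 912 → P i := stepQ 911 Q911 (allL N911 (tt N911 F4280) (tt N744 F4281) (tt N911 F56486) (tt N1045 (iv F5163)) (tt N911 F4282) (tt N911 F4283) (tt N742 (iv D1173)) (tt N743 F4284))
theorem Q913 : ∀ i, i < 913 → P i := stepQ 912 Q912 (allL N912 (tt N747 F4289) (tt N912 F56792) (tt N744 (iv D1175)) (tt N1097 D1538) (tt N912 F4290) (tt N912 F4291) (tt N912 F4292) (tt N745 F4293))
theorem Q914 : ∀ i, i < 914 → P i := stepQ 913 Q913 (allL N913 (tt N749 F4297) (tt N913 F56764) (tt N1053 (iv F5190)) (tt N745 (iv D1177)) (tt N1092 F56609) (tt N913 F4298) (tt N746 F4299) (tt N1097 (iv F5574)))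
theorem Q915 : ∀ i, i < 915 → P i := stepQ 914 Q914 (allL N914 (tt N914 F57086) (tt N747 (iv D1184)) (tt N914 F4324) (tt N1098 D1550) (tt N914 F4325) (tt N914 F4326) (tt N914 F4327) (tt N748 F4328))
theorem Q916 : ∀ i, i < 916 → P i := stepQ 915 Q915 (allL N915 (tt N1097 (iv F5571)) (tt N1098 (iv F5617)) (tt N1067 (iv F5236)) (tt N747 (iv D1185)) (tt N1099 D1551) (tt N915 F4329) (tt N915 F4330) (tt N749 F4331))
theorem Q917 : ∀ i, i < 917 → P i := stepQ 916 Q916 (allL N916 (tt N916 F56799) (tt N749 F4336) (tt N1100 D1553) (tt N748 (iv D1187)) (tt N1101 D1554) (tt N916 F4337) (tt N750 F4338) (tt N1098 (iv F5620)))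
theorem Q918 : ∀ i, i < 918 → P i := stepQ 917 Q917 (allL N917 (tt N1092 F56648) (tt N1101 (iv F5630)) (tt N1070 (iv F5245)) (tt N917 F4339) (tt N749 (iv D1188)) (tt N1094 F56649) (tt N751 F4340) (tt N1099 (iv F5623)))
theorem Q919 : ∀ i, i < 919 → P i := stepQ 918 Q918 (allL N918 (tt N918 F56795) (tt N751 F4345) (tt N918 F4346) (tt N918 F4347) (tt N750 (iv D1190)) (tt N1093 F56647) (tt N1101 (iv F5632)) (tt N918 F4348))
theorem Q920 : ∀ i, i < 920 → P i := stepQ 919 Q919 (allL N919 (tt N919 F4381) (tt N919 F4382) (tt N919 F4383) (tt N919 F4384) (tt N752 (iv D1199)) (tt N1023 (iv F4950)) (tt N1022 (iv F4944)) (tt N919 F56186))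
theorem Q921 : ∀ i, i < 921 → P i := stepQ 920 Q920 (allL N920 (tt N774 F4521) (tt N754 F4522) (tt N920 F4523) (tt N791 (iv F4525)) (tt N753 (iv D1234)) (tt N789 (iv F4526)) (tt N788 F4524) (tt N1102 D1608))
theorem Q922 : ∀ i, i < 922 → P i := stepQ 921 Q921 (allL N921 (tt N775 F4527) (tt N755 F4528) (tt N820 (iv F4532)) (tt N921 F4529) (tt N788 F4530) (tt N921 F4531) (tt N753 (iv D1235)) (tt N1103 D1609))
theorem Q923 : ∀ i, i < 923 → P i := stepQ 922 Q922 (allL N922 (tt N776 F4533) (tt N756 F4534) (tt N922 F4535) (tt N922 F4536) (tt N1102 (iv F5844)) (tt N922 F4537) (tt N1104 D1610) (tt N753 (iv D1236)))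
theorem Q924 : ∀ i, i < 924 → P i := stepQ 923 Q923 (allL N923 (tt N761 F4538) (tt N791 F4539) (tt N923 F4540) (tt N754 (iv D1237)) (tt N923 F4541) (tt N763 (iv F4542)) (tt N762 (iv F4543)) (tt N1105 D1611))
theorem Q925 : ∀ i, i < 925 → P i := stepQ 924 Q924 (allL N924 (tt N762 F4544) (tt N789 F4545) (tt N757 F4546) (tt N763 F4547) (tt N924 F4548) (tt N754 (iv D1238)) (tt N761 (iv F4549)) (tt N1106 D1612))
theorem Q926 : ∀ i, i < 926 → P i := stepQ 925 Q925 (allL N925 (tt N763 F4550) (tt N788 F4551) (tt N925 F4552) (tt N762 F4553) (tt N755 F4554) (tt N761 F4555) (tt N754 (iv D1239)) (tt N1107 D1613))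
theorem Q927 : ∀ i, i < 927 → P i := stepQ 926 Q926 (allL N926 (tt N764 F4556) (tt N1102 (iv F5841)) (tt N758 F4557) (tt N1105 (iv F5859)) (tt N756 F4558) (tt N1106 (iv F5867)) (tt N1108 D1614) (tt N754 (iv D1240)))
theorem Q928 : ∀ i, i < 928 → P i := stepQ 927 Q927 (allL N927 (tt N765 F4559) (tt N1103 (iv F5847)) (tt N927 F4560) (tt N927 F4561) (tt N1107 (iv F5872)) (tt N927 F4562) (tt N1109 D1615) (tt N755 (iv D1241)))
theorem Q929 : ∀ i, i < 929 → P i := stepQ 928 Q928 (allL N928 (tt N766 F4563) (tt N1104 (iv F5853)) (tt N1110 D1616) (tt N928 F4564) (tt N1108 (iv F5875)) (tt N928 F4565) (tt N756 (iv D1242)) (tt N1109 (iv F5879)))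
theorem Q930 : ∀ i, i < 930 → P i := stepQ 929 Q929 (allL N929 (tt N767 F4566) (tt N929 F4567) (tt N1106 (iv F5864)) (tt N929 F4568) (tt N929 F4569) (tt N758 F4570) (tt N1111 D1617) (tt N757 (iv D1243)))
theorem Q931 : ∀ i, i < 931 → P i := stepQ 930 Q930 (allL N930 (tt N768 F4571) (tt N930 F4572) (tt N1112 D1618) (tt N930 F4573) (tt N759 F4574) (tt N1111 (iv F5887)) (tt N758 (iv D1244)) (tt N930 F4575))
theorem Q932 : ∀ i, i < 932 → P i := stepQ 931 Q931 (allL N931 (tt N769 F4576) (tt N1113 D1619) (tt N759 (iv D1245)) (tt N1114 D1620) (tt N1112 (iv F5890)) (tt N931 F4577) (tt N1110 (iv F5882)) (tt N931 F4578))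
theorem Q933 : ∀ i, i < 933 → P i := stepQ 932 Q932 (allL N932 (tt N932 F4579) (tt N760 (iv D1246)) (tt N932 F4580) (tt N1115 D1621) (tt N932 F4581) (tt N932 F4582) (tt N932 F4583) (tt N932 F4584))
theorem Q934 : ∀ i, i < 934 → P i := stepQ 933 Q933 (allL N933 (tt N770 F4585) (tt N1115 (iv F5900)) (tt N1114 (iv F5896)) (tt N760 (iv D1247)) (tt N1116 D1622) (tt N933 F4586) (tt N933 F4587) (tt N933 F4588))
theorem Q935 : ∀ i, i < 935 → P i := stepQ 934 Q934 (allL N934 (tt N1105 (iv F5856)) (tt N790 F4589) (tt N934 F4590) (tt N764 F4591) (tt N934 F4592) (tt N1107 (iv F5873)) (tt N1117 D1623) (tt N761 (iv D1248)))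
theorem Q936 : ∀ i, i < 936 → P i := stepQ 935 Q935 (allL N935 (tt N1106 (iv F5862)) (tt N792 F4593) (tt N767 F4594) (tt N1107 (iv F5871)) (tt N935 F4595) (tt N764 F4596) (tt N1118 D1624) (tt N762 (iv D1249)))
theorem Q937 : ∀ i, i < 937 → P i := stepQ 936 Q936 (allL N936 (tt N1107 (iv F5868)) (tt N793 F4597) (tt N936 F4598) (tt N1106 (iv F5865)) (tt N765 F4599) (tt N1105 (iv F5861)) (tt N1119 D1625) (tt N763 (iv D1250)))
theorem Q938 : ∀ i, i < 938 → P i := stepQ 937 Q937 (allL N937 (tt N1108 (iv F5874)) (tt N794 F4600) (tt N1120 D1626) (tt N1117 (iv F5909)) (tt N766 F4601) (tt N1118 (iv F5913)) (tt N764 (iv D1251)) (tt N1119 (iv F5916)))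
theorem Q939 : ∀ i, i < 939 → P i := stepQ 938 Q938 (allL N938 (tt N1109 (iv F5876)) (tt N795 F4602) (tt N1121 D1627) (tt N938 F4603) (tt N1119 (iv F5915)) (tt N938 F4604) (tt N765 (iv D1252)) (tt N766 F4605))
theorem Q940 : ∀ i, i < 940 → P i := stepQ 939 Q939 (allL N939 (tt N1110 (iv F5880)) (tt N1122 D1628) (tt N766 (iv D1253)) (tt N1123 D1629) (tt N1120 (iv F5917)) (tt N939 F4606) (tt N769 F4607) (tt N1121 (iv F5921)))
theorem Q941 : ∀ i, i < 941 → P i := stepQ 940 Q940 (allL N940 (tt N1111 (iv F5883)) (tt N771 F4608) (tt N1124 D1630) (tt N940 F4609) (tt N940 F4610) (tt N768 F4611) (tt N767 (iv D1254)) (tt N940 F4612))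
theorem Q942 : ∀ i, i < 942 → P i := stepQ 941 Q941 (allL N941 (tt N1112 (iv F5889)) (tt N1125 D1631) (tt N768 (iv D1255)) (tt N1126 D1632) (tt N769 F4613) (tt N1124 (iv F5929)) (tt N1120 (iv F5918)) (tt N941 F4614))
theorem Q943 : ∀ i, i < 943 → P i := stepQ 942 Q942 (allL N942 (tt N1127 D1633) (tt N769 (iv D1256)) (tt N773 F4615) (tt N1128 D1634) (tt N1125 (iv F5932)) (tt N942 F4616) (tt N1122 (iv F5924)) (tt N942 F4617))
theorem Q944 : ∀ i, i < 944 → P i := stepQ 943 Q943 (allL N943 (tt N1114 (iv F5895)) (tt N1128 (iv F5939)) (tt N770 F4618) (tt N769 (iv D1257)) (tt N1129 D1635) (tt N943 F4619) (tt N1123 (iv F5927)) (tt N943 F4620))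
theorem Q945 : ∀ i, i < 945 → P i := stepQ 944 Q944 (allL N944 (tt N1116 (iv F5904)) (tt N944 F4621) (tt N1129 (iv F5943)) (tt N944 F4622) (tt N770 (iv D1258)) (tt N1130 D1636) (tt N944 F4623) (tt N944 F4624))
theorem Q946 : ∀ i, i < 946 → P i := stepQ 945 Q945 (allL N945 (tt N945 F4625) (tt N1131 D1637) (tt N771 (iv D1259)) (tt N1132 D1638) (tt N945 F4626) (tt N772 F4627) (tt N802 F4628) (tt N945 F4629))
theorem Q947 : ∀ i, i < 947 → P i := stepQ 946 Q946 (allL N946 (tt N1133 D1639) (tt N772 (iv D1260)) (tt N1125 (iv F5931)) (tt N1134 D1640) (tt N773 F4630) (tt N1131 (iv F5951)) (tt N803 F4631) (tt N946 F4632))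
theorem Q948 : ∀ i, i < 948 → P i := stepQ 947 Q947 (allL N947 (tt N947 F4633) (tt N1134 (iv F5963)) (tt N947 F4634) (tt N772 (iv D1261)) (tt N947 F4635) (tt N1132 (iv F5956)) (tt N804 F4636) (tt N947 F4637))
theorem Q949 : ∀ i, i < 949 → P i := stepQ 948 Q948 (allL N948 (tt N773 (iv D1262)) (tt N948 F4638) (tt N1127 (iv F5936)) (tt N948 F4639) (tt N1133 (iv F5960)) (tt N948 F4640) (tt N805 F4641) (tt N948 F4642))
theorem Q950 : ∀ i, i < 950 → P i := stepQ 949 Q949 (allL N949 (tt N791 F4643) (tt N777 F4644) (tt N864 (iv F4646)) (tt N774 (iv D1263)) (tt N949 F4645) (tt N779 F4647) (tt N778 F4648) (tt N1135 D1641))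
theorem Q951 : ∀ i, i < 951 → P i := stepQ 950 Q950 (allL N950 (tt N789 F4649) (tt N778 F4650) (tt N950 F4651) (tt N779 F4652) (tt N950 F4653) (tt N774 (iv D1264)) (tt N777 (iv F4654)) (tt N1136 D1642))
theorem Q952 : ∀ i, i < 952 → P i := stepQ 951 Q951 (allL N951 (tt N788 F4655) (tt N779 F4656) (tt N810 (iv F4660)) (tt N778 F4657) (tt N775 F4658) (tt N777 F4659) (tt N774 (iv D1265)) (tt N1137 D1643))
theorem Q953 : ∀ i, i < 953 → P i := stepQ 952 Q952 (allL N952 (tt N1102 (iv F5840)) (tt N780 F4661) (tt N952 F4662) (tt N1135 (iv F5970)) (tt N776 F4663) (tt N1136 (iv F5978)) (tt N1138 D1644) (tt N774 (iv D1266)))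
theorem Q954 : ∀ i, i < 954 → P i := stepQ 953 Q953 (allL N953 (tt N820 F4664) (tt N861 F4665) (tt N775 (iv D1267)) (tt N842 (iv F4669)) (tt N810 F4666) (tt N953 F4667) (tt N953 F4668) (tt N1139 D1645))
theorem Q955 : ∀ i, i < 955 → P i := stepQ 954 Q954 (allL N954 (tt N1103 (iv F5846)) (tt N781 F4670) (tt N1139 (iv F5989)) (tt N954 F4671) (tt N1137 (iv F5983)) (tt N954 F4672) (tt N1140 D1646) (tt N775 (iv D1268)))
theorem Q956 : ∀ i, i < 956 → P i := stepQ 955 Q955 (allL N955 (tt N1104 (iv F5852)) (tt N782 F4673) (tt N1141 D1647) (tt N955 F4674) (tt N1138 (iv F5986)) (tt N955 F4675) (tt N776 (iv D1269)) (tt N1140 (iv F5996)))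
theorem Q957 : ∀ i, i < 957 → P i := stepQ 956 Q956 (allL N956 (tt N790 F4676) (tt N1135 (iv F5968)) (tt N811 F4677) (tt N780 F4678) (tt N956 F4679) (tt N1137 (iv F5984)) (tt N1142 D1648) (tt N777 (iv D1270)))
theorem Q958 : ∀ i, i < 958 → P i := stepQ 957 Q957 (allL N957 (tt N792 F4680) (tt N1136 (iv F5974)) (tt N783 F4681) (tt N1137 (iv F5982)) (tt N957 F4682) (tt N780 F4683) (tt N1143 D1649) (tt N778 (iv D1271)))
theorem Q959 : ∀ i, i < 959 → P i := stepQ 958 Q958 (allL N958 (tt N793 F4684) (tt N1137 (iv F5980)) (tt N866 F4685) (tt N1136 (iv F5976)) (tt N781 F4686) (tt N1135 (iv F5972)) (tt N1144 D1650) (tt N779 (iv D1272)))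
theorem Q960 : ∀ i, i < 960 → P i := stepQ 959 Q959 (allL N959 (tt N794 F4687) (tt N1138 (iv F5985)) (tt N1145 D1651) (tt N1142 (iv F6000)) (tt N782 F4688) (tt N1143 (iv F6004)) (tt N780 (iv D1273)) (tt N1144 (iv F6007)))
theorem Q961 : ∀ i, i < 961 → P i := stepQ 960 Q960 (allL N960 (tt N795 F4689) (tt N1140 (iv F5993)) (tt N1146 D1652) (tt N960 F4690) (tt N1144 (iv F6006)) (tt N960 F4691) (tt N781 (iv D1274)) (tt N782 F4692))
theorem Q962 : ∀ i, i < 962 → P i := stepQ 961 Q961 (allL N961 (tt N796 F4693) (tt N1147 D1653) (tt N782 (iv D1275)) (tt N1148 D1654) (tt N1145 (iv F6009)) (tt N961 F4694) (tt N785 F4695) (tt N1146 (iv F6014)))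
theorem Q963 : ∀ i, i < 963 → P i := stepQ 962 Q962 (allL N962 (tt N797 F4696) (tt N962 F4697) (tt N1149 D1655) (tt N815 F4698) (tt N962 F4699) (tt N784 F4700) (tt N783 (iv D1276)) (tt N870 F4701))
theorem Q964 : ∀ i, i < 964 → P i := stepQ 963 Q963 (allL N963 (tt N798 F4702) (tt N1150 D1656) (tt N784 (iv D1277)) (tt N1151 D1657) (tt N785 F4703) (tt N1149 (iv F6023)) (tt N1145 (iv F6010)) (tt N871 F4704))
theorem Q965 : ∀ i, i < 965 → P i := stepQ 964 Q964 (allL N964 (tt N1152 D1658) (tt N785 (iv D1278)) (tt N964 F4705) (tt N1153 D1659) (tt N1150 (iv F6026)) (tt N964 F4706) (tt N1147 (iv F6016)) (tt N872 F4707))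
theorem Q966 : ∀ i, i < 966 → P i := stepQ 965 Q965 (allL N965 (tt N800 F4708) (tt N1153 (iv F6035)) (tt N787 F4709) (tt N785 (iv D1279)) (tt N1154 D1660) (tt N965 F4710) (tt N1148 (iv F6020)) (tt N873 F4711))
theorem Q967 : ∀ i, i < 967 → P i := stepQ 966 Q966 (allL N966 (tt N966 F4712) (tt N787 F4713) (tt N1155 D1661) (tt N786 (iv D1280)) (tt N834 F56145) (tt N966 F4714) (tt N966 F4715) (tt N874 F4716))
theorem Q968 : ∀ i, i < 968 → P i := stepQ 967 Q967 (allL N967 (tt N801 F4717) (tt N834 (iv F55997)) (tt N1154 (iv F6039)) (tt N819 F4718) (tt N787 (iv D1281)) (tt N835 F55912) (tt N967 F4719) (tt N875 F4720))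
theorem Q969 : ∀ i, i < 969 → P i := stepQ 968 Q968 (allL N968 (tt N1137 (iv F5979)) (tt N1107 (iv F5869)) (tt N821 F4721) (tt N792 F4722) (tt N1103 (iv F5850)) (tt N790 F4723) (tt N1156 D1664) (tt N788 (iv D1282)))
theorem Q970 : ∀ i, i < 970 → P i := stepQ 969 Q969 (allL N969 (tt N1136 (iv F5973)) (tt N1106 (iv F5863)) (tt N969 F4724) (tt N793 F4725) (tt N969 F4726) (tt N1102 (iv F5845)) (tt N1157 D1665) (tt N789 (iv D1283)))
theorem Q971 : ∀ i, i < 971 → P i := stepQ 970 Q970 (allL N970 (tt N1142 (iv F5999)) (tt N1117 (iv F5908)) (tt N1158 D1666) (tt N794 F4727) (tt N970 F4728) (tt N1156 (iv F6056)) (tt N790 (iv D1284)) (tt N1157 (iv F6059)))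
theorem Q972 : ∀ i, i < 972 → P i := stepQ 971 Q971 (allL N971 (tt N1135 (iv F5967)) (tt N1105 (iv F5857)) (tt N876 F4729) (tt N1102 (iv F5843)) (tt N971 F4730) (tt N793 F4731) (tt N1159 D1667) (tt N791 (iv D1285)))
theorem Q973 : ∀ i, i < 973 → P i := stepQ 972 Q972 (allL N972 (tt N1143 (iv F6002)) (tt N1118 (iv F5911)) (tt N1160 D1668) (tt N1156 (iv F6055)) (tt N972 F4732) (tt N794 F4733) (tt N792 (iv D1286)) (tt N1159 (iv F6064)))
theorem Q974 : ∀ i, i < 974 → P i := stepQ 973 Q973 (allL N973 (tt N1144 (iv F6005)) (tt N1119 (iv F5914)) (tt N1161 D1669) (tt N1157 (iv F6057)) (tt N795 F4734) (tt N1159 (iv F6063)) (tt N793 (iv D1287)) (tt N794 F4735))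
theorem Q975 : ∀ i, i < 975 → P i := stepQ 974 Q974 (allL N974 (tt N1145 (iv F6008)) (tt N1162 D1670) (tt N794 (iv D1288)) (tt N1163 D1671) (tt N796 F4736) (tt N1160 (iv F6066)) (tt N798 F4737) (tt N1161 (iv F6070)))
theorem Q976 : ∀ i, i < 976 → P i := stepQ 975 Q975 (allL N975 (tt N1146 (iv F6011)) (tt N1164 D1672) (tt N795 (iv D1289)) (tt N1165 D1673) (tt N1161 (iv F6068)) (tt N975 F4738) (tt N880 F4739) (tt N796 F4740))
theorem Q977 : ∀ i, i < 977 → P i := stepQ 976 Q976 (allL N976 (tt N1166 D1674) (tt N796 (iv D1290)) (tt N1122 (iv F5922)) (tt N1167 D1675) (tt N1162 (iv F6071)) (tt N976 F4741) (tt N799 F4742) (tt N1164 (iv F6076)))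
theorem Q978 : ∀ i, i < 978 → P i := stepQ 977 Q977 (allL N977 (tt N1148 (iv F6017)) (tt N1167 (iv F6083)) (tt N977 F4743) (tt N796 (iv D1291)) (tt N1168 D1676) (tt N977 F4744) (tt N800 F4745) (tt N1165 (iv F6080)))
theorem Q979 : ∀ i, i < 979 → P i := stepQ 978 Q978 (allL N978 (tt N1149 (iv F6021)) (tt N1169 D1677) (tt N797 (iv D1292)) (tt N1170 D1678) (tt N978 F4746) (tt N798 F4747) (tt N1160 (iv F6067)) (tt N883 F4748))
theorem Q980 : ∀ i, i < 980 → P i := stepQ 979 Q979 (allL N979 (tt N1171 D1679) (tt N798 (iv D1293)) (tt N803 F4749) (tt N1172 D1680) (tt N799 F4750) (tt N1169 (iv F6090)) (tt N1162 (iv F6072)) (tt N884 F4751))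
theorem Q981 : ∀ i, i < 981 → P i := stepQ 980 Q980 (allL N980 (tt N1151 (iv F6028)) (tt N1172 (iv F6098)) (tt N829 F4752) (tt N798 (iv D1294)) (tt N1173 D1681) (tt N1170 (iv F6093)) (tt N1163 (iv F6073)) (tt N885 F4753))
theorem Q982 : ∀ i, i < 982 → P i := stepQ 981 Q981 (allL N981 (tt N799 (iv D1295)) (tt N1152 (iv F6031)) (tt N805 F4754) (tt N1174 D1682) (tt N1171 (iv F6096)) (tt N981 F4755) (tt N1166 (iv F6082)) (tt N886 F4756))
theorem Q983 : ∀ i, i < 983 → P i := stepQ 982 Q982 (allL N982 (tt N1174 (iv F6103)) (tt N800 F4757) (tt N982 F4758) (tt N799 (iv D1296)) (tt N1175 D1683) (tt N982 F4759) (tt N1167 (iv F6085)) (tt N887 F4760))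
theorem Q984 : ∀ i, i < 984 → P i := stepQ 983 Q983 (allL N983 (tt N1154 (iv F6038)) (tt N1175 (iv F6107)) (tt N801 F4761) (tt N1173 (iv F6101)) (tt N800 (iv D1297)) (tt N1176 D1684) (tt N1168 (iv F6087)) (tt N888 F4762))
theorem Q985 : ∀ i, i < 985 → P i := stepQ 984 Q984 (allL N984 (tt N835 F55940) (tt N984 F4763) (tt N1176 (iv F6110)) (tt N833 F4764) (tt N984 F4765) (tt N801 (iv D1298)) (tt N984 F4766) (tt N889 F4767))
theorem Q986 : ∀ i, i < 986 → P i := stepQ 985 Q985 (allL N985 (tt N1177 D1685) (tt N802 (iv D1299)) (tt N1169 (iv F6088)) (tt N1178 D1686) (tt N985 F4768) (tt N803 F4769) (tt N1131 (iv F5952)) (tt N890 F4770))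
theorem Q987 : ∀ i, i < 987 → P i := stepQ 986 Q986 (allL N986 (tt N986 F4771) (tt N1178 (iv F6117)) (tt N834 F4772) (tt N802 (iv D1300)) (tt N1155 (iv F56285)) (tt N804 F4773) (tt N1132 (iv F5957)) (tt N891 F4774))
theorem Q988 : ∀ i, i < 988 → P i := stepQ 987 Q987 (allL N987 (tt N803 (iv D1301)) (tt N987 F4775) (tt N1171 (iv F6095)) (tt N1179 D1688) (tt N805 F4776) (tt N1177 (iv F6115)) (tt N1133 (iv F5961)) (tt N892 F4777))
theorem Q989 : ∀ i, i < 989 → P i := stepQ 988 Q988 (allL N988 (tt N1179 (iv F6125)) (tt N804 F4778) (tt N1180 D1689) (tt N803 (iv D1302)) (tt N988 F4779) (tt N1178 (iv F6118)) (tt N1134 (iv F5965)) (tt N893 F4780))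
theorem Q990 : ∀ i, i < 990 → P i := stepQ 989 Q989 (allL N989 (tt N989 F4781) (tt N864 F4782) (tt N806 (iv D1303)) (tt N989 F4783) (tt N989 F4784) (tt N859 (iv F4785)) (tt N858 F4786) (tt N1181 D1690))
theorem Q991 : ∀ i, i < 991 → P i := stepQ 990 Q990 (allL N990 (tt N990 F4787) (tt N810 F4788) (tt N859 F4789) (tt N807 F4790) (tt N861 (iv F4792)) (tt N806 (iv D1304)) (tt N990 F4791) (tt N1182 D1691))
theorem Q992 : ∀ i, i < 992 → P i := stepQ 991 Q991 (allL N991 (tt N991 F4793) (tt N811 F4794) (tt N1181 (iv F6134)) (tt N808 F4795) (tt N991 F4796) (tt N1182 (iv F6143)) (tt N1183 D1692) (tt N806 (iv D1305)))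
theorem Q993 : ∀ i, i < 993 → P i := stepQ 992 Q992 (allL N992 (tt N992 F4797) (tt N812 F4798) (tt N992 F4799) (tt N1182 (iv F6141)) (tt N839 F4800) (tt N808 F4801) (tt N1184 D1693) (tt N807 (iv D1306)))
theorem Q994 : ∀ i, i < 994 → P i := stepQ 993 Q993 (allL N993 (tt N993 F4802) (tt N813 F4803) (tt N1185 D1694) (tt N1183 (iv F6146)) (tt N809 F4804) (tt N1184 (iv F6152)) (tt N808 (iv D1307)) (tt N993 F4805))
theorem Q995 : ∀ i, i < 995 → P i := stepQ 994 Q994 (allL N994 (tt N994 F4806) (tt N1186 D1695) (tt N809 (iv D1308)) (tt N1187 D1696) (tt N1185 (iv F6155)) (tt N841 F4807) (tt N994 F4808) (tt N994 F4809))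
theorem Q996 : ∀ i, i < 996 → P i := stepQ 995 Q995 (allL N995 (tt N821 F4810) (tt N1182 (iv F6139)) (tt N1137 (iv F5981)) (tt N812 F4811) (tt N1139 (iv F5991)) (tt N811 F4812) (tt N1188 D1697) (tt N810 (iv D1309)))
theorem Q997 : ∀ i, i < 997 → P i := stepQ 996 Q996 (allL N996 (tt N822 F4813) (tt N1183 (iv F6145)) (tt N1189 D1698) (tt N813 F4814) (tt N996 F4815) (tt N1188 (iv F6169)) (tt N811 (iv D1310)) (tt N996 F4816))
theorem Q998 : ∀ i, i < 998 → P i := stepQ 997 Q997 (allL N997 (tt N823 F4817) (tt N1184 (iv F6150)) (tt N1190 D1699) (tt N1188 (iv F6168)) (tt N845 F4818) (tt N813 F4819) (tt N812 (iv D1311)) (tt N997 F4820))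
theorem Q999 : ∀ i, i < 999 → P i := stepQ 998 Q998 (allL N998 (tt N824 F4821) (tt N1191 D1700) (tt N813 (iv D1312)) (tt N1192 D1701) (tt N814 F4822) (tt N1190 (iv F6176)) (tt N816 F4823) (tt N998 F4824))
theorem Q1000 : ∀ i, i < 1000 → P i := stepQ 999 Q999 (allL N999 (tt N1193 D1702) (tt N814 (iv D1313)) (tt N1186 (iv F6158)) (tt N855 F55678) (tt N1191 (iv F6179)) (tt N847 F4825) (tt N817 F4826) (tt N999 F4827))
theorem Q1001 : ∀ i, i < 1001 → P i := stepQ 1000 Q1000 (allL N1000 (tt N826 F4828) (tt N855 F55668) (tt N1000 F4829) (tt N814 (iv D1314)) (tt N1194 D1704) (tt N848 F4830) (tt N818 F4831) (tt N1000 F4832))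
theorem Q1002 : ∀ i, i < 1002 → P i := stepQ 1001 Q1001 (allL N1001 (tt N827 F4833) (tt N1195 D1705) (tt N815 (iv D1315)) (tt N1196 D1706) (tt N849 F4834) (tt N816 F4835) (tt N1190 (iv F6177)) (tt N894 F4836))
theorem Q1003 : ∀ i, i < 1003 → P i := stepQ 1002 Q1002 (allL N1002 (tt N1197 D1707) (tt N816 (iv D1316)) (tt N1002 F4837) (tt N1198 D1708) (tt N817 F4838) (tt N1195 (iv F6199)) (tt N1191 (iv F6180)) (tt N895 F4839))
theorem Q1004 : ∀ i, i < 1004 → P i := stepQ 1003 Q1003 (allL N1003 (tt N829 F4840) (tt N1198 (iv F6208)) (tt N1151 (iv F6029)) (tt N816 (iv D1317)) (tt N1199 D1709) (tt N1196 (iv F6202)) (tt N1192 (iv F6183)) (tt N896 F4841))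
theorem Q1005 : ∀ i, i < 1005 → P i := stepQ 1004 Q1004 (allL N1004 (tt N817 (iv D1318)) (tt N830 F4842) (tt N1004 F4843) (tt N849 (iv F55782)) (tt N1197 (iv F6206)) (tt N851 F55669) (tt N1193 (iv F6187)) (tt N897 F4845))
theorem Q1006 : ∀ i, i < 1006 → P i := stepQ 1005 Q1005 (allL N1005 (tt N832 F4849) (tt N827 (iv F55777)) (tt N819 F4850) (tt N1199 (iv F6211)) (tt N818 (iv D1320)) (tt N828 (iv F55773)) (tt N1194 (iv F6195)) (tt N898 F4851))
theorem Q1007 : ∀ i, i < 1007 → P i := stepQ 1006 Q1006 (allL N1006 (tt N1139 (iv F5987)) (tt N1006 F4864) (tt N1103 (iv F5848)) (tt N852 F4865) (tt N821 F4866) (tt N1006 F4867) (tt N1200 D1717) (tt N820 (iv D1324)))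
theorem Q1008 : ∀ i, i < 1008 → P i := stepQ 1007 Q1007 (allL N1007 (tt N1188 (iv F6167)) (tt N1007 F4868) (tt N1201 D1718) (tt N823 F4869) (tt N1200 (iv F6241)) (tt N822 F4870) (tt N821 (iv D1325)) (tt N1007 F4871))
theorem Q1009 : ∀ i, i < 1009 → P i := stepQ 1008 Q1008 (allL N1008 (tt N1189 (iv F6171)) (tt N1202 D1719) (tt N822 (iv D1326)) (tt N1203 D1720) (tt N1008 F4872) (tt N1201 (iv F6244)) (tt N1158 (iv F6061)) (tt N1008 F4873))
theorem Q1010 : ∀ i, i < 1010 → P i := stepQ 1009 Q1009 (allL N1009 (tt N1190 (iv F6174)) (tt N1194 (iv F55794)) (tt N823 (iv D1327)) (tt N1204 D1722) (tt N855 F4874) (tt N824 F4875) (tt N827 F4876) (tt N1009 F4877))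
theorem Q1011 : ∀ i, i < 1011 → P i := stepQ 1010 Q1010 (allL N1010 (tt N1205 D1723) (tt N824 (iv D1328)) (tt N1010 F4878) (tt N1206 D1724) (tt N825 F4879) (tt N1194 (iv F55795)) (tt N828 F4880) (tt N1010 F4881))
theorem Q1012 : ∀ i, i < 1012 → P i := stepQ 1011 Q1011 (allL N1011 (tt N1192 (iv F6182)) (tt N1206 (iv F6263)) (tt N1203 (iv F6249)) (tt N824 (iv D1329)) (tt N1207 D1725) (tt N1204 (iv F6256)) (tt N829 F4882) (tt N1011 F4883))
theorem Q1013 : ∀ i, i < 1013 → P i := stepQ 1012 Q1012 (allL N1012 (tt N825 (iv D1330)) (tt N1193 (iv F6185)) (tt N1012 F4884) (tt N1208 D1726) (tt N1205 (iv F6260)) (tt N856 F4885) (tt N830 F4886) (tt N1012 F4887))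
theorem Q1014 : ∀ i, i < 1014 → P i := stepQ 1013 Q1013 (allL N1013 (tt N1208 (iv F6269)) (tt N826 F4888) (tt N1209 D1727) (tt N825 (iv D1331)) (tt N1210 D1728) (tt N857 F4889) (tt N831 F4890) (tt N1013 F4891))
theorem Q1015 : ∀ i, i < 1015 → P i := stepQ 1014 Q1014 (allL N1014 (tt N1194 (iv F6193)) (tt N1210 (iv F6278)) (tt N1014 F4892) (tt N1207 (iv F6266)) (tt N826 (iv D1332)) (tt N1205 F55931) (tt N832 F4893) (tt N1014 F4894))
theorem Q1016 : ∀ i, i < 1016 → P i := stepQ 1015 Q1015 (allL N1015 (tt N1196 (iv F6201)) (tt N1199 F55922) (tt N1170 (iv F6092)) (tt N827 (iv D1334)) (tt N1198 (iv F56063)) (tt N829 F4899) (tt N1204 (iv F6257)) (tt N899 F4900))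
theorem Q1017 : ∀ i, i < 1017 → P i := stepQ 1016 Q1016 (allL N1016 (tt N828 (iv D1335)) (tt N1197 (iv F6204)) (tt N833 (iv F55798)) (tt N1211 D1733) (tt N830 F4902) (tt N832 (iv F55780)) (tt N1205 (iv F6261)) (tt N900 F4903))
theorem Q1018 : ∀ i, i < 1018 → P i := stepQ 1017 Q1017 (allL N1017 (tt N1211 (iv F6294)) (tt N829 F4904) (tt N1212 D1734) (tt N828 (iv D1336)) (tt N1213 D1735) (tt N1199 F55917) (tt N1206 (iv F6264)) (tt N901 F4905))
theorem Q1019 : ∀ i, i < 1019 → P i := stepQ 1018 Q1018 (allL N1018 (tt N1199 (iv F6210)) (tt N1213 (iv F6298)) (tt N1173 (iv F6100)) (tt N832 F4906) (tt N829 (iv D1337)) (tt N1211 F55920) (tt N1207 (iv F6267)) (tt N902 F4907))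
theorem Q1020 : ∀ i, i < 1020 → P i := stepQ 1019 Q1019 (allL N1019 (tt N831 F4908) (tt N849 (iv F55781)) (tt N1019 F4909) (tt N830 (iv D1338)) (tt N1195 (iv F55874)) (tt N850 F55725) (tt N1208 (iv F6271)) (tt N903 F4911))
theorem Q1021 : ∀ i, i < 1021 → P i := stepQ 1020 Q1020 (allL N1020 (tt N1195 (iv F55873)) (tt N832 F4912) (tt N1020 F4913) (tt N1213 (iv F6299)) (tt N831 (iv D1339)) (tt N1197 (iv F55776)) (tt N1210 (iv F6279)) (tt N904 F4914))
theorem Q1022 : ∀ i, i < 1022 → P i := stepQ 1021 Q1021 (allL N1021 (tt N1176 (iv F56077)) (tt N1180 (iv F6129)) (tt N835 (iv D1345)) (tt N1212 (iv F6296)) (tt N1021 F4937) (tt N1154 (iv F56051)) (tt N1214 D1743) (tt N905 F4938))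
theorem Q1023 : ∀ i, i < 1023 → P i := stepQ 1022 Q1022 (allL N1022 (tt N1022 F4939) (tt N1022 F4940) (tt N837 F4941) (tt N1022 F4942) (tt N909 (iv F4943)) (tt N836 (iv D1346)) (tt N919 F4944) (tt N1215 D1744))
theorem Q1024 : ∀ i, i < 1024 → P i := stepQ 1023 Q1023 (allL N1023 (tt N1023 F4945) (tt N1023 F4946) (tt N1023 F4947) (tt N1023 F4948) (tt N1023 F4949) (tt N919 F4950) (tt N836 (iv D1347)) (tt N1023 F56039))
theorem Q1025 : ∀ i, i < 1025 → P i := stepQ 1024 Q1024 (allL N1024 (tt N1024 F4951) (tt N1024 F4952) (tt N838 F4953) (tt N1024 F4954) (tt N1024 F4955) (tt N1215 (iv F6332)) (tt N1024 F55764) (tt N836 (iv D1348)))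
theorem Q1026 : ∀ i, i < 1026 → P i := stepQ 1025 Q1025 (allL N1025 (tt N1025 F4956) (tt N842 F4957) (tt N909 F4958) (tt N861 F4959) (tt N837 (iv D1349)) (tt N1025 F4960) (tt N1025 F4961) (tt N1216 D1747))
theorem Q1027 : ∀ i, i < 1027 → P i := stepQ 1026 Q1026 (allL N1026 (tt N1026 F4962) (tt N843 F4963) (tt N1215 (iv F6329)) (tt N839 F4964) (tt N1216 (iv F6347)) (tt N838 F4965) (tt N1217 D1748) (tt N837 (iv D1350)))
theorem Q1028 : ∀ i, i < 1028 → P i := stepQ 1027 Q1027 (allL N1027 (tt N1027 F4966) (tt N844 F4967) (tt N1027 F55529) (tt N840 F4968) (tt N1027 F4969) (tt N1217 (iv F6352)) (tt N838 (iv D1351)) (tt N1027 F4970))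
theorem Q1029 : ∀ i, i < 1029 → P i := stepQ 1028 Q1028 (allL N1028 (tt N1028 F4971) (tt N845 F4972) (tt N1218 D1750) (tt N1217 (iv F6351)) (tt N1184 (iv F6151)) (tt N840 F4973) (tt N839 (iv D1352)) (tt N1028 F4974))
theorem Q1030 : ∀ i, i < 1030 → P i := stepQ 1029 Q1029 (allL N1029 (tt N1029 F4975) (tt N1219 D1751) (tt N840 (iv D1353)) (tt N1029 F55755) (tt N841 F4976) (tt N1218 (iv F6358)) (tt N1029 F4977) (tt N1029 F4978))
theorem Q1031 : ∀ i, i < 1031 → P i := stepQ 1030 Q1030 (allL N1030 (tt N1220 D1753) (tt N841 (iv D1354)) (tt N847 F4979) (tt N854 F55594) (tt N1219 (iv F6362)) (tt N1186 (iv F6159)) (tt N1030 F4980) (tt N1030 F4981))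
theorem Q1032 : ∀ i, i < 1032 → P i := stepQ 1031 Q1031 (allL N1031 (tt N1031 F4982) (tt N854 F55593) (tt N1031 F4983) (tt N841 (iv D1355)) (tt N1031 F55701) (tt N1187 (iv F6164)) (tt N1031 F4984) (tt N1031 F4985))
theorem Q1033 : ∀ i, i < 1033 → P i := stepQ 1032 Q1032 (allL N1032 (tt N852 F4986) (tt N1216 (iv F6344)) (tt N1032 F4987) (tt N1139 (iv F5990)) (tt N843 F4988) (tt N1032 F4989) (tt N1221 D1756) (tt N842 (iv D1356)))
theorem Q1034 : ∀ i, i < 1034 → P i := stepQ 1033 Q1033 (allL N1033 (tt N853 F4990) (tt N1217 (iv F6350)) (tt N1222 D1757) (tt N845 F4991) (tt N1221 (iv F6380)) (tt N844 F4992) (tt N843 (iv D1357)) (tt N1033 F4993))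
theorem Q1035 : ∀ i, i < 1035 → P i := stepQ 1034 Q1034 (allL N1034 (tt N854 F4994) (tt N1034 F55404) (tt N844 (iv D1358)) (tt N1220 F55592) (tt N1034 F4995) (tt N1222 (iv F6384)) (tt N1034 F4996) (tt N1034 F4997))
theorem Q1036 : ∀ i, i < 1036 → P i := stepQ 1035 Q1035 (allL N1035 (tt N855 F4998) (tt N1208 (iv F55803)) (tt N845 (iv D1359)) (tt N1193 F55677) (tt N1190 (iv F6175)) (tt N846 F4999) (tt N849 F5000) (tt N1035 F5001))
theorem Q1037 : ∀ i, i < 1037 → P i := stepQ 1036 Q1036 (allL N1036 (tt N857 F55673) (tt N846 (iv D1360)) (tt N1219 (iv F6361)) (tt N856 F55674) (tt N847 F5002) (tt N1208 (iv F55804)) (tt N850 F5003) (tt N1036 F5004))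
theorem Q1038 : ∀ i, i < 1038 → P i := stepQ 1037 Q1037 (allL N1037 (tt N847 (iv F55556)) (tt N856 (iv F55550)) (tt N1220 (iv F55495)) (tt N846 (iv D1361)) (tt N857 (iv F55546)) (tt N1193 (iv F55558)) (tt N851 F5006) (tt N1037 F5007))
theorem Q1039 : ∀ i, i < 1039 → P i := stepQ 1038 Q1038 (allL N1038 (tt N1221 (iv F6379)) (tt N1038 F5057) (tt N1223 D1785) (tt N1200 (iv F6240)) (tt N853 F5058) (tt N1038 F5059) (tt N852 (iv D1377)) (tt N1038 F5060))
theorem Q1040 : ∀ i, i < 1040 → P i := stepQ 1039 Q1039 (allL N1039 (tt N1222 (iv F6383)) (tt N1187 (iv F55711)) (tt N853 (iv D1378)) (tt N1186 (iv F55683)) (tt N1223 (iv F6476)) (tt N854 F5061) (tt N1039 F5062) (tt N1039 F5063))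
theorem Q1041 : ∀ i, i < 1041 → P i := stepQ 1040 Q1040 (allL N1040 (tt N1219 (iv F55630)) (tt N1040 F5091) (tt N857 (iv D1387)) (tt N1040 F5092) (tt N1220 F55562) (tt N1209 (iv F6275)) (tt N1040 F5093) (tt N1040 F5094))
theorem Q1042 : ∀ i, i < 1042 → P i := stepQ 1041 Q1041 (allL N1041 (tt N1041 F5144) (tt N865 F5145) (tt N1041 F5146) (tt N1041 F5147) (tt N1041 F5148) (tt N860 F5149) (tt N1224 D1819) (tt N858 (iv D1404)))
theorem Q1043 : ∀ i, i < 1043 → P i := stepQ 1042 Q1042 (allL N1042 (tt N1042 F5150) (tt N866 F5151) (tt N1182 (iv F6140)) (tt N1042 F5152) (tt N862 F5153) (tt N1181 (iv F6137)) (tt N1225 D1820) (tt N859 (iv D1405)))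
theorem Q1044 : ∀ i, i < 1044 → P i := stepQ 1043 Q1043 (allL N1043 (tt N1043 F5154) (tt N867 F5155) (tt N1226 D1821) (tt N1043 F5156) (tt N863 F5157) (tt N1224 (iv F6595)) (tt N860 (iv D1406)) (tt N1225 (iv F6600)))
theorem Q1045 : ∀ i, i < 1045 → P i := stepQ 1044 Q1044 (allL N1044 (tt N1044 F5158) (tt N1139 (iv F5988)) (tt N862 F5159) (tt N1216 (iv F6346)) (tt N1182 (iv F6142)) (tt N1044 F5160) (tt N1227 D1822) (tt N861 (iv D1407)))
theorem Q1046 : ∀ i, i < 1046 → P i := stepQ 1045 Q1045 (allL N1045 (tt N1045 F5161) (tt N868 F5162) (tt N1228 D1823) (tt N911 F5163) (tt N1225 (iv F6599)) (tt N1045 F5164) (tt N862 (iv D1408)) (tt N863 F5165))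
theorem Q1047 : ∀ i, i < 1047 → P i := stepQ 1046 Q1046 (allL N1046 (tt N1046 F5166) (tt N1229 D1824) (tt N863 (iv D1409)) (tt N1046 F56325) (tt N1226 (iv F6602)) (tt N1046 F5167) (tt N1046 F5168) (tt N1228 (iv F6609)))
theorem Q1048 : ∀ i, i < 1048 → P i := stepQ 1047 Q1047 (allL N1047 (tt N876 F5169) (tt N1181 (iv F6133)) (tt N1135 (iv F5969)) (tt N1047 F5170) (tt N1047 F5171) (tt N866 F5172) (tt N1230 D1826) (tt N864 (iv D1410)))
theorem Q1049 : ∀ i, i < 1049 → P i := stepQ 1048 Q1048 (allL N1048 (tt N877 F5173) (tt N1224 (iv F6592)) (tt N1231 D1827) (tt N1048 F5174) (tt N1048 F5175) (tt N867 F5176) (tt N865 (iv D1411)) (tt N1230 (iv F6621)))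
theorem Q1050 : ∀ i, i < 1050 → P i := stepQ 1049 Q1049 (allL N1049 (tt N878 F5177) (tt N1225 (iv F6597)) (tt N1232 D1828) (tt N1049 F5178) (tt N868 F5179) (tt N1230 (iv F6620)) (tt N866 (iv D1412)) (tt N867 F5180))
theorem Q1051 : ∀ i, i < 1051 → P i := stepQ 1050 Q1050 (allL N1050 (tt N879 F5181) (tt N1233 D1829) (tt N867 (iv D1413)) (tt N1234 D1830) (tt N869 F5182) (tt N1231 (iv F6624)) (tt N871 F5183) (tt N1232 (iv F6628)))
theorem Q1052 : ∀ i, i < 1052 → P i := stepQ 1051 Q1051 (allL N1051 (tt N880 F5184) (tt N1235 D1831) (tt N868 (iv D1414)) (tt N1236 D1832) (tt N1232 (iv F6627)) (tt N1051 F5185) (tt N1146 (iv F6013)) (tt N869 F5186))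
theorem Q1053 : ∀ i, i < 1053 → P i := stepQ 1052 Q1052 (allL N1052 (tt N1237 D1833) (tt N869 (iv D1415)) (tt N1229 (iv F6610)) (tt N1238 D1834) (tt N1233 (iv F6629)) (tt N1052 F5187) (tt N872 F5188) (tt N1235 (iv F6635)))
theorem Q1054 : ∀ i, i < 1054 → P i := stepQ 1053 Q1053 (allL N1053 (tt N882 F5189) (tt N1238 (iv F6643)) (tt N913 F5190) (tt N869 (iv D1416)) (tt N1239 D1835) (tt N1053 F5191) (tt N873 F5192) (tt N1236 (iv F6639)))
theorem Q1055 : ∀ i, i < 1055 → P i := stepQ 1054 Q1054 (allL N1054 (tt N883 F5193) (tt N1240 D1836) (tt N870 (iv D1417)) (tt N1241 D1837) (tt N1054 F5194) (tt N871 F5195) (tt N1231 (iv F6625)) (tt N1149 (iv F6024)))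
theorem Q1056 : ∀ i, i < 1056 → P i := stepQ 1055 Q1055 (allL N1055 (tt N1242 D1838) (tt N871 (iv D1418)) (tt N1055 F5196) (tt N1243 D1839) (tt N872 F5197) (tt N1240 (iv F6651)) (tt N1233 (iv F6630)) (tt N1150 (iv F6027)))
theorem Q1057 : ∀ i, i < 1057 → P i := stepQ 1056 Q1056 (allL N1056 (tt N885 F5198) (tt N1243 (iv F6658)) (tt N896 F5199) (tt N871 (iv D1419)) (tt N1244 D1840) (tt N1241 (iv F6654)) (tt N1234 (iv F6633)) (tt N1151 (iv F6030)))
theorem Q1058 : ∀ i, i < 1058 → P i := stepQ 1057 Q1057 (allL N1057 (tt N872 (iv D1420)) (tt N886 F5200) (tt N1057 F5201) (tt N1245 D1841) (tt N1242 (iv F6657)) (tt N1057 F5202) (tt N1237 (iv F6642)) (tt N1152 (iv F6034)))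
theorem Q1059 : ∀ i, i < 1059 → P i := stepQ 1058 Q1058 (allL N1058 (tt N1245 (iv F6662)) (tt N873 F5203) (tt N1246 D1842) (tt N872 (iv D1421)) (tt N1247 D1843) (tt N1058 F5204) (tt N1238 (iv F6645)) (tt N1153 (iv F6037)))
theorem Q1060 : ∀ i, i < 1060 → P i := stepQ 1059 Q1059 (allL N1059 (tt N888 F5205) (tt N1247 (iv F6668)) (tt N875 F5206) (tt N1244 (iv F6661)) (tt N873 (iv D1422)) (tt N905 F56199) (tt N1239 (iv F6648)) (tt N1154 (iv F6040)))
theorem Q1061 : ∀ i, i < 1061 → P i := stepQ 1060 Q1060 (allL N1060 (tt N1060 F5207) (tt N1246 (iv F6665)) (tt N874 (iv D1423)) (tt N1060 F5208) (tt N891 F56440) (tt N1060 F5209) (tt N1060 F56601) (tt N1155 (iv F6044)))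
theorem Q1062 : ∀ i, i < 1062 → P i := stepQ 1061 Q1061 (allL N1061 (tt N1230 (iv F6617)) (tt N1061 F5218) (tt N1248 D1848) (tt N1061 F5219) (tt N1061 F5220) (tt N878 F5221) (tt N876 (iv D1426)) (tt N877 F5222))
theorem Q1063 : ∀ i, i < 1063 → P i := stepQ 1062 Q1062 (allL N1062 (tt N1231 (iv F6622)) (tt N1249 D1849) (tt N877 (iv D1427)) (tt N1250 D1850) (tt N1062 F5223) (tt N879 F5224) (tt N883 F5225) (tt N1248 (iv F6685)))
theorem Q1064 : ∀ i, i < 1064 → P i := stepQ 1063 Q1063 (allL N1063 (tt N1232 (iv F6626)) (tt N1251 D1851) (tt N878 (iv D1428)) (tt N1252 D1852) (tt N880 F5226) (tt N1248 (iv F6684)) (tt N1161 (iv F6069)) (tt N879 F5227))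
theorem Q1065 : ∀ i, i < 1065 → P i := stepQ 1064 Q1064 (allL N1064 (tt N1253 D1853) (tt N879 (iv D1429)) (tt N1064 F5228) (tt N1254 D1854) (tt N881 F5229) (tt N1249 (iv F6688)) (tt N884 F5230) (tt N1251 (iv F6695)))
theorem Q1066 : ∀ i, i < 1066 → P i := stepQ 1065 Q1065 (allL N1065 (tt N1234 (iv F6631)) (tt N1254 (iv F6701)) (tt N1065 F5231) (tt N879 (iv D1430)) (tt N1255 D1855) (tt N1250 (iv F6691)) (tt N885 F5232) (tt N1252 (iv F6697)))
theorem Q1067 : ∀ i, i < 1067 → P i := stepQ 1066 Q1066 (allL N1066 (tt N1256 D1856) (tt N880 (iv D1431)) (tt N1066 F5233) (tt N1257 D1857) (tt N1251 (iv F6694)) (tt N1066 F5234) (tt N1164 (iv F6075)) (tt N881 F5235))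
theorem Q1068 : ∀ i, i < 1068 → P i := stepQ 1067 Q1067 (allL N1067 (tt N1236 (iv F6636)) (tt N1257 (iv F6709)) (tt N915 F5236) (tt N880 (iv D1432)) (tt N1258 D1858) (tt N1067 F5237) (tt N1165 (iv F6079)) (tt N882 F5238))
theorem Q1069 : ∀ i, i < 1069 → P i := stepQ 1068 Q1068 (allL N1068 (tt N881 (iv D1433)) (tt N1237 (iv F6640)) (tt N1068 F5239) (tt N1259 D1859) (tt N1253 (iv F6699)) (tt N1068 F5240) (tt N886 F5241) (tt N1256 (iv F6708)))
theorem Q1070 : ∀ i, i < 1070 → P i := stepQ 1069 Q1069 (allL N1069 (tt N1259 (iv F6714)) (tt N882 F5242) (tt N1260 D1860) (tt N881 (iv D1434)) (tt N1261 D1861) (tt N1069 F5243) (tt N887 F5244) (tt N1257 (iv F6711)))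
theorem Q1071 : ∀ i, i < 1071 → P i := stepQ 1070 Q1070 (allL N1070 (tt N1239 (iv F6646)) (tt N1261 (iv F6721)) (tt N917 F5245) (tt N1255 (iv F6704)) (tt N882 (iv D1435)) (tt N1262 D1862) (tt N888 F5246) (tt N1258 (iv F6713)))
theorem Q1072 : ∀ i, i < 1072 → P i := stepQ 1071 Q1071 (allL N1071 (tt N1263 D1863) (tt N883 (iv D1436)) (tt N890 F5247) (tt N1264 D1864) (tt N1071 F5248) (tt N884 F5249) (tt N1249 (iv F6689)) (tt N1169 (iv F6091)))
theorem Q1073 : ∀ i, i < 1073 → P i := stepQ 1072 Q1072 (allL N1072 (tt N1241 (iv F6652)) (tt N1264 (iv F6729)) (tt N899 F5250) (tt N883 (iv D1437)) (tt N1265 D1865) (tt N885 F5251) (tt N1250 (iv F6692)) (tt N1170 (iv F6094)))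
theorem Q1074 : ∀ i, i < 1074 → P i := stepQ 1073 Q1073 (allL N1073 (tt N884 (iv D1438)) (tt N1242 (iv F6655)) (tt N892 F5252) (tt N1266 D1866) (tt N886 F5253) (tt N1263 (iv F6728)) (tt N1253 (iv F6700)) (tt N1171 (iv F6097)))
theorem Q1075 : ∀ i, i < 1075 → P i := stepQ 1074 Q1074 (allL N1074 (tt N1266 (iv F6733)) (tt N885 F5254) (tt N1267 D1867) (tt N884 (iv D1439)) (tt N1268 D1868) (tt N1264 (iv F6730)) (tt N1254 (iv F6702)) (tt N1172 (iv F6099)))
theorem Q1076 : ∀ i, i < 1076 → P i := stepQ 1075 Q1075 (allL N1075 (tt N1244 (iv F6659)) (tt N1268 (iv F6736)) (tt N902 F5255) (tt N888 F5256) (tt N885 (iv D1440)) (tt N1269 D1869) (tt N1255 (iv F6705)) (tt N1173 (iv F6102)))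
theorem Q1077 : ∀ i, i < 1077 → P i := stepQ 1076 Q1076 (allL N1076 (tt N887 F5257) (tt N1245 (iv F6663)) (tt N1076 F5258) (tt N886 (iv D1441)) (tt N1270 D1870) (tt N1076 F5259) (tt N1259 (iv F6716)) (tt N1174 (iv F6106)))
theorem Q1078 : ∀ i, i < 1078 → P i := stepQ 1077 Q1077 (allL N1077 (tt N1270 (iv F6740)) (tt N888 F5260) (tt N1077 F5261) (tt N1268 (iv F6737)) (tt N887 (iv D1442)) (tt N1271 D1871) (tt N1261 (iv F6722)) (tt N1175 (iv F6109)))
theorem Q1079 : ∀ i, i < 1079 → P i := stepQ 1078 Q1078 (allL N1078 (tt N905 F56222) (tt N1271 (iv F6742)) (tt N889 F5262) (tt N1269 (iv F6739)) (tt N1078 F5263) (tt N888 (iv D1443)) (tt N1262 (iv F6725)) (tt N1176 (iv F6112)))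
theorem Q1080 : ∀ i, i < 1080 → P i := stepQ 1079 Q1079 (allL N1079 (tt N890 (iv D1444)) (tt N1079 F5264) (tt N1263 (iv F6726)) (tt N1272 D1872) (tt N1079 F5265) (tt N892 F5266) (tt N1079 F5267) (tt N1177 (iv F6116)))
theorem Q1081 : ∀ i, i < 1081 → P i := stepQ 1080 Q1080 (allL N1080 (tt N1272 (iv F6745)) (tt N891 F5268) (tt N1247 F56438) (tt N890 (iv D1445)) (tt N1246 (iv F56600)) (tt N893 F5269) (tt N1080 F5270) (tt N1178 (iv F6119)))
theorem Q1082 : ∀ i, i < 1082 → P i := stepQ 1081 Q1081 (allL N1081 (tt N893 F5276) (tt N1081 F5277) (tt N1273 D1875) (tt N892 (iv D1447)) (tt N1081 F5278) (tt N1272 (iv F6747)) (tt N1081 F5279) (tt N1179 (iv F6128)))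
theorem Q1083 : ∀ i, i < 1083 → P i := stepQ 1082 Q1082 (allL N1082 (tt N1273 (iv F6755)) (tt N905 F5280) (tt N893 (iv D1448)) (tt N1267 (iv F6735)) (tt N1082 F5281) (tt N1247 (iv F56336)) (tt N1274 D1876) (tt N1180 (iv F6131)))
theorem Q1084 : ∀ i, i < 1084 → P i := stepQ 1083 Q1083 (allL N1083 (tt N904 F56007) (tt N894 (iv D1449)) (tt N1083 F5282) (tt N1275 D1878) (tt N903 F56008) (tt N895 F5284) (tt N1083 F5285) (tt N1195 (iv F6200)))
theorem Q1085 : ∀ i, i < 1085 → P i := stepQ 1084 Q1084 (allL N1084 (tt N899 F5286) (tt N1275 (iv F6765)) (tt N1241 (iv F6653)) (tt N894 (iv D1450)) (tt N1276 D1879) (tt N896 F5287) (tt N1084 F5288) (tt N1196 (iv F6203)))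
theorem Q1086 : ∀ i, i < 1086 → P i := stepQ 1085 Q1085 (allL N1085 (tt N895 (iv D1451)) (tt N900 F5289) (tt N1085 F5290) (tt N1276 (iv F56066)) (tt N897 F5291) (tt N904 F55926) (tt N1085 F5292) (tt N1197 (iv F6207)))
theorem Q1087 : ∀ i, i < 1087 → P i := stepQ 1086 Q1086 (allL N1086 (tt N1276 F56212) (tt N896 F5293) (tt N1265 (iv F56358)) (tt N895 (iv D1452)) (tt N899 F56213) (tt N1275 (iv F6766)) (tt N1086 F5294) (tt N1198 (iv F6209)))
theorem Q1088 : ∀ i, i < 1088 → P i := stepQ 1087 Q1087 (allL N1087 (tt N902 F5295) (tt N899 (iv F56061)) (tt N1244 (iv F6660)) (tt N898 F5296) (tt N896 (iv D1453)) (tt N901 (iv F56056)) (tt N1087 F5297) (tt N1199 (iv F6212)))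
theorem Q1089 : ∀ i, i < 1089 → P i := stepQ 1088 Q1088 (allL N1088 (tt N901 F5330) (tt N1276 F56072) (tt N1269 (iv F56071)) (tt N900 (iv D1464)) (tt N1275 F56073) (tt N902 (iv F56060)) (tt N1088 F5331) (tt N1211 (iv F6295)))
theorem Q1090 : ∀ i, i < 1090 → P i := stepQ 1089 Q1089 (allL N1089 (tt N1269 F56205) (tt N1267 (iv F6734)) (tt N901 (iv D1465)) (tt N905 F5332) (tt N1277 D1899) (tt N1244 F56206) (tt N1278 D1900) (tt N1212 (iv F6297)))
theorem Q1091 : ∀ i, i < 1091 → P i := stepQ 1090 Q1090 (allL N1090 (tt N1275 F56024) (tt N902 F5333) (tt N1277 (iv F6825)) (tt N904 F5334) (tt N901 (iv D1466)) (tt N1276 (iv F56065)) (tt N1090 F5335) (tt N1213 (iv F6300)))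
theorem Q1092 : ∀ i, i < 1092 → P i := stepQ 1091 Q1091 (allL N1091 (tt N1262 (iv F56372)) (tt N1274 (iv F6757)) (tt N908 F5356) (tt N1278 (iv F6828)) (tt N1091 F5357) (tt N1239 (iv F56337)) (tt N905 (iv D1474)) (tt N1279 D1909))
theorem Q1093 : ∀ i, i < 1093 → P i := stepQ 1092 Q1092 (allL N1092 (tt N917 (iv F56648)) (tt N1092 F5466) (tt N1239 F56499) (tt N1092 F5467) (tt N913 (iv F56609)) (tt N908 F5468) (tt N906 (iv D1511)) (tt N1280 D1955))
theorem Q1094 : ∀ i, i < 1094 → P i := stepQ 1093 Q1093 (allL N1093 (tt N1093 F5469) (tt N907 (iv D1512)) (tt N1093 F5470) (tt N1093 F5471) (tt N1093 F5472) (tt N918 (iv F56647)) (tt N1281 D1956) (tt N1093 F5473))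
theorem Q1095 : ∀ i, i < 1095 → P i := stepQ 1094 Q1094 (allL N1094 (tt N908 F5474) (tt N1281 (iv F6997)) (tt N1262 F56544) (tt N1094 F5475) (tt N1094 F5476) (tt N917 (iv F56649)) (tt N907 (iv D1513)) (tt N1282 D1957))
theorem Q1096 : ∀ i, i < 1096 → P i := stepQ 1095 Q1095 (allL N1095 (tt N1282 (iv F7000)) (tt N1095 F5477) (tt N1279 (iv F6852)) (tt N1095 F5478) (tt N1095 F5479) (tt N1280 (iv F6994)) (tt N1095 F5480) (tt N908 (iv D1514)))
theorem Q1097 : ∀ i, i < 1097 → P i := stepQ 1096 Q1096 (allL N1096 (tt N1096 F5547) (tt N1096 F5548) (tt N1216 (iv F6345)) (tt N910 F5549) (tt N1215 (iv F6331)) (tt N1096 F5550) (tt N1096 F56038) (tt N909 (iv D1532)))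
theorem Q1098 : ∀ i, i < 1098 → P i := stepQ 1097 Q1097 (allL N1097 (tt N915 F5571) (tt N1097 F56929) (tt N1236 (iv F6637)) (tt N912 (iv D1538)) (tt N1280 F56762) (tt N1097 F5572) (tt N1097 F5573) (tt N913 F5574))
theorem Q1099 : ∀ i, i < 1099 → P i := stepQ 1098 Q1098 (allL N1098 (tt N1098 F56955) (tt N915 F5617) (tt N1283 D2001) (tt N914 (iv D1550)) (tt N1284 D2002) (tt N1098 F5618) (tt N1098 F5619) (tt N916 F5620))
theorem Q1100 : ∀ i, i < 1100 → P i := stepQ 1099 Q1099 (allL N1099 (tt N1280 F56797) (tt N1284 (iv F7170)) (tt N1258 (iv F6712)) (tt N1099 F5621) (tt N915 (iv D1551)) (tt N1282 F56798) (tt N1099 F5622) (tt N917 F5623))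
theorem Q1101 : ∀ i, i < 1101 → P i := stepQ 1100 Q1100 (allL N1100 (tt N1100 F56954) (tt N1260 (iv F6717)) (tt N916 (iv D1553)) (tt N1100 F5627) (tt N1285 D2006) (tt N1100 F5628) (tt N1100 F5629) (tt N1283 (iv F7169)))
theorem Q1102 : ∀ i, i < 1102 → P i := stepQ 1101 Q1101 (allL N1101 (tt N1101 F56951) (tt N917 F5630) (tt N1285 (iv F7185)) (tt N1101 F5631) (tt N916 (iv D1554)) (tt N1281 F56796) (tt N918 F5632) (tt N1284 (iv F7173)))
theorem Q1103 : ∀ i, i < 1103 → P i := stepQ 1102 Q1102 (allL N1102 (tt N952 F5840) (tt N926 F5841) (tt N1102 F5842) (tt N971 F5843) (tt N922 F5844) (tt N969 F5845) (tt N1286 D2069) (tt N920 (iv D1608)))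
theorem Q1104 : ∀ i, i < 1104 → P i := stepQ 1103 Q1103 (allL N1103 (tt N954 F5846) (tt N927 F5847) (tt N1006 F5848) (tt N1103 F5849) (tt N968 F5850) (tt N1103 F5851) (tt N1287 D2070) (tt N921 (iv D1609)))
theorem Q1105 : ∀ i, i < 1105 → P i := stepQ 1104 Q1104 (allL N1104 (tt N955 F5852) (tt N928 F5853) (tt N1288 D2071) (tt N1104 F5854) (tt N1286 (iv F7423)) (tt N1104 F5855) (tt N922 (iv D1610)) (tt N1287 (iv F7431)))
theorem Q1106 : ∀ i, i < 1106 → P i := stepQ 1105 Q1105 (allL N1105 (tt N934 F5856) (tt N971 F5857) (tt N1105 F5858) (tt N926 F5859) (tt N1105 F5860) (tt N936 F5861) (tt N1289 D2072) (tt N923 (iv D1611)))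
theorem Q1107 : ∀ i, i < 1107 → P i := stepQ 1106 Q1106 (allL N1106 (tt N935 F5862) (tt N969 F5863) (tt N929 F5864) (tt N936 F5865) (tt N1106 F5866) (tt N926 F5867) (tt N1290 D2073) (tt N924 (iv D1612)))
theorem Q1108 : ∀ i, i < 1108 → P i := stepQ 1107 Q1107 (allL N1107 (tt N936 F5868) (tt N968 F5869) (tt N1107 F5870) (tt N935 F5871) (tt N927 F5872) (tt N934 F5873) (tt N1291 D2074) (tt N925 (iv D1613)))
theorem Q1109 : ∀ i, i < 1109 → P i := stepQ 1108 Q1108 (allL N1108 (tt N937 F5874) (tt N1286 (iv F7421)) (tt N1292 D2075) (tt N1289 (iv F7437)) (tt N928 F5875) (tt N1290 (iv F7445)) (tt N926 (iv D1614)) (tt N1291 (iv F7452)))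
theorem Q1110 : ∀ i, i < 1110 → P i := stepQ 1109 Q1109 (allL N1109 (tt N938 F5876) (tt N1287 (iv F7427)) (tt N1293 D2076) (tt N1109 F5877) (tt N1291 (iv F7450)) (tt N1109 F5878) (tt N927 (iv D1615)) (tt N928 F5879))
theorem Q1111 : ∀ i, i < 1111 → P i := stepQ 1110 Q1110 (allL N1110 (tt N939 F5880) (tt N1294 D2077) (tt N928 (iv D1616)) (tt N1295 D2078) (tt N1292 (iv F7454)) (tt N1110 F5881) (tt N931 F5882) (tt N1293 (iv F7459)))
theorem Q1112 : ∀ i, i < 1112 → P i := stepQ 1111 Q1111 (allL N1111 (tt N940 F5883) (tt N1111 F5884) (tt N1296 D2079) (tt N1111 F5885) (tt N1111 F5886) (tt N930 F5887) (tt N929 (iv D1617)) (tt N1111 F5888))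
theorem Q1113 : ∀ i, i < 1113 → P i := stepQ 1112 Q1112 (allL N1112 (tt N941 F5889) (tt N1297 D2080) (tt N930 (iv D1618)) (tt N1298 D2081) (tt N931 F5890) (tt N1296 (iv F7468)) (tt N1292 (iv F7455)) (tt N1112 F5891))
theorem Q1114 : ∀ i, i < 1114 → P i := stepQ 1113 Q1113 (allL N1113 (tt N1299 D2082) (tt N931 (iv D1619)) (tt N1113 F5892) (tt N1300 D2083) (tt N1297 (iv F7471)) (tt N1113 F5893) (tt N1294 (iv F7461)) (tt N1113 F5894))
theorem Q1115 : ∀ i, i < 1115 → P i := stepQ 1114 Q1114 (allL N1114 (tt N943 F5895) (tt N1300 (iv F7480)) (tt N933 F5896) (tt N931 (iv D1620)) (tt N1301 D2084) (tt N1114 F5897) (tt N1295 (iv F7465)) (tt N1114 F5898))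
theorem Q1116 : ∀ i, i < 1116 → P i := stepQ 1115 Q1115 (allL N1115 (tt N1115 F5899) (tt N933 F5900) (tt N1302 D2085) (tt N932 (iv D1621)) (tt N1303 D2086) (tt N1115 F5901) (tt N1115 F5902) (tt N1115 F5903))
theorem Q1117 : ∀ i, i < 1117 → P i := stepQ 1116 Q1116 (allL N1116 (tt N944 F5904) (tt N1303 (iv F7491)) (tt N1301 (iv F7484)) (tt N1116 F5905) (tt N933 (iv D1622)) (tt N1304 D2087) (tt N1116 F5906) (tt N1116 F5907))
theorem Q1118 : ∀ i, i < 1118 → P i := stepQ 1117 Q1117 (allL N1117 (tt N1289 (iv F7435)) (tt N970 F5908) (tt N1305 D2088) (tt N937 F5909) (tt N1117 F5910) (tt N1291 (iv F7451)) (tt N934 (iv D1623)) (tt N1290 (iv F7446)))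
theorem Q1119 : ∀ i, i < 1119 → P i := stepQ 1118 Q1118 (allL N1118 (tt N1290 (iv F7441)) (tt N972 F5911) (tt N1306 D2089) (tt N1291 (iv F7449)) (tt N1118 F5912) (tt N937 F5913) (tt N935 (iv D1624)) (tt N1289 (iv F7440)))
theorem Q1120 : ∀ i, i < 1120 → P i := stepQ 1119 Q1119 (allL N1119 (tt N1291 (iv F7447)) (tt N973 F5914) (tt N1307 D2090) (tt N1290 (iv F7443)) (tt N938 F5915) (tt N1289 (iv F7439)) (tt N936 (iv D1625)) (tt N937 F5916))
theorem Q1121 : ∀ i, i < 1121 → P i := stepQ 1120 Q1120 (allL N1120 (tt N1292 (iv F7453)) (tt N1308 D2091) (tt N937 (iv D1626)) (tt N1309 D2092) (tt N939 F5917) (tt N1306 (iv F7503)) (tt N941 F5918) (tt N1307 (iv F7507)))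
theorem Q1122 : ∀ i, i < 1122 → P i := stepQ 1121 Q1121 (allL N1121 (tt N1293 (iv F7456)) (tt N1310 D2093) (tt N938 (iv D1627)) (tt N1311 D2094) (tt N1307 (iv F7505)) (tt N1121 F5919) (tt N1121 F5920) (tt N939 F5921))
theorem Q1123 : ∀ i, i < 1123 → P i := stepQ 1122 Q1122 (allL N1122 (tt N1312 D2095) (tt N939 (iv D1628)) (tt N976 F5922) (tt N1313 D2096) (tt N1308 (iv F7509)) (tt N1122 F5923) (tt N942 F5924) (tt N1310 (iv F7515)))
theorem Q1124 : ∀ i, i < 1124 → P i := stepQ 1123 Q1123 (allL N1123 (tt N1295 (iv F7462)) (tt N1313 (iv F7523)) (tt N1123 F5925) (tt N939 (iv D1629)) (tt N1314 D2097) (tt N1123 F5926) (tt N943 F5927) (tt N1311 (iv F7519)))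
theorem Q1125 : ∀ i, i < 1125 → P i := stepQ 1124 Q1124 (allL N1124 (tt N1296 (iv F7466)) (tt N1315 D2098) (tt N940 (iv D1630)) (tt N1316 D2099) (tt N1124 F5928) (tt N941 F5929) (tt N1306 (iv F7504)) (tt N1124 F5930))
theorem Q1126 : ∀ i, i < 1126 → P i := stepQ 1125 Q1125 (allL N1125 (tt N1317 D2100) (tt N941 (iv D1631)) (tt N946 F5931) (tt N1318 D2101) (tt N942 F5932) (tt N1315 (iv F7530)) (tt N1308 (iv F7510)) (tt N1125 F5933))
theorem Q1127 : ∀ i, i < 1127 → P i := stepQ 1126 Q1126 (allL N1126 (tt N1298 (iv F7473)) (tt N1318 (iv F7538)) (tt N1126 F5934) (tt N941 (iv D1632)) (tt N1319 D2102) (tt N1316 (iv F7533)) (tt N1309 (iv F7511)) (tt N1126 F5935))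
theorem Q1128 : ∀ i, i < 1128 → P i := stepQ 1127 Q1127 (allL N1127 (tt N942 (iv D1633)) (tt N1299 (iv F7476)) (tt N948 F5936) (tt N1320 D2103) (tt N1317 (iv F7536)) (tt N1127 F5937) (tt N1312 (iv F7522)) (tt N1127 F5938))
theorem Q1129 : ∀ i, i < 1129 → P i := stepQ 1128 Q1128 (allL N1128 (tt N1320 (iv F7543)) (tt N943 F5939) (tt N1128 F5940) (tt N942 (iv D1634)) (tt N1321 D2104) (tt N1128 F5941) (tt N1313 (iv F7525)) (tt N1128 F5942))
theorem Q1130 : ∀ i, i < 1130 → P i := stepQ 1129 Q1129 (allL N1129 (tt N1301 (iv F7483)) (tt N1321 (iv F7547)) (tt N944 F5943) (tt N1319 (iv F7541)) (tt N943 (iv D1635)) (tt N1322 D2105) (tt N1314 (iv F7527)) (tt N1129 F5944))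
theorem Q1131 : ∀ i, i < 1131 → P i := stepQ 1130 Q1130 (allL N1130 (tt N1304 (iv F7495)) (tt N1130 F5945) (tt N1322 (iv F7550)) (tt N1130 F5946) (tt N1130 F5947) (tt N944 (iv D1636)) (tt N1130 F5948) (tt N1130 F5949))
theorem Q1132 : ∀ i, i < 1132 → P i := stepQ 1131 Q1131 (allL N1131 (tt N1323 D2106) (tt N945 (iv D1637)) (tt N1315 (iv F7528)) (tt N1324 D2107) (tt N1131 F5950) (tt N946 F5951) (tt N985 F5952) (tt N1131 F5953))
theorem Q1133 : ∀ i, i < 1133 → P i := stepQ 1132 Q1132 (allL N1132 (tt N1132 F5954) (tt N1324 (iv F7558)) (tt N1132 F5955) (tt N945 (iv D1638)) (tt N1325 D2108) (tt N947 F5956) (tt N986 F5957) (tt N1132 F5958))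
theorem Q1134 : ∀ i, i < 1134 → P i := stepQ 1133 Q1133 (allL N1133 (tt N946 (iv D1639)) (tt N1133 F5959) (tt N1317 (iv F7535)) (tt N1326 D2109) (tt N948 F5960) (tt N1323 (iv F7555)) (tt N987 F5961) (tt N1133 F5962))
theorem Q1135 : ∀ i, i < 1135 → P i := stepQ 1134 Q1134 (allL N1134 (tt N1326 (iv F7568)) (tt N947 F5963) (tt N1327 D2110) (tt N946 (iv D1640)) (tt N1134 F5964) (tt N1324 (iv F7559)) (tt N988 F5965) (tt N1134 F5966))
theorem Q1136 : ∀ i, i < 1136 → P i := stepQ 1135 Q1135 (allL N1135 (tt N971 F5967) (tt N956 F5968) (tt N1047 F5969) (tt N952 F5970) (tt N1135 F5971) (tt N958 F5972) (tt N1328 D2111) (tt N949 (iv D1641)))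
theorem Q1137 : ∀ i, i < 1137 → P i := stepQ 1136 Q1136 (allL N1136 (tt N969 F5973) (tt N957 F5974) (tt N1136 F5975) (tt N958 F5976) (tt N1136 F5977) (tt N952 F5978) (tt N1329 D2112) (tt N950 (iv D1642)))
theorem Q1138 : ∀ i, i < 1138 → P i := stepQ 1137 Q1137 (allL N1137 (tt N968 F5979) (tt N958 F5980) (tt N995 F5981) (tt N957 F5982) (tt N954 F5983) (tt N956 F5984) (tt N1330 D2113) (tt N951 (iv D1643)))
theorem Q1139 : ∀ i, i < 1139 → P i := stepQ 1138 Q1138 (allL N1138 (tt N1286 (iv F7420)) (tt N959 F5985) (tt N1331 D2114) (tt N1328 (iv F7578)) (tt N955 F5986) (tt N1329 (iv F7586)) (tt N952 (iv D1644)) (tt N1330 (iv F7593)))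
theorem Q1140 : ∀ i, i < 1140 → P i := stepQ 1139 Q1139 (allL N1139 (tt N1006 F5987) (tt N1044 F5988) (tt N954 F5989) (tt N1032 F5990) (tt N995 F5991) (tt N1139 F5992) (tt N1332 D2115) (tt N953 (iv D1645)))
theorem Q1141 : ∀ i, i < 1141 → P i := stepQ 1140 Q1140 (allL N1140 (tt N1287 (iv F7426)) (tt N960 F5993) (tt N1333 D2116) (tt N1140 F5994) (tt N1330 (iv F7591)) (tt N1140 F5995) (tt N954 (iv D1646)) (tt N955 F5996))
theorem Q1142 : ∀ i, i < 1142 → P i := stepQ 1141 Q1141 (allL N1141 (tt N1288 (iv F7432)) (tt N1334 D2117) (tt N955 (iv D1647)) (tt N1335 D2118) (tt N1331 (iv F7594)) (tt N1141 F5997) (tt N1141 F5998) (tt N1333 (iv F7603)))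
theorem Q1143 : ∀ i, i < 1143 → P i := stepQ 1142 Q1142 (allL N1142 (tt N970 F5999) (tt N1328 (iv F7577)) (tt N1336 D2119) (tt N959 F6000) (tt N1142 F6001) (tt N1330 (iv F7592)) (tt N956 (iv D1648)) (tt N1329 (iv F7587)))
theorem Q1144 : ∀ i, i < 1144 → P i := stepQ 1143 Q1143 (allL N1143 (tt N972 F6002) (tt N1329 (iv F7583)) (tt N1337 D2120) (tt N1330 (iv F7590)) (tt N1143 F6003) (tt N959 F6004) (tt N957 (iv D1649)) (tt N1328 (iv F7581)))
theorem Q1145 : ∀ i, i < 1145 → P i := stepQ 1144 Q1144 (allL N1144 (tt N973 F6005) (tt N1330 (iv F7589)) (tt N1338 D2121) (tt N1329 (iv F7584)) (tt N960 F6006) (tt N1328 (iv F7580)) (tt N958 (iv D1650)) (tt N959 F6007))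
theorem Q1146 : ∀ i, i < 1146 → P i := stepQ 1145 Q1145 (allL N1145 (tt N974 F6008) (tt N1339 D2122) (tt N959 (iv D1651)) (tt N1340 D2123) (tt N961 F6009) (tt N1337 (iv F7615)) (tt N963 F6010) (tt N1338 (iv F7620)))
theorem Q1147 : ∀ i, i < 1147 → P i := stepQ 1146 Q1146 (allL N1146 (tt N975 F6011) (tt N1341 D2124) (tt N960 (iv D1652)) (tt N1342 D2125) (tt N1338 (iv F7618)) (tt N1146 F6012) (tt N1051 F6013) (tt N961 F6014))
theorem Q1148 : ∀ i, i < 1148 → P i := stepQ 1147 Q1147 (allL N1147 (tt N1343 D2126) (tt N961 (iv D1653)) (tt N1334 (iv F7604)) (tt N1344 D2127) (tt N1339 (iv F7621)) (tt N1147 F6015) (tt N964 F6016) (tt N1341 (iv F7627)))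
theorem Q1149 : ∀ i, i < 1149 → P i := stepQ 1148 Q1148 (allL N1148 (tt N977 F6017) (tt N1344 (iv F7636)) (tt N1148 F6018) (tt N961 (iv D1654)) (tt N1345 D2128) (tt N1148 F6019) (tt N965 F6020) (tt N1342 (iv F7632)))
theorem Q1150 : ∀ i, i < 1150 → P i := stepQ 1149 Q1149 (allL N1149 (tt N978 F6021) (tt N1346 D2129) (tt N962 (iv D1655)) (tt N1347 D2130) (tt N1149 F6022) (tt N963 F6023) (tt N1337 (iv F7616)) (tt N1054 F6024))
theorem Q1151 : ∀ i, i < 1151 → P i := stepQ 1150 Q1150 (allL N1150 (tt N1348 D2131) (tt N963 (iv D1656)) (tt N1150 F6025) (tt N1349 D2132) (tt N964 F6026) (tt N1346 (iv F7644)) (tt N1339 (iv F7622)) (tt N1055 F6027))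
theorem Q1152 : ∀ i, i < 1152 → P i := stepQ 1151 Q1151 (allL N1151 (tt N980 F6028) (tt N1349 (iv F7654)) (tt N1003 F6029) (tt N963 (iv D1657)) (tt N1350 D2133) (tt N1347 (iv F7648)) (tt N1340 (iv F7624)) (tt N1056 F6030))
theorem Q1153 : ∀ i, i < 1153 → P i := stepQ 1152 Q1152 (allL N1152 (tt N964 (iv D1658)) (tt N981 F6031) (tt N1152 F6032) (tt N1351 D2134) (tt N1348 (iv F7652)) (tt N1152 F6033) (tt N1343 (iv F7635)) (tt N1057 F6034))
theorem Q1154 : ∀ i, i < 1154 → P i := stepQ 1153 Q1153 (allL N1153 (tt N1351 (iv F7660)) (tt N965 F6035) (tt N1352 D2135) (tt N964 (iv D1659)) (tt N1353 D2136) (tt N1153 F6036) (tt N1344 (iv F7638)) (tt N1058 F6037))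
theorem Q1155 : ∀ i, i < 1155 → P i := stepQ 1154 Q1154 (allL N1154 (tt N983 F6038) (tt N1353 (iv F7668)) (tt N967 F6039) (tt N1350 (iv F7658)) (tt N965 (iv D1660)) (tt N1021 F56051) (tt N1345 (iv F7641)) (tt N1059 F6040))
theorem Q1156 : ∀ i, i < 1156 → P i := stepQ 1155 Q1155 (allL N1155 (tt N1155 F6041) (tt N1352 (iv F7664)) (tt N966 (iv D1661)) (tt N1155 F6042) (tt N986 F56285) (tt N1155 F6043) (tt N1325 (iv F56439)) (tt N1060 F6044))
theorem Q1157 : ∀ i, i < 1157 → P i := stepQ 1156 Q1156 (allL N1156 (tt N1330 (iv F7588)) (tt N1291 (iv F7448)) (tt N1354 D2141) (tt N972 F6055) (tt N1287 (iv F7429)) (tt N970 F6056) (tt N968 (iv D1664)) (tt N1286 (iv F7425)))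
theorem Q1158 : ∀ i, i < 1158 → P i := stepQ 1157 Q1157 (allL N1157 (tt N1329 (iv F7582)) (tt N1290 (iv F7442)) (tt N1355 D2142) (tt N973 F6057) (tt N1157 F6058) (tt N1286 (iv F7424)) (tt N969 (iv D1665)) (tt N970 F6059))
theorem Q1159 : ∀ i, i < 1159 → P i := stepQ 1158 Q1158 (allL N1158 (tt N1336 (iv F7610)) (tt N1356 D2143) (tt N970 (iv D1666)) (tt N1357 D2144) (tt N1158 F6060) (tt N1354 (iv F7687)) (tt N1008 F6061) (tt N1355 (iv F7691)))
theorem Q1160 : ∀ i, i < 1160 → P i := stepQ 1159 Q1159 (allL N1159 (tt N1328 (iv F7576)) (tt N1289 (iv F7436)) (tt N1358 D2145) (tt N1286 (iv F7422)) (tt N1159 F6062) (tt N973 F6063) (tt N971 (iv D1667)) (tt N972 F6064))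
theorem Q1161 : ∀ i, i < 1161 → P i := stepQ 1160 Q1160 (allL N1160 (tt N1337 (iv F7613)) (tt N1359 D2146) (tt N972 (iv D1668)) (tt N1360 D2147) (tt N1160 F6065) (tt N974 F6066) (tt N978 F6067) (tt N1358 (iv F7699)))
theorem Q1162 : ∀ i, i < 1162 → P i := stepQ 1161 Q1161 (allL N1161 (tt N1338 (iv F7617)) (tt N1361 D2148) (tt N973 (iv D1669)) (tt N1362 D2149) (tt N975 F6068) (tt N1358 (iv F7697)) (tt N1063 F6069) (tt N974 F6070))
theorem Q1163 : ∀ i, i < 1163 → P i := stepQ 1162 Q1162 (allL N1162 (tt N1363 D2150) (tt N974 (iv D1670)) (tt N1308 (iv F7508)) (tt N1364 D2151) (tt N976 F6071) (tt N1359 (iv F7701)) (tt N979 F6072) (tt N1361 (iv F7707)))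
theorem Q1164 : ∀ i, i < 1164 → P i := stepQ 1163 Q1163 (allL N1163 (tt N1340 (iv F7623)) (tt N1364 (iv F7712)) (tt N1357 (iv F7694)) (tt N974 (iv D1671)) (tt N1365 D2152) (tt N1360 (iv F7703)) (tt N980 F6073) (tt N1362 (iv F7709)))
theorem Q1165 : ∀ i, i < 1165 → P i := stepQ 1164 Q1164 (allL N1164 (tt N1366 D2153) (tt N975 (iv D1672)) (tt N1310 (iv F7512)) (tt N1367 D2154) (tt N1361 (iv F7705)) (tt N1164 F6074) (tt N1066 F6075) (tt N976 F6076))
theorem Q1166 : ∀ i, i < 1166 → P i := stepQ 1165 Q1165 (allL N1165 (tt N1342 (iv F7628)) (tt N1367 (iv F7719)) (tt N1165 F6077) (tt N975 (iv D1673)) (tt N1368 D2155) (tt N1165 F6078) (tt N1067 F6079) (tt N977 F6080))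
theorem Q1167 : ∀ i, i < 1167 → P i := stepQ 1166 Q1166 (allL N1166 (tt N976 (iv D1674)) (tt N1343 (iv F7633)) (tt N1312 (iv F7520)) (tt N1369 D2156) (tt N1363 (iv F7710)) (tt N1166 F6081) (tt N981 F6082) (tt N1366 (iv F7718)))
theorem Q1168 : ∀ i, i < 1168 → P i := stepQ 1167 Q1167 (allL N1167 (tt N1369 (iv F7726)) (tt N977 F6083) (tt N1370 D2157) (tt N976 (iv D1675)) (tt N1371 D2158) (tt N1167 F6084) (tt N982 F6085) (tt N1367 (iv F7722)))
theorem Q1169 : ∀ i, i < 1169 → P i := stepQ 1168 Q1168 (allL N1168 (tt N1345 (iv F7639)) (tt N1371 (iv F7732)) (tt N1168 F6086) (tt N1365 (iv F7714)) (tt N977 (iv D1676)) (tt N1372 D2159) (tt N983 F6087) (tt N1368 (iv F7725)))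
theorem Q1170 : ∀ i, i < 1170 → P i := stepQ 1169 Q1169 (allL N1169 (tt N1373 D2160) (tt N978 (iv D1677)) (tt N985 F6088) (tt N1374 D2161) (tt N1169 F6089) (tt N979 F6090) (tt N1359 (iv F7702)) (tt N1071 F6091))
theorem Q1171 : ∀ i, i < 1171 → P i := stepQ 1170 Q1170 (allL N1170 (tt N1347 (iv F7646)) (tt N1374 (iv F7741)) (tt N1015 F6092) (tt N978 (iv D1678)) (tt N1375 D2162) (tt N980 F6093) (tt N1360 (iv F7704)) (tt N1072 F6094))
theorem Q1172 : ∀ i, i < 1172 → P i := stepQ 1171 Q1171 (allL N1171 (tt N979 (iv D1679)) (tt N1348 (iv F7650)) (tt N987 F6095) (tt N1376 D2163) (tt N981 F6096) (tt N1373 (iv F7739)) (tt N1363 (iv F7711)) (tt N1073 F6097))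
theorem Q1173 : ∀ i, i < 1173 → P i := stepQ 1172 Q1172 (allL N1172 (tt N1376 (iv F7747)) (tt N980 F6098) (tt N1377 D2164) (tt N979 (iv D1680)) (tt N1378 D2165) (tt N1374 (iv F7742)) (tt N1364 (iv F7713)) (tt N1074 F6099))
theorem Q1174 : ∀ i, i < 1174 → P i := stepQ 1173 Q1173 (allL N1173 (tt N1350 (iv F7656)) (tt N1378 (iv F7752)) (tt N1018 F6100) (tt N983 F6101) (tt N980 (iv D1681)) (tt N1379 D2166) (tt N1365 (iv F7715)) (tt N1075 F6102))
theorem Q1175 : ∀ i, i < 1175 → P i := stepQ 1174 Q1174 (allL N1174 (tt N982 F6103) (tt N1351 (iv F7661)) (tt N1174 F6104) (tt N981 (iv D1682)) (tt N1380 D2167) (tt N1174 F6105) (tt N1369 (iv F7728)) (tt N1076 F6106))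
theorem Q1176 : ∀ i, i < 1176 → P i := stepQ 1175 Q1175 (allL N1175 (tt N1380 (iv F7758)) (tt N983 F6107) (tt N1175 F6108) (tt N1378 (iv F7753)) (tt N982 (iv D1683)) (tt N1381 D2168) (tt N1371 (iv F7733)) (tt N1077 F6109))
theorem Q1177 : ∀ i, i < 1177 → P i := stepQ 1176 Q1176 (allL N1176 (tt N1021 F56077) (tt N1381 (iv F7761)) (tt N984 F6110) (tt N1379 (iv F7756)) (tt N1176 F6111) (tt N983 (iv D1684)) (tt N1372 (iv F7736)) (tt N1078 F6112))
theorem Q1178 : ∀ i, i < 1178 → P i := stepQ 1177 Q1177 (allL N1177 (tt N985 (iv D1685)) (tt N1177 F6113) (tt N1373 (iv F7737)) (tt N1382 D2169) (tt N1177 F6114) (tt N987 F6115) (tt N1323 (iv F7556)) (tt N1079 F6116))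
theorem Q1179 : ∀ i, i < 1179 → P i := stepQ 1178 Q1178 (allL N1178 (tt N1382 (iv F7765)) (tt N986 F6117) (tt N1353 F56284) (tt N985 (iv D1686)) (tt N1352 (iv F56437)) (tt N988 F6118) (tt N1324 (iv F7560)) (tt N1080 F6119))
theorem Q1180 : ∀ i, i < 1180 → P i := stepQ 1179 Q1179 (allL N1179 (tt N988 F6125) (tt N1179 F6126) (tt N1383 D2172) (tt N987 (iv D1688)) (tt N1179 F6127) (tt N1382 (iv F7767)) (tt N1326 (iv F7571)) (tt N1081 F6128))
theorem Q1181 : ∀ i, i < 1181 → P i := stepQ 1180 Q1180 (allL N1180 (tt N1383 (iv F7776)) (tt N1021 F6129) (tt N988 (iv D1689)) (tt N1377 (iv F7750)) (tt N1180 F6130) (tt N1353 (iv F56200)) (tt N1384 D2173) (tt N1082 F6131))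
theorem Q1182 : ∀ i, i < 1182 → P i := stepQ 1181 Q1181 (allL N1181 (tt N1181 F6132) (tt N1047 F6133) (tt N991 F6134) (tt N1181 F6135) (tt N1181 F6136) (tt N1042 F6137) (tt N1385 D2174) (tt N989 (iv D1690)))
theorem Q1183 : ∀ i, i < 1183 → P i := stepQ 1182 Q1182 (allL N1182 (tt N1182 F6138) (tt N995 F6139) (tt N1042 F6140) (tt N992 F6141) (tt N1044 F6142) (tt N991 F6143) (tt N1386 D2175) (tt N990 (iv D1691)))
theorem Q1184 : ∀ i, i < 1184 → P i := stepQ 1183 Q1183 (allL N1183 (tt N1183 F6144) (tt N996 F6145) (tt N1387 D2176) (tt N993 F6146) (tt N1183 F6147) (tt N1386 (iv F7791)) (tt N991 (iv D1692)) (tt N1183 F6148))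
theorem Q1185 : ∀ i, i < 1185 → P i := stepQ 1184 Q1184 (allL N1184 (tt N1184 F6149) (tt N997 F6150) (tt N1388 D2177) (tt N1386 (iv F7789)) (tt N1028 F6151) (tt N993 F6152) (tt N992 (iv D1693)) (tt N1184 F6153))
theorem Q1186 : ∀ i, i < 1186 → P i := stepQ 1185 Q1185 (allL N1185 (tt N1185 F6154) (tt N1389 D2178) (tt N993 (iv D1694)) (tt N1390 D2179) (tt N994 F6155) (tt N1388 (iv F7798)) (tt N1185 F6156) (tt N1185 F6157))
theorem Q1187 : ∀ i, i < 1187 → P i := stepQ 1186 Q1186 (allL N1186 (tt N1391 D2180) (tt N994 (iv D1695)) (tt N999 F6158) (tt N1039 F55683) (tt N1389 (iv F7802)) (tt N1030 F6159) (tt N1186 F6160) (tt N1186 F6161))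
theorem Q1188 : ∀ i, i < 1188 → P i := stepQ 1187 Q1187 (allL N1187 (tt N1187 F6162) (tt N1039 F55711) (tt N1187 F6163) (tt N994 (iv D1696)) (tt N1392 D2182) (tt N1031 F6164) (tt N1187 F6165) (tt N1187 F6166))
theorem Q1189 : ∀ i, i < 1189 → P i := stepQ 1188 Q1188 (allL N1188 (tt N1007 F6167) (tt N1386 (iv F7788)) (tt N1393 D2183) (tt N997 F6168) (tt N1332 (iv F7599)) (tt N996 F6169) (tt N995 (iv D1697)) (tt N1188 F6170))
theorem Q1190 : ∀ i, i < 1190 → P i := stepQ 1189 Q1189 (allL N1189 (tt N1008 F6171) (tt N1394 D2184) (tt N996 (iv D1698)) (tt N1395 D2185) (tt N1189 F6172) (tt N1393 (iv F7822)) (tt N1336 (iv F7612)) (tt N1189 F6173))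
theorem Q1191 : ∀ i, i < 1191 → P i := stepQ 1190 Q1190 (allL N1190 (tt N1009 F6174) (tt N1396 D2186) (tt N997 (iv D1699)) (tt N1397 D2187) (tt N1035 F6175) (tt N998 F6176) (tt N1001 F6177) (tt N1190 F6178))
theorem Q1192 : ∀ i, i < 1192 → P i := stepQ 1191 Q1191 (allL N1191 (tt N1398 D2188) (tt N998 (iv D1700)) (tt N1389 (iv F7801)) (tt N1399 D2189) (tt N999 F6179) (tt N1396 (iv F7830)) (tt N1002 F6180) (tt N1191 F6181))
theorem Q1193 : ∀ i, i < 1193 → P i := stepQ 1192 Q1192 (allL N1192 (tt N1011 F6182) (tt N1399 (iv F7841)) (tt N1395 (iv F7827)) (tt N998 (iv D1701)) (tt N1400 D2190) (tt N1397 (iv F7834)) (tt N1003 F6183) (tt N1192 F6184))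
theorem Q1194 : ∀ i, i < 1194 → P i := stepQ 1193 Q1193 (allL N1193 (tt N999 (iv D1702)) (tt N1012 F6185) (tt N1391 (iv F7809)) (tt N1035 (iv F55677)) (tt N1398 (iv F7838)) (tt N1037 F55558) (tt N1004 F6187) (tt N1193 F6188))
theorem Q1195 : ∀ i, i < 1195 → P i := stepQ 1194 Q1194 (allL N1194 (tt N1014 F6193) (tt N1009 F55794) (tt N1194 F6194) (tt N1400 (iv F7845)) (tt N1000 (iv D1704)) (tt N1010 F55795) (tt N1005 F6195) (tt N1194 F6196))
theorem Q1196 : ∀ i, i < 1196 → P i := stepQ 1195 Q1195 (allL N1195 (tt N1020 F55873) (tt N1001 (iv D1705)) (tt N1195 F6197) (tt N1401 D2196) (tt N1019 F55874) (tt N1002 F6199) (tt N1396 (iv F7831)) (tt N1083 F6200))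
theorem Q1197 : ∀ i, i < 1197 → P i := stepQ 1196 Q1196 (allL N1196 (tt N1015 F6201) (tt N1401 (iv F7869)) (tt N1347 (iv F7647)) (tt N1001 (iv D1706)) (tt N1402 D2197) (tt N1003 F6202) (tt N1397 (iv F7835)) (tt N1084 F6203))
theorem Q1198 : ∀ i, i < 1198 → P i := stepQ 1197 Q1197 (allL N1197 (tt N1002 (iv D1707)) (tt N1016 F6204) (tt N1197 F6205) (tt N1402 (iv F55927)) (tt N1004 F6206) (tt N1020 F55776) (tt N1398 (iv F7839)) (tt N1085 F6207))
theorem Q1199 : ∀ i, i < 1199 → P i := stepQ 1198 Q1198 (allL N1198 (tt N1402 F56062) (tt N1003 F6208) (tt N1375 (iv F56211)) (tt N1002 (iv D1708)) (tt N1015 F56063) (tt N1401 (iv F7870)) (tt N1399 (iv F7842)) (tt N1086 F6209))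
theorem Q1200 : ∀ i, i < 1200 → P i := stepQ 1199 Q1199 (allL N1199 (tt N1018 F6210) (tt N1015 (iv F55922)) (tt N1350 (iv F7657)) (tt N1005 F6211) (tt N1003 (iv D1709)) (tt N1017 (iv F55917)) (tt N1400 (iv F7846)) (tt N1087 F6212))
theorem Q1201 : ∀ i, i < 1201 → P i := stepQ 1200 Q1200 (allL N1200 (tt N1332 (iv F7596)) (tt N1200 F6239) (tt N1403 D2211) (tt N1038 F6240) (tt N1007 F6241) (tt N1200 F6242) (tt N1006 (iv D1717)) (tt N1200 F6243))
theorem Q1202 : ∀ i, i < 1202 → P i := stepQ 1201 Q1201 (allL N1201 (tt N1393 (iv F7821)) (tt N1404 D2212) (tt N1007 (iv D1718)) (tt N1405 D2213) (tt N1403 (iv F7918)) (tt N1008 F6244) (tt N1354 (iv F7688)) (tt N1201 F6245))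
theorem Q1203 : ∀ i, i < 1203 → P i := stepQ 1202 Q1202 (allL N1202 (tt N1406 D2214) (tt N1008 (iv D1719)) (tt N1202 F6246) (tt N1407 D2215) (tt N1202 F6247) (tt N1404 (iv F7922)) (tt N1356 (iv F7693)) (tt N1202 F6248))
theorem Q1204 : ∀ i, i < 1204 → P i := stepQ 1203 Q1203 (allL N1203 (tt N1395 (iv F7826)) (tt N1407 (iv F7930)) (tt N1011 F6249) (tt N1008 (iv D1720)) (tt N1408 D2216) (tt N1405 (iv F7925)) (tt N1357 (iv F7695)) (tt N1203 F6250))
theorem Q1205 : ∀ i, i < 1205 → P i := stepQ 1204 Q1204 (allL N1204 (tt N1397 (iv F7833)) (tt N1400 (iv F55932)) (tt N1405 (iv F7924)) (tt N1009 (iv D1722)) (tt N1399 (iv F55950)) (tt N1011 F6256) (tt N1015 F6257) (tt N1204 F6258))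
theorem Q1206 : ∀ i, i < 1206 → P i := stepQ 1205 Q1205 (allL N1205 (tt N1010 (iv D1723)) (tt N1398 (iv F7837)) (tt N1205 F6259) (tt N1409 D2220) (tt N1012 F6260) (tt N1014 (iv F55931)) (tt N1016 F6261) (tt N1205 F6262))
theorem Q1207 : ∀ i, i < 1207 → P i := stepQ 1206 Q1206 (allL N1206 (tt N1409 (iv F7947)) (tt N1011 F6263) (tt N1410 D2221) (tt N1010 (iv D1724)) (tt N1411 D2222) (tt N1400 (iv F55933)) (tt N1017 F6264) (tt N1206 F6265))
theorem Q1208 : ∀ i, i < 1208 → P i := stepQ 1207 Q1207 (allL N1207 (tt N1400 (iv F7844)) (tt N1411 (iv F7952)) (tt N1408 (iv F7932)) (tt N1014 F6266) (tt N1011 (iv D1725)) (tt N1409 F56059) (tt N1018 F6267) (tt N1207 F6268))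
theorem Q1209 : ∀ i, i < 1209 → P i := stepQ 1208 Q1208 (allL N1208 (tt N1013 F6269) (tt N1035 F55803) (tt N1412 D2224) (tt N1012 (iv D1726)) (tt N1396 (iv F55944)) (tt N1036 F55804) (tt N1019 F6271) (tt N1208 F6272))
theorem Q1210 : ∀ i, i < 1210 → P i := stepQ 1209 Q1209 (allL N1209 (tt N1412 (iv F7959)) (tt N1209 F6273) (tt N1013 (iv D1727)) (tt N1209 F6274) (tt N1413 D2226) (tt N1040 F6275) (tt N1209 F6276) (tt N1209 F6277))
theorem Q1211 : ∀ i, i < 1211 → P i := stepQ 1210 Q1210 (allL N1210 (tt N1396 (iv F55943)) (tt N1014 F6278) (tt N1413 (iv F7968)) (tt N1411 (iv F7953)) (tt N1013 (iv D1728)) (tt N1398 F55805) (tt N1020 F6279) (tt N1210 F6280))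
theorem Q1212 : ∀ i, i < 1212 → P i := stepQ 1211 Q1211 (allL N1211 (tt N1017 F6294) (tt N1402 F56052) (tt N1379 (iv F55941)) (tt N1016 (iv D1733)) (tt N1401 F56053) (tt N1018 (iv F55920)) (tt N1409 (iv F7948)) (tt N1088 F6295))
theorem Q1213 : ∀ i, i < 1213 → P i := stepQ 1212 Q1212 (allL N1212 (tt N1379 F56054) (tt N1377 (iv F7749)) (tt N1017 (iv D1734)) (tt N1021 F6296) (tt N1414 D2234) (tt N1350 F56055) (tt N1415 D2235) (tt N1089 F6297))
theorem Q1214 : ∀ i, i < 1214 → P i := stepQ 1213 Q1213 (allL N1213 (tt N1401 (iv F56006)) (tt N1018 F6298) (tt N1414 (iv F7993)) (tt N1020 F6299) (tt N1017 (iv D1735)) (tt N1402 (iv F55925)) (tt N1411 (iv F7954)) (tt N1090 F6300))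
theorem Q1215 : ∀ i, i < 1215 → P i := stepQ 1214 Q1214 (allL N1214 (tt N1372 (iv F56229)) (tt N1384 (iv F7779)) (tt N1214 F6325) (tt N1415 (iv F7996)) (tt N1214 F6326) (tt N1345 (iv F56201)) (tt N1021 (iv D1743)) (tt N1416 D2244))
theorem Q1216 : ∀ i, i < 1216 → P i := stepQ 1215 Q1215 (allL N1215 (tt N1215 F6327) (tt N1215 F6328) (tt N1026 F6329) (tt N1215 F6330) (tt N1096 F6331) (tt N1024 F6332) (tt N1215 F55905) (tt N1022 (iv D1744)))
theorem Q1217 : ∀ i, i < 1217 → P i := stepQ 1216 Q1216 (allL N1216 (tt N1216 F6343) (tt N1032 F6344) (tt N1096 F6345) (tt N1044 F6346) (tt N1026 F6347) (tt N1216 F6348) (tt N1417 D2248) (tt N1025 (iv D1747)))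
theorem Q1218 : ∀ i, i < 1218 → P i := stepQ 1217 Q1217 (allL N1217 (tt N1217 F6349) (tt N1033 F6350) (tt N1217 F55642) (tt N1028 F6351) (tt N1417 (iv F8045)) (tt N1027 F6352) (tt N1026 (iv D1748)) (tt N1217 F6353))
theorem Q1219 : ∀ i, i < 1219 → P i := stepQ 1218 Q1218 (allL N1218 (tt N1218 F6357) (tt N1412 F55894) (tt N1028 (iv D1750)) (tt N1218 F55895) (tt N1388 (iv F7797)) (tt N1029 F6358) (tt N1218 F6359) (tt N1218 F6360))
theorem Q1220 : ∀ i, i < 1220 → P i := stepQ 1219 Q1219 (allL N1219 (tt N1040 F55630) (tt N1029 (iv D1751)) (tt N1036 F6361) (tt N1219 F55629) (tt N1030 F6362) (tt N1412 (iv F55754)) (tt N1219 F6363) (tt N1219 F6364))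
theorem Q1221 : ∀ i, i < 1221 → P i := stepQ 1220 Q1220 (allL N1220 (tt N1030 (iv D1753)) (tt N1220 F6368) (tt N1037 F55495) (tt N1034 (iv F55592)) (tt N1040 (iv F55562)) (tt N1391 (iv F7810)) (tt N1220 F6370) (tt N1220 F6371))
theorem Q1222 : ∀ i, i < 1222 → P i := stepQ 1221 Q1221 (allL N1221 (tt N1038 F6379) (tt N1417 (iv F8043)) (tt N1418 D2261) (tt N1332 (iv F7598)) (tt N1033 F6380) (tt N1221 F6381) (tt N1032 (iv D1756)) (tt N1221 F6382))
theorem Q1223 : ∀ i, i < 1223 → P i := stepQ 1222 Q1222 (allL N1222 (tt N1039 F6383) (tt N1222 F55454) (tt N1033 (iv D1757)) (tt N1391 (iv F55704)) (tt N1418 (iv F8092)) (tt N1034 F6384) (tt N1222 F6385) (tt N1222 F6386))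
theorem Q1224 : ∀ i, i < 1224 → P i := stepQ 1223 Q1223 (allL N1223 (tt N1418 (iv F8091)) (tt N1392 (iv F55847)) (tt N1038 (iv D1785)) (tt N1419 D2300) (tt N1039 F6476) (tt N1223 F6477) (tt N1223 F6478) (tt N1223 F6479))
theorem Q1225 : ∀ i, i < 1225 → P i := stepQ 1224 Q1224 (allL N1224 (tt N1224 F6591) (tt N1048 F6592) (tt N1420 D2342) (tt N1224 F6593) (tt N1224 F6594) (tt N1043 F6595) (tt N1041 (iv D1819)) (tt N1385 (iv F7786)))
theorem Q1226 : ∀ i, i < 1226 → P i := stepQ 1225 Q1225 (allL N1225 (tt N1225 F6596) (tt N1049 F6597) (tt N1421 D2343) (tt N1225 F6598) (tt N1045 F6599) (tt N1385 (iv F7785)) (tt N1042 (iv D1820)) (tt N1043 F6600))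
theorem Q1227 : ∀ i, i < 1227 → P i := stepQ 1226 Q1226 (allL N1226 (tt N1226 F6601) (tt N1422 D2344) (tt N1043 (iv D1821)) (tt N1423 D2345) (tt N1046 F6602) (tt N1420 (iv F8366)) (tt N1226 F6603) (tt N1421 (iv F8370)))
theorem Q1228 : ∀ i, i < 1228 → P i := stepQ 1227 Q1227 (allL N1227 (tt N1227 F6604) (tt N1332 (iv F7597)) (tt N1424 D2346) (tt N1417 (iv F8044)) (tt N1386 (iv F7790)) (tt N1227 F6605) (tt N1044 (iv D1822)) (tt N1227 F6606))
theorem Q1229 : ∀ i, i < 1229 → P i := stepQ 1228 Q1228 (allL N1228 (tt N1228 F6607) (tt N1425 D2347) (tt N1045 (iv D1823)) (tt N1228 F56184) (tt N1421 (iv F8369)) (tt N1228 F6608) (tt N1424 (iv F8379)) (tt N1046 F6609))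
theorem Q1230 : ∀ i, i < 1230 → P i := stepQ 1229 Q1229 (allL N1229 (tt N1426 D2349) (tt N1046 (iv D1824)) (tt N1052 F6610) (tt N1229 F56481) (tt N1422 (iv F8372)) (tt N1229 F6611) (tt N1229 F6612) (tt N1425 (iv F8383)))
theorem Q1231 : ∀ i, i < 1231 → P i := stepQ 1230 Q1230 (allL N1230 (tt N1061 F6617) (tt N1385 (iv F7782)) (tt N1427 D2352) (tt N1230 F6618) (tt N1230 F6619) (tt N1049 F6620) (tt N1047 (iv D1826)) (tt N1048 F6621))
theorem Q1232 : ∀ i, i < 1232 → P i := stepQ 1231 Q1231 (allL N1231 (tt N1062 F6622) (tt N1428 D2353) (tt N1048 (iv D1827)) (tt N1429 D2354) (tt N1231 F6623) (tt N1050 F6624) (tt N1054 F6625) (tt N1427 (iv F8401)))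
theorem Q1233 : ∀ i, i < 1233 → P i := stepQ 1232 Q1232 (allL N1232 (tt N1063 F6626) (tt N1430 D2355) (tt N1049 (iv D1828)) (tt N1431 D2356) (tt N1051 F6627) (tt N1427 (iv F8400)) (tt N1338 (iv F7619)) (tt N1050 F6628))
theorem Q1234 : ∀ i, i < 1234 → P i := stepQ 1233 Q1233 (allL N1233 (tt N1432 D2357) (tt N1050 (iv D1829)) (tt N1422 (iv F8371)) (tt N1433 D2358) (tt N1052 F6629) (tt N1428 (iv F8403)) (tt N1055 F6630) (tt N1430 (iv F8410)))
theorem Q1235 : ∀ i, i < 1235 → P i := stepQ 1234 Q1234 (allL N1234 (tt N1065 F6631) (tt N1433 (iv F8417)) (tt N1234 F6632) (tt N1050 (iv D1830)) (tt N1434 D2359) (tt N1429 (iv F8407)) (tt N1056 F6633) (tt N1431 (iv F8413)))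
theorem Q1236 : ∀ i, i < 1236 → P i := stepQ 1235 Q1235 (allL N1235 (tt N1435 D2360) (tt N1051 (iv D1831)) (tt N1425 (iv F8381)) (tt N1436 D2361) (tt N1430 (iv F8409)) (tt N1235 F6634) (tt N1341 (iv F7626)) (tt N1052 F6635))
theorem Q1237 : ∀ i, i < 1237 → P i := stepQ 1236 Q1236 (allL N1236 (tt N1067 F6636) (tt N1436 (iv F8426)) (tt N1097 F6637) (tt N1051 (iv D1832)) (tt N1437 D2362) (tt N1236 F6638) (tt N1342 (iv F7631)) (tt N1053 F6639))
theorem Q1238 : ∀ i, i < 1238 → P i := stepQ 1237 Q1237 (allL N1237 (tt N1052 (iv D1833)) (tt N1068 F6640) (tt N1426 (iv F8389)) (tt N1438 D2363) (tt N1432 (iv F8415)) (tt N1237 F6641) (tt N1057 F6642) (tt N1435 (iv F8425)))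
theorem Q1239 : ∀ i, i < 1239 → P i := stepQ 1238 Q1238 (allL N1238 (tt N1438 (iv F8432)) (tt N1053 F6643) (tt N1238 F56763) (tt N1052 (iv D1834)) (tt N1439 D2365) (tt N1238 F6644) (tt N1058 F6645) (tt N1436 (iv F8428)))
theorem Q1240 : ∀ i, i < 1240 → P i := stepQ 1239 Q1239 (allL N1239 (tt N1070 F6646) (tt N1439 (iv F8438)) (tt N1092 (iv F56499)) (tt N1434 (iv F8421)) (tt N1053 (iv D1835)) (tt N1091 F56337) (tt N1059 F6648) (tt N1437 (iv F8431)))
theorem Q1241 : ∀ i, i < 1241 → P i := stepQ 1240 Q1240 (allL N1240 (tt N1440 D2367) (tt N1054 (iv D1836)) (tt N1240 F6649) (tt N1441 D2368) (tt N1240 F6650) (tt N1055 F6651) (tt N1428 (iv F8404)) (tt N1346 (iv F7645)))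
theorem Q1242 : ∀ i, i < 1242 → P i := stepQ 1241 Q1241 (allL N1241 (tt N1072 F6652) (tt N1441 (iv F8448)) (tt N1084 F6653) (tt N1054 (iv D1837)) (tt N1442 D2369) (tt N1056 F6654) (tt N1429 (iv F8408)) (tt N1347 (iv F7649)))
theorem Q1243 : ∀ i, i < 1243 → P i := stepQ 1242 Q1242 (allL N1242 (tt N1055 (iv D1838)) (tt N1073 F6655) (tt N1242 F6656) (tt N1443 D2370) (tt N1057 F6657) (tt N1440 (iv F8447)) (tt N1432 (iv F8416)) (tt N1348 (iv F7653)))
theorem Q1244 : ∀ i, i < 1244 → P i := stepQ 1243 Q1243 (allL N1243 (tt N1443 (iv F8453)) (tt N1056 F6658) (tt N1444 D2371) (tt N1055 (iv D1839)) (tt N1445 D2372) (tt N1441 (iv F8449)) (tt N1433 (iv F8418)) (tt N1349 (iv F7655)))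
theorem Q1245 : ∀ i, i < 1245 → P i := stepQ 1244 Q1244 (allL N1244 (tt N1075 F6659) (tt N1445 (iv F8457)) (tt N1087 F6660) (tt N1059 F6661) (tt N1056 (iv D1840)) (tt N1089 (iv F56206)) (tt N1434 (iv F8422)) (tt N1350 (iv F7659)))
theorem Q1246 : ∀ i, i < 1246 → P i := stepQ 1245 Q1245 (allL N1245 (tt N1058 F6662) (tt N1076 F6663) (tt N1446 D2374) (tt N1057 (iv D1841)) (tt N1447 D2375) (tt N1245 F6664) (tt N1438 (iv F8435)) (tt N1351 (iv F7663)))
theorem Q1247 : ∀ i, i < 1247 → P i := stepQ 1246 Q1246 (allL N1246 (tt N1446 (iv F8462)) (tt N1060 F6665) (tt N1058 (iv D1842)) (tt N1246 F6666) (tt N1080 F56600) (tt N1246 F6667) (tt N1246 F56753) (tt N1352 (iv F7667)))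
theorem Q1248 : ∀ i, i < 1248 → P i := stepQ 1247 Q1247 (allL N1247 (tt N1447 (iv F8466)) (tt N1059 F6668) (tt N1080 (iv F56438)) (tt N1445 (iv F8458)) (tt N1058 (iv D1843)) (tt N1082 F56336) (tt N1439 (iv F8439)) (tt N1353 (iv F7669)))
theorem Q1249 : ∀ i, i < 1249 → P i := stepQ 1248 Q1248 (allL N1248 (tt N1427 (iv F8398)) (tt N1448 D2383) (tt N1061 (iv D1848)) (tt N1449 D2384) (tt N1248 F6683) (tt N1063 F6684) (tt N1358 (iv F7698)) (tt N1062 F6685))
theorem Q1250 : ∀ i, i < 1250 → P i := stepQ 1249 Q1249 (allL N1249 (tt N1450 D2385) (tt N1062 (iv D1849)) (tt N1249 F6686) (tt N1451 D2386) (tt N1249 F6687) (tt N1064 F6688) (tt N1071 F6689) (tt N1448 (iv F8491)))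
theorem Q1251 : ∀ i, i < 1251 → P i := stepQ 1250 Q1250 (allL N1250 (tt N1429 (iv F8405)) (tt N1451 (iv F8499)) (tt N1250 F6690) (tt N1062 (iv D1850)) (tt N1452 D2387) (tt N1065 F6691) (tt N1072 F6692) (tt N1449 (iv F8494)))
theorem Q1252 : ∀ i, i < 1252 → P i := stepQ 1251 Q1251 (allL N1251 (tt N1453 D2388) (tt N1063 (iv D1851)) (tt N1251 F6693) (tt N1454 D2389) (tt N1066 F6694) (tt N1448 (iv F8490)) (tt N1361 (iv F7706)) (tt N1064 F6695))
theorem Q1253 : ∀ i, i < 1253 → P i := stepQ 1252 Q1252 (allL N1252 (tt N1431 (iv F8411)) (tt N1454 (iv F8508)) (tt N1252 F6696) (tt N1063 (iv D1852)) (tt N1455 D2390) (tt N1449 (iv F8493)) (tt N1362 (iv F7708)) (tt N1065 F6697))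
theorem Q1254 : ∀ i, i < 1254 → P i := stepQ 1253 Q1253 (allL N1253 (tt N1064 (iv D1853)) (tt N1432 (iv F8414)) (tt N1253 F6698) (tt N1456 D2391) (tt N1068 F6699) (tt N1450 (iv F8497)) (tt N1073 F6700) (tt N1453 (iv F8507)))
theorem Q1255 : ∀ i, i < 1255 → P i := stepQ 1254 Q1254 (allL N1254 (tt N1456 (iv F8513)) (tt N1065 F6701) (tt N1457 D2392) (tt N1064 (iv D1854)) (tt N1458 D2393) (tt N1451 (iv F8500)) (tt N1074 F6702) (tt N1454 (iv F8509)))
theorem Q1256 : ∀ i, i < 1256 → P i := stepQ 1255 Q1255 (allL N1255 (tt N1434 (iv F8419)) (tt N1458 (iv F8517)) (tt N1255 F6703) (tt N1070 F6704) (tt N1065 (iv D1855)) (tt N1459 D2394) (tt N1075 F6705) (tt N1455 (iv F8512)))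
theorem Q1257 : ∀ i, i < 1257 → P i := stepQ 1256 Q1256 (allL N1256 (tt N1066 (iv D1856)) (tt N1435 (iv F8423)) (tt N1256 F6706) (tt N1460 D2395) (tt N1453 (iv F8506)) (tt N1256 F6707) (tt N1366 (iv F7717)) (tt N1068 F6708))
theorem Q1258 : ∀ i, i < 1258 → P i := stepQ 1257 Q1257 (allL N1257 (tt N1460 (iv F8523)) (tt N1067 F6709) (tt N1461 D2396) (tt N1066 (iv D1857)) (tt N1462 D2397) (tt N1257 F6710) (tt N1367 (iv F7721)) (tt N1069 F6711))
theorem Q1259 : ∀ i, i < 1259 → P i := stepQ 1258 Q1258 (allL N1258 (tt N1437 (iv F8429)) (tt N1462 (iv F8530)) (tt N1099 F6712) (tt N1455 (iv F8511)) (tt N1067 (iv D1858)) (tt N1463 D2398) (tt N1368 (iv F7724)) (tt N1070 F6713))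
theorem Q1260 : ∀ i, i < 1260 → P i := stepQ 1259 Q1259 (allL N1259 (tt N1069 F6714) (tt N1438 (iv F8433)) (tt N1464 D2399) (tt N1068 (iv D1859)) (tt N1465 D2400) (tt N1259 F6715) (tt N1076 F6716) (tt N1460 (iv F8525)))
theorem Q1261 : ∀ i, i < 1261 → P i := stepQ 1260 Q1260 (allL N1260 (tt N1464 (iv F8535)) (tt N1100 F6717) (tt N1069 (iv D1860)) (tt N1260 F6718) (tt N1466 D2401) (tt N1260 F6719) (tt N1260 F6720) (tt N1461 (iv F8529)))
theorem Q1262 : ∀ i, i < 1262 → P i := stepQ 1261 Q1261 (allL N1261 (tt N1465 (iv F8539)) (tt N1070 F6721) (tt N1466 (iv F8542)) (tt N1458 (iv F8518)) (tt N1069 (iv D1861)) (tt N1467 D2402) (tt N1077 F6722) (tt N1462 (iv F8531)))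
theorem Q1263 : ∀ i, i < 1263 → P i := stepQ 1262 Q1262 (allL N1262 (tt N1091 F56372) (tt N1467 (iv F8544)) (tt N1094 (iv F56544)) (tt N1459 (iv F8521)) (tt N1262 F6724) (tt N1070 (iv D1862)) (tt N1078 F6725) (tt N1463 (iv F8534)))
theorem Q1264 : ∀ i, i < 1264 → P i := stepQ 1263 Q1263 (allL N1263 (tt N1071 (iv D1863)) (tt N1440 (iv F8444)) (tt N1079 F6726) (tt N1468 D2403) (tt N1263 F6727) (tt N1073 F6728) (tt N1450 (iv F8498)) (tt N1373 (iv F7740)))
theorem Q1265 : ∀ i, i < 1265 → P i := stepQ 1264 Q1264 (allL N1264 (tt N1468 (iv F8547)) (tt N1072 F6729) (tt N1445 F56354) (tt N1071 (iv D1864)) (tt N1444 (iv F56525)) (tt N1074 F6730) (tt N1451 (iv F8501)) (tt N1374 (iv F7743)))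
theorem Q1266 : ∀ i, i < 1266 → P i := stepQ 1265 Q1265 (allL N1265 (tt N1442 (iv F8450)) (tt N1444 (iv F56524)) (tt N1086 F56358) (tt N1265 F6732) (tt N1072 (iv D1865)) (tt N1469 D2406) (tt N1452 (iv F8504)) (tt N1375 (iv F7746)))
theorem Q1267 : ∀ i, i < 1267 → P i := stepQ 1266 Q1266 (allL N1266 (tt N1074 F6733) (tt N1443 (iv F8454)) (tt N1470 D2407) (tt N1073 (iv D1866)) (tt N1471 D2408) (tt N1468 (iv F8548)) (tt N1456 (iv F8514)) (tt N1376 (iv F7748)))
theorem Q1268 : ∀ i, i < 1268 → P i := stepQ 1267 Q1267 (allL N1267 (tt N1470 (iv F8557)) (tt N1089 F6734) (tt N1074 (iv D1867)) (tt N1082 F6735) (tt N1472 D2409) (tt N1445 F56345) (tt N1473 D2410) (tt N1377 (iv F7751)))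
theorem Q1269 : ∀ i, i < 1269 → P i := stepQ 1268 Q1268 (allL N1268 (tt N1471 (iv F8559)) (tt N1075 F6736) (tt N1472 (iv F8562)) (tt N1077 F6737) (tt N1074 (iv D1868)) (tt N1474 D2411) (tt N1458 (iv F8519)) (tt N1378 (iv F7754)))
theorem Q1270 : ∀ i, i < 1270 → P i := stepQ 1269 Q1269 (allL N1269 (tt N1089 (iv F56205)) (tt N1474 (iv F8566)) (tt N1088 F56071) (tt N1078 F6739) (tt N1469 (iv F8556)) (tt N1075 (iv D1869)) (tt N1459 (iv F8522)) (tt N1379 (iv F7757)))
theorem Q1271 : ∀ i, i < 1271 → P i := stepQ 1270 Q1270 (allL N1270 (tt N1077 F6740) (tt N1447 (iv F8467)) (tt N1270 F6741) (tt N1471 (iv F8560)) (tt N1076 (iv D1870)) (tt N1475 D2412) (tt N1465 (iv F8540)) (tt N1380 (iv F7760)))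
theorem Q1272 : ∀ i, i < 1272 → P i := stepQ 1271 Q1271 (allL N1271 (tt N1475 (iv F8568)) (tt N1078 F6742) (tt N1271 F6743) (tt N1474 (iv F8567)) (tt N1271 F6744) (tt N1077 (iv D1871)) (tt N1467 (iv F8546)) (tt N1381 (iv F7764)))
theorem Q1273 : ∀ i, i < 1273 → P i := stepQ 1272 Q1272 (allL N1272 (tt N1080 F6745) (tt N1272 F6746) (tt N1447 F56598) (tt N1079 (iv D1872)) (tt N1446 (iv F56751)) (tt N1081 F6747) (tt N1272 F6748) (tt N1382 (iv F7768)))
theorem Q1274 : ∀ i, i < 1274 → P i := stepQ 1273 Q1273 (allL N1273 (tt N1082 F6755) (tt N1475 (iv F56542)) (tt N1081 (iv D1875)) (tt N1470 (iv F8558)) (tt N1273 F6756) (tt N1447 (iv F56500)) (tt N1476 D2418) (tt N1383 (iv F7778)))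
theorem Q1275 : ∀ i, i < 1275 → P i := stepQ 1274 Q1274 (allL N1274 (tt N1476 (iv F8587)) (tt N1091 F6757) (tt N1274 F6758) (tt N1473 (iv F8565)) (tt N1274 F6759) (tt N1439 (iv F56501)) (tt N1082 (iv D1876)) (tt N1477 D2419))
theorem Q1276 : ∀ i, i < 1276 → P i := stepQ 1275 Q1275 (allL N1275 (tt N1090 (iv F56024)) (tt N1084 F6765) (tt N1469 (iv F56220)) (tt N1083 (iv D1878)) (tt N1088 (iv F56073)) (tt N1086 F6766) (tt N1275 F6767) (tt N1401 (iv F7871)))
theorem Q1277 : ∀ i, i < 1277 → P i := stepQ 1276 Q1276 (allL N1276 (tt N1086 (iv F56212)) (tt N1088 (iv F56072)) (tt N1442 (iv F8451)) (tt N1085 F56066) (tt N1084 (iv D1879)) (tt N1090 F56065) (tt N1276 F6770) (tt N1402 (iv F7874)))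
theorem Q1278 : ∀ i, i < 1278 → P i := stepQ 1277 Q1277 (allL N1277 (tt N1469 F56068) (tt N1472 (iv F8561)) (tt N1090 F6825) (tt N1277 F6826) (tt N1089 (iv D1899)) (tt N1442 (iv F56216)) (tt N1478 D2450) (tt N1414 (iv F7995)))
theorem Q1279 : ∀ i, i < 1279 → P i := stepQ 1278 Q1278 (allL N1278 (tt N1459 F56348) (tt N1473 (iv F8564)) (tt N1278 F6827) (tt N1091 F6828) (tt N1478 (iv F8682)) (tt N1434 F56349) (tt N1089 (iv D1900)) (tt N1479 D2451))
theorem Q1280 : ∀ i, i < 1280 → P i := stepQ 1279 Q1279 (allL N1279 (tt N1463 (iv F56545)) (tt N1477 (iv F8590)) (tt N1095 F6852) (tt N1479 (iv F8684)) (tt N1279 F6853) (tt N1437 (iv F56502)) (tt N1416 (iv F8026)) (tt N1091 (iv D1909)))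
theorem Q1281 : ∀ i, i < 1281 → P i := stepQ 1280 Q1280 (allL N1280 (tt N1099 (iv F56797)) (tt N1280 F6992) (tt N1437 F56652) (tt N1280 F6993) (tt N1097 (iv F56762)) (tt N1095 F6994) (tt N1280 F6995) (tt N1092 (iv D1955)))
theorem Q1282 : ∀ i, i < 1282 → P i := stepQ 1281 Q1281 (allL N1281 (tt N1281 F6996) (tt N1094 F6997) (tt N1480 D2517) (tt N1281 F6998) (tt N1281 F6999) (tt N1101 (iv F56796)) (tt N1093 (iv D1956)) (tt N1481 D2518))
theorem Q1283 : ∀ i, i < 1283 → P i := stepQ 1282 Q1282 (allL N1282 (tt N1095 F7000) (tt N1481 (iv F8895)) (tt N1463 F56708) (tt N1282 F7001) (tt N1282 F7002) (tt N1099 (iv F56798)) (tt N1282 F7003) (tt N1094 (iv D1957)))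
theorem Q1284 : ∀ i, i < 1284 → P i := stepQ 1283 Q1283 (allL N1283 (tt N1283 F57106) (tt N1461 (iv F8526)) (tt N1098 (iv D2001)) (tt N1283 F7167) (tt N1482 D2574) (tt N1283 F7168) (tt N1483 D2575) (tt N1100 F7169))
theorem Q1285 : ∀ i, i < 1285 → P i := stepQ 1284 Q1284 (allL N1284 (tt N1284 F57103) (tt N1099 F7170) (tt N1482 (iv F9103)) (tt N1284 F7171) (tt N1098 (iv D2002)) (tt N1481 F56953) (tt N1284 F7172) (tt N1101 F7173))
theorem Q1286 : ∀ i, i < 1286 → P i := stepQ 1285 Q1285 (allL N1285 (tt N1285 F57102) (tt N1466 (iv F8541)) (tt N1101 F7185) (tt N1484 D2580) (tt N1100 (iv D2006)) (tt N1480 F56952) (tt N1285 F7186) (tt N1482 (iv F9104)))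
theorem Q1287 : ∀ i, i < 1287 → P i := stepQ 1286 Q1286 (allL N1286 (tt N1138 F7420) (tt N1108 F7421) (tt N1485 D2656) (tt N1159 F7422) (tt N1104 F7423) (tt N1157 F7424) (tt N1102 (iv D2069)) (tt N1156 F7425))
theorem Q1288 : ∀ i, i < 1288 → P i := stepQ 1287 Q1287 (allL N1287 (tt N1140 F7426) (tt N1109 F7427) (tt N1486 D2657) (tt N1287 F7428) (tt N1156 F7429) (tt N1287 F7430) (tt N1103 (iv D2070)) (tt N1104 F7431))
theorem Q1289 : ∀ i, i < 1289 → P i := stepQ 1288 Q1288 (allL N1288 (tt N1141 F7432) (tt N1487 D2658) (tt N1104 (iv D2071)) (tt N1488 D2659) (tt N1485 (iv F9397)) (tt N1288 F7433) (tt N1288 F7434) (tt N1486 (iv F9405)))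
theorem Q1290 : ∀ i, i < 1290 → P i := stepQ 1289 Q1289 (allL N1289 (tt N1117 F7435) (tt N1159 F7436) (tt N1489 D2660) (tt N1108 F7437) (tt N1289 F7438) (tt N1119 F7439) (tt N1105 (iv D2072)) (tt N1118 F7440))
theorem Q1291 : ∀ i, i < 1291 → P i := stepQ 1290 Q1290 (allL N1290 (tt N1118 F7441) (tt N1157 F7442) (tt N1490 D2661) (tt N1119 F7443) (tt N1290 F7444) (tt N1108 F7445) (tt N1106 (iv D2073)) (tt N1117 F7446))
theorem Q1292 : ∀ i, i < 1292 → P i := stepQ 1291 Q1291 (allL N1291 (tt N1119 F7447) (tt N1156 F7448) (tt N1491 D2662) (tt N1118 F7449) (tt N1109 F7450) (tt N1117 F7451) (tt N1107 (iv D2074)) (tt N1108 F7452))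
theorem Q1293 : ∀ i, i < 1293 → P i := stepQ 1292 Q1292 (allL N1292 (tt N1120 F7453) (tt N1492 D2663) (tt N1108 (iv D2075)) (tt N1493 D2664) (tt N1110 F7454) (tt N1490 (iv F9420)) (tt N1112 F7455) (tt N1491 (iv F9427)))
theorem Q1294 : ∀ i, i < 1294 → P i := stepQ 1293 Q1293 (allL N1293 (tt N1121 F7456) (tt N1494 D2665) (tt N1109 (iv D2076)) (tt N1495 D2666) (tt N1491 (iv F9424)) (tt N1293 F7457) (tt N1293 F7458) (tt N1110 F7459))
theorem Q1295 : ∀ i, i < 1295 → P i := stepQ 1294 Q1294 (allL N1294 (tt N1496 D2667) (tt N1110 (iv D2077)) (tt N1487 (iv F9406)) (tt N1497 D2668) (tt N1492 (iv F9428)) (tt N1294 F7460) (tt N1113 F7461) (tt N1494 (iv F9434)))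
theorem Q1296 : ∀ i, i < 1296 → P i := stepQ 1295 Q1295 (allL N1295 (tt N1123 F7462) (tt N1497 (iv F9443)) (tt N1295 F7463) (tt N1110 (iv D2078)) (tt N1498 D2669) (tt N1295 F7464) (tt N1114 F7465) (tt N1495 (iv F9439)))
theorem Q1297 : ∀ i, i < 1297 → P i := stepQ 1296 Q1296 (allL N1296 (tt N1124 F7466) (tt N1499 D2670) (tt N1111 (iv D2079)) (tt N1500 D2671) (tt N1296 F7467) (tt N1112 F7468) (tt N1490 (iv F9421)) (tt N1296 F7469))
theorem Q1298 : ∀ i, i < 1298 → P i := stepQ 1297 Q1297 (allL N1297 (tt N1501 D2672) (tt N1112 (iv D2080)) (tt N1297 F7470) (tt N1502 D2673) (tt N1113 F7471) (tt N1499 (iv F9451)) (tt N1492 (iv F9429)) (tt N1297 F7472))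
theorem Q1299 : ∀ i, i < 1299 → P i := stepQ 1298 Q1298 (allL N1298 (tt N1126 F7473) (tt N1502 (iv F9461)) (tt N1298 F7474) (tt N1112 (iv D2081)) (tt N1503 D2674) (tt N1500 (iv F9455)) (tt N1493 (iv F9431)) (tt N1298 F7475))
theorem Q1300 : ∀ i, i < 1300 → P i := stepQ 1299 Q1299 (allL N1299 (tt N1113 (iv D2082)) (tt N1127 F7476) (tt N1299 F7477) (tt N1504 D2675) (tt N1501 (iv F9459)) (tt N1299 F7478) (tt N1496 (iv F9442)) (tt N1299 F7479))
theorem Q1301 : ∀ i, i < 1301 → P i := stepQ 1300 Q1300 (allL N1300 (tt N1504 (iv F9467)) (tt N1114 F7480) (tt N1505 D2676) (tt N1113 (iv D2083)) (tt N1506 D2677) (tt N1300 F7481) (tt N1497 (iv F9445)) (tt N1300 F7482))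
theorem Q1302 : ∀ i, i < 1302 → P i := stepQ 1301 Q1301 (allL N1301 (tt N1129 F7483) (tt N1506 (iv F9475)) (tt N1116 F7484) (tt N1503 (iv F9465)) (tt N1114 (iv D2084)) (tt N1507 D2678) (tt N1498 (iv F9448)) (tt N1301 F7485))
theorem Q1303 : ∀ i, i < 1303 → P i := stepQ 1302 Q1302 (allL N1302 (tt N1302 F7486) (tt N1505 (iv F9471)) (tt N1115 (iv D2085)) (tt N1302 F7487) (tt N1508 D2679) (tt N1302 F7488) (tt N1509 D2680) (tt N1302 F7489))
theorem Q1304 : ∀ i, i < 1304 → P i := stepQ 1303 Q1303 (allL N1303 (tt N1303 F7490) (tt N1116 F7491) (tt N1508 (iv F9482)) (tt N1303 F7492) (tt N1115 (iv D2086)) (tt N1510 D2681) (tt N1303 F7493) (tt N1303 F7494))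
theorem Q1305 : ∀ i, i < 1305 → P i := stepQ 1304 Q1304 (allL N1304 (tt N1130 F7495) (tt N1510 (iv F9489)) (tt N1507 (iv F9478)) (tt N1304 F7496) (tt N1304 F7497) (tt N1116 (iv D2087)) (tt N1304 F7498) (tt N1304 F7499))
theorem Q1306 : ∀ i, i < 1306 → P i := stepQ 1305 Q1305 (allL N1305 (tt N1489 (iv F9413)) (tt N1511 D2682) (tt N1117 (iv D2088)) (tt N1512 D2683) (tt N1305 F7500) (tt N1491 (iv F9425)) (tt N1305 F7501) (tt N1490 (iv F9422)))
theorem Q1307 : ∀ i, i < 1307 → P i := stepQ 1306 Q1306 (allL N1306 (tt N1490 (iv F9418)) (tt N1513 D2684) (tt N1118 (iv D2089)) (tt N1514 D2685) (tt N1306 F7502) (tt N1120 F7503) (tt N1124 F7504) (tt N1489 (iv F9417)))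
theorem Q1308 : ∀ i, i < 1308 → P i := stepQ 1307 Q1307 (allL N1307 (tt N1491 (iv F9423)) (tt N1515 D2686) (tt N1119 (iv D2090)) (tt N1516 D2687) (tt N1121 F7505) (tt N1489 (iv F9415)) (tt N1307 F7506) (tt N1120 F7507))
theorem Q1309 : ∀ i, i < 1309 → P i := stepQ 1308 Q1308 (allL N1308 (tt N1517 D2688) (tt N1120 (iv D2091)) (tt N1162 F7508) (tt N1518 D2689) (tt N1122 F7509) (tt N1513 (iv F9501)) (tt N1125 F7510) (tt N1515 (iv F9508)))
theorem Q1310 : ∀ i, i < 1310 → P i := stepQ 1309 Q1309 (allL N1309 (tt N1493 (iv F9430)) (tt N1518 (iv F9514)) (tt N1512 (iv F9497)) (tt N1120 (iv D2092)) (tt N1519 D2690) (tt N1514 (iv F9503)) (tt N1126 F7511) (tt N1516 (iv F9510)))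
theorem Q1311 : ∀ i, i < 1311 → P i := stepQ 1310 Q1310 (allL N1310 (tt N1520 D2691) (tt N1121 (iv D2093)) (tt N1164 F7512) (tt N1521 D2692) (tt N1515 (iv F9506)) (tt N1310 F7513) (tt N1310 F7514) (tt N1122 F7515))
theorem Q1312 : ∀ i, i < 1312 → P i := stepQ 1311 Q1311 (allL N1311 (tt N1495 (iv F9435)) (tt N1521 (iv F9522)) (tt N1311 F7516) (tt N1121 (iv D2094)) (tt N1522 D2693) (tt N1311 F7517) (tt N1311 F7518) (tt N1123 F7519))
theorem Q1313 : ∀ i, i < 1313 → P i := stepQ 1312 Q1312 (allL N1312 (tt N1122 (iv D2095)) (tt N1496 (iv F9440)) (tt N1166 F7520) (tt N1523 D2694) (tt N1517 (iv F9512)) (tt N1312 F7521) (tt N1127 F7522) (tt N1520 (iv F9521)))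
theorem Q1314 : ∀ i, i < 1314 → P i := stepQ 1313 Q1313 (allL N1313 (tt N1523 (iv F9529)) (tt N1123 F7523) (tt N1524 D2695) (tt N1122 (iv D2096)) (tt N1525 D2696) (tt N1313 F7524) (tt N1128 F7525) (tt N1521 (iv F9525)))
theorem Q1315 : ∀ i, i < 1315 → P i := stepQ 1314 Q1314 (allL N1314 (tt N1498 (iv F9446)) (tt N1525 (iv F9536)) (tt N1314 F7526) (tt N1519 (iv F9516)) (tt N1123 (iv D2097)) (tt N1526 D2697) (tt N1129 F7527) (tt N1522 (iv F9528)))
theorem Q1316 : ∀ i, i < 1316 → P i := stepQ 1315 Q1315 (allL N1315 (tt N1527 D2698) (tt N1124 (iv D2098)) (tt N1131 F7528) (tt N1528 D2699) (tt N1315 F7529) (tt N1125 F7530) (tt N1513 (iv F9502)) (tt N1315 F7531))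
theorem Q1317 : ∀ i, i < 1317 → P i := stepQ 1316 Q1316 (allL N1316 (tt N1500 (iv F9453)) (tt N1528 (iv F9545)) (tt N1316 F7532) (tt N1124 (iv D2099)) (tt N1529 D2700) (tt N1126 F7533) (tt N1514 (iv F9504)) (tt N1316 F7534))
theorem Q1318 : ∀ i, i < 1318 → P i := stepQ 1317 Q1317 (allL N1317 (tt N1125 (iv D2100)) (tt N1501 (iv F9457)) (tt N1133 F7535) (tt N1530 D2701) (tt N1127 F7536) (tt N1527 (iv F9543)) (tt N1517 (iv F9513)) (tt N1317 F7537))
theorem Q1319 : ∀ i, i < 1319 → P i := stepQ 1318 Q1318 (allL N1318 (tt N1530 (iv F9551)) (tt N1126 F7538) (tt N1531 D2702) (tt N1125 (iv D2101)) (tt N1532 D2703) (tt N1528 (iv F9546)) (tt N1518 (iv F9515)) (tt N1318 F7539))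
theorem Q1320 : ∀ i, i < 1320 → P i := stepQ 1319 Q1319 (allL N1319 (tt N1503 (iv F9463)) (tt N1532 (iv F9556)) (tt N1319 F7540) (tt N1129 F7541) (tt N1126 (iv D2102)) (tt N1533 D2704) (tt N1519 (iv F9517)) (tt N1319 F7542))
theorem Q1321 : ∀ i, i < 1321 → P i := stepQ 1320 Q1320 (allL N1320 (tt N1128 F7543) (tt N1504 (iv F9468)) (tt N1320 F7544) (tt N1127 (iv D2103)) (tt N1534 D2705) (tt N1320 F7545) (tt N1523 (iv F9531)) (tt N1320 F7546))
theorem Q1322 : ∀ i, i < 1322 → P i := stepQ 1321 Q1321 (allL N1321 (tt N1534 (iv F9562)) (tt N1129 F7547) (tt N1321 F7548) (tt N1532 (iv F9557)) (tt N1128 (iv D2104)) (tt N1535 D2706) (tt N1525 (iv F9537)) (tt N1321 F7549))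
theorem Q1323 : ∀ i, i < 1323 → P i := stepQ 1322 Q1322 (allL N1322 (tt N1507 (iv F9477)) (tt N1535 (iv F9565)) (tt N1130 F7550) (tt N1533 (iv F9560)) (tt N1322 F7551) (tt N1129 (iv D2105)) (tt N1526 (iv F9540)) (tt N1322 F7552))
theorem Q1324 : ∀ i, i < 1324 → P i := stepQ 1323 Q1323 (allL N1323 (tt N1131 (iv D2106)) (tt N1323 F7553) (tt N1527 (iv F9541)) (tt N1536 D2707) (tt N1323 F7554) (tt N1133 F7555) (tt N1177 F7556) (tt N1323 F7557))
theorem Q1325 : ∀ i, i < 1325 → P i := stepQ 1324 Q1324 (allL N1324 (tt N1536 (iv F9569)) (tt N1132 F7558) (tt N1537 D2708) (tt N1131 (iv D2107)) (tt N1538 D2709) (tt N1134 F7559) (tt N1178 F7560) (tt N1324 F7561))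
theorem Q1326 : ∀ i, i < 1326 → P i := stepQ 1325 Q1325 (allL N1325 (tt N1325 F7562) (tt N1538 (iv F9577)) (tt N1325 F7563) (tt N1325 F7564) (tt N1132 (iv D2108)) (tt N1325 F7565) (tt N1155 F56439) (tt N1325 F7567))
theorem Q1327 : ∀ i, i < 1327 → P i := stepQ 1326 Q1326 (allL N1326 (tt N1134 F7568) (tt N1326 F7569) (tt N1539 D2710) (tt N1133 (iv D2109)) (tt N1326 F7570) (tt N1536 (iv F9571)) (tt N1179 F7571) (tt N1326 F7572))
theorem Q1328 : ∀ i, i < 1328 → P i := stepQ 1327 Q1327 (allL N1327 (tt N1539 (iv F9582)) (tt N1327 F7573) (tt N1134 (iv D2110)) (tt N1531 (iv F9554)) (tt N1327 F7574) (tt N1537 (iv F9575)) (tt N1540 D2711) (tt N1327 F7575))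
theorem Q1329 : ∀ i, i < 1329 → P i := stepQ 1328 Q1328 (allL N1328 (tt N1159 F7576) (tt N1142 F7577) (tt N1541 D2712) (tt N1138 F7578) (tt N1328 F7579) (tt N1144 F7580) (tt N1135 (iv D2111)) (tt N1143 F7581))
theorem Q1330 : ∀ i, i < 1330 → P i := stepQ 1329 Q1329 (allL N1329 (tt N1157 F7582) (tt N1143 F7583) (tt N1542 D2713) (tt N1144 F7584) (tt N1329 F7585) (tt N1138 F7586) (tt N1136 (iv D2112)) (tt N1142 F7587))
theorem Q1331 : ∀ i, i < 1331 → P i := stepQ 1330 Q1330 (allL N1330 (tt N1156 F7588) (tt N1144 F7589) (tt N1543 D2714) (tt N1143 F7590) (tt N1140 F7591) (tt N1142 F7592) (tt N1137 (iv D2113)) (tt N1138 F7593))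
theorem Q1332 : ∀ i, i < 1332 → P i := stepQ 1331 Q1331 (allL N1331 (tt N1485 (iv F9396)) (tt N1544 D2715) (tt N1138 (iv D2114)) (tt N1545 D2716) (tt N1141 F7594) (tt N1542 (iv F9595)) (tt N1331 F7595) (tt N1543 (iv F9602)))
theorem Q1333 : ∀ i, i < 1333 → P i := stepQ 1332 Q1332 (allL N1332 (tt N1200 F7596) (tt N1227 F7597) (tt N1546 D2717) (tt N1221 F7598) (tt N1188 F7599) (tt N1332 F7600) (tt N1139 (iv D2115)) (tt N1332 F7601))
theorem Q1334 : ∀ i, i < 1334 → P i := stepQ 1333 Q1333 (allL N1333 (tt N1486 (iv F9401)) (tt N1547 D2718) (tt N1140 (iv D2116)) (tt N1548 D2719) (tt N1543 (iv F9599)) (tt N1333 F7602) (tt N1546 (iv F9610)) (tt N1141 F7603))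
theorem Q1335 : ∀ i, i < 1335 → P i := stepQ 1334 Q1334 (allL N1334 (tt N1549 D2720) (tt N1141 (iv D2117)) (tt N1147 F7604) (tt N1550 D2721) (tt N1544 (iv F9604)) (tt N1334 F7605) (tt N1334 F7606) (tt N1547 (iv F9614)))
theorem Q1336 : ∀ i, i < 1336 → P i := stepQ 1335 Q1335 (allL N1335 (tt N1488 (iv F9409)) (tt N1550 (iv F9621)) (tt N1335 F7607) (tt N1141 (iv D2118)) (tt N1551 D2722) (tt N1335 F7608) (tt N1335 F7609) (tt N1548 (iv F9617)))
theorem Q1337 : ∀ i, i < 1337 → P i := stepQ 1336 Q1336 (allL N1336 (tt N1158 F7610) (tt N1552 D2723) (tt N1142 (iv D2119)) (tt N1553 D2724) (tt N1336 F7611) (tt N1543 (iv F9600)) (tt N1189 F7612) (tt N1542 (iv F9597)))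
theorem Q1338 : ∀ i, i < 1338 → P i := stepQ 1337 Q1337 (allL N1337 (tt N1160 F7613) (tt N1554 D2725) (tt N1143 (iv D2120)) (tt N1555 D2726) (tt N1337 F7614) (tt N1145 F7615) (tt N1149 F7616) (tt N1541 (iv F9592)))
theorem Q1339 : ∀ i, i < 1339 → P i := stepQ 1338 Q1338 (allL N1338 (tt N1161 F7617) (tt N1556 D2727) (tt N1144 (iv D2121)) (tt N1557 D2728) (tt N1146 F7618) (tt N1541 (iv F9590)) (tt N1232 F7619) (tt N1145 F7620))
theorem Q1340 : ∀ i, i < 1340 → P i := stepQ 1339 Q1339 (allL N1339 (tt N1558 D2729) (tt N1145 (iv D2122)) (tt N1544 (iv F9603)) (tt N1559 D2730) (tt N1147 F7621) (tt N1554 (iv F9632)) (tt N1150 F7622) (tt N1556 (iv F9639)))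
theorem Q1341 : ∀ i, i < 1341 → P i := stepQ 1340 Q1340 (allL N1340 (tt N1163 F7623) (tt N1559 (iv F9646)) (tt N1553 (iv F9629)) (tt N1145 (iv D2123)) (tt N1560 D2731) (tt N1555 (iv F9635)) (tt N1151 F7624) (tt N1557 (iv F9642)))
theorem Q1342 : ∀ i, i < 1342 → P i := stepQ 1341 Q1341 (allL N1341 (tt N1561 D2732) (tt N1146 (iv D2124)) (tt N1547 (iv F9612)) (tt N1562 D2733) (tt N1556 (iv F9637)) (tt N1341 F7625) (tt N1235 F7626) (tt N1147 F7627))
theorem Q1343 : ∀ i, i < 1343 → P i := stepQ 1342 Q1342 (allL N1342 (tt N1165 F7628) (tt N1562 (iv F9655)) (tt N1342 F7629) (tt N1146 (iv D2125)) (tt N1563 D2734) (tt N1342 F7630) (tt N1236 F7631) (tt N1148 F7632))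
theorem Q1344 : ∀ i, i < 1344 → P i := stepQ 1343 Q1343 (allL N1343 (tt N1147 (iv D2126)) (tt N1166 F7633) (tt N1549 (iv F9618)) (tt N1564 D2735) (tt N1558 (iv F9644)) (tt N1343 F7634) (tt N1152 F7635) (tt N1561 (iv F9654)))
theorem Q1345 : ∀ i, i < 1345 → P i := stepQ 1344 Q1344 (allL N1344 (tt N1564 (iv F9663)) (tt N1148 F7636) (tt N1565 D2736) (tt N1147 (iv D2127)) (tt N1566 D2737) (tt N1344 F7637) (tt N1153 F7638) (tt N1562 (iv F9658)))
theorem Q1346 : ∀ i, i < 1346 → P i := stepQ 1345 Q1345 (allL N1345 (tt N1168 F7639) (tt N1566 (iv F9669)) (tt N1345 F7640) (tt N1560 (iv F9649)) (tt N1148 (iv D2128)) (tt N1214 F56201) (tt N1154 F7641) (tt N1563 (iv F9662)))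
theorem Q1347 : ∀ i, i < 1347 → P i := stepQ 1346 Q1346 (allL N1346 (tt N1567 D2739) (tt N1149 (iv D2129)) (tt N1346 F7642) (tt N1568 D2740) (tt N1346 F7643) (tt N1150 F7644) (tt N1554 (iv F9633)) (tt N1240 F7645))
theorem Q1348 : ∀ i, i < 1348 → P i := stepQ 1347 Q1347 (allL N1347 (tt N1170 F7646) (tt N1568 (iv F9680)) (tt N1196 F7647) (tt N1149 (iv D2130)) (tt N1569 D2741) (tt N1151 F7648) (tt N1555 (iv F9636)) (tt N1241 F7649))
theorem Q1349 : ∀ i, i < 1349 → P i := stepQ 1348 Q1348 (allL N1348 (tt N1150 (iv D2131)) (tt N1171 F7650) (tt N1348 F7651) (tt N1570 D2742) (tt N1152 F7652) (tt N1567 (iv F9678)) (tt N1558 (iv F9645)) (tt N1242 F7653))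
theorem Q1350 : ∀ i, i < 1350 → P i := stepQ 1349 Q1349 (allL N1349 (tt N1570 (iv F9687)) (tt N1151 F7654) (tt N1571 D2743) (tt N1150 (iv D2132)) (tt N1572 D2744) (tt N1568 (iv F9681)) (tt N1559 (iv F9647)) (tt N1243 F7655))
theorem Q1351 : ∀ i, i < 1351 → P i := stepQ 1350 Q1350 (allL N1350 (tt N1173 F7656) (tt N1572 (iv F9693)) (tt N1199 F7657) (tt N1154 F7658) (tt N1151 (iv D2133)) (tt N1212 (iv F56055)) (tt N1560 (iv F9650)) (tt N1244 F7659))
theorem Q1352 : ∀ i, i < 1352 → P i := stepQ 1351 Q1351 (allL N1351 (tt N1153 F7660) (tt N1174 F7661) (tt N1573 D2746) (tt N1152 (iv D2134)) (tt N1574 D2747) (tt N1351 F7662) (tt N1564 (iv F9666)) (tt N1245 F7663))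
theorem Q1353 : ∀ i, i < 1353 → P i := stepQ 1352 Q1352 (allL N1352 (tt N1573 (iv F9700)) (tt N1155 F7664) (tt N1153 (iv D2135)) (tt N1352 F7665) (tt N1178 F56437) (tt N1352 F7666) (tt N1538 (iv F56599)) (tt N1246 F7667))
theorem Q1354 : ∀ i, i < 1354 → P i := stepQ 1353 Q1353 (allL N1353 (tt N1574 (iv F9705)) (tt N1154 F7668) (tt N1178 (iv F56284)) (tt N1572 (iv F9694)) (tt N1153 (iv D2136)) (tt N1180 F56200) (tt N1566 (iv F9670)) (tt N1247 F7669))
theorem Q1355 : ∀ i, i < 1355 → P i := stepQ 1354 Q1354 (allL N1354 (tt N1543 (iv F9598)) (tt N1575 D2755) (tt N1156 (iv D2141)) (tt N1576 D2756) (tt N1486 (iv F9402)) (tt N1158 F7687) (tt N1201 F7688) (tt N1485 (iv F9400)))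
theorem Q1356 : ∀ i, i < 1356 → P i := stepQ 1355 Q1355 (allL N1355 (tt N1542 (iv F9593)) (tt N1577 D2757) (tt N1157 (iv D2142)) (tt N1578 D2758) (tt N1355 F7689) (tt N1485 (iv F9398)) (tt N1355 F7690) (tt N1158 F7691))
theorem Q1357 : ∀ i, i < 1357 → P i := stepQ 1356 Q1356 (allL N1356 (tt N1579 D2759) (tt N1158 (iv D2143)) (tt N1511 (iv F9494)) (tt N1580 D2760) (tt N1356 F7692) (tt N1575 (iv F9733)) (tt N1202 F7693) (tt N1577 (iv F9740)))
theorem Q1358 : ∀ i, i < 1358 → P i := stepQ 1357 Q1357 (allL N1357 (tt N1553 (iv F9628)) (tt N1580 (iv F9746)) (tt N1163 F7694) (tt N1158 (iv D2144)) (tt N1581 D2761) (tt N1576 (iv F9736)) (tt N1203 F7695) (tt N1578 (iv F9743)))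
theorem Q1359 : ∀ i, i < 1359 → P i := stepQ 1358 Q1358 (allL N1358 (tt N1541 (iv F9588)) (tt N1582 D2762) (tt N1159 (iv D2145)) (tt N1583 D2763) (tt N1358 F7696) (tt N1161 F7697) (tt N1248 F7698) (tt N1160 F7699))
theorem Q1360 : ∀ i, i < 1360 → P i := stepQ 1359 Q1359 (allL N1359 (tt N1584 D2764) (tt N1160 (iv D2146)) (tt N1513 (iv F9499)) (tt N1585 D2765) (tt N1359 F7700) (tt N1162 F7701) (tt N1169 F7702) (tt N1582 (iv F9754)))
theorem Q1361 : ∀ i, i < 1361 → P i := stepQ 1360 Q1360 (allL N1360 (tt N1555 (iv F9634)) (tt N1585 (iv F9761)) (tt N1576 (iv F9735)) (tt N1160 (iv D2147)) (tt N1586 D2766) (tt N1163 F7703) (tt N1170 F7704) (tt N1583 (iv F9757)))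
theorem Q1362 : ∀ i, i < 1362 → P i := stepQ 1361 Q1361 (allL N1361 (tt N1587 D2767) (tt N1161 (iv D2148)) (tt N1515 (iv F9505)) (tt N1588 D2768) (tt N1164 F7705) (tt N1582 (iv F9752)) (tt N1251 F7706) (tt N1162 F7707))
theorem Q1363 : ∀ i, i < 1363 → P i := stepQ 1362 Q1362 (allL N1362 (tt N1557 (iv F9640)) (tt N1588 (iv F9769)) (tt N1578 (iv F9741)) (tt N1161 (iv D2149)) (tt N1589 D2769) (tt N1583 (iv F9755)) (tt N1252 F7708) (tt N1163 F7709))
theorem Q1364 : ∀ i, i < 1364 → P i := stepQ 1363 Q1363 (allL N1363 (tt N1162 (iv D2150)) (tt N1558 (iv F9643)) (tt N1517 (iv F9511)) (tt N1590 D2770) (tt N1166 F7710) (tt N1584 (iv F9759)) (tt N1171 F7711) (tt N1587 (iv F9768)))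
theorem Q1365 : ∀ i, i < 1365 → P i := stepQ 1364 Q1364 (allL N1364 (tt N1590 (iv F9775)) (tt N1163 F7712) (tt N1591 D2771) (tt N1162 (iv D2151)) (tt N1592 D2772) (tt N1585 (iv F9762)) (tt N1172 F7713) (tt N1588 (iv F9771)))
theorem Q1366 : ∀ i, i < 1366 → P i := stepQ 1365 Q1365 (allL N1365 (tt N1560 (iv F9648)) (tt N1592 (iv F9777)) (tt N1581 (iv F9748)) (tt N1168 F7714) (tt N1163 (iv D2152)) (tt N1593 D2773) (tt N1173 F7715) (tt N1589 (iv F9774)))
theorem Q1367 : ∀ i, i < 1367 → P i := stepQ 1366 Q1366 (allL N1366 (tt N1164 (iv D2153)) (tt N1561 (iv F9651)) (tt N1520 (iv F9518)) (tt N1594 D2774) (tt N1587 (iv F9766)) (tt N1366 F7716) (tt N1256 F7717) (tt N1166 F7718))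
theorem Q1368 : ∀ i, i < 1368 → P i := stepQ 1367 Q1367 (allL N1367 (tt N1594 (iv F9782)) (tt N1165 F7719) (tt N1595 D2775) (tt N1164 (iv D2154)) (tt N1596 D2776) (tt N1367 F7720) (tt N1257 F7721) (tt N1167 F7722))
theorem Q1369 : ∀ i, i < 1369 → P i := stepQ 1368 Q1368 (allL N1368 (tt N1563 (iv F9659)) (tt N1596 (iv F9789)) (tt N1368 F7723) (tt N1589 (iv F9772)) (tt N1165 (iv D2155)) (tt N1597 D2777) (tt N1258 F7724) (tt N1168 F7725))
theorem Q1370 : ∀ i, i < 1370 → P i := stepQ 1369 Q1369 (allL N1369 (tt N1167 F7726) (tt N1564 (iv F9664)) (tt N1598 D2778) (tt N1166 (iv D2156)) (tt N1599 D2779) (tt N1369 F7727) (tt N1174 F7728) (tt N1594 (iv F9785)))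
theorem Q1371 : ∀ i, i < 1371 → P i := stepQ 1370 Q1370 (allL N1370 (tt N1598 (iv F9796)) (tt N1370 F7729) (tt N1167 (iv D2157)) (tt N1524 (iv F9533)) (tt N1600 D2780) (tt N1370 F7730) (tt N1370 F7731) (tt N1595 (iv F9788)))
theorem Q1372 : ∀ i, i < 1372 → P i := stepQ 1371 Q1371 (allL N1371 (tt N1599 (iv F9799)) (tt N1168 F7732) (tt N1600 (iv F9802)) (tt N1592 (iv F9778)) (tt N1167 (iv D2158)) (tt N1601 D2781) (tt N1175 F7733) (tt N1596 (iv F9791)))
theorem Q1373 : ∀ i, i < 1373 → P i := stepQ 1372 Q1372 (allL N1372 (tt N1214 F56229) (tt N1601 (iv F9804)) (tt N1372 F7734) (tt N1593 (iv F9780)) (tt N1372 F7735) (tt N1168 (iv D2159)) (tt N1176 F7736) (tt N1597 (iv F9795)))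
theorem Q1374 : ∀ i, i < 1374 → P i := stepQ 1373 Q1373 (allL N1373 (tt N1169 (iv D2160)) (tt N1567 (iv F9675)) (tt N1177 F7737) (tt N1602 D2782) (tt N1373 F7738) (tt N1171 F7739) (tt N1584 (iv F9760)) (tt N1263 F7740))
theorem Q1375 : ∀ i, i < 1375 → P i := stepQ 1374 Q1374 (allL N1374 (tt N1602 (iv F9807)) (tt N1170 F7741) (tt N1572 F56208) (tt N1169 (iv D2161)) (tt N1571 (iv F56356)) (tt N1172 F7742) (tt N1585 (iv F9763)) (tt N1264 F7743))
theorem Q1376 : ∀ i, i < 1376 → P i := stepQ 1375 Q1375 (allL N1375 (tt N1569 (iv F9683)) (tt N1571 (iv F56355)) (tt N1198 F56211) (tt N1375 F7745) (tt N1170 (iv D2162)) (tt N1603 D2785) (tt N1586 (iv F9765)) (tt N1265 F7746))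
theorem Q1377 : ∀ i, i < 1377 → P i := stepQ 1376 Q1376 (allL N1376 (tt N1172 F7747) (tt N1570 (iv F9688)) (tt N1604 D2786) (tt N1171 (iv D2163)) (tt N1605 D2787) (tt N1602 (iv F9808)) (tt N1590 (iv F9776)) (tt N1266 F7748))
theorem Q1378 : ∀ i, i < 1378 → P i := stepQ 1377 Q1377 (allL N1377 (tt N1604 (iv F9821)) (tt N1212 F7749) (tt N1172 (iv D2164)) (tt N1180 F7750) (tt N1606 D2788) (tt N1572 F56202) (tt N1607 D2789) (tt N1267 F7751))
theorem Q1379 : ∀ i, i < 1379 → P i := stepQ 1378 Q1378 (allL N1378 (tt N1605 (iv F9824)) (tt N1173 F7752) (tt N1606 (iv F9828)) (tt N1175 F7753) (tt N1172 (iv D2165)) (tt N1608 D2790) (tt N1592 (iv F9779)) (tt N1268 F7754))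
theorem Q1380 : ∀ i, i < 1380 → P i := stepQ 1379 Q1379 (allL N1379 (tt N1212 (iv F56054)) (tt N1608 (iv F9833)) (tt N1211 F55941) (tt N1176 F7756) (tt N1603 (iv F9819)) (tt N1173 (iv D2166)) (tt N1593 (iv F9781)) (tt N1269 F7757))
theorem Q1381 : ∀ i, i < 1381 → P i := stepQ 1380 Q1380 (allL N1380 (tt N1175 F7758) (tt N1574 (iv F9706)) (tt N1380 F7759) (tt N1605 (iv F9825)) (tt N1174 (iv D2167)) (tt N1609 D2791) (tt N1599 (iv F9800)) (tt N1270 F7760))
theorem Q1382 : ∀ i, i < 1382 → P i := stepQ 1381 Q1381 (allL N1381 (tt N1609 (iv F9836)) (tt N1176 F7761) (tt N1381 F7762) (tt N1608 (iv F9834)) (tt N1381 F7763) (tt N1175 (iv D2168)) (tt N1601 (iv F9806)) (tt N1271 F7764))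
theorem Q1383 : ∀ i, i < 1383 → P i := stepQ 1382 Q1382 (allL N1382 (tt N1178 F7765) (tt N1382 F7766) (tt N1574 F56436) (tt N1177 (iv D2169)) (tt N1573 (iv F56597)) (tt N1179 F7767) (tt N1536 (iv F9572)) (tt N1272 F7768))
theorem Q1384 : ∀ i, i < 1384 → P i := stepQ 1383 Q1383 (allL N1383 (tt N1180 F7776) (tt N1609 (iv F56381)) (tt N1179 (iv D2172)) (tt N1604 (iv F9822)) (tt N1383 F7777) (tt N1574 (iv F56338)) (tt N1610 D2797) (tt N1273 F7778))
theorem Q1385 : ∀ i, i < 1385 → P i := stepQ 1384 Q1384 (allL N1384 (tt N1610 (iv F9858)) (tt N1214 F7779) (tt N1540 (iv F9586)) (tt N1607 (iv F9832)) (tt N1384 F7780) (tt N1566 (iv F56339)) (tt N1180 (iv D2173)) (tt N1611 D2798))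
theorem Q1386 : ∀ i, i < 1386 → P i := stepQ 1385 Q1385 (allL N1385 (tt N1385 F7781) (tt N1230 F7782) (tt N1612 D2799) (tt N1385 F7783) (tt N1385 F7784) (tt N1225 F7785) (tt N1181 (iv D2174)) (tt N1224 F7786))
theorem Q1387 : ∀ i, i < 1387 → P i := stepQ 1386 Q1386 (allL N1386 (tt N1386 F7787) (tt N1188 F7788) (tt N1613 D2800) (tt N1184 F7789) (tt N1227 F7790) (tt N1183 F7791) (tt N1182 (iv D2175)) (tt N1386 F7792))
theorem Q1388 : ∀ i, i < 1388 → P i := stepQ 1387 Q1387 (allL N1387 (tt N1387 F7793) (tt N1614 D2801) (tt N1183 (iv D2176)) (tt N1615 D2802) (tt N1387 F7794) (tt N1613 (iv F9870)) (tt N1612 (iv F9866)) (tt N1387 F7795))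
theorem Q1389 : ∀ i, i < 1389 → P i := stepQ 1388 Q1388 (allL N1388 (tt N1388 F7796) (tt N1616 D2803) (tt N1184 (iv D2177)) (tt N1617 D2804) (tt N1218 F7797) (tt N1185 F7798) (tt N1388 F7799) (tt N1388 F7800))
theorem Q1390 : ∀ i, i < 1390 → P i := stepQ 1389 Q1389 (allL N1389 (tt N1618 D2805) (tt N1185 (iv D2178)) (tt N1191 F7801) (tt N1619 D2806) (tt N1186 F7802) (tt N1616 (iv F9881)) (tt N1389 F7803) (tt N1389 F7804))
theorem Q1391 : ∀ i, i < 1391 → P i := stepQ 1390 Q1390 (allL N1390 (tt N1390 F7805) (tt N1619 (iv F9893)) (tt N1615 (iv F9877)) (tt N1185 (iv D2179)) (tt N1620 D2807) (tt N1617 (iv F9885)) (tt N1390 F7806) (tt N1390 F7807))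
theorem Q1392 : ∀ i, i < 1392 → P i := stepQ 1391 Q1391 (allL N1391 (tt N1186 (iv D2180)) (tt N1391 F7808) (tt N1193 F7809) (tt N1222 F55704) (tt N1618 (iv F9890)) (tt N1220 F7810) (tt N1391 F7811) (tt N1391 F7812))
theorem Q1393 : ∀ i, i < 1393 → P i := stepQ 1392 Q1392 (allL N1392 (tt N1392 F7817) (tt N1223 F55847) (tt N1392 F7818) (tt N1620 (iv F9897)) (tt N1187 (iv D2182)) (tt N1392 F55974) (tt N1392 F7819) (tt N1392 F7820))
theorem Q1394 : ∀ i, i < 1394 → P i := stepQ 1393 Q1393 (allL N1393 (tt N1201 F7821) (tt N1621 D2812) (tt N1188 (iv D2183)) (tt N1622 D2813) (tt N1546 (iv F9608)) (tt N1189 F7822) (tt N1543 (iv F9601)) (tt N1393 F7823))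
theorem Q1395 : ∀ i, i < 1395 → P i := stepQ 1394 Q1394 (allL N1394 (tt N1623 D2814) (tt N1189 (iv D2184)) (tt N1614 (iv F9873)) (tt N1624 D2815) (tt N1394 F7824) (tt N1621 (iv F9917)) (tt N1552 (iv F9627)) (tt N1394 F7825))
theorem Q1396 : ∀ i, i < 1396 → P i := stepQ 1395 Q1395 (allL N1395 (tt N1203 F7826) (tt N1624 (iv F9926)) (tt N1192 F7827) (tt N1189 (iv D2185)) (tt N1625 D2816) (tt N1622 (iv F9921)) (tt N1553 (iv F9630)) (tt N1395 F7828))
theorem Q1397 : ∀ i, i < 1397 → P i := stepQ 1396 Q1396 (allL N1396 (tt N1210 F55943) (tt N1190 (iv D2186)) (tt N1616 (iv F9879)) (tt N1626 D2818) (tt N1208 F55944) (tt N1191 F7830) (tt N1195 F7831) (tt N1396 F7832))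
theorem Q1398 : ∀ i, i < 1398 → P i := stepQ 1397 Q1397 (allL N1397 (tt N1204 F7833) (tt N1626 (iv F9937)) (tt N1622 (iv F9920)) (tt N1190 (iv D2187)) (tt N1627 D2819) (tt N1192 F7834) (tt N1196 F7835) (tt N1397 F7836))
theorem Q1399 : ∀ i, i < 1399 → P i := stepQ 1398 Q1398 (allL N1398 (tt N1191 (iv D2188)) (tt N1205 F7837) (tt N1618 (iv F9889)) (tt N1627 (iv F55809)) (tt N1193 F7838) (tt N1210 (iv F55805)) (tt N1197 F7839) (tt N1398 F7840))
theorem Q1400 : ∀ i, i < 1400 → P i := stepQ 1399 Q1399 (allL N1399 (tt N1627 F55949) (tt N1192 F7841) (tt N1628 D2821) (tt N1191 (iv D2189)) (tt N1204 F55950) (tt N1626 (iv F9938)) (tt N1198 F7842) (tt N1399 F7843))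
theorem Q1401 : ∀ i, i < 1401 → P i := stepQ 1400 Q1400 (allL N1400 (tt N1207 F7844) (tt N1204 F55932) (tt N1625 (iv F9929)) (tt N1194 F7845) (tt N1192 (iv D2190)) (tt N1206 F55933) (tt N1199 F7846) (tt N1400 F7847))
theorem Q1402 : ∀ i, i < 1402 → P i := stepQ 1401 Q1401 (allL N1401 (tt N1213 F56006) (tt N1196 F7869) (tt N1603 (iv F56158)) (tt N1195 (iv D2196)) (tt N1211 (iv F56053)) (tt N1198 F7870) (tt N1626 (iv F9939)) (tt N1275 F7871))
theorem Q1403 : ∀ i, i < 1403 → P i := stepQ 1402 Q1402 (allL N1402 (tt N1198 (iv F56062)) (tt N1211 (iv F56052)) (tt N1569 (iv F9684)) (tt N1197 F55927) (tt N1196 (iv D2197)) (tt N1213 F55925) (tt N1627 (iv F9943)) (tt N1276 F7874))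
theorem Q1404 : ∀ i, i < 1404 → P i := stepQ 1403 Q1403 (allL N1403 (tt N1546 (iv F9607)) (tt N1629 D2849) (tt N1200 (iv D2211)) (tt N1630 D2850) (tt N1201 F7918) (tt N1403 F7919) (tt N1486 (iv F9404)) (tt N1403 F7920))
theorem Q1405 : ∀ i, i < 1405 → P i := stepQ 1404 Q1404 (allL N1404 (tt N1631 D2851) (tt N1201 (iv D2212)) (tt N1404 F7921) (tt N1632 D2852) (tt N1629 (iv F10042)) (tt N1202 F7922) (tt N1575 (iv F9734)) (tt N1404 F7923))
theorem Q1406 : ∀ i, i < 1406 → P i := stepQ 1405 Q1405 (allL N1405 (tt N1622 (iv F9919)) (tt N1632 (iv F10051)) (tt N1204 F7924) (tt N1201 (iv D2213)) (tt N1628 (iv F56088)) (tt N1203 F7925) (tt N1576 (iv F9737)) (tt N1405 F7926))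
theorem Q1407 : ∀ i, i < 1407 → P i := stepQ 1406 Q1406 (allL N1406 (tt N1202 (iv D2214)) (tt N1623 (iv F9923)) (tt N1406 F7927) (tt N1633 D2854) (tt N1406 F7928) (tt N1631 (iv F10049)) (tt N1579 (iv F9745)) (tt N1406 F7929))
theorem Q1408 : ∀ i, i < 1408 → P i := stepQ 1407 Q1407 (allL N1407 (tt N1633 (iv F10056)) (tt N1203 F7930) (tt N1634 D2855) (tt N1202 (iv D2215)) (tt N1635 D2856) (tt N1632 (iv F10052)) (tt N1580 (iv F9747)) (tt N1407 F7931))
theorem Q1409 : ∀ i, i < 1409 → P i := stepQ 1408 Q1408 (allL N1408 (tt N1625 (iv F9928)) (tt N1635 (iv F10061)) (tt N1207 F7932) (tt N1408 F7933) (tt N1203 (iv D2216)) (tt N1636 D2857) (tt N1581 (iv F9750)) (tt N1408 F7934))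
theorem Q1410 : ∀ i, i < 1410 → P i := stepQ 1409 Q1409 (allL N1409 (tt N1206 F7947) (tt N1627 F55945) (tt N1636 (iv F56079)) (tt N1205 (iv D2220)) (tt N1626 (iv F56082)) (tt N1207 (iv F56059)) (tt N1211 F7948) (tt N1409 F7949))
theorem Q1411 : ∀ i, i < 1411 → P i := stepQ 1410 Q1410 (allL N1410 (tt N1636 (iv F56078)) (tt N1634 (iv F10058)) (tt N1206 (iv D2221)) (tt N1410 F7950) (tt N1637 D2864) (tt N1625 (iv F56067)) (tt N1638 D2865) (tt N1410 F7951))
theorem Q1412 : ∀ i, i < 1412 → P i := stepQ 1411 Q1411 (allL N1411 (tt N1626 (iv F56081)) (tt N1207 F7952) (tt N1637 (iv F10089)) (tt N1210 F7953) (tt N1206 (iv D2222)) (tt N1627 F55939) (tt N1213 F7954) (tt N1411 F7955))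
theorem Q1413 : ∀ i, i < 1413 → P i := stepQ 1412 Q1412 (allL N1412 (tt N1209 F7959) (tt N1218 (iv F55894)) (tt N1208 (iv D2224)) (tt N1412 F7960) (tt N1616 (iv F55818)) (tt N1219 F55754) (tt N1412 F7962) (tt N1412 F7963))
theorem Q1414 : ∀ i, i < 1414 → P i := stepQ 1413 Q1413 (allL N1413 (tt N1616 (iv F55817)) (tt N1413 F7967) (tt N1210 F7968) (tt N1639 D2870) (tt N1209 (iv D2226)) (tt N1618 F55682) (tt N1413 F7969) (tt N1413 F7970))
theorem Q1415 : ∀ i, i < 1415 → P i := stepQ 1414 Q1414 (allL N1414 (tt N1603 F55937) (tt N1606 (iv F9827)) (tt N1213 F7993) (tt N1414 F7994) (tt N1212 (iv D2234)) (tt N1569 (iv F56064)) (tt N1640 D2882) (tt N1277 F7995))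
theorem Q1416 : ∀ i, i < 1416 → P i := stepQ 1415 Q1415 (allL N1415 (tt N1593 F56203) (tt N1607 (iv F9831)) (tt N1638 (iv F10091)) (tt N1214 F7996) (tt N1640 (iv F10149)) (tt N1560 F56204) (tt N1212 (iv D2235)) (tt N1641 D2883))
theorem Q1417 : ∀ i, i < 1417 → P i := stepQ 1416 Q1416 (allL N1416 (tt N1597 (iv F56383)) (tt N1611 (iv F9860)) (tt N1416 F8024) (tt N1641 (iv F10150)) (tt N1416 F8025) (tt N1563 (iv F56340)) (tt N1279 F8026) (tt N1214 (iv D2244)))
theorem Q1418 : ∀ i, i < 1418 → P i := stepQ 1417 Q1417 (allL N1417 (tt N1417 F8042) (tt N1221 F8043) (tt N1417 F55763) (tt N1227 F8044) (tt N1217 F8045) (tt N1417 F8046) (tt N1216 (iv D2248)) (tt N1417 F8047))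
theorem Q1419 : ∀ i, i < 1419 → P i := stepQ 1418 Q1418 (allL N1418 (tt N1223 F8091) (tt N1418 F55528) (tt N1221 (iv D2261)) (tt N1642 D2915) (tt N1222 F8092) (tt N1418 F8093) (tt N1418 F8094) (tt N1418 F8095))
theorem Q1420 : ∀ i, i < 1420 → P i := stepQ 1419 Q1419 (allL N1419 (tt N1642 (iv F10261)) (tt N1620 (iv F55982)) (tt N1630 (iv F10045)) (tt N1223 (iv D2300)) (tt N1619 F55848) (tt N1419 F8223) (tt N1419 F8224) (tt N1419 F8225))
theorem Q1421 : ∀ i, i < 1421 → P i := stepQ 1420 Q1420 (allL N1420 (tt N1420 F8364) (tt N1643 D3019) (tt N1224 (iv D2342)) (tt N1644 D3020) (tt N1420 F8365) (tt N1226 F8366) (tt N1420 F8367) (tt N1612 (iv F9867)))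
theorem Q1422 : ∀ i, i < 1422 → P i := stepQ 1421 Q1421 (allL N1421 (tt N1421 F8368) (tt N1645 D3021) (tt N1225 (iv D2343)) (tt N1646 D3022) (tt N1228 F8369) (tt N1612 (iv F9865)) (tt N1613 (iv F9871)) (tt N1226 F8370))
theorem Q1423 : ∀ i, i < 1423 → P i := stepQ 1422 Q1422 (allL N1422 (tt N1647 D3023) (tt N1226 (iv D2344)) (tt N1233 F8371) (tt N1648 D3024) (tt N1229 F8372) (tt N1643 (iv F10614)) (tt N1422 F8373) (tt N1645 (iv F10622)))
theorem Q1424 : ∀ i, i < 1424 → P i := stepQ 1423 Q1423 (allL N1423 (tt N1423 F8374) (tt N1648 (iv F10630)) (tt N1423 F8375) (tt N1226 (iv D2345)) (tt N1423 F56631) (tt N1644 (iv F10618)) (tt N1423 F8376) (tt N1646 (iv F10625)))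
theorem Q1425 : ∀ i, i < 1425 → P i := stepQ 1424 Q1424 (allL N1424 (tt N1424 F8377) (tt N1649 D3026) (tt N1227 (iv D2346)) (tt N1424 F56037) (tt N1613 (iv F9869)) (tt N1424 F8378) (tt N1228 F8379) (tt N1424 F8380))
theorem Q1426 : ∀ i, i < 1426 → P i := stepQ 1425 Q1425 (allL N1425 (tt N1650 D3028) (tt N1228 (iv D2347)) (tt N1235 F8381) (tt N1425 F56321) (tt N1645 (iv F10621)) (tt N1425 F8382) (tt N1649 (iv F10637)) (tt N1229 F8383))
theorem Q1427 : ∀ i, i < 1427 → P i := stepQ 1426 Q1426 (allL N1426 (tt N1229 (iv D2349)) (tt N1426 F8388) (tt N1237 F8389) (tt N1426 F56633) (tt N1647 (iv F10628)) (tt N1426 F8390) (tt N1426 F8391) (tt N1650 (iv F10646)))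
theorem Q1428 : ∀ i, i < 1428 → P i := stepQ 1427 Q1427 (allL N1427 (tt N1248 F8398) (tt N1651 D3035) (tt N1230 (iv D2352)) (tt N1652 D3036) (tt N1427 F8399) (tt N1232 F8400) (tt N1541 (iv F9591)) (tt N1231 F8401))
theorem Q1429 : ∀ i, i < 1429 → P i := stepQ 1428 Q1428 (allL N1428 (tt N1653 D3037) (tt N1231 (iv D2353)) (tt N1643 (iv F10612)) (tt N1654 D3038) (tt N1428 F8402) (tt N1233 F8403) (tt N1240 F8404) (tt N1651 (iv F10668)))
theorem Q1430 : ∀ i, i < 1430 → P i := stepQ 1429 Q1429 (allL N1429 (tt N1250 F8405) (tt N1654 (iv F10677)) (tt N1429 F8406) (tt N1231 (iv D2354)) (tt N1655 D3039) (tt N1234 F8407) (tt N1241 F8408) (tt N1652 (iv F10672)))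
theorem Q1431 : ∀ i, i < 1431 → P i := stepQ 1430 Q1430 (allL N1430 (tt N1656 D3040) (tt N1232 (iv D2355)) (tt N1645 (iv F10620)) (tt N1657 D3041) (tt N1235 F8409) (tt N1651 (iv F10667)) (tt N1556 (iv F9638)) (tt N1233 F8410))
theorem Q1432 : ∀ i, i < 1432 → P i := stepQ 1431 Q1431 (allL N1431 (tt N1252 F8411) (tt N1657 (iv F10687)) (tt N1431 F8412) (tt N1232 (iv D2356)) (tt N1658 D3042) (tt N1652 (iv F10671)) (tt N1557 (iv F9641)) (tt N1234 F8413))
theorem Q1433 : ∀ i, i < 1433 → P i := stepQ 1432 Q1432 (allL N1432 (tt N1233 (iv D2357)) (tt N1253 F8414) (tt N1647 (iv F10627)) (tt N1659 D3043) (tt N1237 F8415) (tt N1653 (iv F10675)) (tt N1242 F8416) (tt N1656 (iv F10686)))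
theorem Q1434 : ∀ i, i < 1434 → P i := stepQ 1433 Q1433 (allL N1433 (tt N1659 (iv F10693)) (tt N1234 F8417) (tt N1660 D3044) (tt N1233 (iv D2358)) (tt N1661 D3045) (tt N1654 (iv F10678)) (tt N1243 F8418) (tt N1657 (iv F10688)))
theorem Q1435 : ∀ i, i < 1435 → P i := stepQ 1434 Q1434 (allL N1434 (tt N1255 F8419) (tt N1661 (iv F10697)) (tt N1434 F8420) (tt N1239 F8421) (tt N1234 (iv D2359)) (tt N1278 (iv F56349)) (tt N1244 F8422) (tt N1658 (iv F10692)))
theorem Q1436 : ∀ i, i < 1436 → P i := stepQ 1435 Q1435 (allL N1435 (tt N1235 (iv D2360)) (tt N1256 F8423) (tt N1650 (iv F10644)) (tt N1662 D3047) (tt N1656 (iv F10685)) (tt N1435 F8424) (tt N1561 (iv F9653)) (tt N1237 F8425))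
theorem Q1437 : ∀ i, i < 1437 → P i := stepQ 1436 Q1436 (allL N1436 (tt N1662 (iv F10704)) (tt N1236 F8426) (tt N1436 F56640) (tt N1235 (iv D2361)) (tt N1663 D3049) (tt N1436 F8427) (tt N1562 (iv F9657)) (tt N1238 F8428))
theorem Q1438 : ∀ i, i < 1438 → P i := stepQ 1437 Q1437 (allL N1437 (tt N1258 F8429) (tt N1663 (iv F10711)) (tt N1280 (iv F56652)) (tt N1658 (iv F10691)) (tt N1236 (iv D2362)) (tt N1279 F56502) (tt N1563 (iv F9661)) (tt N1239 F8431))
theorem Q1439 : ∀ i, i < 1439 → P i := stepQ 1438 Q1438 (allL N1438 (tt N1238 F8432) (tt N1259 F8433) (tt N1438 F56930) (tt N1237 (iv D2363)) (tt N1664 D3052) (tt N1438 F8434) (tt N1245 F8435) (tt N1662 (iv F10707)))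
theorem Q1440 : ∀ i, i < 1440 → P i := stepQ 1439 Q1439 (allL N1439 (tt N1664 (iv F10719)) (tt N1239 F8438) (tt N1439 F56654) (tt N1661 (iv F10698)) (tt N1238 (iv D2365)) (tt N1274 F56501) (tt N1247 F8439) (tt N1663 (iv F10712)))
theorem Q1441 : ∀ i, i < 1441 → P i := stepQ 1440 Q1440 (allL N1440 (tt N1240 (iv D2367)) (tt N1263 F8444) (tt N1440 F8445) (tt N1665 D3056) (tt N1440 F8446) (tt N1242 F8447) (tt N1653 (iv F10676)) (tt N1567 (iv F9679)))
theorem Q1442 : ∀ i, i < 1442 → P i := stepQ 1441 Q1441 (allL N1441 (tt N1665 (iv F10730)) (tt N1241 F8448) (tt N1666 D3057) (tt N1240 (iv D2368)) (tt N1667 D3058) (tt N1243 F8449) (tt N1654 (iv F10679)) (tt N1568 (iv F9682)))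
theorem Q1443 : ∀ i, i < 1443 → P i := stepQ 1442 Q1442 (allL N1442 (tt N1265 F8450) (tt N1667 (iv F10736)) (tt N1276 F8451) (tt N1442 F8452) (tt N1241 (iv D2369)) (tt N1277 F56216) (tt N1655 (iv F10683)) (tt N1569 (iv F9686)))
theorem Q1444 : ∀ i, i < 1444 → P i := stepQ 1443 Q1443 (allL N1443 (tt N1243 F8453) (tt N1266 F8454) (tt N1668 D3060) (tt N1242 (iv D2370)) (tt N1669 D3061) (tt N1665 (iv F10732)) (tt N1659 (iv F10695)) (tt N1570 (iv F9689)))
theorem Q1445 : ∀ i, i < 1445 → P i := stepQ 1444 Q1444 (allL N1444 (tt N1668 (iv F10742)) (tt N1265 F56524) (tt N1243 (iv D2371)) (tt N1444 F8456) (tt N1264 F56525) (tt N1666 (iv F10735)) (tt N1670 D3063) (tt N1571 (iv F9692)))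
theorem Q1446 : ∀ i, i < 1446 → P i := stepQ 1445 Q1445 (allL N1445 (tt N1669 (iv F10744)) (tt N1244 F8457) (tt N1264 (iv F56354)) (tt N1247 F8458) (tt N1243 (iv D2372)) (tt N1267 (iv F56345)) (tt N1661 (iv F10699)) (tt N1572 (iv F9695)))
theorem Q1447 : ∀ i, i < 1447 → P i := stepQ 1446 Q1446 (allL N1446 (tt N1246 F8462) (tt N1446 F8463) (tt N1245 (iv D2374)) (tt N1446 F8464) (tt N1272 F56751) (tt N1446 F8465) (tt N1446 F56923) (tt N1573 (iv F9704)))
theorem Q1448 : ∀ i, i < 1448 → P i := stepQ 1447 Q1447 (allL N1447 (tt N1247 F8466) (tt N1270 F8467) (tt N1272 (iv F56598)) (tt N1669 (iv F10746)) (tt N1245 (iv D2375)) (tt N1273 F56500) (tt N1664 (iv F10721)) (tt N1574 (iv F9707)))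
theorem Q1449 : ∀ i, i < 1449 → P i := stepQ 1448 Q1448 (allL N1448 (tt N1671 D3076) (tt N1248 (iv D2383)) (tt N1448 F8488) (tt N1672 D3077) (tt N1448 F8489) (tt N1251 F8490) (tt N1582 (iv F9753)) (tt N1249 F8491))
theorem Q1450 : ∀ i, i < 1450 → P i := stepQ 1449 Q1449 (allL N1449 (tt N1652 (iv F10669)) (tt N1672 (iv F10790)) (tt N1449 F8492) (tt N1248 (iv D2384)) (tt N1673 D3078) (tt N1252 F8493) (tt N1583 (iv F9756)) (tt N1250 F8494))
theorem Q1451 : ∀ i, i < 1451 → P i := stepQ 1450 Q1450 (allL N1450 (tt N1249 (iv D2385)) (tt N1653 (iv F10673)) (tt N1450 F8495) (tt N1674 D3079) (tt N1450 F8496) (tt N1253 F8497) (tt N1263 F8498) (tt N1671 (iv F10789)))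
theorem Q1452 : ∀ i, i < 1452 → P i := stepQ 1451 Q1451 (allL N1451 (tt N1674 (iv F10796)) (tt N1250 F8499) (tt N1675 D3080) (tt N1249 (iv D2386)) (tt N1670 (iv F56681)) (tt N1254 F8500) (tt N1264 F8501) (tt N1672 (iv F10792)))
theorem Q1453 : ∀ i, i < 1453 → P i := stepQ 1452 Q1452 (allL N1452 (tt N1655 (iv F10680)) (tt N1670 (iv F56680)) (tt N1452 F8502) (tt N1452 F8503) (tt N1250 (iv D2387)) (tt N1676 D3082) (tt N1265 F8504) (tt N1673 (iv F10795)))
theorem Q1454 : ∀ i, i < 1454 → P i := stepQ 1453 Q1453 (allL N1453 (tt N1251 (iv D2388)) (tt N1656 (iv F10684)) (tt N1453 F8505) (tt N1677 D3083) (tt N1256 F8506) (tt N1671 (iv F10788)) (tt N1587 (iv F9767)) (tt N1253 F8507))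
theorem Q1455 : ∀ i, i < 1455 → P i := stepQ 1454 Q1454 (allL N1454 (tt N1677 (iv F10809)) (tt N1252 F8508) (tt N1678 D3084) (tt N1251 (iv D2389)) (tt N1679 D3085) (tt N1672 (iv F10791)) (tt N1588 (iv F9770)) (tt N1254 F8509))
theorem Q1456 : ∀ i, i < 1456 → P i := stepQ 1455 Q1455 (allL N1455 (tt N1658 (iv F10689)) (tt N1679 (iv F10814)) (tt N1455 F8510) (tt N1258 F8511) (tt N1252 (iv D2390)) (tt N1680 D3086) (tt N1589 (iv F9773)) (tt N1255 F8512))
theorem Q1457 : ∀ i, i < 1457 → P i := stepQ 1456 Q1456 (allL N1456 (tt N1254 F8513) (tt N1659 (iv F10694)) (tt N1681 D3087) (tt N1253 (iv D2391)) (tt N1682 D3088) (tt N1674 (iv F10797)) (tt N1266 F8514) (tt N1677 (iv F10810)))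
theorem Q1458 : ∀ i, i < 1458 → P i := stepQ 1457 Q1457 (allL N1457 (tt N1681 (iv F10820)) (tt N1457 F8515) (tt N1254 (iv D2392)) (tt N1457 F8516) (tt N1683 D3089) (tt N1675 (iv F10801)) (tt N1684 D3090) (tt N1678 (iv F10813)))
theorem Q1459 : ∀ i, i < 1459 → P i := stepQ 1458 Q1458 (allL N1458 (tt N1682 (iv F10822)) (tt N1255 F8517) (tt N1683 (iv F10826)) (tt N1261 F8518) (tt N1254 (iv D2393)) (tt N1685 D3091) (tt N1268 F8519) (tt N1679 (iv F10816)))
theorem Q1460 : ∀ i, i < 1460 → P i := stepQ 1459 Q1459 (allL N1459 (tt N1278 (iv F56348)) (tt N1685 (iv F10830)) (tt N1459 F8520) (tt N1262 F8521) (tt N1676 (iv F10807)) (tt N1255 (iv D2394)) (tt N1269 F8522) (tt N1680 (iv F10819)))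
theorem Q1461 : ∀ i, i < 1461 → P i := stepQ 1460 Q1460 (allL N1460 (tt N1257 F8523) (tt N1662 (iv F10705)) (tt N1686 D3092) (tt N1256 (iv D2395)) (tt N1687 D3093) (tt N1460 F8524) (tt N1594 (iv F9784)) (tt N1259 F8525))
theorem Q1462 : ∀ i, i < 1462 → P i := stepQ 1461 Q1461 (allL N1461 (tt N1686 (iv F10833)) (tt N1283 F8526) (tt N1257 (iv D2396)) (tt N1461 F8527) (tt N1688 D3094) (tt N1461 F8528) (tt N1689 D3095) (tt N1260 F8529))
theorem Q1463 : ∀ i, i < 1463 → P i := stepQ 1462 Q1462 (allL N1462 (tt N1687 (iv F10837)) (tt N1258 F8530) (tt N1688 (iv F10840)) (tt N1679 (iv F10815)) (tt N1257 (iv D2397)) (tt N1690 D3096) (tt N1596 (iv F9790)) (tt N1261 F8531))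
theorem Q1464 : ∀ i, i < 1464 → P i := stepQ 1463 Q1463 (allL N1463 (tt N1279 F56545) (tt N1690 (iv F10846)) (tt N1282 (iv F56708)) (tt N1680 (iv F10818)) (tt N1463 F8533) (tt N1258 (iv D2398)) (tt N1597 (iv F9794)) (tt N1262 F8534))
theorem Q1465 : ∀ i, i < 1465 → P i := stepQ 1464 Q1464 (allL N1464 (tt N1260 F8535) (tt N1464 F56956) (tt N1259 (iv D2399)) (tt N1464 F8536) (tt N1691 D3098) (tt N1464 F8537) (tt N1464 F8538) (tt N1686 (iv F10836)))
theorem Q1466 : ∀ i, i < 1466 → P i := stepQ 1465 Q1465 (allL N1465 (tt N1261 F8539) (tt N1664 (iv F10720)) (tt N1691 (iv F10854)) (tt N1682 (iv F10823)) (tt N1259 (iv D2400)) (tt N1692 D3099) (tt N1270 F8540) (tt N1687 (iv F10838)))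
theorem Q1467 : ∀ i, i < 1467 → P i := stepQ 1466 Q1466 (allL N1466 (tt N1691 (iv F10853)) (tt N1285 F8541) (tt N1261 F8542) (tt N1693 D3100) (tt N1260 (iv D2401)) (tt N1694 D3101) (tt N1466 F8543) (tt N1688 (iv F10841)))
theorem Q1468 : ∀ i, i < 1468 → P i := stepQ 1467 Q1467 (allL N1467 (tt N1692 (iv F10856)) (tt N1262 F8544) (tt N1694 (iv F10863)) (tt N1685 (iv F10831)) (tt N1467 F8545) (tt N1261 (iv D2402)) (tt N1271 F8546) (tt N1690 (iv F10848)))
theorem Q1469 : ∀ i, i < 1469 → P i := stepQ 1468 Q1468 (allL N1468 (tt N1264 F8547) (tt N1665 (iv F10731)) (tt N1669 F56517) (tt N1263 (iv D2403)) (tt N1668 (iv F56676)) (tt N1266 F8548) (tt N1674 (iv F10798)) (tt N1602 (iv F9809)))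
theorem Q1470 : ∀ i, i < 1470 → P i := stepQ 1469 Q1469 (allL N1469 (tt N1277 (iv F56068)) (tt N1666 (iv F56365)) (tt N1275 F56220) (tt N1469 F8555) (tt N1269 F8556) (tt N1265 (iv D2406)) (tt N1676 (iv F10808)) (tt N1603 (iv F9820)))
theorem Q1471 : ∀ i, i < 1471 → P i := stepQ 1470 Q1470 (allL N1470 (tt N1267 F8557) (tt N1695 D3107) (tt N1266 (iv D2407)) (tt N1273 F8558) (tt N1696 D3108) (tt N1669 F56509) (tt N1697 D3109) (tt N1604 (iv F9823)))
theorem Q1472 : ∀ i, i < 1472 → P i := stepQ 1471 Q1471 (allL N1471 (tt N1268 F8559) (tt N1669 (iv F10745)) (tt N1696 (iv F10882)) (tt N1270 F8560) (tt N1266 (iv D2408)) (tt N1695 F56515) (tt N1682 (iv F10824)) (tt N1605 (iv F9826)))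
theorem Q1473 : ∀ i, i < 1473 → P i := stepQ 1472 Q1472 (allL N1472 (tt N1696 (iv F10881)) (tt N1277 F8561) (tt N1268 F8562) (tt N1472 F8563) (tt N1267 (iv D2409)) (tt N1667 (iv F56362)) (tt N1698 D3112) (tt N1606 (iv F9830)))
theorem Q1474 : ∀ i, i < 1474 → P i := stepQ 1473 Q1473 (allL N1473 (tt N1697 (iv F10884)) (tt N1278 F8564) (tt N1684 (iv F10828)) (tt N1274 F8565) (tt N1698 (iv F10893)) (tt N1661 F56512) (tt N1267 (iv D2410)) (tt N1699 D3113))
theorem Q1475 : ∀ i, i < 1475 → P i := stepQ 1474 Q1474 (allL N1474 (tt N1695 (iv F56373)) (tt N1269 F8566) (tt N1667 (iv F56361)) (tt N1271 F8567) (tt N1666 (iv F56366)) (tt N1268 (iv D2411)) (tt N1685 (iv F10832)) (tt N1608 (iv F9835)))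
theorem Q1476 : ∀ i, i < 1476 → P i := stepQ 1475 Q1475 (allL N1475 (tt N1271 F8568) (tt N1273 F56542) (tt N1475 F8569) (tt N1695 F56543) (tt N1475 F8570) (tt N1270 (iv D2412)) (tt N1692 (iv F10858)) (tt N1609 (iv F9839)))
theorem Q1477 : ∀ i, i < 1477 → P i := stepQ 1476 Q1476 (allL N1476 (tt N1274 F8587) (tt N1692 (iv F56707)) (tt N1476 F8588) (tt N1697 (iv F10885)) (tt N1476 F8589) (tt N1664 (iv F56653)) (tt N1273 (iv D2418)) (tt N1700 D3121))
theorem Q1478 : ∀ i, i < 1478 → P i := stepQ 1477 Q1477 (allL N1477 (tt N1700 (iv F10918)) (tt N1279 F8590) (tt N1477 F8591) (tt N1699 (iv F10895)) (tt N1477 F8592) (tt N1663 (iv F56655)) (tt N1611 (iv F9862)) (tt N1274 (iv D2419)))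
theorem Q1479 : ∀ i, i < 1479 → P i := stepQ 1478 Q1478 (allL N1478 (tt N1676 F56221) (tt N1698 (iv F10891)) (tt N1478 F8680) (tt N1478 F8681) (tt N1278 F8682) (tt N1655 (iv F56364)) (tt N1277 (iv D2450)) (tt N1701 D3162))
theorem Q1480 : ∀ i, i < 1480 → P i := stepQ 1479 Q1479 (allL N1479 (tt N1680 F56513) (tt N1699 (iv F10894)) (tt N1479 F8683) (tt N1279 F8684) (tt N1701 (iv F11038)) (tt N1658 F56514) (tt N1641 (iv F10151)) (tt N1278 (iv D2451)))
theorem Q1481 : ∀ i, i < 1481 → P i := stepQ 1480 Q1480 (allL N1480 (tt N1480 F8891) (tt N1694 F56863) (tt N1281 (iv D2517)) (tt N1702 D3239) (tt N1480 F8892) (tt N1285 (iv F56952)) (tt N1480 F8893) (tt N1703 D3240))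
theorem Q1482 : ∀ i, i < 1482 → P i := stepQ 1481 Q1481 (allL N1481 (tt N1481 F8894) (tt N1282 F8895) (tt N1703 (iv F11289)) (tt N1481 F8896) (tt N1481 F8897) (tt N1284 (iv F56953)) (tt N1481 F8898) (tt N1281 (iv D2518)))
theorem Q1483 : ∀ i, i < 1483 → P i := stepQ 1482 Q1482 (allL N1482 (tt N1482 F57287) (tt N1688 (iv F10839)) (tt N1284 F9103) (tt N1704 D3314) (tt N1283 (iv D2574)) (tt N1703 F57105) (tt N1705 D3316) (tt N1285 F9104))
theorem Q1484 : ∀ i, i < 1484 → P i := stepQ 1483 Q1483 (allL N1483 (tt N1483 F57289) (tt N1689 (iv F10842)) (tt N1483 F9105) (tt N1483 F9106) (tt N1705 (iv F11563)) (tt N1483 F9107) (tt N1283 (iv D2575)) (tt N1483 F9108))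
theorem Q1485 : ∀ i, i < 1485 → P i := stepQ 1484 Q1484 (allL N1484 (tt N1484 F57286) (tt N1693 (iv F10859)) (tt N1484 F9124) (tt N1285 (iv D2580)) (tt N1484 F9125) (tt N1702 F57104) (tt N1484 F9126) (tt N1704 (iv F11558)))
theorem Q1486 : ∀ i, i < 1486 → P i := stepQ 1485 Q1485 (allL N1485 (tt N1331 F9396) (tt N1706 D3414) (tt N1286 (iv D2656)) (tt N1707 D3415) (tt N1288 F9397) (tt N1355 F9398) (tt N1485 F9399) (tt N1354 F9400))
theorem Q1487 : ∀ i, i < 1487 → P i := stepQ 1486 Q1486 (allL N1486 (tt N1333 F9401) (tt N1708 D3416) (tt N1287 (iv D2657)) (tt N1709 D3417) (tt N1354 F9402) (tt N1486 F9403) (tt N1403 F9404) (tt N1288 F9405))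
theorem Q1488 : ∀ i, i < 1488 → P i := stepQ 1487 Q1487 (allL N1487 (tt N1710 D3418) (tt N1288 (iv D2658)) (tt N1294 F9406) (tt N1711 D3419) (tt N1706 (iv F11903)) (tt N1487 F9407) (tt N1487 F9408) (tt N1708 (iv F11916)))
theorem Q1489 : ∀ i, i < 1489 → P i := stepQ 1488 Q1488 (allL N1488 (tt N1335 F9409) (tt N1711 (iv F11926)) (tt N1488 F9410) (tt N1288 (iv D2659)) (tt N1712 D3420) (tt N1488 F9411) (tt N1488 F9412) (tt N1709 (iv F11921)))
theorem Q1490 : ∀ i, i < 1490 → P i := stepQ 1489 Q1489 (allL N1489 (tt N1305 F9413) (tt N1713 D3421) (tt N1289 (iv D2660)) (tt N1714 D3422) (tt N1489 F9414) (tt N1307 F9415) (tt N1489 F9416) (tt N1306 F9417))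
theorem Q1491 : ∀ i, i < 1491 → P i := stepQ 1490 Q1490 (allL N1490 (tt N1306 F9418) (tt N1715 D3423) (tt N1290 (iv D2661)) (tt N1716 D3424) (tt N1490 F9419) (tt N1292 F9420) (tt N1296 F9421) (tt N1305 F9422))
theorem Q1492 : ∀ i, i < 1492 → P i := stepQ 1491 Q1491 (allL N1491 (tt N1307 F9423) (tt N1717 D3425) (tt N1291 (iv D2662)) (tt N1718 D3426) (tt N1293 F9424) (tt N1305 F9425) (tt N1491 F9426) (tt N1292 F9427))
theorem Q1493 : ∀ i, i < 1493 → P i := stepQ 1492 Q1492 (allL N1492 (tt N1719 D3427) (tt N1292 (iv D2663)) (tt N1706 (iv F11902)) (tt N1720 D3428) (tt N1294 F9428) (tt N1715 (iv F11944)) (tt N1297 F9429) (tt N1717 (iv F11956)))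
theorem Q1494 : ∀ i, i < 1494 → P i := stepQ 1493 Q1493 (allL N1493 (tt N1309 F9430) (tt N1720 (iv F11965)) (tt N1714 (iv F11938)) (tt N1292 (iv D2664)) (tt N1721 D3429) (tt N1716 (iv F11949)) (tt N1298 F9431) (tt N1718 (iv F11961)))
theorem Q1495 : ∀ i, i < 1495 → P i := stepQ 1494 Q1494 (allL N1494 (tt N1722 D3430) (tt N1293 (iv D2665)) (tt N1708 (iv F11912)) (tt N1723 D3431) (tt N1717 (iv F11953)) (tt N1494 F9432) (tt N1494 F9433) (tt N1294 F9434))
theorem Q1496 : ∀ i, i < 1496 → P i := stepQ 1495 Q1495 (allL N1495 (tt N1311 F9435) (tt N1723 (iv F11974)) (tt N1495 F9436) (tt N1293 (iv D2666)) (tt N1724 D3432) (tt N1495 F9437) (tt N1495 F9438) (tt N1295 F9439))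
theorem Q1497 : ∀ i, i < 1497 → P i := stepQ 1496 Q1496 (allL N1496 (tt N1294 (iv D2667)) (tt N1312 F9440) (tt N1710 (iv F11923)) (tt N1725 D3433) (tt N1719 (iv F11963)) (tt N1496 F9441) (tt N1299 F9442) (tt N1722 (iv F11973)))
theorem Q1498 : ∀ i, i < 1498 → P i := stepQ 1497 Q1497 (allL N1497 (tt N1725 (iv F11982)) (tt N1295 F9443) (tt N1726 D3434) (tt N1294 (iv D2668)) (tt N1727 D3435) (tt N1497 F9444) (tt N1300 F9445) (tt N1723 (iv F11977)))
theorem Q1499 : ∀ i, i < 1499 → P i := stepQ 1498 Q1498 (allL N1498 (tt N1314 F9446) (tt N1727 (iv F11988)) (tt N1498 F9447) (tt N1721 (iv F11968)) (tt N1295 (iv D2669)) (tt N1728 D3436) (tt N1301 F9448) (tt N1724 (iv F11981)))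
theorem Q1500 : ∀ i, i < 1500 → P i := stepQ 1499 Q1499 (allL N1499 (tt N1729 D3437) (tt N1296 (iv D2670)) (tt N1499 F9449) (tt N1730 D3438) (tt N1499 F9450) (tt N1297 F9451) (tt N1715 (iv F11945)) (tt N1499 F9452))
theorem Q1501 : ∀ i, i < 1501 → P i := stepQ 1500 Q1500 (allL N1500 (tt N1316 F9453) (tt N1730 (iv F11999)) (tt N1500 F9454) (tt N1296 (iv D2671)) (tt N1731 D3439) (tt N1298 F9455) (tt N1716 (iv F11950)) (tt N1500 F9456))
theorem Q1502 : ∀ i, i < 1502 → P i := stepQ 1501 Q1501 (allL N1501 (tt N1297 (iv D2672)) (tt N1317 F9457) (tt N1501 F9458) (tt N1732 D3440) (tt N1299 F9459) (tt N1729 (iv F11997)) (tt N1719 (iv F11964)) (tt N1501 F9460))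
theorem Q1503 : ∀ i, i < 1503 → P i := stepQ 1502 Q1502 (allL N1502 (tt N1732 (iv F12006)) (tt N1298 F9461) (tt N1733 D3441) (tt N1297 (iv D2673)) (tt N1734 D3442) (tt N1730 (iv F12000)) (tt N1720 (iv F11966)) (tt N1502 F9462))
theorem Q1504 : ∀ i, i < 1504 → P i := stepQ 1503 Q1503 (allL N1503 (tt N1319 F9463) (tt N1734 (iv F12012)) (tt N1503 F9464) (tt N1301 F9465) (tt N1298 (iv D2674)) (tt N1735 D3443) (tt N1721 (iv F11969)) (tt N1503 F9466))
theorem Q1505 : ∀ i, i < 1505 → P i := stepQ 1504 Q1504 (allL N1504 (tt N1300 F9467) (tt N1320 F9468) (tt N1736 D3444) (tt N1299 (iv D2675)) (tt N1737 D3445) (tt N1504 F9469) (tt N1725 (iv F11985)) (tt N1504 F9470))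
theorem Q1506 : ∀ i, i < 1506 → P i := stepQ 1505 Q1505 (allL N1505 (tt N1736 (iv F12019)) (tt N1302 F9471) (tt N1300 (iv D2676)) (tt N1505 F9472) (tt N1738 D3446) (tt N1505 F9473) (tt N1739 D3447) (tt N1505 F9474))
theorem Q1507 : ∀ i, i < 1507 → P i := stepQ 1506 Q1506 (allL N1506 (tt N1737 (iv F12024)) (tt N1301 F9475) (tt N1738 (iv F12028)) (tt N1734 (iv F12013)) (tt N1300 (iv D2677)) (tt N1740 D3448) (tt N1727 (iv F11989)) (tt N1506 F9476))
theorem Q1508 : ∀ i, i < 1508 → P i := stepQ 1507 Q1507 (allL N1507 (tt N1322 F9477) (tt N1740 (iv F12033)) (tt N1304 F9478) (tt N1735 (iv F12017)) (tt N1507 F9479) (tt N1301 (iv D2678)) (tt N1728 (iv F11993)) (tt N1507 F9480))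
theorem Q1509 : ∀ i, i < 1509 → P i := stepQ 1508 Q1508 (allL N1508 (tt N1508 F9481) (tt N1738 (iv F12027)) (tt N1303 F9482) (tt N1741 D3449) (tt N1302 (iv D2679)) (tt N1742 D3450) (tt N1743 D3451) (tt N1508 F9483))
theorem Q1510 : ∀ i, i < 1510 → P i := stepQ 1509 Q1509 (allL N1509 (tt N1509 F9484) (tt N1739 (iv F12030)) (tt N1509 F9485) (tt N1509 F9486) (tt N1743 (iv F12046)) (tt N1509 F9487) (tt N1302 (iv D2680)) (tt N1744 D3452))
theorem Q1511 : ∀ i, i < 1511 → P i := stepQ 1510 Q1510 (allL N1510 (tt N1510 F9488) (tt N1304 F9489) (tt N1742 (iv F12041)) (tt N1510 F9490) (tt N1510 F9491) (tt N1303 (iv D2681)) (tt N1510 F9492) (tt N1510 F9493))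
theorem Q1512 : ∀ i, i < 1512 → P i := stepQ 1511 Q1511 (allL N1511 (tt N1745 D3453) (tt N1305 (iv D2682)) (tt N1356 F9494) (tt N1746 D3454) (tt N1511 F9495) (tt N1717 (iv F11954)) (tt N1511 F9496) (tt N1715 (iv F11946)))
theorem Q1513 : ∀ i, i < 1513 → P i := stepQ 1512 Q1512 (allL N1512 (tt N1714 (iv F11937)) (tt N1746 (iv F12055)) (tt N1309 F9497) (tt N1305 (iv D2683)) (tt N1747 D3455) (tt N1718 (iv F11959)) (tt N1512 F9498) (tt N1716 (iv F11951)))
theorem Q1514 : ∀ i, i < 1514 → P i := stepQ 1513 Q1513 (allL N1513 (tt N1748 D3456) (tt N1306 (iv D2684)) (tt N1359 F9499) (tt N1749 D3457) (tt N1513 F9500) (tt N1308 F9501) (tt N1315 F9502) (tt N1713 (iv F11936)))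
theorem Q1515 : ∀ i, i < 1515 → P i := stepQ 1514 Q1514 (allL N1514 (tt N1716 (iv F11947)) (tt N1749 (iv F12064)) (tt N1718 (iv F11958)) (tt N1306 (iv D2685)) (tt N1750 D3458) (tt N1309 F9503) (tt N1316 F9504) (tt N1714 (iv F11941)))
theorem Q1516 : ∀ i, i < 1516 → P i := stepQ 1515 Q1515 (allL N1515 (tt N1751 D3459) (tt N1307 (iv D2686)) (tt N1361 F9505) (tt N1752 D3460) (tt N1310 F9506) (tt N1713 (iv F11934)) (tt N1515 F9507) (tt N1308 F9508))
theorem Q1517 : ∀ i, i < 1517 → P i := stepQ 1516 Q1516 (allL N1516 (tt N1718 (iv F11957)) (tt N1752 (iv F12073)) (tt N1716 (iv F11948)) (tt N1307 (iv D2687)) (tt N1753 D3461) (tt N1714 (iv F11939)) (tt N1516 F9509) (tt N1309 F9510))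
theorem Q1518 : ∀ i, i < 1518 → P i := stepQ 1517 Q1517 (allL N1517 (tt N1308 (iv D2688)) (tt N1719 (iv F11962)) (tt N1363 F9511) (tt N1754 D3462) (tt N1312 F9512) (tt N1748 (iv F12062)) (tt N1317 F9513) (tt N1751 (iv F12072)))
theorem Q1519 : ∀ i, i < 1519 → P i := stepQ 1518 Q1518 (allL N1518 (tt N1754 (iv F12079)) (tt N1309 F9514) (tt N1755 D3463) (tt N1308 (iv D2689)) (tt N1756 D3464) (tt N1749 (iv F12065)) (tt N1318 F9515) (tt N1752 (iv F12075)))
theorem Q1520 : ∀ i, i < 1520 → P i := stepQ 1519 Q1519 (allL N1519 (tt N1721 (iv F11967)) (tt N1756 (iv F12082)) (tt N1747 (iv F12057)) (tt N1314 F9516) (tt N1309 (iv D2690)) (tt N1757 D3465) (tt N1319 F9517) (tt N1753 (iv F12078)))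
theorem Q1521 : ∀ i, i < 1521 → P i := stepQ 1520 Q1520 (allL N1520 (tt N1310 (iv D2691)) (tt N1722 (iv F11970)) (tt N1366 F9518) (tt N1758 D3466) (tt N1751 (iv F12070)) (tt N1520 F9519) (tt N1520 F9520) (tt N1312 F9521))
theorem Q1522 : ∀ i, i < 1522 → P i := stepQ 1521 Q1521 (allL N1521 (tt N1758 (iv F12087)) (tt N1311 F9522) (tt N1759 D3467) (tt N1310 (iv D2692)) (tt N1760 D3468) (tt N1521 F9523) (tt N1521 F9524) (tt N1313 F9525))
theorem Q1523 : ∀ i, i < 1523 → P i := stepQ 1522 Q1522 (allL N1522 (tt N1724 (iv F11978)) (tt N1760 (iv F12095)) (tt N1522 F9526) (tt N1753 (iv F12076)) (tt N1311 (iv D2693)) (tt N1761 D3469) (tt N1522 F9527) (tt N1314 F9528))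
theorem Q1524 : ∀ i, i < 1524 → P i := stepQ 1523 Q1523 (allL N1523 (tt N1313 F9529) (tt N1725 (iv F11983)) (tt N1762 D3470) (tt N1312 (iv D2694)) (tt N1763 D3471) (tt N1523 F9530) (tt N1320 F9531) (tt N1758 (iv F12090)))
theorem Q1525 : ∀ i, i < 1525 → P i := stepQ 1524 Q1524 (allL N1524 (tt N1762 (iv F12102)) (tt N1524 F9532) (tt N1313 (iv D2695)) (tt N1370 F9533) (tt N1764 D3472) (tt N1524 F9534) (tt N1524 F9535) (tt N1759 (iv F12094)))
theorem Q1526 : ∀ i, i < 1526 → P i := stepQ 1525 Q1525 (allL N1525 (tt N1763 (iv F12106)) (tt N1314 F9536) (tt N1764 (iv F12109)) (tt N1756 (iv F12083)) (tt N1313 (iv D2696)) (tt N1765 D3473) (tt N1321 F9537) (tt N1760 (iv F12097)))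
theorem Q1527 : ∀ i, i < 1527 → P i := stepQ 1526 Q1526 (allL N1526 (tt N1728 (iv F11990)) (tt N1765 (iv F12111)) (tt N1526 F9538) (tt N1757 (iv F12085)) (tt N1526 F9539) (tt N1314 (iv D2697)) (tt N1322 F9540) (tt N1761 (iv F12101)))
theorem Q1528 : ∀ i, i < 1528 → P i := stepQ 1527 Q1527 (allL N1527 (tt N1315 (iv D2698)) (tt N1729 (iv F11994)) (tt N1323 F9541) (tt N1766 D3474) (tt N1527 F9542) (tt N1317 F9543) (tt N1748 (iv F12063)) (tt N1527 F9544))
theorem Q1529 : ∀ i, i < 1529 → P i := stepQ 1528 Q1528 (allL N1528 (tt N1766 (iv F12114)) (tt N1316 F9545) (tt N1767 D3475) (tt N1315 (iv D2699)) (tt N1768 D3476) (tt N1318 F9546) (tt N1749 (iv F12066)) (tt N1528 F9547))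
theorem Q1530 : ∀ i, i < 1530 → P i := stepQ 1529 Q1529 (allL N1529 (tt N1731 (iv F12002)) (tt N1768 (iv F12121)) (tt N1529 F9548) (tt N1529 F9549) (tt N1316 (iv D2700)) (tt N1769 D3477) (tt N1750 (iv F12068)) (tt N1529 F9550))
theorem Q1531 : ∀ i, i < 1531 → P i := stepQ 1530 Q1530 (allL N1530 (tt N1318 F9551) (tt N1732 (iv F12007)) (tt N1770 D3478) (tt N1317 (iv D2701)) (tt N1771 D3479) (tt N1766 (iv F12115)) (tt N1754 (iv F12080)) (tt N1530 F9552))
theorem Q1532 : ∀ i, i < 1532 → P i := stepQ 1531 Q1531 (allL N1531 (tt N1770 (iv F12128)) (tt N1531 F9553) (tt N1318 (iv D2702)) (tt N1327 F9554) (tt N1772 D3480) (tt N1767 (iv F12119)) (tt N1773 D3481) (tt N1531 F9555))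
theorem Q1533 : ∀ i, i < 1533 → P i := stepQ 1532 Q1532 (allL N1532 (tt N1771 (iv F12131)) (tt N1319 F9556) (tt N1772 (iv F12135)) (tt N1321 F9557) (tt N1318 (iv D2703)) (tt N1774 D3482) (tt N1756 (iv F12084)) (tt N1532 F9558))
theorem Q1534 : ∀ i, i < 1534 → P i := stepQ 1533 Q1533 (allL N1533 (tt N1735 (iv F12015)) (tt N1774 (iv F12140)) (tt N1533 F9559) (tt N1322 F9560) (tt N1769 (iv F12126)) (tt N1319 (iv D2704)) (tt N1757 (iv F12086)) (tt N1533 F9561))
theorem Q1535 : ∀ i, i < 1535 → P i := stepQ 1534 Q1534 (allL N1534 (tt N1321 F9562) (tt N1737 (iv F12025)) (tt N1534 F9563) (tt N1771 (iv F12132)) (tt N1320 (iv D2705)) (tt N1775 D3483) (tt N1763 (iv F12107)) (tt N1534 F9564))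
theorem Q1536 : ∀ i, i < 1536 → P i := stepQ 1535 Q1535 (allL N1535 (tt N1775 (iv F12143)) (tt N1322 F9565) (tt N1535 F9566) (tt N1774 (iv F12141)) (tt N1535 F9567) (tt N1321 (iv D2706)) (tt N1765 (iv F12113)) (tt N1535 F9568))
theorem Q1537 : ∀ i, i < 1537 → P i := stepQ 1536 Q1536 (allL N1536 (tt N1324 F9569) (tt N1536 F9570) (tt N1776 D3484) (tt N1323 (iv D2707)) (tt N1777 D3485) (tt N1326 F9571) (tt N1382 F9572) (tt N1536 F9573))
theorem Q1538 : ∀ i, i < 1538 → P i := stepQ 1537 Q1537 (allL N1537 (tt N1776 (iv F12147)) (tt N1537 F9574) (tt N1324 (iv D2708)) (tt N1767 (iv F12118)) (tt N1778 D3486) (tt N1327 F9575) (tt N1779 D3487) (tt N1537 F9576))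
theorem Q1539 : ∀ i, i < 1539 → P i := stepQ 1538 Q1538 (allL N1538 (tt N1777 (iv F12150)) (tt N1325 F9577) (tt N1778 (iv F12157)) (tt N1538 F9578) (tt N1324 (iv D2709)) (tt N1538 F9579) (tt N1352 F56599) (tt N1538 F9581))
theorem Q1540 : ∀ i, i < 1540 → P i := stepQ 1539 Q1539 (allL N1539 (tt N1327 F9582) (tt N1780 D3488) (tt N1326 (iv D2710)) (tt N1770 (iv F12129)) (tt N1539 F9583) (tt N1776 (iv F12148)) (tt N1781 D3489) (tt N1539 F9584))
theorem Q1541 : ∀ i, i < 1541 → P i := stepQ 1540 Q1540 (allL N1540 (tt N1781 (iv F12167)) (tt N1540 F9585) (tt N1384 F9586) (tt N1773 (iv F12139)) (tt N1540 F9587) (tt N1779 (iv F12162)) (tt N1327 (iv D2711)) (tt N1782 D3490))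
theorem Q1542 : ∀ i, i < 1542 → P i := stepQ 1541 Q1541 (allL N1541 (tt N1358 F9588) (tt N1783 D3491) (tt N1328 (iv D2712)) (tt N1784 D3492) (tt N1541 F9589) (tt N1338 F9590) (tt N1427 F9591) (tt N1337 F9592))
theorem Q1543 : ∀ i, i < 1543 → P i := stepQ 1542 Q1542 (allL N1542 (tt N1355 F9593) (tt N1785 D3493) (tt N1329 (iv D2713)) (tt N1786 D3494) (tt N1542 F9594) (tt N1331 F9595) (tt N1542 F9596) (tt N1336 F9597))
theorem Q1544 : ∀ i, i < 1544 → P i := stepQ 1543 Q1543 (allL N1543 (tt N1354 F9598) (tt N1787 D3495) (tt N1330 (iv D2714)) (tt N1788 D3496) (tt N1333 F9599) (tt N1336 F9600) (tt N1393 F9601) (tt N1331 F9602))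
theorem Q1545 : ∀ i, i < 1545 → P i := stepQ 1544 Q1544 (allL N1544 (tt N1789 D3497) (tt N1331 (iv D2715)) (tt N1339 F9603) (tt N1790 D3498) (tt N1334 F9604) (tt N1785 (iv F12186)) (tt N1544 F9605) (tt N1787 (iv F12198)))
theorem Q1546 : ∀ i, i < 1546 → P i := stepQ 1545 Q1545 (allL N1545 (tt N1707 (iv F11907)) (tt N1790 (iv F12207)) (tt N1784 (iv F12180)) (tt N1331 (iv D2716)) (tt N1791 D3499) (tt N1786 (iv F12191)) (tt N1545 F9606) (tt N1788 (iv F12203)))
theorem Q1547 : ∀ i, i < 1547 → P i := stepQ 1546 Q1546 (allL N1546 (tt N1403 F9607) (tt N1792 D3500) (tt N1332 (iv D2717)) (tt N1793 D3501) (tt N1393 F9608) (tt N1546 F9609) (tt N1333 F9610) (tt N1546 F9611))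
theorem Q1548 : ∀ i, i < 1548 → P i := stepQ 1547 Q1547 (allL N1547 (tt N1794 D3502) (tt N1333 (iv D2718)) (tt N1341 F9612) (tt N1795 D3503) (tt N1787 (iv F12195)) (tt N1547 F9613) (tt N1792 (iv F12214)) (tt N1334 F9614))
theorem Q1549 : ∀ i, i < 1549 → P i := stepQ 1548 Q1548 (allL N1548 (tt N1709 (iv F11917)) (tt N1795 (iv F12224)) (tt N1548 F9615) (tt N1333 (iv D2719)) (tt N1796 D3504) (tt N1548 F9616) (tt N1793 (iv F12219)) (tt N1335 F9617))
theorem Q1550 : ∀ i, i < 1550 → P i := stepQ 1549 Q1549 (allL N1549 (tt N1334 (iv D2720)) (tt N1710 (iv F11922)) (tt N1343 F9618) (tt N1797 D3505) (tt N1789 (iv F12205)) (tt N1549 F9619) (tt N1549 F9620) (tt N1794 (iv F12223)))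
theorem Q1551 : ∀ i, i < 1551 → P i := stepQ 1550 Q1550 (allL N1550 (tt N1797 (iv F12229)) (tt N1335 F9621) (tt N1798 D3506) (tt N1334 (iv D2721)) (tt N1799 D3507) (tt N1550 F9622) (tt N1550 F9623) (tt N1795 (iv F12226)))
theorem Q1552 : ∀ i, i < 1552 → P i := stepQ 1551 Q1551 (allL N1551 (tt N1712 (iv F11929)) (tt N1799 (iv F12235)) (tt N1551 F9624) (tt N1791 (iv F12209)) (tt N1335 (iv D2722)) (tt N1800 D3508) (tt N1551 F9625) (tt N1796 (iv F12228)))
theorem Q1553 : ∀ i, i < 1553 → P i := stepQ 1552 Q1552 (allL N1552 (tt N1801 D3509) (tt N1336 (iv D2723)) (tt N1783 (iv F12174)) (tt N1802 D3510) (tt N1552 F9626) (tt N1787 (iv F12196)) (tt N1394 F9627) (tt N1785 (iv F12188)))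
theorem Q1554 : ∀ i, i < 1554 → P i := stepQ 1553 Q1553 (allL N1553 (tt N1357 F9628) (tt N1802 (iv F12243)) (tt N1340 F9629) (tt N1336 (iv D2724)) (tt N1803 D3511) (tt N1788 (iv F12201)) (tt N1395 F9630) (tt N1786 (iv F12193)))
theorem Q1555 : ∀ i, i < 1555 → P i := stepQ 1554 Q1554 (allL N1554 (tt N1804 D3512) (tt N1337 (iv D2725)) (tt N1785 (iv F12184)) (tt N1805 D3513) (tt N1554 F9631) (tt N1339 F9632) (tt N1346 F9633) (tt N1783 (iv F12178)))
theorem Q1556 : ∀ i, i < 1556 → P i := stepQ 1555 Q1555 (allL N1555 (tt N1360 F9634) (tt N1805 (iv F12253)) (tt N1788 (iv F12200)) (tt N1337 (iv D2726)) (tt N1806 D3514) (tt N1340 F9635) (tt N1347 F9636) (tt N1784 (iv F12183)))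
theorem Q1557 : ∀ i, i < 1557 → P i := stepQ 1556 Q1556 (allL N1556 (tt N1807 D3515) (tt N1338 (iv D2727)) (tt N1787 (iv F12194)) (tt N1808 D3516) (tt N1341 F9637) (tt N1783 (iv F12176)) (tt N1430 F9638) (tt N1339 F9639))
theorem Q1558 : ∀ i, i < 1558 → P i := stepQ 1557 Q1557 (allL N1557 (tt N1362 F9640) (tt N1808 (iv F12263)) (tt N1786 (iv F12190)) (tt N1338 (iv D2728)) (tt N1809 D3517) (tt N1784 (iv F12181)) (tt N1431 F9641) (tt N1340 F9642))
theorem Q1559 : ∀ i, i < 1559 → P i := stepQ 1558 Q1558 (allL N1558 (tt N1339 (iv D2729)) (tt N1363 F9643) (tt N1789 (iv F12204)) (tt N1810 D3518) (tt N1343 F9644) (tt N1804 (iv F12251)) (tt N1348 F9645) (tt N1807 (iv F12262)))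
theorem Q1560 : ∀ i, i < 1560 → P i := stepQ 1559 Q1559 (allL N1559 (tt N1810 (iv F12270)) (tt N1340 F9646) (tt N1811 D3519) (tt N1339 (iv D2730)) (tt N1812 D3520) (tt N1805 (iv F12254)) (tt N1349 F9647) (tt N1808 (iv F12265)))
theorem Q1561 : ∀ i, i < 1561 → P i := stepQ 1560 Q1560 (allL N1560 (tt N1365 F9648) (tt N1812 (iv F12273)) (tt N1803 (iv F12246)) (tt N1345 F9649) (tt N1340 (iv D2731)) (tt N1415 (iv F56204)) (tt N1350 F9650) (tt N1809 (iv F12269)))
theorem Q1562 : ∀ i, i < 1562 → P i := stepQ 1561 Q1561 (allL N1561 (tt N1341 (iv D2732)) (tt N1366 F9651) (tt N1794 (iv F12221)) (tt N1813 D3522) (tt N1807 (iv F12260)) (tt N1561 F9652) (tt N1435 F9653) (tt N1343 F9654))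
theorem Q1563 : ∀ i, i < 1563 → P i := stepQ 1562 Q1562 (allL N1562 (tt N1813 (iv F12279)) (tt N1342 F9655) (tt N1814 D3523) (tt N1341 (iv D2733)) (tt N1815 D3524) (tt N1562 F9656) (tt N1436 F9657) (tt N1344 F9658))
theorem Q1564 : ∀ i, i < 1564 → P i := stepQ 1563 Q1563 (allL N1563 (tt N1368 F9659) (tt N1815 (iv F12287)) (tt N1563 F9660) (tt N1809 (iv F12267)) (tt N1342 (iv D2734)) (tt N1416 F56340) (tt N1437 F9661) (tt N1345 F9662))
theorem Q1565 : ∀ i, i < 1565 → P i := stepQ 1564 Q1564 (allL N1564 (tt N1344 F9663) (tt N1369 F9664) (tt N1816 D3526) (tt N1343 (iv D2735)) (tt N1817 D3527) (tt N1564 F9665) (tt N1351 F9666) (tt N1813 (iv F12283)))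
theorem Q1566 : ∀ i, i < 1566 → P i := stepQ 1565 Q1565 (allL N1565 (tt N1816 (iv F12295)) (tt N1565 F9667) (tt N1344 (iv D2736)) (tt N1798 (iv F12233)) (tt N1779 F56610) (tt N1565 F9668) (tt N1778 (iv F56752)) (tt N1814 (iv F12286)))
theorem Q1567 : ∀ i, i < 1567 → P i := stepQ 1566 Q1566 (allL N1566 (tt N1817 (iv F12297)) (tt N1345 F9669) (tt N1779 (iv F56504)) (tt N1812 (iv F12274)) (tt N1344 (iv D2737)) (tt N1384 F56339) (tt N1353 F9670) (tt N1815 (iv F12289)))
theorem Q1568 : ∀ i, i < 1568 → P i := stepQ 1567 Q1567 (allL N1567 (tt N1346 (iv D2739)) (tt N1373 F9675) (tt N1567 F9676) (tt N1818 D3531) (tt N1567 F9677) (tt N1348 F9678) (tt N1804 (iv F12252)) (tt N1440 F9679))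
theorem Q1569 : ∀ i, i < 1569 → P i := stepQ 1568 Q1568 (allL N1568 (tt N1818 (iv F12308)) (tt N1347 F9680) (tt N1819 D3532) (tt N1346 (iv D2740)) (tt N1820 D3533) (tt N1349 F9681) (tt N1805 (iv F12255)) (tt N1441 F9682))
theorem Q1570 : ∀ i, i < 1570 → P i := stepQ 1569 Q1569 (allL N1569 (tt N1375 F9683) (tt N1820 (iv F12316)) (tt N1402 F9684) (tt N1569 F9685) (tt N1347 (iv D2741)) (tt N1414 F56064) (tt N1806 (iv F12258)) (tt N1442 F9686))
theorem Q1571 : ∀ i, i < 1571 → P i := stepQ 1570 Q1570 (allL N1570 (tt N1349 F9687) (tt N1376 F9688) (tt N1821 D3535) (tt N1348 (iv D2742)) (tt N1822 D3536) (tt N1818 (iv F12310)) (tt N1810 (iv F12272)) (tt N1443 F9689))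
theorem Q1572 : ∀ i, i < 1572 → P i := stepQ 1571 Q1571 (allL N1571 (tt N1821 (iv F12324)) (tt N1375 F56355) (tt N1349 (iv D2743)) (tt N1571 F9691) (tt N1374 F56356) (tt N1819 (iv F12314)) (tt N1823 D3538) (tt N1444 F9692))
theorem Q1573 : ∀ i, i < 1573 → P i := stepQ 1572 Q1572 (allL N1572 (tt N1822 (iv F12327)) (tt N1350 F9693) (tt N1374 (iv F56208)) (tt N1353 F9694) (tt N1349 (iv D2744)) (tt N1377 (iv F56202)) (tt N1812 (iv F12275)) (tt N1445 F9695))
theorem Q1574 : ∀ i, i < 1574 → P i := stepQ 1573 Q1573 (allL N1573 (tt N1352 F9700) (tt N1573 F9701) (tt N1351 (iv D2746)) (tt N1573 F9702) (tt N1382 F56597) (tt N1573 F9703) (tt N1777 (iv F56750)) (tt N1446 F9704))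
theorem Q1575 : ∀ i, i < 1575 → P i := stepQ 1574 Q1574 (allL N1574 (tt N1353 F9705) (tt N1380 F9706) (tt N1382 (iv F56436)) (tt N1822 (iv F12329)) (tt N1351 (iv D2747)) (tt N1383 F56338) (tt N1817 (iv F12299)) (tt N1447 F9707))
theorem Q1576 : ∀ i, i < 1576 → P i := stepQ 1575 Q1575 (allL N1575 (tt N1824 D3551) (tt N1354 (iv D2755)) (tt N1717 (iv F11952)) (tt N1825 D3552) (tt N1708 (iv F11913)) (tt N1356 F9733) (tt N1404 F9734) (tt N1706 (iv F11906)))
theorem Q1577 : ∀ i, i < 1577 → P i := stepQ 1576 Q1576 (allL N1576 (tt N1788 (iv F12199)) (tt N1825 (iv F12381)) (tt N1360 F9735) (tt N1354 (iv D2756)) (tt N1826 D3553) (tt N1357 F9736) (tt N1405 F9737) (tt N1707 (iv F11911)))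
theorem Q1578 : ∀ i, i < 1578 → P i := stepQ 1577 Q1577 (allL N1577 (tt N1827 D3554) (tt N1355 (iv D2757)) (tt N1715 (iv F11942)) (tt N1828 D3555) (tt N1577 F9738) (tt N1706 (iv F11904)) (tt N1577 F9739) (tt N1356 F9740))
theorem Q1579 : ∀ i, i < 1579 → P i := stepQ 1578 Q1578 (allL N1578 (tt N1786 (iv F12189)) (tt N1828 (iv F12389)) (tt N1362 F9741) (tt N1355 (iv D2758)) (tt N1829 D3556) (tt N1707 (iv F11909)) (tt N1578 F9742) (tt N1357 F9743))
theorem Q1580 : ∀ i, i < 1580 → P i := stepQ 1579 Q1579 (allL N1579 (tt N1356 (iv D2759)) (tt N1801 (iv F12240)) (tt N1745 (iv F12052)) (tt N1830 D3557) (tt N1579 F9744) (tt N1824 (iv F12379)) (tt N1406 F9745) (tt N1827 (iv F12388)))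
theorem Q1581 : ∀ i, i < 1581 → P i := stepQ 1580 Q1580 (allL N1580 (tt N1830 (iv F12396)) (tt N1357 F9746) (tt N1831 D3558) (tt N1356 (iv D2760)) (tt N1832 D3559) (tt N1825 (iv F12382)) (tt N1407 F9747) (tt N1828 (iv F12391)))
theorem Q1582 : ∀ i, i < 1582 → P i := stepQ 1581 Q1581 (allL N1581 (tt N1803 (iv F12245)) (tt N1832 (iv F12399)) (tt N1365 F9748) (tt N1581 F9749) (tt N1357 (iv D2761)) (tt N1833 D3560) (tt N1408 F9750) (tt N1829 (iv F12395)))
theorem Q1583 : ∀ i, i < 1583 → P i := stepQ 1582 Q1582 (allL N1582 (tt N1834 D3561) (tt N1358 (iv D2762)) (tt N1713 (iv F11932)) (tt N1835 D3562) (tt N1582 F9751) (tt N1361 F9752) (tt N1448 F9753) (tt N1359 F9754))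
theorem Q1584 : ∀ i, i < 1584 → P i := stepQ 1583 Q1583 (allL N1583 (tt N1784 (iv F12179)) (tt N1835 (iv F12409)) (tt N1707 (iv F11908)) (tt N1358 (iv D2763)) (tt N1836 D3563) (tt N1362 F9755) (tt N1449 F9756) (tt N1360 F9757))
theorem Q1585 : ∀ i, i < 1585 → P i := stepQ 1584 Q1584 (allL N1584 (tt N1359 (iv D2764)) (tt N1804 (iv F12249)) (tt N1748 (iv F12060)) (tt N1837 D3564) (tt N1584 F9758) (tt N1363 F9759) (tt N1373 F9760) (tt N1834 (iv F12408)))
theorem Q1586 : ∀ i, i < 1586 → P i := stepQ 1585 Q1585 (allL N1585 (tt N1837 (iv F12416)) (tt N1360 F9761) (tt N1838 D3565) (tt N1359 (iv D2765)) (tt N1823 (iv F56523)) (tt N1364 F9762) (tt N1374 F9763) (tt N1835 (iv F12412)))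
theorem Q1587 : ∀ i, i < 1587 → P i := stepQ 1586 Q1586 (allL N1586 (tt N1806 (iv F12256)) (tt N1823 (iv F56522)) (tt N1826 (iv F12384)) (tt N1586 F9764) (tt N1360 (iv D2766)) (tt N1839 D3567) (tt N1375 F9765) (tt N1836 (iv F12415)))
theorem Q1588 : ∀ i, i < 1588 → P i := stepQ 1587 Q1587 (allL N1587 (tt N1361 (iv D2767)) (tt N1807 (iv F12259)) (tt N1751 (iv F12069)) (tt N1840 D3568) (tt N1366 F9766) (tt N1834 (iv F12406)) (tt N1453 F9767) (tt N1363 F9768))
theorem Q1589 : ∀ i, i < 1589 → P i := stepQ 1588 Q1588 (allL N1588 (tt N1840 (iv F12426)) (tt N1362 F9769) (tt N1841 D3569) (tt N1361 (iv D2768)) (tt N1842 D3570) (tt N1835 (iv F12410)) (tt N1454 F9770) (tt N1364 F9771))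
theorem Q1590 : ∀ i, i < 1590 → P i := stepQ 1589 Q1589 (allL N1589 (tt N1809 (iv F12266)) (tt N1842 (iv F12430)) (tt N1829 (iv F12392)) (tt N1368 F9772) (tt N1362 (iv D2769)) (tt N1843 D3571) (tt N1455 F9773) (tt N1365 F9774))
theorem Q1591 : ∀ i, i < 1591 → P i := stepQ 1590 Q1590 (allL N1590 (tt N1364 F9775) (tt N1810 (iv F12271)) (tt N1844 D3572) (tt N1363 (iv D2770)) (tt N1845 D3573) (tt N1837 (iv F12417)) (tt N1376 F9776) (tt N1840 (iv F12428)))
theorem Q1592 : ∀ i, i < 1592 → P i := stepQ 1591 Q1591 (allL N1591 (tt N1844 (iv F12437)) (tt N1831 (iv F12398)) (tt N1364 (iv D2771)) (tt N1755 (iv F12081)) (tt N1846 D3574) (tt N1838 (iv F12419)) (tt N1847 D3575) (tt N1841 (iv F12429)))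
theorem Q1593 : ∀ i, i < 1593 → P i := stepQ 1592 Q1592 (allL N1592 (tt N1845 (iv F12438)) (tt N1365 F9777) (tt N1846 (iv F12441)) (tt N1371 F9778) (tt N1364 (iv D2772)) (tt N1848 D3576) (tt N1378 F9779) (tt N1842 (iv F12433)))
theorem Q1594 : ∀ i, i < 1594 → P i := stepQ 1593 Q1593 (allL N1593 (tt N1415 (iv F56203)) (tt N1848 (iv F12443)) (tt N1833 (iv F12402)) (tt N1372 F9780) (tt N1839 (iv F12424)) (tt N1365 (iv D2773)) (tt N1379 F9781) (tt N1843 (iv F12436)))
theorem Q1595 : ∀ i, i < 1595 → P i := stepQ 1594 Q1594 (allL N1594 (tt N1367 F9782) (tt N1813 (iv F12280)) (tt N1849 D3577) (tt N1366 (iv D2774)) (tt N1850 D3578) (tt N1594 F9783) (tt N1460 F9784) (tt N1369 F9785))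
theorem Q1596 : ∀ i, i < 1596 → P i := stepQ 1595 Q1595 (allL N1595 (tt N1849 (iv F12446)) (tt N1595 F9786) (tt N1367 (iv D2775)) (tt N1759 (iv F12092)) (tt N1851 D3579) (tt N1595 F9787) (tt N1852 D3580) (tt N1370 F9788))
theorem Q1597 : ∀ i, i < 1597 → P i := stepQ 1596 Q1596 (allL N1596 (tt N1850 (iv F12449)) (tt N1368 F9789) (tt N1851 (iv F12453)) (tt N1842 (iv F12431)) (tt N1367 (iv D2776)) (tt N1853 D3581) (tt N1462 F9790) (tt N1371 F9791))
theorem Q1598 : ∀ i, i < 1598 → P i := stepQ 1597 Q1597 (allL N1597 (tt N1416 F56383) (tt N1853 (iv F12459)) (tt N1597 F9792) (tt N1843 (iv F12434)) (tt N1597 F9793) (tt N1368 (iv D2777)) (tt N1463 F9794) (tt N1372 F9795))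
theorem Q1599 : ∀ i, i < 1599 → P i := stepQ 1598 Q1598 (allL N1598 (tt N1370 F9796) (tt N1854 D3582) (tt N1369 (iv D2778)) (tt N1762 (iv F12103)) (tt N1855 D3583) (tt N1598 F9797) (tt N1598 F9798) (tt N1849 (iv F12448)))
theorem Q1600 : ∀ i, i < 1600 → P i := stepQ 1599 Q1599 (allL N1599 (tt N1371 F9799) (tt N1817 (iv F12298)) (tt N1855 (iv F12467)) (tt N1845 (iv F12439)) (tt N1369 (iv D2779)) (tt N1856 D3584) (tt N1380 F9800) (tt N1850 (iv F12451)))
theorem Q1601 : ∀ i, i < 1601 → P i := stepQ 1600 Q1600 (allL N1600 (tt N1855 (iv F12466)) (tt N1600 F9801) (tt N1371 F9802) (tt N1857 D3585) (tt N1370 (iv D2780)) (tt N1858 D3586) (tt N1600 F9803) (tt N1851 (iv F12454)))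
theorem Q1602 : ∀ i, i < 1602 → P i := stepQ 1601 Q1601 (allL N1601 (tt N1856 (iv F12469)) (tt N1372 F9804) (tt N1858 (iv F12475)) (tt N1848 (iv F12444)) (tt N1601 F9805) (tt N1371 (iv D2781)) (tt N1381 F9806) (tt N1853 (iv F12462)))
theorem Q1603 : ∀ i, i < 1603 → P i := stepQ 1602 Q1602 (allL N1602 (tt N1374 F9807) (tt N1818 (iv F12309)) (tt N1822 F56353) (tt N1373 (iv D2782)) (tt N1821 (iv F56520)) (tt N1376 F9808) (tt N1837 (iv F12418)) (tt N1468 F9809))
theorem Q1604 : ∀ i, i < 1604 → P i := stepQ 1603 Q1603 (allL N1603 (tt N1414 (iv F55937)) (tt N1819 (iv F56299)) (tt N1401 F56158) (tt N1603 F9818) (tt N1379 F9819) (tt N1375 (iv D2785)) (tt N1839 (iv F12425)) (tt N1469 F9820))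
theorem Q1605 : ∀ i, i < 1605 → P i := stepQ 1604 Q1604 (allL N1604 (tt N1377 F9821) (tt N1859 D3592) (tt N1376 (iv D2786)) (tt N1383 F9822) (tt N1860 D3593) (tt N1822 F56343) (tt N1861 D3594) (tt N1470 F9823))
theorem Q1606 : ∀ i, i < 1606 → P i := stepQ 1605 Q1605 (allL N1605 (tt N1378 F9824) (tt N1822 (iv F12328)) (tt N1860 (iv F12499)) (tt N1380 F9825) (tt N1376 (iv D2787)) (tt N1859 F56350) (tt N1845 (iv F12440)) (tt N1471 F9826))
theorem Q1607 : ∀ i, i < 1607 → P i := stepQ 1606 Q1606 (allL N1606 (tt N1860 (iv F12498)) (tt N1414 F9827) (tt N1378 F9828) (tt N1606 F9829) (tt N1377 (iv D2788)) (tt N1820 (iv F56214)) (tt N1862 D3597) (tt N1472 F9830))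
theorem Q1608 : ∀ i, i < 1608 → P i := stepQ 1607 Q1607 (allL N1607 (tt N1861 (iv F12502)) (tt N1415 F9831) (tt N1847 (iv F12442)) (tt N1384 F9832) (tt N1862 (iv F12513)) (tt N1812 F56344) (tt N1377 (iv D2789)) (tt N1863 D3598))
theorem Q1609 : ∀ i, i < 1609 → P i := stepQ 1608 Q1608 (allL N1608 (tt N1859 (iv F56230)) (tt N1379 F9833) (tt N1820 F56341) (tt N1381 F9834) (tt N1819 F56342) (tt N1378 (iv D2790)) (tt N1848 (iv F12445)) (tt N1474 F9835))
theorem Q1610 : ∀ i, i < 1610 → P i := stepQ 1609 Q1609 (allL N1609 (tt N1381 F9836) (tt N1383 F56381) (tt N1609 F9837) (tt N1859 F56382) (tt N1609 F9838) (tt N1380 (iv D2791)) (tt N1856 (iv F12471)) (tt N1475 F9839))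
theorem Q1611 : ∀ i, i < 1611 → P i := stepQ 1610 Q1610 (allL N1610 (tt N1384 F9858) (tt N1856 (iv F56553)) (tt N1781 (iv F12168)) (tt N1861 (iv F12503)) (tt N1610 F9859) (tt N1817 (iv F56503)) (tt N1383 (iv D2797)) (tt N1864 D3606))
theorem Q1612 : ∀ i, i < 1612 → P i := stepQ 1611 Q1611 (allL N1611 (tt N1864 (iv F12540)) (tt N1416 F9860) (tt N1782 (iv F12171)) (tt N1863 (iv F12515)) (tt N1611 F9861) (tt N1815 (iv F56505)) (tt N1477 F9862) (tt N1384 (iv D2798)))
theorem Q1613 : ∀ i, i < 1613 → P i := stepQ 1612 Q1612 (allL N1612 (tt N1612 F9863) (tt N1865 D3607) (tt N1385 (iv D2799)) (tt N1866 D3608) (tt N1612 F9864) (tt N1421 F9865) (tt N1387 F9866) (tt N1420 F9867))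
theorem Q1614 : ∀ i, i < 1614 → P i := stepQ 1613 Q1613 (allL N1613 (tt N1613 F9868) (tt N1867 D3609) (tt N1386 (iv D2800)) (tt N1868 D3610) (tt N1424 F9869) (tt N1387 F9870) (tt N1421 F9871) (tt N1613 F9872))
theorem Q1615 : ∀ i, i < 1615 → P i := stepQ 1614 Q1614 (allL N1614 (tt N1869 D3611) (tt N1387 (iv D2801)) (tt N1394 F9873) (tt N1870 D3612) (tt N1614 F9874) (tt N1867 (iv F12555)) (tt N1865 (iv F12546)) (tt N1614 F9875))
theorem Q1616 : ∀ i, i < 1616 → P i := stepQ 1615 Q1615 (allL N1615 (tt N1615 F9876) (tt N1870 (iv F12567)) (tt N1390 F9877) (tt N1387 (iv D2802)) (tt N1871 D3613) (tt N1868 (iv F12560)) (tt N1866 (iv F12551)) (tt N1615 F9878))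
theorem Q1617 : ∀ i, i < 1617 → P i := stepQ 1616 Q1616 (allL N1616 (tt N1413 F55817) (tt N1388 (iv D2803)) (tt N1396 F9879) (tt N1872 D3615) (tt N1412 F55818) (tt N1389 F9881) (tt N1616 F9882) (tt N1616 F9883))
theorem Q1618 : ∀ i, i < 1618 → P i := stepQ 1617 Q1617 (allL N1617 (tt N1617 F9884) (tt N1872 (iv F12579)) (tt N1868 (iv F12559)) (tt N1388 (iv D2804)) (tt N1617 F56176) (tt N1390 F9885) (tt N1617 F9886) (tt N1617 F9887))
theorem Q1619 : ∀ i, i < 1619 → P i := stepQ 1618 Q1618 (allL N1618 (tt N1389 (iv D2805)) (tt N1618 F9888) (tt N1398 F9889) (tt N1873 D3617) (tt N1391 F9890) (tt N1413 (iv F55682)) (tt N1618 F9891) (tt N1618 F9892))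
theorem Q1620 : ∀ i, i < 1620 → P i := stepQ 1619 Q1619 (allL N1619 (tt N1873 (iv F12587)) (tt N1390 F9893) (tt N1874 D3618) (tt N1389 (iv D2806)) (tt N1419 (iv F55848)) (tt N1872 (iv F12580)) (tt N1619 F9894) (tt N1619 F9895))
theorem Q1621 : ∀ i, i < 1621 → P i := stepQ 1620 Q1620 (allL N1620 (tt N1620 F9896) (tt N1419 F55982) (tt N1871 (iv F12570)) (tt N1392 F9897) (tt N1390 (iv D2807)) (tt N1620 F56118) (tt N1620 F9898) (tt N1620 F9899))
theorem Q1622 : ∀ i, i < 1622 → P i := stepQ 1621 Q1621 (allL N1621 (tt N1875 D3626) (tt N1393 (iv D2812)) (tt N1867 (iv F12553)) (tt N1876 D3627) (tt N1792 (iv F12212)) (tt N1394 F9917) (tt N1787 (iv F12197)) (tt N1621 F9918))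
theorem Q1623 : ∀ i, i < 1623 → P i := stepQ 1622 Q1622 (allL N1622 (tt N1405 F9919) (tt N1876 (iv F12623)) (tt N1397 F9920) (tt N1393 (iv D2813)) (tt N1877 D3628) (tt N1395 F9921) (tt N1788 (iv F12202)) (tt N1622 F9922))
theorem Q1624 : ∀ i, i < 1624 → P i := stepQ 1623 Q1623 (allL N1623 (tt N1394 (iv D2814)) (tt N1406 F9923) (tt N1869 (iv F12564)) (tt N1878 D3629) (tt N1623 F9924) (tt N1875 (iv F12621)) (tt N1801 (iv F12242)) (tt N1623 F9925))
theorem Q1625 : ∀ i, i < 1625 → P i := stepQ 1624 Q1624 (allL N1624 (tt N1878 (iv F12629)) (tt N1395 F9926) (tt N1879 D3630) (tt N1394 (iv D2815)) (tt N1880 D3631) (tt N1876 (iv F12624)) (tt N1802 (iv F12244)) (tt N1624 F9927))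
theorem Q1626 : ∀ i, i < 1626 → P i := stepQ 1625 Q1625 (allL N1625 (tt N1408 F9928) (tt N1880 (iv F12634)) (tt N1400 F9929) (tt N1625 F9930) (tt N1395 (iv D2816)) (tt N1410 F56067) (tt N1803 (iv F12248)) (tt N1625 F9931))
theorem Q1627 : ∀ i, i < 1627 → P i := stepQ 1626 Q1626 (allL N1626 (tt N1411 F56081) (tt N1397 F9937) (tt N1881 D3634) (tt N1396 (iv D2818)) (tt N1409 F56082) (tt N1399 F9938) (tt N1401 F9939) (tt N1626 F9940))
theorem Q1628 : ∀ i, i < 1628 → P i := stepQ 1627 Q1627 (allL N1627 (tt N1399 (iv F55949)) (tt N1409 (iv F55945)) (tt N1877 (iv F12627)) (tt N1398 F55809) (tt N1397 (iv D2819)) (tt N1411 (iv F55939)) (tt N1402 F9943) (tt N1627 F9944))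
theorem Q1629 : ∀ i, i < 1629 → P i := stepQ 1628 Q1628 (allL N1628 (tt N1877 F56087) (tt N1879 (iv F12632)) (tt N1399 (iv D2821)) (tt N1874 (iv F12591)) (tt N1405 F56088) (tt N1881 (iv F12646)) (tt N1826 (iv F56243)) (tt N1628 F9949))
theorem Q1630 : ∀ i, i < 1630 → P i := stepQ 1629 Q1629 (allL N1629 (tt N1882 D3676) (tt N1403 (iv D2849)) (tt N1629 F10041) (tt N1883 D3677) (tt N1404 F10042) (tt N1629 F10043) (tt N1708 (iv F11915)) (tt N1629 F10044))
theorem Q1631 : ∀ i, i < 1631 → P i := stepQ 1630 Q1630 (allL N1630 (tt N1793 (iv F12216)) (tt N1883 (iv F12787)) (tt N1419 F10045) (tt N1403 (iv D2850)) (tt N1874 F55983) (tt N1630 F10046) (tt N1709 (iv F11920)) (tt N1630 F10047))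
theorem Q1632 : ∀ i, i < 1632 → P i := stepQ 1631 Q1631 (allL N1631 (tt N1404 (iv D2851)) (tt N1875 (iv F12620)) (tt N1631 F10048) (tt N1884 D3679) (tt N1882 (iv F12784)) (tt N1406 F10049) (tt N1824 (iv F12380)) (tt N1631 F10050))
theorem Q1633 : ∀ i, i < 1633 → P i := stepQ 1632 Q1632 (allL N1632 (tt N1884 (iv F12793)) (tt N1405 F10051) (tt N1880 (iv F56218)) (tt N1404 (iv D2852)) (tt N1879 (iv F56242)) (tt N1407 F10052) (tt N1825 (iv F12383)) (tt N1632 F10053))
theorem Q1634 : ∀ i, i < 1634 → P i := stepQ 1633 Q1633 (allL N1633 (tt N1407 F10056) (tt N1878 (iv F12630)) (tt N1885 D3683) (tt N1406 (iv D2854)) (tt N1886 D3684) (tt N1884 (iv F12794)) (tt N1830 (iv F12397)) (tt N1633 F10057))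
theorem Q1635 : ∀ i, i < 1635 → P i := stepQ 1634 Q1634 (allL N1634 (tt N1885 (iv F12805)) (tt N1410 F10058) (tt N1407 (iv D2855)) (tt N1634 F10059) (tt N1887 D3685) (tt N1880 (iv F56219)) (tt N1888 D3686) (tt N1634 F10060))
theorem Q1636 : ∀ i, i < 1636 → P i := stepQ 1635 Q1635 (allL N1635 (tt N1886 (iv F12808)) (tt N1408 F10061) (tt N1887 (iv F12812)) (tt N1635 F10062) (tt N1407 (iv D2856)) (tt N1889 D3687) (tt N1832 (iv F12401)) (tt N1635 F10063))
theorem Q1637 : ∀ i, i < 1637 → P i := stepQ 1636 Q1636 (allL N1636 (tt N1410 F56078) (tt N1889 (iv F12816)) (tt N1409 F56079) (tt N1636 F10065) (tt N1881 (iv F56234)) (tt N1408 (iv D2857)) (tt N1833 (iv F12404)) (tt N1636 F10066))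
theorem Q1638 : ∀ i, i < 1638 → P i := stepQ 1637 Q1637 (allL N1637 (tt N1881 (iv F56233)) (tt N1887 (iv F12811)) (tt N1411 F10089) (tt N1890 D3697) (tt N1410 (iv D2864)) (tt N1877 F56076) (tt N1891 D3699) (tt N1637 F10090))
theorem Q1639 : ∀ i, i < 1639 → P i := stepQ 1638 Q1638 (allL N1638 (tt N1833 (iv F56231)) (tt N1888 (iv F12814)) (tt N1415 F10091) (tt N1638 F10092) (tt N1891 (iv F12855)) (tt N1803 (iv F56217)) (tt N1410 (iv D2865)) (tt N1892 D3700))
theorem Q1640 : ∀ i, i < 1640 → P i := stepQ 1639 Q1639 (allL N1639 (tt N1872 (iv F55958)) (tt N1639 F10110) (tt N1890 (iv F12849)) (tt N1413 (iv D2870)) (tt N1639 F10111) (tt N1873 F55816) (tt N1639 F10112) (tt N1639 F10113))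
theorem Q1641 : ∀ i, i < 1641 → P i := stepQ 1640 Q1640 (allL N1640 (tt N1839 F56074) (tt N1862 (iv F12511)) (tt N1891 (iv F12854)) (tt N1640 F10148) (tt N1415 F10149) (tt N1806 (iv F56215)) (tt N1414 (iv D2882)) (tt N1893 D3719))
theorem Q1642 : ∀ i, i < 1642 → P i := stepQ 1641 Q1641 (allL N1641 (tt N1843 F56346) (tt N1863 (iv F12514)) (tt N1892 (iv F12856)) (tt N1416 F10150) (tt N1893 (iv F12917)) (tt N1809 F56347) (tt N1479 F10151) (tt N1415 (iv D2883)))
theorem Q1643 : ∀ i, i < 1643 → P i := stepQ 1642 Q1642 (allL N1642 (tt N1419 F10261) (tt N1642 F55641) (tt N1793 (iv F12217)) (tt N1418 (iv D2915)) (tt N1873 F55815) (tt N1642 F10262) (tt N1642 F10263) (tt N1642 F10264))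
theorem Q1644 : ∀ i, i < 1644 → P i := stepQ 1643 Q1643 (allL N1643 (tt N1894 D3895) (tt N1420 (iv D3019)) (tt N1428 F10612) (tt N1895 D3896) (tt N1643 F10613) (tt N1422 F10614) (tt N1643 F10615) (tt N1865 (iv F12547)))
theorem Q1645 : ∀ i, i < 1645 → P i := stepQ 1644 Q1644 (allL N1644 (tt N1644 F10616) (tt N1895 (iv F13516)) (tt N1644 F10617) (tt N1420 (iv D3020)) (tt N1896 D3897) (tt N1423 F10618) (tt N1644 F10619) (tt N1866 (iv F12552)))
theorem Q1646 : ∀ i, i < 1646 → P i := stepQ 1645 Q1645 (allL N1645 (tt N1897 D3898) (tt N1421 (iv D3021)) (tt N1430 F10620) (tt N1898 D3899) (tt N1425 F10621) (tt N1865 (iv F12545)) (tt N1867 (iv F12556)) (tt N1422 F10622))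
theorem Q1647 : ∀ i, i < 1647 → P i := stepQ 1646 Q1646 (allL N1646 (tt N1646 F10623) (tt N1898 (iv F13527)) (tt N1646 F10624) (tt N1421 (iv D3022)) (tt N1646 F56474) (tt N1866 (iv F12550)) (tt N1868 (iv F12561)) (tt N1423 F10625))
theorem Q1648 : ∀ i, i < 1648 → P i := stepQ 1647 Q1647 (allL N1647 (tt N1422 (iv D3023)) (tt N1647 F10626) (tt N1432 F10627) (tt N1899 D3901) (tt N1426 F10628) (tt N1894 (iv F13514)) (tt N1647 F10629) (tt N1897 (iv F13526)))
theorem Q1649 : ∀ i, i < 1649 → P i := stepQ 1648 Q1648 (allL N1648 (tt N1899 (iv F13533)) (tt N1423 F10630) (tt N1900 D3902) (tt N1422 (iv D3024)) (tt N1648 F56779) (tt N1895 (iv F13517)) (tt N1648 F10631) (tt N1898 (iv F13528)))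
theorem Q1650 : ∀ i, i < 1650 → P i := stepQ 1649 Q1649 (allL N1649 (tt N1901 D3905) (tt N1424 (iv D3026)) (tt N1792 (iv F12211)) (tt N1649 F56181) (tt N1867 (iv F12554)) (tt N1649 F10636) (tt N1425 F10637) (tt N1649 F10638))
theorem Q1651 : ∀ i, i < 1651 → P i := stepQ 1650 Q1650 (allL N1650 (tt N1425 (iv D3028)) (tt N1650 F10643) (tt N1435 F10644) (tt N1650 F56476) (tt N1897 (iv F13525)) (tt N1650 F10645) (tt N1901 (iv F13547)) (tt N1426 F10646))
theorem Q1652 : ∀ i, i < 1652 → P i := stepQ 1651 Q1651 (allL N1651 (tt N1902 D3917) (tt N1427 (iv D3035)) (tt N1865 (iv F12543)) (tt N1903 D3918) (tt N1651 F10666) (tt N1430 F10667) (tt N1783 (iv F12177)) (tt N1428 F10668))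
theorem Q1653 : ∀ i, i < 1653 → P i := stepQ 1652 Q1652 (allL N1652 (tt N1449 F10669) (tt N1903 (iv F13589)) (tt N1652 F10670) (tt N1427 (iv D3036)) (tt N1904 D3919) (tt N1431 F10671) (tt N1784 (iv F12182)) (tt N1429 F10672))
theorem Q1654 : ∀ i, i < 1654 → P i := stepQ 1653 Q1653 (allL N1653 (tt N1428 (iv D3037)) (tt N1450 F10673) (tt N1894 (iv F13512)) (tt N1905 D3920) (tt N1653 F10674) (tt N1432 F10675) (tt N1440 F10676) (tt N1902 (iv F13588)))
theorem Q1655 : ∀ i, i < 1655 → P i := stepQ 1654 Q1654 (allL N1654 (tt N1905 (iv F13596)) (tt N1429 F10677) (tt N1906 D3921) (tt N1428 (iv D3038)) (tt N1907 D3922) (tt N1433 F10678) (tt N1441 F10679) (tt N1903 (iv F13591)))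
theorem Q1656 : ∀ i, i < 1656 → P i := stepQ 1655 Q1655 (allL N1655 (tt N1452 F10680) (tt N1907 (iv F13602)) (tt N1655 F10681) (tt N1655 F10682) (tt N1429 (iv D3039)) (tt N1478 F56364) (tt N1442 F10683) (tt N1904 (iv F13595)))
theorem Q1657 : ∀ i, i < 1657 → P i := stepQ 1656 Q1656 (allL N1656 (tt N1430 (iv D3040)) (tt N1453 F10684) (tt N1897 (iv F13524)) (tt N1908 D3924) (tt N1435 F10685) (tt N1902 (iv F13587)) (tt N1807 (iv F12261)) (tt N1432 F10686))
theorem Q1658 : ∀ i, i < 1658 → P i := stepQ 1657 Q1657 (allL N1657 (tt N1908 (iv F13610)) (tt N1431 F10687) (tt N1909 D3925) (tt N1430 (iv D3041)) (tt N1910 D3926) (tt N1903 (iv F13590)) (tt N1808 (iv F12264)) (tt N1433 F10688))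
theorem Q1659 : ∀ i, i < 1659 → P i := stepQ 1658 Q1658 (allL N1658 (tt N1455 F10689) (tt N1910 (iv F13615)) (tt N1658 F10690) (tt N1437 F10691) (tt N1431 (iv D3042)) (tt N1479 (iv F56514)) (tt N1809 (iv F12268)) (tt N1434 F10692))
theorem Q1660 : ∀ i, i < 1660 → P i := stepQ 1659 Q1659 (allL N1659 (tt N1433 F10693) (tt N1456 F10694) (tt N1911 D3928) (tt N1432 (iv D3043)) (tt N1912 D3929) (tt N1905 (iv F13598)) (tt N1443 F10695) (tt N1908 (iv F13612)))
theorem Q1661 : ∀ i, i < 1661 → P i := stepQ 1660 Q1660 (allL N1660 (tt N1911 (iv F13622)) (tt N1660 F10696) (tt N1433 (iv D3044)) (tt N1900 (iv F13537)) (tt N1913 D3930) (tt N1906 (iv F13601)) (tt N1914 D3931) (tt N1909 (iv F13614)))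
theorem Q1662 : ∀ i, i < 1662 → P i := stepQ 1661 Q1661 (allL N1661 (tt N1912 (iv F13623)) (tt N1434 F10697) (tt N1913 (iv F13628)) (tt N1439 F10698) (tt N1433 (iv D3045)) (tt N1473 (iv F56512)) (tt N1445 F10699) (tt N1910 (iv F13617)))
theorem Q1663 : ∀ i, i < 1663 → P i := stepQ 1662 Q1662 (allL N1662 (tt N1436 F10704) (tt N1460 F10705) (tt N1662 F56785) (tt N1435 (iv D3047)) (tt N1915 D3934) (tt N1662 F10706) (tt N1813 (iv F12282)) (tt N1438 F10707))
theorem Q1664 : ∀ i, i < 1664 → P i := stepQ 1663 Q1663 (allL N1663 (tt N1915 (iv F13637)) (tt N1437 F10711) (tt N1663 F56790) (tt N1910 (iv F13616)) (tt N1436 (iv D3049)) (tt N1477 F56655) (tt N1815 (iv F12288)) (tt N1439 F10712))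
theorem Q1665 : ∀ i, i < 1665 → P i := stepQ 1664 Q1664 (allL N1664 (tt N1439 F10719) (tt N1465 F10720) (tt N1664 F56800) (tt N1912 (iv F13625)) (tt N1438 (iv D3052)) (tt N1476 F56653) (tt N1447 F10721) (tt N1915 (iv F13639)))
theorem Q1666 : ∀ i, i < 1666 → P i := stepQ 1665 Q1665 (allL N1665 (tt N1441 F10730) (tt N1468 F10731) (tt N1916 D3946) (tt N1440 (iv D3056)) (tt N1917 D3947) (tt N1443 F10732) (tt N1905 (iv F13599)) (tt N1818 (iv F12311)))
theorem Q1667 : ∀ i, i < 1667 → P i := stepQ 1666 Q1666 (allL N1666 (tt N1916 (iv F13670)) (tt N1469 F56365) (tt N1441 (iv D3057)) (tt N1666 F10734) (tt N1474 F56366) (tt N1444 F10735) (tt N1918 D3949) (tt N1819 (iv F12315)))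
theorem Q1668 : ∀ i, i < 1668 → P i := stepQ 1667 Q1667 (allL N1667 (tt N1917 (iv F13673)) (tt N1442 F10736) (tt N1474 F56361) (tt N1667 F10737) (tt N1441 (iv D3058)) (tt N1472 F56362) (tt N1907 (iv F13604)) (tt N1820 (iv F12318)))
theorem Q1669 : ∀ i, i < 1669 → P i := stepQ 1668 Q1668 (allL N1668 (tt N1444 F10742) (tt N1917 F56675) (tt N1443 (iv D3060)) (tt N1668 F10743) (tt N1468 F56676) (tt N1916 (iv F13672)) (tt N1919 D3953) (tt N1821 (iv F12326)))
theorem Q1670 : ∀ i, i < 1670 → P i := stepQ 1669 Q1669 (allL N1669 (tt N1445 F10744) (tt N1471 F10745) (tt N1468 (iv F56517)) (tt N1447 F10746) (tt N1443 (iv D3061)) (tt N1470 (iv F56509)) (tt N1912 (iv F13626)) (tt N1822 (iv F12330)))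
theorem Q1671 : ∀ i, i < 1671 → P i := stepQ 1670 Q1670 (allL N1670 (tt N1919 (iv F13689)) (tt N1452 F56680) (tt N1914 (iv F13630)) (tt N1670 F10750) (tt N1451 F56681) (tt N1918 (iv F13680)) (tt N1444 (iv D3063)) (tt N1920 D3958))
theorem Q1672 : ∀ i, i < 1672 → P i := stepQ 1671 Q1671 (allL N1671 (tt N1448 (iv D3076)) (tt N1902 (iv F13585)) (tt N1671 F10786) (tt N1921 D3972) (tt N1671 F10787) (tt N1453 F10788) (tt N1834 (iv F12407)) (tt N1450 F10789))
theorem Q1673 : ∀ i, i < 1673 → P i := stepQ 1672 Q1672 (allL N1672 (tt N1921 (iv F13745)) (tt N1449 F10790) (tt N1922 D3973) (tt N1448 (iv D3077)) (tt N1920 (iv F56826)) (tt N1454 F10791) (tt N1835 (iv F12411)) (tt N1451 F10792))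
theorem Q1674 : ∀ i, i < 1674 → P i := stepQ 1673 Q1673 (allL N1673 (tt N1904 (iv F13592)) (tt N1920 (iv F56825)) (tt N1673 F10793) (tt N1673 F10794) (tt N1449 (iv D3078)) (tt N1923 D3975) (tt N1836 (iv F12414)) (tt N1452 F10795))
theorem Q1675 : ∀ i, i < 1675 → P i := stepQ 1674 Q1674 (allL N1674 (tt N1451 F10796) (tt N1905 (iv F13597)) (tt N1924 D3976) (tt N1450 (iv D3079)) (tt N1919 (iv F56819)) (tt N1456 F10797) (tt N1468 F10798) (tt N1921 (iv F13747)))
theorem Q1676 : ∀ i, i < 1676 → P i := stepQ 1675 Q1675 (allL N1675 (tt N1924 (iv F13759)) (tt N1675 F10799) (tt N1451 (iv D3080)) (tt N1675 F10800) (tt N1914 (iv F56827)) (tt N1457 F10801) (tt N1913 F56682) (tt N1922 (iv F13751)))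
theorem Q1677 : ∀ i, i < 1677 → P i := stepQ 1676 Q1676 (allL N1676 (tt N1478 (iv F56221)) (tt N1918 (iv F56538)) (tt N1676 F10805) (tt N1676 F10806) (tt N1459 F10807) (tt N1452 (iv D3082)) (tt N1469 F10808) (tt N1923 (iv F13758)))
theorem Q1678 : ∀ i, i < 1678 → P i := stepQ 1677 Q1677 (allL N1677 (tt N1454 F10809) (tt N1908 (iv F13611)) (tt N1925 D3981) (tt N1453 (iv D3083)) (tt N1926 D3982) (tt N1921 (iv F13746)) (tt N1840 (iv F12427)) (tt N1456 F10810))
theorem Q1679 : ∀ i, i < 1679 → P i := stepQ 1678 Q1678 (allL N1678 (tt N1925 (iv F13775)) (tt N1678 F10811) (tt N1454 (iv D3084)) (tt N1678 F10812) (tt N1927 D3983) (tt N1922 (iv F13750)) (tt N1928 D3984) (tt N1457 F10813))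
theorem Q1680 : ∀ i, i < 1680 → P i := stepQ 1679 Q1679 (allL N1679 (tt N1926 (iv F13778)) (tt N1455 F10814) (tt N1927 (iv F13782)) (tt N1462 F10815) (tt N1454 (iv D3085)) (tt N1929 D3985) (tt N1842 (iv F12432)) (tt N1458 F10816))
theorem Q1681 : ∀ i, i < 1681 → P i := stepQ 1680 Q1680 (allL N1680 (tt N1479 (iv F56513)) (tt N1929 (iv F13786)) (tt N1680 F10817) (tt N1463 F10818) (tt N1923 (iv F13757)) (tt N1455 (iv D3086)) (tt N1843 (iv F12435)) (tt N1459 F10819))
theorem Q1682 : ∀ i, i < 1682 → P i := stepQ 1681 Q1681 (allL N1681 (tt N1457 F10820) (tt N1930 D3986) (tt N1456 (iv D3087)) (tt N1681 F10821) (tt N1931 D3987) (tt N1924 (iv F13761)) (tt N1932 D3988) (tt N1925 (iv F13777)))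
theorem Q1683 : ∀ i, i < 1683 → P i := stepQ 1682 Q1682 (allL N1682 (tt N1458 F10822) (tt N1912 (iv F13624)) (tt N1931 (iv F13792)) (tt N1465 F10823) (tt N1456 (iv D3088)) (tt N1933 D3989) (tt N1471 F10824) (tt N1926 (iv F13780)))
theorem Q1684 : ∀ i, i < 1684 → P i := stepQ 1683 Q1683 (allL N1683 (tt N1931 (iv F13791)) (tt N1683 F10825) (tt N1458 F10826) (tt N1934 D3990) (tt N1457 (iv D3089)) (tt N1935 D3991) (tt N1936 D3992) (tt N1927 (iv F13783)))
theorem Q1685 : ∀ i, i < 1685 → P i := stepQ 1684 Q1684 (allL N1684 (tt N1932 (iv F13793)) (tt N1684 F10827) (tt N1473 F10828) (tt N1684 F10829) (tt N1936 (iv F13806)) (tt N1913 F56669) (tt N1457 (iv D3090)) (tt N1937 D3993))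
theorem Q1686 : ∀ i, i < 1686 → P i := stepQ 1685 Q1685 (allL N1685 (tt N1933 (iv F13796)) (tt N1459 F10830) (tt N1935 (iv F13803)) (tt N1467 F10831) (tt N1918 (iv F56539)) (tt N1458 (iv D3091)) (tt N1474 F10832) (tt N1929 (iv F13788)))
theorem Q1687 : ∀ i, i < 1687 → P i := stepQ 1686 Q1686 (allL N1686 (tt N1461 F10833) (tt N1686 F57099) (tt N1460 (iv D3092)) (tt N1686 F10834) (tt N1938 D3995) (tt N1686 F10835) (tt N1939 D3996) (tt N1464 F10836))
theorem Q1688 : ∀ i, i < 1688 → P i := stepQ 1687 Q1687 (allL N1687 (tt N1462 F10837) (tt N1915 (iv F13638)) (tt N1938 (iv F13815)) (tt N1926 (iv F13779)) (tt N1460 (iv D3093)) (tt N1940 D3997) (tt N1850 (iv F12450)) (tt N1465 F10838))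
theorem Q1689 : ∀ i, i < 1689 → P i := stepQ 1688 Q1688 (allL N1688 (tt N1938 (iv F13814)) (tt N1482 F10839) (tt N1462 F10840) (tt N1941 D3998) (tt N1461 (iv D3094)) (tt N1942 D3999) (tt N1943 D4000) (tt N1466 F10841))
theorem Q1690 : ∀ i, i < 1690 → P i := stepQ 1689 Q1689 (allL N1689 (tt N1939 (iv F13817)) (tt N1483 F10842) (tt N1852 (iv F12456)) (tt N1689 F10843) (tt N1943 (iv F13832)) (tt N1689 F10844) (tt N1461 (iv D3095)) (tt N1689 F10845))
theorem Q1691 : ∀ i, i < 1691 → P i := stepQ 1690 Q1690 (allL N1690 (tt N1940 (iv F13821)) (tt N1463 F10846) (tt N1942 (iv F13828)) (tt N1929 (iv F13787)) (tt N1690 F10847) (tt N1462 (iv D3096)) (tt N1853 (iv F12461)) (tt N1467 F10848))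
theorem Q1692 : ∀ i, i < 1692 → P i := stepQ 1691 Q1691 (allL N1691 (tt N1466 F10853) (tt N1691 F57107) (tt N1465 F10854) (tt N1944 D4002) (tt N1464 (iv D3098)) (tt N1945 D4003) (tt N1691 F10855) (tt N1938 (iv F13816)))
theorem Q1693 : ∀ i, i < 1693 → P i := stepQ 1692 Q1692 (allL N1692 (tt N1467 F10856) (tt N1476 F56707) (tt N1945 (iv F13841)) (tt N1933 (iv F13797)) (tt N1692 F10857) (tt N1465 (iv D3099)) (tt N1475 F10858) (tt N1940 (iv F13823)))
theorem Q1694 : ∀ i, i < 1694 → P i := stepQ 1693 Q1693 (allL N1693 (tt N1944 (iv F13837)) (tt N1484 F10859) (tt N1934 (iv F13800)) (tt N1466 (iv D3100)) (tt N1693 F10860) (tt N1946 D4004) (tt N1693 F10861) (tt N1941 (iv F13826)))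
theorem Q1695 : ∀ i, i < 1695 → P i := stepQ 1694 Q1694 (allL N1694 (tt N1945 (iv F13840)) (tt N1480 (iv F56863)) (tt N1467 F10863) (tt N1946 (iv F13845)) (tt N1694 F10864) (tt N1466 (iv D3101)) (tt N1694 F10865) (tt N1942 (iv F13830)))
theorem Q1696 : ∀ i, i < 1696 → P i := stepQ 1695 Q1695 (allL N1695 (tt N1474 F56373) (tt N1470 (iv D3107)) (tt N1917 (iv F56533)) (tt N1475 (iv F56543)) (tt N1916 F56469) (tt N1471 (iv F56515)) (tt N1933 (iv F56546)) (tt N1859 (iv F12497)))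
theorem Q1697 : ∀ i, i < 1697 → P i := stepQ 1696 Q1696 (allL N1696 (tt N1472 F10881) (tt N1916 F56468) (tt N1471 F10882) (tt N1696 F10883) (tt N1470 (iv D3108)) (tt N1917 (iv F56528)) (tt N1947 D4016) (tt N1860 (iv F12501)))
theorem Q1698 : ∀ i, i < 1698 → P i := stepQ 1697 Q1697 (allL N1697 (tt N1473 F10884) (tt N1933 F56665) (tt N1932 (iv F13794)) (tt N1476 F10885) (tt N1947 (iv F13880)) (tt N1912 F56666) (tt N1470 (iv D3109)) (tt N1948 D4017))
theorem Q1699 : ∀ i, i < 1699 → P i := stepQ 1698 Q1698 (allL N1698 (tt N1947 (iv F13878)) (tt N1478 F10891) (tt N1936 (iv F13805)) (tt N1698 F10892) (tt N1473 F10893) (tt N1907 (iv F56531)) (tt N1472 (iv D3112)) (tt N1949 D4019))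
theorem Q1700 : ∀ i, i < 1700 → P i := stepQ 1699 Q1699 (allL N1699 (tt N1948 (iv F13881)) (tt N1479 F10894) (tt N1937 (iv F13808)) (tt N1477 F10895) (tt N1949 (iv F13888)) (tt N1910 F56668) (tt N1863 (iv F12516)) (tt N1473 (iv D3113)))
theorem Q1701 : ∀ i, i < 1701 → P i := stepQ 1700 Q1700 (allL N1700 (tt N1477 F10918) (tt N1940 (iv F56862)) (tt N1700 F10919) (tt N1948 (iv F13882)) (tt N1700 F10920) (tt N1915 (iv F56801)) (tt N1864 (iv F12542)) (tt N1476 (iv D3121)))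
theorem Q1702 : ∀ i, i < 1702 → P i := stepQ 1701 Q1701 (allL N1701 (tt N1923 F56371) (tt N1949 (iv F13886)) (tt N1701 F11036) (tt N1701 F11037) (tt N1479 F11038) (tt N1904 (iv F56532)) (tt N1893 (iv F12918)) (tt N1478 (iv D3162)))
theorem Q1703 : ∀ i, i < 1703 → P i := stepQ 1702 Q1702 (allL N1702 (tt N1702 F11285) (tt N1946 F57030) (tt N1702 F11286) (tt N1480 (iv D3239)) (tt N1744 F57344) (tt N1484 (iv F57104)) (tt N1702 F11287) (tt N1743 F57345))
theorem Q1704 : ∀ i, i < 1704 → P i := stepQ 1703 Q1703 (allL N1703 (tt N1703 F11288) (tt N1942 F57031) (tt N1481 F11289) (tt N1743 F57347) (tt N1703 F11290) (tt N1482 (iv F57105)) (tt N1741 (iv F57446)) (tt N1480 (iv D3240)))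
theorem Q1705 : ∀ i, i < 1705 → P i := stepQ 1704 Q1704 (allL N1704 (tt N1704 F57392) (tt N1941 (iv F13824)) (tt N1704 F11556) (tt N1482 (iv D3314)) (tt N1704 F11557) (tt N1743 F57341) (tt N1742 (iv F57395)) (tt N1484 F11558))
theorem Q1706 : ∀ i, i < 1706 → P i := stepQ 1705 Q1705 (allL N1705 (tt N1705 F57393) (tt N1943 (iv F13831)) (tt N1705 F11562) (tt N1742 F57479) (tt N1483 F11563) (tt N1741 F57480) (tt N1482 (iv D3316)) (tt N1705 F11564))
theorem Q1707 : ∀ i, i < 1707 → P i := stepQ 1706 Q1706 (allL N1706 (tt N1950 D4388) (tt N1485 (iv D3414)) (tt N1492 F11902) (tt N1951 D4389) (tt N1487 F11903) (tt N1577 F11904) (tt N1706 F11905) (tt N1575 F11906))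
theorem Q1708 : ∀ i, i < 1708 → P i := stepQ 1707 Q1707 (allL N1707 (tt N1545 F11907) (tt N1951 (iv F15118)) (tt N1583 F11908) (tt N1485 (iv D3415)) (tt N1952 D4390) (tt N1578 F11909) (tt N1707 F11910) (tt N1576 F11911))
theorem Q1709 : ∀ i, i < 1709 → P i := stepQ 1708 Q1708 (allL N1708 (tt N1953 D4391) (tt N1486 (iv D3416)) (tt N1494 F11912) (tt N1954 D4392) (tt N1575 F11913) (tt N1708 F11914) (tt N1629 F11915) (tt N1487 F11916))
theorem Q1710 : ∀ i, i < 1710 → P i := stepQ 1709 Q1709 (allL N1709 (tt N1548 F11917) (tt N1954 (iv F15133)) (tt N1709 F11918) (tt N1486 (iv D3417)) (tt N1955 D4393) (tt N1709 F11919) (tt N1630 F11920) (tt N1488 F11921))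
theorem Q1711 : ∀ i, i < 1711 → P i := stepQ 1710 Q1710 (allL N1710 (tt N1487 (iv D3418)) (tt N1549 F11922) (tt N1496 F11923) (tt N1956 D4394) (tt N1950 (iv F15114)) (tt N1710 F11924) (tt N1710 F11925) (tt N1953 (iv F15132)))
theorem Q1712 : ∀ i, i < 1712 → P i := stepQ 1711 Q1711 (allL N1711 (tt N1956 (iv F15142)) (tt N1488 F11926) (tt N1957 D4395) (tt N1487 (iv D3419)) (tt N1958 D4396) (tt N1711 F11927) (tt N1711 F11928) (tt N1954 (iv F15136)))
theorem Q1713 : ∀ i, i < 1713 → P i := stepQ 1712 Q1712 (allL N1712 (tt N1551 F11929) (tt N1958 (iv F15149)) (tt N1712 F11930) (tt N1952 (iv F15124)) (tt N1488 (iv D3420)) (tt N1959 D4397) (tt N1712 F11931) (tt N1955 (iv F15141)))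
theorem Q1714 : ∀ i, i < 1714 → P i := stepQ 1713 Q1713 (allL N1713 (tt N1960 D4398) (tt N1489 (iv D3421)) (tt N1582 F11932) (tt N1961 D4399) (tt N1713 F11933) (tt N1515 F11934) (tt N1713 F11935) (tt N1513 F11936))
theorem Q1715 : ∀ i, i < 1715 → P i := stepQ 1714 Q1714 (allL N1714 (tt N1512 F11937) (tt N1961 (iv F15161)) (tt N1493 F11938) (tt N1489 (iv D3422)) (tt N1962 D4400) (tt N1516 F11939) (tt N1714 F11940) (tt N1514 F11941))
theorem Q1716 : ∀ i, i < 1716 → P i := stepQ 1715 Q1715 (allL N1715 (tt N1963 D4401) (tt N1490 (iv D3423)) (tt N1577 F11942) (tt N1964 D4402) (tt N1715 F11943) (tt N1492 F11944) (tt N1499 F11945) (tt N1511 F11946))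
theorem Q1717 : ∀ i, i < 1717 → P i := stepQ 1716 Q1716 (allL N1716 (tt N1514 F11947) (tt N1964 (iv F15176)) (tt N1516 F11948) (tt N1490 (iv D3424)) (tt N1965 D4403) (tt N1493 F11949) (tt N1500 F11950) (tt N1512 F11951))
theorem Q1718 : ∀ i, i < 1718 → P i := stepQ 1717 Q1717 (allL N1717 (tt N1966 D4404) (tt N1491 (iv D3425)) (tt N1575 F11952) (tt N1967 D4405) (tt N1494 F11953) (tt N1511 F11954) (tt N1717 F11955) (tt N1492 F11956))
theorem Q1719 : ∀ i, i < 1719 → P i := stepQ 1718 Q1718 (allL N1718 (tt N1516 F11957) (tt N1967 (iv F15191)) (tt N1514 F11958) (tt N1491 (iv D3426)) (tt N1968 D4406) (tt N1512 F11959) (tt N1718 F11960) (tt N1493 F11961))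
theorem Q1720 : ∀ i, i < 1720 → P i := stepQ 1719 Q1719 (allL N1719 (tt N1492 (iv D3427)) (tt N1517 F11962) (tt N1950 (iv F15113)) (tt N1969 D4407) (tt N1496 F11963) (tt N1963 (iv F15173)) (tt N1501 F11964) (tt N1966 (iv F15190)))
theorem Q1721 : ∀ i, i < 1721 → P i := stepQ 1720 Q1720 (allL N1720 (tt N1969 (iv F15200)) (tt N1493 F11965) (tt N1970 D4408) (tt N1492 (iv D3428)) (tt N1971 D4409) (tt N1964 (iv F15177)) (tt N1502 F11966) (tt N1967 (iv F15194)))
theorem Q1722 : ∀ i, i < 1722 → P i := stepQ 1721 Q1721 (allL N1721 (tt N1519 F11967) (tt N1971 (iv F15203)) (tt N1962 (iv F15166)) (tt N1498 F11968) (tt N1493 (iv D3429)) (tt N1972 D4410) (tt N1503 F11969) (tt N1968 (iv F15199)))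
theorem Q1723 : ∀ i, i < 1723 → P i := stepQ 1722 Q1722 (allL N1722 (tt N1494 (iv D3430)) (tt N1520 F11970) (tt N1953 (iv F15128)) (tt N1973 D4411) (tt N1966 (iv F15187)) (tt N1722 F11971) (tt N1722 F11972) (tt N1496 F11973))
theorem Q1724 : ∀ i, i < 1724 → P i := stepQ 1723 Q1723 (allL N1723 (tt N1973 (iv F15209)) (tt N1495 F11974) (tt N1974 D4412) (tt N1494 (iv D3431)) (tt N1975 D4413) (tt N1723 F11975) (tt N1723 F11976) (tt N1497 F11977))
theorem Q1725 : ∀ i, i < 1725 → P i := stepQ 1724 Q1724 (allL N1724 (tt N1522 F11978) (tt N1975 (iv F15217)) (tt N1724 F11979) (tt N1968 (iv F15197)) (tt N1495 (iv D3432)) (tt N1976 D4414) (tt N1724 F11980) (tt N1498 F11981))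
theorem Q1726 : ∀ i, i < 1726 → P i := stepQ 1725 Q1725 (allL N1725 (tt N1497 F11982) (tt N1523 F11983) (tt N1977 D4415) (tt N1496 (iv D3433)) (tt N1978 D4416) (tt N1725 F11984) (tt N1504 F11985) (tt N1973 (iv F15213)))
theorem Q1727 : ∀ i, i < 1727 → P i := stepQ 1726 Q1726 (allL N1726 (tt N1977 (iv F15225)) (tt N1726 F11986) (tt N1497 (iv D3434)) (tt N1957 (iv F15147)) (tt N1979 D4417) (tt N1726 F11987) (tt N1980 D4418) (tt N1974 (iv F15216)))
theorem Q1728 : ∀ i, i < 1728 → P i := stepQ 1727 Q1727 (allL N1727 (tt N1978 (iv F15227)) (tt N1498 F11988) (tt N1979 (iv F15231)) (tt N1971 (iv F15204)) (tt N1497 (iv D3435)) (tt N1981 D4419) (tt N1506 F11989) (tt N1975 (iv F15219)))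
theorem Q1729 : ∀ i, i < 1729 → P i := stepQ 1728 Q1728 (allL N1728 (tt N1526 F11990) (tt N1981 (iv F15235)) (tt N1728 F11991) (tt N1972 (iv F15207)) (tt N1728 F11992) (tt N1498 (iv D3436)) (tt N1507 F11993) (tt N1976 (iv F15224)))
theorem Q1730 : ∀ i, i < 1730 → P i := stepQ 1729 Q1729 (allL N1729 (tt N1499 (iv D3437)) (tt N1527 F11994) (tt N1729 F11995) (tt N1982 D4420) (tt N1729 F11996) (tt N1501 F11997) (tt N1963 (iv F15174)) (tt N1729 F11998))
theorem Q1731 : ∀ i, i < 1731 → P i := stepQ 1730 Q1730 (allL N1730 (tt N1982 (iv F15238)) (tt N1500 F11999) (tt N1983 D4421) (tt N1499 (iv D3438)) (tt N1984 D4422) (tt N1502 F12000) (tt N1964 (iv F15178)) (tt N1730 F12001))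
theorem Q1732 : ∀ i, i < 1732 → P i := stepQ 1731 Q1731 (allL N1731 (tt N1529 F12002) (tt N1984 (iv F15246)) (tt N1731 F12003) (tt N1731 F12004) (tt N1500 (iv D3439)) (tt N1985 D4423) (tt N1965 (iv F15183)) (tt N1731 F12005))
theorem Q1733 : ∀ i, i < 1733 → P i := stepQ 1732 Q1732 (allL N1732 (tt N1502 F12006) (tt N1530 F12007) (tt N1986 D4424) (tt N1501 (iv D3440)) (tt N1987 D4425) (tt N1982 (iv F15240)) (tt N1969 (iv F15202)) (tt N1732 F12008))
theorem Q1734 : ∀ i, i < 1734 → P i := stepQ 1733 Q1733 (allL N1733 (tt N1986 (iv F15254)) (tt N1733 F12009) (tt N1502 (iv D3441)) (tt N1733 F12010) (tt N1988 D4426) (tt N1983 (iv F15244)) (tt N1989 D4427) (tt N1733 F12011))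
theorem Q1735 : ∀ i, i < 1735 → P i := stepQ 1734 Q1734 (allL N1734 (tt N1987 (iv F15257)) (tt N1503 F12012) (tt N1988 (iv F15262)) (tt N1506 F12013) (tt N1502 (iv D3442)) (tt N1990 D4428) (tt N1971 (iv F15205)) (tt N1734 F12014))
theorem Q1736 : ∀ i, i < 1736 → P i := stepQ 1735 Q1735 (allL N1735 (tt N1533 F12015) (tt N1990 (iv F15266)) (tt N1735 F12016) (tt N1507 F12017) (tt N1985 (iv F15252)) (tt N1503 (iv D3443)) (tt N1972 (iv F15208)) (tt N1735 F12018))
theorem Q1737 : ∀ i, i < 1737 → P i := stepQ 1736 Q1736 (allL N1736 (tt N1505 F12019) (tt N1736 F12020) (tt N1504 (iv D3444)) (tt N1736 F12021) (tt N1991 D4429) (tt N1736 F12022) (tt N1992 D4430) (tt N1736 F12023))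
theorem Q1738 : ∀ i, i < 1738 → P i := stepQ 1737 Q1737 (allL N1737 (tt N1506 F12024) (tt N1534 F12025) (tt N1991 (iv F15271)) (tt N1987 (iv F15259)) (tt N1504 (iv D3445)) (tt N1993 D4431) (tt N1978 (iv F15229)) (tt N1737 F12026))
theorem Q1739 : ∀ i, i < 1739 → P i := stepQ 1738 Q1738 (allL N1738 (tt N1991 (iv F15269)) (tt N1508 F12027) (tt N1506 F12028) (tt N1994 D4432) (tt N1505 (iv D3446)) (tt N1995 D4433) (tt N1996 D4434) (tt N1738 F12029))
theorem Q1740 : ∀ i, i < 1740 → P i := stepQ 1739 Q1739 (allL N1739 (tt N1992 (iv F15273)) (tt N1509 F12030) (tt N1980 (iv F15233)) (tt N1739 F12031) (tt N1996 (iv F15289)) (tt N1739 F12032) (tt N1505 (iv D3447)) (tt N1997 D4435))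
theorem Q1741 : ∀ i, i < 1741 → P i := stepQ 1740 Q1740 (allL N1740 (tt N1993 (iv F15277)) (tt N1507 F12033) (tt N1995 (iv F15285)) (tt N1990 (iv F15267)) (tt N1740 F12034) (tt N1506 (iv D3448)) (tt N1981 (iv F15237)) (tt N1740 F12035))
theorem Q1742 : ∀ i, i < 1742 → P i := stepQ 1741 Q1741 (allL N1741 (tt N1741 F12036) (tt N1994 (iv F15281)) (tt N1741 F12037) (tt N1508 (iv D3449)) (tt N1741 F12038) (tt N1705 (iv F57480)) (tt N1703 F57446) (tt N1741 F12039))
theorem Q1743 : ∀ i, i < 1743 → P i := stepQ 1742 Q1742 (allL N1742 (tt N1742 F12040) (tt N1995 (iv F15284)) (tt N1510 F12041) (tt N1705 (iv F57479)) (tt N1742 F12042) (tt N1508 (iv D3450)) (tt N1704 F57395) (tt N1742 F12043))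
theorem Q1744 : ∀ i, i < 1744 → P i := stepQ 1743 Q1743 (allL N1743 (tt N1743 F12044) (tt N1996 (iv F15288)) (tt N1743 F12045) (tt N1703 (iv F57347)) (tt N1509 F12046) (tt N1704 (iv F57341)) (tt N1508 (iv D3451)) (tt N1702 (iv F57345)))
theorem Q1745 : ∀ i, i < 1745 → P i := stepQ 1744 Q1744 (allL N1744 (tt N1744 F12047) (tt N1997 (iv F15290)) (tt N1744 F12048) (tt N1744 F12049) (tt N1702 (iv F57344)) (tt N1744 F12050) (tt N1744 F12051) (tt N1509 (iv D3452)))
theorem Q1746 : ∀ i, i < 1746 → P i := stepQ 1745 Q1745 (allL N1745 (tt N1511 (iv D3453)) (tt N1960 (iv F15155)) (tt N1579 F12052) (tt N1998 D4440) (tt N1745 F12053) (tt N1966 (iv F15188)) (tt N1745 F12054) (tt N1963 (iv F15175)))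
theorem Q1747 : ∀ i, i < 1747 → P i := stepQ 1746 Q1746 (allL N1746 (tt N1998 (iv F15309)) (tt N1512 F12055) (tt N1999 D4441) (tt N1511 (iv D3454)) (tt N2000 D4442) (tt N1967 (iv F15192)) (tt N1746 F12056) (tt N1964 (iv F15179)))
theorem Q1748 : ∀ i, i < 1748 → P i := stepQ 1747 Q1747 (allL N1747 (tt N1962 (iv F15165)) (tt N2000 (iv F15313)) (tt N1519 F12057) (tt N1747 F12058) (tt N1512 (iv D3455)) (tt N2001 D4443) (tt N1747 F12059) (tt N1965 (iv F15184)))
theorem Q1749 : ∀ i, i < 1749 → P i := stepQ 1748 Q1748 (allL N1748 (tt N1513 (iv D3456)) (tt N1963 (iv F15170)) (tt N1584 F12060) (tt N2002 D4444) (tt N1748 F12061) (tt N1517 F12062) (tt N1527 F12063) (tt N1960 (iv F15160)))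
theorem Q1750 : ∀ i, i < 1750 → P i := stepQ 1749 Q1749 (allL N1749 (tt N2002 (iv F15319)) (tt N1514 F12064) (tt N2003 D4445) (tt N1513 (iv D3457)) (tt N2004 D4446) (tt N1518 F12065) (tt N1528 F12066) (tt N1961 (iv F15164)))
theorem Q1751 : ∀ i, i < 1751 → P i := stepQ 1750 Q1750 (allL N1750 (tt N1965 (iv F15180)) (tt N2004 (iv F15324)) (tt N1968 (iv F15196)) (tt N1750 F12067) (tt N1514 (iv D3458)) (tt N2005 D4447) (tt N1529 F12068) (tt N1962 (iv F15169)))
theorem Q1752 : ∀ i, i < 1752 → P i := stepQ 1751 Q1751 (allL N1751 (tt N1515 (iv D3459)) (tt N1966 (iv F15185)) (tt N1587 F12069) (tt N2006 D4448) (tt N1520 F12070) (tt N1960 (iv F15158)) (tt N1751 F12071) (tt N1517 F12072))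
theorem Q1753 : ∀ i, i < 1753 → P i := stepQ 1752 Q1752 (allL N1752 (tt N2006 (iv F15330)) (tt N1516 F12073) (tt N2007 D4449) (tt N1515 (iv D3460)) (tt N2008 D4450) (tt N1961 (iv F15162)) (tt N1752 F12074) (tt N1518 F12075))
theorem Q1754 : ∀ i, i < 1754 → P i := stepQ 1753 Q1753 (allL N1753 (tt N1968 (iv F15195)) (tt N2008 (iv F15335)) (tt N1965 (iv F15181)) (tt N1522 F12076) (tt N1516 (iv D3461)) (tt N2009 D4451) (tt N1753 F12077) (tt N1519 F12078))
theorem Q1755 : ∀ i, i < 1755 → P i := stepQ 1754 Q1754 (allL N1754 (tt N1518 F12079) (tt N1969 (iv F15201)) (tt N2010 D4452) (tt N1517 (iv D3462)) (tt N2011 D4453) (tt N2002 (iv F15320)) (tt N1530 F12080) (tt N2006 (iv F15332)))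
theorem Q1756 : ∀ i, i < 1756 → P i := stepQ 1755 Q1755 (allL N1755 (tt N2010 (iv F15342)) (tt N1999 (iv F15311)) (tt N1518 (iv D3463)) (tt N1591 F12081) (tt N2012 D4454) (tt N2003 (iv F15323)) (tt N2013 D4455) (tt N2007 (iv F15334)))
theorem Q1757 : ∀ i, i < 1757 → P i := stepQ 1756 Q1756 (allL N1756 (tt N2011 (iv F15344)) (tt N1519 F12082) (tt N2012 (iv F15347)) (tt N1525 F12083) (tt N1518 (iv D3464)) (tt N2014 D4456) (tt N1532 F12084) (tt N2008 (iv F15338)))
theorem Q1758 : ∀ i, i < 1758 → P i := stepQ 1757 Q1757 (allL N1757 (tt N1972 (iv F15206)) (tt N2014 (iv F15350)) (tt N2001 (iv F15316)) (tt N1526 F12085) (tt N2005 (iv F15328)) (tt N1519 (iv D3465)) (tt N1533 F12086) (tt N2009 (iv F15341)))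
theorem Q1759 : ∀ i, i < 1759 → P i := stepQ 1758 Q1758 (allL N1758 (tt N1521 F12087) (tt N1973 (iv F15210)) (tt N2015 D4457) (tt N1520 (iv D3466)) (tt N2016 D4458) (tt N1758 F12088) (tt N1758 F12089) (tt N1523 F12090))
theorem Q1760 : ∀ i, i < 1760 → P i := stepQ 1759 Q1759 (allL N1759 (tt N2015 (iv F15353)) (tt N1759 F12091) (tt N1521 (iv D3467)) (tt N1595 F12092) (tt N2017 D4459) (tt N1759 F12093) (tt N2018 D4460) (tt N1524 F12094))
theorem Q1761 : ∀ i, i < 1761 → P i := stepQ 1760 Q1760 (allL N1760 (tt N2016 (iv F15357)) (tt N1522 F12095) (tt N2017 (iv F15361)) (tt N2008 (iv F15336)) (tt N1521 (iv D3468)) (tt N2019 D4461) (tt N1760 F12096) (tt N1525 F12097))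
theorem Q1762 : ∀ i, i < 1762 → P i := stepQ 1761 Q1761 (allL N1761 (tt N1976 (iv F15220)) (tt N2019 (iv F15368)) (tt N1761 F12098) (tt N2009 (iv F15339)) (tt N1761 F12099) (tt N1522 (iv D3469)) (tt N1761 F12100) (tt N1526 F12101))
theorem Q1763 : ∀ i, i < 1763 → P i := stepQ 1762 Q1762 (allL N1762 (tt N1524 F12102) (tt N2020 D4462) (tt N1523 (iv D3470)) (tt N1598 F12103) (tt N2021 D4463) (tt N1762 F12104) (tt N1762 F12105) (tt N2015 (iv F15356)))
theorem Q1764 : ∀ i, i < 1764 → P i := stepQ 1763 Q1763 (allL N1763 (tt N1525 F12106) (tt N1978 (iv F15228)) (tt N2021 (iv F15377)) (tt N2011 (iv F15345)) (tt N1523 (iv D3471)) (tt N2022 D4464) (tt N1534 F12107) (tt N2016 (iv F15359)))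
theorem Q1765 : ∀ i, i < 1765 → P i := stepQ 1764 Q1764 (allL N1764 (tt N2021 (iv F15376)) (tt N1764 F12108) (tt N1525 F12109) (tt N2023 D4465) (tt N1524 (iv D3472)) (tt N2024 D4466) (tt N1764 F12110) (tt N2017 (iv F15362)))
theorem Q1766 : ∀ i, i < 1766 → P i := stepQ 1765 Q1765 (allL N1765 (tt N2022 (iv F15379)) (tt N1526 F12111) (tt N2024 (iv F15386)) (tt N2014 (iv F15351)) (tt N1765 F12112) (tt N1525 (iv D3473)) (tt N1535 F12113) (tt N2019 (iv F15371)))
theorem Q1767 : ∀ i, i < 1767 → P i := stepQ 1766 Q1766 (allL N1766 (tt N1528 F12114) (tt N1982 (iv F15239)) (tt N2025 D4467) (tt N1527 (iv D3474)) (tt N2026 D4468) (tt N1530 F12115) (tt N2002 (iv F15321)) (tt N1766 F12116))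
theorem Q1768 : ∀ i, i < 1768 → P i := stepQ 1767 Q1767 (allL N1767 (tt N2025 (iv F15389)) (tt N1767 F12117) (tt N1528 (iv D3475)) (tt N1537 F12118) (tt N2027 D4469) (tt N1531 F12119) (tt N2028 D4470) (tt N1767 F12120))
theorem Q1769 : ∀ i, i < 1769 → P i := stepQ 1768 Q1768 (allL N1768 (tt N2026 (iv F15393)) (tt N1529 F12121) (tt N2027 (iv F15397)) (tt N1768 F12122) (tt N1528 (iv D3476)) (tt N2029 D4471) (tt N2004 (iv F15326)) (tt N1768 F12123))
theorem Q1770 : ∀ i, i < 1770 → P i := stepQ 1769 Q1769 (allL N1769 (tt N1985 (iv F15249)) (tt N2029 (iv F15402)) (tt N1769 F12124) (tt N1769 F12125) (tt N1533 F12126) (tt N1529 (iv D3477)) (tt N2005 (iv F15329)) (tt N1769 F12127))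
theorem Q1771 : ∀ i, i < 1771 → P i := stepQ 1770 Q1770 (allL N1770 (tt N1531 F12128) (tt N2030 D4472) (tt N1530 (iv D3478)) (tt N1539 F12129) (tt N2031 D4473) (tt N2025 (iv F15391)) (tt N2032 D4474) (tt N1770 F12130))
theorem Q1772 : ∀ i, i < 1772 → P i := stepQ 1771 Q1771 (allL N1771 (tt N1532 F12131) (tt N1987 (iv F15258)) (tt N2031 (iv F15410)) (tt N1534 F12132) (tt N1530 (iv D3479)) (tt N2033 D4475) (tt N2011 (iv F15346)) (tt N1771 F12133))
theorem Q1773 : ∀ i, i < 1773 → P i := stepQ 1772 Q1772 (allL N1772 (tt N2031 (iv F15409)) (tt N1772 F12134) (tt N1532 F12135) (tt N1772 F12136) (tt N1531 (iv D3480)) (tt N2034 D4476) (tt N2035 D4477) (tt N1772 F12137))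
theorem Q1774 : ∀ i, i < 1774 → P i := stepQ 1773 Q1773 (allL N1773 (tt N2032 (iv F15413)) (tt N1773 F12138) (tt N2013 (iv F15348)) (tt N1540 F12139) (tt N2035 (iv F15424)) (tt N2028 (iv F15401)) (tt N1531 (iv D3481)) (tt N2036 D4478))
theorem Q1775 : ∀ i, i < 1775 → P i := stepQ 1774 Q1774 (allL N1774 (tt N2033 (iv F15415)) (tt N1533 F12140) (tt N2034 (iv F15419)) (tt N1535 F12141) (tt N2029 (iv F15404)) (tt N1532 (iv D3482)) (tt N2014 (iv F15352)) (tt N1774 F12142))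
theorem Q1776 : ∀ i, i < 1776 → P i := stepQ 1775 Q1775 (allL N1775 (tt N1535 F12143) (tt N1993 (iv F15278)) (tt N1775 F12144) (tt N2033 (iv F15416)) (tt N1775 F12145) (tt N1534 (iv D3483)) (tt N2022 (iv F15381)) (tt N1775 F12146))
theorem Q1777 : ∀ i, i < 1777 → P i := stepQ 1776 Q1776 (allL N1776 (tt N1537 F12147) (tt N2037 D4479) (tt N1536 (iv D3484)) (tt N2025 (iv F15390)) (tt N2038 D4480) (tt N1539 F12148) (tt N2039 D4481) (tt N1776 F12149))
theorem Q1778 : ∀ i, i < 1778 → P i := stepQ 1777 Q1777 (allL N1777 (tt N1538 F12150) (tt N1777 F12151) (tt N2038 (iv F15433)) (tt N1777 F12152) (tt N1536 (iv D3485)) (tt N1777 F12153) (tt N1573 F56750) (tt N1777 F12155))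
theorem Q1779 : ∀ i, i < 1779 → P i := stepQ 1778 Q1778 (allL N1778 (tt N2038 (iv F15432)) (tt N1778 F12156) (tt N1538 F12157) (tt N2040 D4482) (tt N1537 (iv D3486)) (tt N1778 F12158) (tt N1565 F56752) (tt N1778 F12159))
theorem Q1780 : ∀ i, i < 1780 → P i := stepQ 1779 Q1779 (allL N1779 (tt N2039 (iv F15436)) (tt N1779 F12160) (tt N1566 F56504) (tt N2028 (iv F15400)) (tt N1565 (iv F56610)) (tt N1540 F12162) (tt N1537 (iv D3487)) (tt N2041 D4484))
theorem Q1781 : ∀ i, i < 1781 → P i := stepQ 1780 Q1780 (allL N1780 (tt N1780 F12163) (tt N1539 (iv D3488)) (tt N1780 F12164) (tt N2030 (iv F15407)) (tt N1780 F12165) (tt N2037 (iv F15430)) (tt N2042 D4485) (tt N1780 F12166))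
theorem Q1782 : ∀ i, i < 1782 → P i := stepQ 1781 Q1781 (allL N1781 (tt N1540 F12167) (tt N2042 (iv F15452)) (tt N1610 F12168) (tt N2032 (iv F15414)) (tt N1781 F12169) (tt N2039 (iv F15438)) (tt N1539 (iv D3489)) (tt N2043 D4486))
theorem Q1783 : ∀ i, i < 1783 → P i := stepQ 1782 Q1782 (allL N1782 (tt N2043 (iv F15454)) (tt N1782 F12170) (tt N1611 F12171) (tt N2036 (iv F15426)) (tt N1782 F12172) (tt N2041 (iv F15449)) (tt N1782 F12173) (tt N1540 (iv D3490)))
theorem Q1784 : ∀ i, i < 1784 → P i := stepQ 1783 Q1783 (allL N1783 (tt N2044 D4487) (tt N1541 (iv D3491)) (tt N1552 F12174) (tt N2045 D4488) (tt N1783 F12175) (tt N1556 F12176) (tt N1651 F12177) (tt N1554 F12178))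
theorem Q1785 : ∀ i, i < 1785 → P i := stepQ 1784 Q1784 (allL N1784 (tt N1583 F12179) (tt N2045 (iv F15464)) (tt N1545 F12180) (tt N1541 (iv D3492)) (tt N2046 D4489) (tt N1557 F12181) (tt N1652 F12182) (tt N1555 F12183))
theorem Q1786 : ∀ i, i < 1786 → P i := stepQ 1785 Q1785 (allL N1785 (tt N2047 D4490) (tt N1542 (iv D3493)) (tt N1554 F12184) (tt N2048 D4491) (tt N1785 F12185) (tt N1544 F12186) (tt N1785 F12187) (tt N1552 F12188))
theorem Q1787 : ∀ i, i < 1787 → P i := stepQ 1786 Q1786 (allL N1786 (tt N1578 F12189) (tt N2048 (iv F15479)) (tt N1557 F12190) (tt N1542 (iv D3494)) (tt N2049 D4492) (tt N1545 F12191) (tt N1786 F12192) (tt N1553 F12193))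
theorem Q1788 : ∀ i, i < 1788 → P i := stepQ 1787 Q1787 (allL N1787 (tt N2050 D4493) (tt N1543 (iv D3495)) (tt N1556 F12194) (tt N2051 D4494) (tt N1547 F12195) (tt N1552 F12196) (tt N1621 F12197) (tt N1544 F12198))
theorem Q1789 : ∀ i, i < 1789 → P i := stepQ 1788 Q1788 (allL N1788 (tt N1576 F12199) (tt N2051 (iv F15494)) (tt N1555 F12200) (tt N1543 (iv D3496)) (tt N2052 D4495) (tt N1553 F12201) (tt N1622 F12202) (tt N1545 F12203))
theorem Q1790 : ∀ i, i < 1790 → P i := stepQ 1789 Q1789 (allL N1789 (tt N1544 (iv D3497)) (tt N1950 (iv F15112)) (tt N1558 F12204) (tt N2053 D4496) (tt N1549 F12205) (tt N2047 (iv F15476)) (tt N1789 F12206) (tt N2050 (iv F15493)))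
theorem Q1791 : ∀ i, i < 1791 → P i := stepQ 1790 Q1790 (allL N1790 (tt N2053 (iv F15503)) (tt N1545 F12207) (tt N2054 D4497) (tt N1544 (iv D3498)) (tt N2055 D4498) (tt N2048 (iv F15480)) (tt N1790 F12208) (tt N2051 (iv F15497)))
theorem Q1792 : ∀ i, i < 1792 → P i := stepQ 1791 Q1791 (allL N1791 (tt N1952 (iv F15122)) (tt N2055 (iv F15506)) (tt N2046 (iv F15469)) (tt N1551 F12209) (tt N1545 (iv D3499)) (tt N2056 D4499) (tt N1791 F12210) (tt N2052 (iv F15502)))
theorem Q1793 : ∀ i, i < 1793 → P i := stepQ 1792 Q1792 (allL N1792 (tt N2057 D4500) (tt N1546 (iv D3500)) (tt N1649 F12211) (tt N2058 D4501) (tt N1621 F12212) (tt N1792 F12213) (tt N1547 F12214) (tt N1792 F12215))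
theorem Q1794 : ∀ i, i < 1794 → P i := stepQ 1793 Q1793 (allL N1793 (tt N1630 F12216) (tt N2058 (iv F15517)) (tt N1642 F12217) (tt N1546 (iv D3501)) (tt N2059 D4502) (tt N1793 F12218) (tt N1548 F12219) (tt N1793 F12220))
theorem Q1795 : ∀ i, i < 1795 → P i := stepQ 1794 Q1794 (allL N1794 (tt N1547 (iv D3502)) (tt N1953 (iv F15127)) (tt N1561 F12221) (tt N2060 D4503) (tt N2050 (iv F15490)) (tt N1794 F12222) (tt N2057 (iv F15515)) (tt N1549 F12223))
theorem Q1796 : ∀ i, i < 1796 → P i := stepQ 1795 Q1795 (allL N1795 (tt N2060 (iv F15526)) (tt N1548 F12224) (tt N2061 D4504) (tt N1547 (iv D3503)) (tt N2062 D4505) (tt N1795 F12225) (tt N2058 (iv F15519)) (tt N1550 F12226))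
theorem Q1797 : ∀ i, i < 1797 → P i := stepQ 1796 Q1796 (allL N1796 (tt N1955 (iv F15137)) (tt N2062 (iv F15533)) (tt N1796 F12227) (tt N2052 (iv F15500)) (tt N1548 (iv D3504)) (tt N2063 D4506) (tt N2059 (iv F15524)) (tt N1551 F12228))
theorem Q1798 : ∀ i, i < 1798 → P i := stepQ 1797 Q1797 (allL N1797 (tt N1550 F12229) (tt N1956 (iv F15143)) (tt N2064 D4507) (tt N1549 (iv D3505)) (tt N2065 D4508) (tt N1797 F12230) (tt N1797 F12231) (tt N2060 (iv F15528)))
theorem Q1799 : ∀ i, i < 1799 → P i := stepQ 1798 Q1798 (allL N1798 (tt N2064 (iv F15538)) (tt N1798 F12232) (tt N1550 (iv D3506)) (tt N1565 F12233) (tt N2066 D4509) (tt N1798 F12234) (tt N2040 (iv F56924)) (tt N2061 (iv F15532)))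
theorem Q1800 : ∀ i, i < 1800 → P i := stepQ 1799 Q1799 (allL N1799 (tt N2065 (iv F15541)) (tt N1551 F12235) (tt N2066 (iv F15544)) (tt N2055 (iv F15507)) (tt N1550 (iv D3507)) (tt N2067 D4511) (tt N1799 F12236) (tt N2062 (iv F15534)))
theorem Q1801 : ∀ i, i < 1801 → P i := stepQ 1800 Q1800 (allL N1800 (tt N1959 (iv F15151)) (tt N2067 (iv F15549)) (tt N1800 F12237) (tt N2056 (iv F15509)) (tt N1800 F12238) (tt N1551 (iv D3508)) (tt N1800 F12239) (tt N2063 (iv F15537)))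
theorem Q1802 : ∀ i, i < 1802 → P i := stepQ 1801 Q1801 (allL N1801 (tt N1552 (iv D3509)) (tt N1579 F12240) (tt N2044 (iv F15459)) (tt N2068 D4512) (tt N1801 F12241) (tt N2050 (iv F15491)) (tt N1623 F12242) (tt N2047 (iv F15478)))
theorem Q1803 : ∀ i, i < 1803 → P i := stepQ 1802 Q1802 (allL N1802 (tt N2068 (iv F15552)) (tt N1553 F12243) (tt N2069 D4513) (tt N1552 (iv D3510)) (tt N2070 D4514) (tt N2051 (iv F15495)) (tt N1624 F12244) (tt N2048 (iv F15482)))
theorem Q1804 : ∀ i, i < 1804 → P i := stepQ 1803 Q1803 (allL N1803 (tt N1581 F12245) (tt N2070 (iv F15556)) (tt N1560 F12246) (tt N1803 F12247) (tt N1553 (iv D3511)) (tt N1638 F56217) (tt N1625 F12248) (tt N2049 (iv F15487)))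
theorem Q1805 : ∀ i, i < 1805 → P i := stepQ 1804 Q1804 (allL N1804 (tt N1554 (iv D3512)) (tt N1584 F12249) (tt N2047 (iv F15474)) (tt N2071 D4516) (tt N1804 F12250) (tt N1558 F12251) (tt N1567 F12252) (tt N2044 (iv F15463)))
theorem Q1806 : ∀ i, i < 1806 → P i := stepQ 1805 Q1805 (allL N1805 (tt N2071 (iv F15563)) (tt N1555 F12253) (tt N2072 D4517) (tt N1554 (iv D3513)) (tt N2073 D4518) (tt N1559 F12254) (tt N1568 F12255) (tt N2045 (iv F15467)))
theorem Q1807 : ∀ i, i < 1807 → P i := stepQ 1806 Q1806 (allL N1806 (tt N1586 F12256) (tt N2073 (iv F15568)) (tt N2052 (iv F15499)) (tt N1806 F12257) (tt N1555 (iv D3514)) (tt N1640 F56215) (tt N1569 F12258) (tt N2046 (iv F15472)))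
theorem Q1808 : ∀ i, i < 1808 → P i := stepQ 1807 Q1807 (allL N1807 (tt N1556 (iv D3515)) (tt N1587 F12259) (tt N2050 (iv F15489)) (tt N2074 D4520) (tt N1561 F12260) (tt N2044 (iv F15461)) (tt N1656 F12261) (tt N1558 F12262))
theorem Q1809 : ∀ i, i < 1809 → P i := stepQ 1808 Q1808 (allL N1808 (tt N2074 (iv F15575)) (tt N1557 F12263) (tt N2075 D4521) (tt N1556 (iv D3516)) (tt N2076 D4522) (tt N2045 (iv F15465)) (tt N1657 F12264) (tt N1559 F12265))
theorem Q1810 : ∀ i, i < 1810 → P i := stepQ 1809 Q1809 (allL N1809 (tt N1589 F12266) (tt N2076 (iv F15580)) (tt N2049 (iv F15484)) (tt N1563 F12267) (tt N1557 (iv D3517)) (tt N1641 (iv F56347)) (tt N1658 F12268) (tt N1560 F12269))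
theorem Q1811 : ∀ i, i < 1811 → P i := stepQ 1810 Q1810 (allL N1810 (tt N1559 F12270) (tt N1590 F12271) (tt N2077 D4524) (tt N1558 (iv D3518)) (tt N2078 D4525) (tt N2071 (iv F15565)) (tt N1570 F12272) (tt N2074 (iv F15578)))
theorem Q1812 : ∀ i, i < 1812 → P i := stepQ 1811 Q1811 (allL N1811 (tt N2077 (iv F15588)) (tt N2069 (iv F15555)) (tt N1559 (iv D3519)) (tt N2054 (iv F15505)) (tt N2079 D4526) (tt N2072 (iv F15567)) (tt N2080 D4527) (tt N2075 (iv F15579)))
theorem Q1813 : ∀ i, i < 1813 → P i := stepQ 1812 Q1812 (allL N1812 (tt N2078 (iv F15589)) (tt N1560 F12273) (tt N2079 (iv F15593)) (tt N1566 F12274) (tt N1559 (iv D3520)) (tt N1607 (iv F56344)) (tt N1572 F12275) (tt N2076 (iv F15583)))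
theorem Q1814 : ∀ i, i < 1814 → P i := stepQ 1813 Q1813 (allL N1813 (tt N1562 F12279) (tt N1594 F12280) (tt N2081 D4529) (tt N1561 (iv D3522)) (tt N2082 D4530) (tt N1813 F12281) (tt N1662 F12282) (tt N1564 F12283))
theorem Q1815 : ∀ i, i < 1815 → P i := stepQ 1814 Q1814 (allL N1814 (tt N2081 (iv F15598)) (tt N1814 F12284) (tt N1562 (iv D3523)) (tt N2061 (iv F15530)) (tt N2041 F56761) (tt N1814 F12285) (tt N1814 F56322) (tt N1565 F12286))
theorem Q1816 : ∀ i, i < 1816 → P i := stepQ 1815 Q1815 (allL N1815 (tt N2082 (iv F15601)) (tt N1563 F12287) (tt N2041 (iv F56658)) (tt N2076 (iv F15581)) (tt N1562 (iv D3524)) (tt N1611 F56505) (tt N1663 F12288) (tt N1566 F12289))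
theorem Q1817 : ∀ i, i < 1817 → P i := stepQ 1816 Q1816 (allL N1816 (tt N1565 F12295) (tt N2083 D4534) (tt N1564 (iv D3526)) (tt N2064 (iv F15539)) (tt N2039 F56765) (tt N1816 F12296) (tt N2038 (iv F56791)) (tt N2081 (iv F15600)))
theorem Q1818 : ∀ i, i < 1818 → P i := stepQ 1817 Q1817 (allL N1817 (tt N1566 F12297) (tt N1599 F12298) (tt N2039 (iv F56656)) (tt N2078 (iv F15591)) (tt N1564 (iv D3527)) (tt N1610 F56503) (tt N1574 F12299) (tt N2082 (iv F15604)))
theorem Q1819 : ∀ i, i < 1819 → P i := stepQ 1818 Q1818 (allL N1818 (tt N1568 F12308) (tt N1602 F12309) (tt N2084 D4542) (tt N1567 (iv D3531)) (tt N2085 D4543) (tt N1570 F12310) (tt N2071 (iv F15566)) (tt N1665 F12311))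
theorem Q1820 : ∀ i, i < 1820 → P i := stepQ 1819 Q1819 (allL N1819 (tt N2084 (iv F15637)) (tt N1603 F56299) (tt N1568 (iv D3532)) (tt N1819 F12313) (tt N1608 (iv F56342)) (tt N1571 F12314) (tt N2086 D4545) (tt N1666 F12315))
theorem Q1821 : ∀ i, i < 1821 → P i := stepQ 1820 Q1820 (allL N1820 (tt N2085 (iv F15641)) (tt N1569 F12316) (tt N1608 (iv F56341)) (tt N1820 F12317) (tt N1568 (iv D3533)) (tt N1606 F56214) (tt N2073 (iv F15570)) (tt N1667 F12318))
theorem Q1822 : ∀ i, i < 1822 → P i := stepQ 1821 Q1821 (allL N1821 (tt N1571 F12324) (tt N2085 F56519) (tt N1570 (iv D3535)) (tt N1821 F12325) (tt N1602 F56520) (tt N2084 (iv F15639)) (tt N2087 D4549) (tt N1668 F12326))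
theorem Q1823 : ∀ i, i < 1823 → P i := stepQ 1822 Q1822 (allL N1822 (tt N1572 F12327) (tt N1605 F12328) (tt N1602 (iv F56353)) (tt N1574 F12329) (tt N1570 (iv D3536)) (tt N1604 (iv F56343)) (tt N2078 (iv F15592)) (tt N1669 F12330))
theorem Q1824 : ∀ i, i < 1824 → P i := stepQ 1823 Q1823 (allL N1823 (tt N2087 (iv F15662)) (tt N1586 F56522) (tt N2080 (iv F15594)) (tt N1823 F12335) (tt N1585 F56523) (tt N2086 (iv F15650)) (tt N1571 (iv D3538)) (tt N2088 D4554))
theorem Q1825 : ∀ i, i < 1825 → P i := stepQ 1824 Q1824 (allL N1824 (tt N1575 (iv D3551)) (tt N2050 (iv F15488)) (tt N1966 (iv F15186)) (tt N2089 D4568) (tt N1953 (iv F15129)) (tt N1579 F12379) (tt N1631 F12380) (tt N1950 (iv F15117)))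
theorem Q1826 : ∀ i, i < 1826 → P i := stepQ 1825 Q1825 (allL N1825 (tt N2089 (iv F15730)) (tt N1576 F12381) (tt N2090 D4569) (tt N1575 (iv D3552)) (tt N2091 D4570) (tt N1580 F12382) (tt N1632 F12383) (tt N1951 (iv F15121)))
theorem Q1827 : ∀ i, i < 1827 → P i := stepQ 1826 Q1826 (allL N1826 (tt N2052 (iv F15498)) (tt N2091 (iv F15735)) (tt N1586 F12384) (tt N1955 (iv F15139)) (tt N1576 (iv D3553)) (tt N2092 D4571) (tt N1628 F56243) (tt N1952 (iv F15126)))
theorem Q1828 : ∀ i, i < 1828 → P i := stepQ 1827 Q1827 (allL N1827 (tt N1577 (iv D3554)) (tt N2047 (iv F15473)) (tt N1963 (iv F15171)) (tt N2093 D4572) (tt N1827 F12386) (tt N1950 (iv F15115)) (tt N1827 F12387) (tt N1579 F12388))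
theorem Q1829 : ∀ i, i < 1829 → P i := stepQ 1828 Q1828 (allL N1828 (tt N2093 (iv F15740)) (tt N1578 F12389) (tt N2094 D4573) (tt N1577 (iv D3555)) (tt N2095 D4574) (tt N1951 (iv F15119)) (tt N1828 F12390) (tt N1580 F12391))
theorem Q1830 : ∀ i, i < 1830 → P i := stepQ 1829 Q1829 (allL N1829 (tt N2049 (iv F15483)) (tt N2095 (iv F15745)) (tt N1589 F12392) (tt N1829 F12393) (tt N1578 (iv D3556)) (tt N2096 D4575) (tt N1829 F12394) (tt N1581 F12395))
theorem Q1831 : ∀ i, i < 1831 → P i := stepQ 1830 Q1830 (allL N1830 (tt N1580 F12396) (tt N2068 (iv F15553)) (tt N2097 D4576) (tt N1579 (iv D3557)) (tt N2098 D4577) (tt N2089 (iv F15731)) (tt N1633 F12397) (tt N2093 (iv F15742)))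
theorem Q1832 : ∀ i, i < 1832 → P i := stepQ 1831 Q1831 (allL N1831 (tt N2097 (iv F15753)) (tt N1591 F12398) (tt N1580 (iv D3558)) (tt N1999 (iv F15312)) (tt N2099 D4578) (tt N2090 (iv F15734)) (tt N2100 D4579) (tt N2094 (iv F15744)))
theorem Q1833 : ∀ i, i < 1833 → P i := stepQ 1832 Q1832 (allL N1832 (tt N2098 (iv F15754)) (tt N1581 F12399) (tt N2099 (iv F15758)) (tt N1832 F12400) (tt N1580 (iv D3559)) (tt N2101 D4580) (tt N1635 F12401) (tt N2095 (iv F15748)))
theorem Q1834 : ∀ i, i < 1834 → P i := stepQ 1833 Q1833 (allL N1833 (tt N1638 F56231) (tt N2101 (iv F15761)) (tt N1593 F12402) (tt N1833 F12403) (tt N2092 (iv F15738)) (tt N1581 (iv D3560)) (tt N1636 F12404) (tt N2096 (iv F15752)))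
theorem Q1835 : ∀ i, i < 1835 → P i := stepQ 1834 Q1834 (allL N1834 (tt N1582 (iv D3561)) (tt N2044 (iv F15458)) (tt N1960 (iv F15156)) (tt N2102 D4581) (tt N1834 F12405) (tt N1587 F12406) (tt N1671 F12407) (tt N1584 F12408))
theorem Q1836 : ∀ i, i < 1836 → P i := stepQ 1835 Q1835 (allL N1835 (tt N2102 (iv F15764)) (tt N1583 F12409) (tt N2103 D4582) (tt N1582 (iv D3562)) (tt N2088 (iv F56679)) (tt N1588 F12410) (tt N1672 F12411) (tt N1585 F12412))
theorem Q1837 : ∀ i, i < 1837 → P i := stepQ 1836 Q1836 (allL N1836 (tt N2046 (iv F15468)) (tt N2088 (iv F56678)) (tt N1952 (iv F15123)) (tt N1836 F12413) (tt N1583 (iv D3563)) (tt N2104 D4584) (tt N1673 F12414) (tt N1586 F12415))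
theorem Q1838 : ∀ i, i < 1838 → P i := stepQ 1837 Q1837 (allL N1837 (tt N1585 F12416) (tt N2071 (iv F15564)) (tt N2105 D4585) (tt N1584 (iv D3564)) (tt N2087 (iv F56673)) (tt N1590 F12417) (tt N1602 F12418) (tt N2102 (iv F15767)))
theorem Q1839 : ∀ i, i < 1839 → P i := stepQ 1838 Q1838 (allL N1838 (tt N2105 (iv F15778)) (tt N2090 (iv F15733)) (tt N1585 (iv D3565)) (tt N2003 (iv F15322)) (tt N2080 (iv F56677)) (tt N1591 F12419) (tt N2079 F56521) (tt N2103 (iv F15769)))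
theorem Q1840 : ∀ i, i < 1840 → P i := stepQ 1839 Q1839 (allL N1839 (tt N1640 (iv F56074)) (tt N2086 (iv F56452)) (tt N2092 (iv F15737)) (tt N1839 F12423) (tt N1593 F12424) (tt N1586 (iv D3567)) (tt N1603 F12425) (tt N2104 (iv F15777)))
theorem Q1841 : ∀ i, i < 1841 → P i := stepQ 1840 Q1840 (allL N1840 (tt N1588 F12426) (tt N2074 (iv F15576)) (tt N2106 D4590) (tt N1587 (iv D3568)) (tt N2107 D4591) (tt N2102 (iv F15765)) (tt N1677 F12427) (tt N1590 F12428))
theorem Q1842 : ∀ i, i < 1842 → P i := stepQ 1841 Q1841 (allL N1841 (tt N2106 (iv F15790)) (tt N2094 (iv F15743)) (tt N1588 (iv D3569)) (tt N2007 (iv F15333)) (tt N2108 D4592) (tt N2103 (iv F15768)) (tt N2109 D4593) (tt N1591 F12429))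
theorem Q1843 : ∀ i, i < 1843 → P i := stepQ 1842 Q1842 (allL N1842 (tt N2107 (iv F15792)) (tt N1589 F12430) (tt N2108 (iv F15796)) (tt N1596 F12431) (tt N1588 (iv D3570)) (tt N2110 D4594) (tt N1679 F12432) (tt N1592 F12433))
theorem Q1844 : ∀ i, i < 1844 → P i := stepQ 1843 Q1843 (allL N1843 (tt N1641 (iv F56346)) (tt N2110 (iv F15799)) (tt N2096 (iv F15749)) (tt N1597 F12434) (tt N2104 (iv F15775)) (tt N1589 (iv D3571)) (tt N1680 F12435) (tt N1593 F12436))
theorem Q1845 : ∀ i, i < 1845 → P i := stepQ 1844 Q1844 (allL N1844 (tt N1591 F12437) (tt N2111 D4595) (tt N1590 (iv D3572)) (tt N2010 (iv F15343)) (tt N2112 D4596) (tt N2105 (iv F15779)) (tt N2113 D4597) (tt N2106 (iv F15791)))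
theorem Q1846 : ∀ i, i < 1846 → P i := stepQ 1845 Q1845 (allL N1845 (tt N1592 F12438) (tt N2078 (iv F15590)) (tt N2112 (iv F15804)) (tt N1599 F12439) (tt N1590 (iv D3573)) (tt N2114 D4598) (tt N1605 F12440) (tt N2107 (iv F15795)))
theorem Q1847 : ∀ i, i < 1847 → P i := stepQ 1846 Q1846 (allL N1846 (tt N2112 (iv F15803)) (tt N2099 (iv F15757)) (tt N1592 F12441) (tt N2115 D4599) (tt N1591 (iv D3574)) (tt N2116 D4600) (tt N2117 D4601) (tt N2108 (iv F15797)))
theorem Q1848 : ∀ i, i < 1848 → P i := stepQ 1847 Q1847 (allL N1847 (tt N2113 (iv F15805)) (tt N2100 (iv F15759)) (tt N1607 F12442) (tt N2013 (iv F15349)) (tt N2117 (iv F15813)) (tt N2079 F56510) (tt N1591 (iv D3575)) (tt N2118 D4602))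
theorem Q1849 : ∀ i, i < 1849 → P i := stepQ 1848 Q1848 (allL N1848 (tt N2114 (iv F15807)) (tt N1593 F12443) (tt N2116 (iv F15811)) (tt N1601 F12444) (tt N2086 F56506) (tt N1592 (iv D3576)) (tt N1608 F12445) (tt N2110 (iv F15802)))
theorem Q1850 : ∀ i, i < 1850 → P i := stepQ 1849 Q1849 (allL N1849 (tt N1595 F12446) (tt N2119 D4603) (tt N1594 (iv D3577)) (tt N2015 (iv F15354)) (tt N2120 D4604) (tt N1849 F12447) (tt N2121 D4605) (tt N1598 F12448))
theorem Q1851 : ∀ i, i < 1851 → P i := stepQ 1850 Q1850 (allL N1850 (tt N1596 F12449) (tt N2082 (iv F15602)) (tt N2120 (iv F15819)) (tt N2107 (iv F15793)) (tt N1594 (iv D3578)) (tt N2122 D4606) (tt N1687 F12450) (tt N1599 F12451))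
theorem Q1852 : ∀ i, i < 1852 → P i := stepQ 1851 Q1851 (allL N1851 (tt N2120 (iv F15818)) (tt N1851 F12452) (tt N1596 F12453) (tt N2123 D4607) (tt N1595 (iv D3579)) (tt N2124 D4608) (tt N2125 D4609) (tt N1600 F12454))
theorem Q1853 : ∀ i, i < 1853 → P i := stepQ 1852 Q1852 (allL N1852 (tt N2121 (iv F15821)) (tt N1852 F12455) (tt N1689 F12456) (tt N2018 (iv F15365)) (tt N2125 (iv F15837)) (tt N1852 F12457) (tt N1595 (iv D3580)) (tt N1852 F12458))
theorem Q1854 : ∀ i, i < 1854 → P i := stepQ 1853 Q1853 (allL N1853 (tt N2122 (iv F15825)) (tt N1597 F12459) (tt N2124 (iv F15832)) (tt N2110 (iv F15800)) (tt N1853 F12460) (tt N1596 (iv D3581)) (tt N1690 F12461) (tt N1601 F12462))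
theorem Q1855 : ∀ i, i < 1855 → P i := stepQ 1854 Q1854 (allL N1854 (tt N1854 F12463) (tt N1598 (iv D3582)) (tt N2083 (iv F15616)) (tt N2020 (iv F15373)) (tt N2126 D4610) (tt N1854 F12464) (tt N1854 F12465) (tt N2119 (iv F15817)))
theorem Q1856 : ∀ i, i < 1856 → P i := stepQ 1855 Q1855 (allL N1855 (tt N1600 F12466) (tt N2126 (iv F15840)) (tt N1599 F12467) (tt N2127 D4611) (tt N1598 (iv D3583)) (tt N2128 D4612) (tt N1855 F12468) (tt N2120 (iv F15820)))
theorem Q1857 : ∀ i, i < 1857 → P i := stepQ 1856 Q1856 (allL N1856 (tt N1601 F12469) (tt N1610 F56553) (tt N2128 (iv F15845)) (tt N2114 (iv F15808)) (tt N1856 F12470) (tt N1599 (iv D3584)) (tt N1609 F12471) (tt N2122 (iv F15828)))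
theorem Q1858 : ∀ i, i < 1858 → P i := stepQ 1857 Q1857 (allL N1857 (tt N2127 (iv F15842)) (tt N1857 F12472) (tt N2115 (iv F15810)) (tt N1600 (iv D3585)) (tt N2023 (iv F15383)) (tt N2129 D4613) (tt N1857 F12473) (tt N2123 (iv F15830)))
theorem Q1859 : ∀ i, i < 1859 → P i := stepQ 1858 Q1858 (allL N1858 (tt N2128 (iv F15844)) (tt N1858 F12474) (tt N1601 F12475) (tt N2129 (iv F15849)) (tt N1858 F12476) (tt N1600 (iv D3586)) (tt N1858 F12477) (tt N2124 (iv F15834)))
theorem Q1860 : ∀ i, i < 1860 → P i := stepQ 1859 Q1859 (allL N1859 (tt N1608 F56230) (tt N1604 (iv D3592)) (tt N2085 F56384) (tt N1609 (iv F56382)) (tt N2084 F56385) (tt N1605 (iv F56350)) (tt N2114 (iv F56386)) (tt N1695 F12497))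
theorem Q1861 : ∀ i, i < 1861 → P i := stepQ 1860 Q1860 (allL N1860 (tt N1606 F12498) (tt N2084 F56312) (tt N1605 F12499) (tt N1860 F12500) (tt N1604 (iv D3593)) (tt N2085 (iv F56359)) (tt N2130 D4625) (tt N1696 F12501))
theorem Q1862 : ∀ i, i < 1862 → P i := stepQ 1861 Q1861 (allL N1861 (tt N1607 F12502) (tt N2114 F56507) (tt N2113 (iv F15806)) (tt N1610 F12503) (tt N2130 (iv F15892)) (tt N2078 F56508) (tt N1604 (iv D3594)) (tt N2131 D4626))
theorem Q1863 : ∀ i, i < 1863 → P i := stepQ 1862 Q1862 (allL N1862 (tt N2130 (iv F15890)) (tt N1640 F12511) (tt N2117 (iv F15812)) (tt N1862 F12512) (tt N1607 F12513) (tt N2073 (iv F56360)) (tt N1606 (iv D3597)) (tt N2132 D4628))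
theorem Q1864 : ∀ i, i < 1864 → P i := stepQ 1863 Q1863 (allL N1863 (tt N2131 (iv F15893)) (tt N1641 F12514) (tt N2118 (iv F15814)) (tt N1611 F12515) (tt N2132 (iv F15901)) (tt N2076 F56511) (tt N1699 F12516) (tt N1607 (iv D3598)))
theorem Q1865 : ∀ i, i < 1865 → P i := stepQ 1864 Q1864 (allL N1864 (tt N1611 F12540) (tt N2122 (iv F56716)) (tt N2043 (iv F15455)) (tt N2131 (iv F15894)) (tt N1864 F12541) (tt N2082 (iv F56657)) (tt N1700 F12542) (tt N1610 (iv D3606)))
theorem Q1866 : ∀ i, i < 1866 → P i := stepQ 1865 Q1865 (allL N1865 (tt N2133 D4638) (tt N1612 (iv D3607)) (tt N1651 F12543) (tt N2134 D4639) (tt N1865 F12544) (tt N1645 F12545) (tt N1614 F12546) (tt N1643 F12547))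
theorem Q1867 : ∀ i, i < 1867 → P i := stepQ 1866 Q1866 (allL N1866 (tt N1866 F12548) (tt N2134 (iv F15941)) (tt N1866 F12549) (tt N1612 (iv D3608)) (tt N2135 D4640) (tt N1646 F12550) (tt N1615 F12551) (tt N1644 F12552))
theorem Q1868 : ∀ i, i < 1868 → P i := stepQ 1867 Q1867 (allL N1867 (tt N2136 D4641) (tt N1613 (iv D3609)) (tt N1621 F12553) (tt N2137 D4642) (tt N1649 F12554) (tt N1614 F12555) (tt N1645 F12556) (tt N1867 F12557))
theorem Q1869 : ∀ i, i < 1869 → P i := stepQ 1868 Q1868 (allL N1868 (tt N1868 F12558) (tt N2137 (iv F15956)) (tt N1617 F12559) (tt N1613 (iv D3610)) (tt N1868 F56316) (tt N1615 F12560) (tt N1646 F12561) (tt N1868 F12562))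
theorem Q1870 : ∀ i, i < 1870 → P i := stepQ 1869 Q1869 (allL N1869 (tt N1614 (iv D3611)) (tt N1869 F12563) (tt N1623 F12564) (tt N2138 D4644) (tt N1869 F12565) (tt N2136 (iv F15953)) (tt N2133 (iv F15939)) (tt N1869 F12566))
theorem Q1871 : ∀ i, i < 1871 → P i := stepQ 1870 Q1870 (allL N1870 (tt N2138 (iv F15965)) (tt N1615 F12567) (tt N2139 D4645) (tt N1614 (iv D3612)) (tt N2140 D4646) (tt N2137 (iv F15957)) (tt N2134 (iv F15943)) (tt N1870 F12568))
theorem Q1872 : ∀ i, i < 1872 → P i := stepQ 1871 Q1871 (allL N1871 (tt N1871 F12569) (tt N2140 (iv F15971)) (tt N1620 F12570) (tt N1871 F12571) (tt N1615 (iv D3613)) (tt N1871 F56269) (tt N2135 (iv F15948)) (tt N1871 F12572))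
theorem Q1873 : ∀ i, i < 1873 → P i := stepQ 1872 Q1872 (allL N1872 (tt N1639 F55958) (tt N1617 F12579) (tt N2141 D4649) (tt N1616 (iv D3615)) (tt N1872 F56030) (tt N1619 F12580) (tt N1872 F12581) (tt N1872 F12582))
theorem Q1874 : ∀ i, i < 1874 → P i := stepQ 1873 Q1873 (allL N1873 (tt N1619 F12587) (tt N1873 F12588) (tt N2059 (iv F55814)) (tt N1618 (iv D3617)) (tt N1642 (iv F55815)) (tt N1639 (iv F55816)) (tt N1873 F12589) (tt N1873 F12590))
theorem Q1875 : ∀ i, i < 1875 → P i := stepQ 1874 Q1874 (allL N1874 (tt N2059 F55957) (tt N2139 (iv F15968)) (tt N1619 (iv D3618)) (tt N1628 F12591) (tt N1630 (iv F55983)) (tt N2141 (iv F15984)) (tt N1955 (iv F56097)) (tt N1874 F12592))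
theorem Q1876 : ∀ i, i < 1876 → P i := stepQ 1875 Q1875 (allL N1875 (tt N1621 (iv D3626)) (tt N1631 F12620) (tt N2136 (iv F15951)) (tt N2142 D4665) (tt N2057 (iv F15513)) (tt N1623 F12621) (tt N2050 (iv F15492)) (tt N1875 F12622))
theorem Q1877 : ∀ i, i < 1877 → P i := stepQ 1876 Q1876 (allL N1876 (tt N2142 (iv F16043)) (tt N1622 F12623) (tt N2143 D4666) (tt N1621 (iv D3627)) (tt N2144 D4667) (tt N1624 F12624) (tt N2051 (iv F15496)) (tt N1876 F12625))
theorem Q1878 : ∀ i, i < 1878 → P i := stepQ 1877 Q1877 (allL N1877 (tt N1628 (iv F56087)) (tt N2144 (iv F16050)) (tt N1627 F12627) (tt N2059 (iv F15523)) (tt N1622 (iv D3628)) (tt N1637 (iv F56076)) (tt N2052 (iv F15501)) (tt N1877 F12628))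
theorem Q1879 : ∀ i, i < 1879 → P i := stepQ 1878 Q1878 (allL N1878 (tt N1624 F12629) (tt N1633 F12630) (tt N2145 D4669) (tt N1623 (iv D3629)) (tt N2146 D4670) (tt N2142 (iv F16045)) (tt N2068 (iv F15554)) (tt N1878 F12631))
theorem Q1880 : ∀ i, i < 1880 → P i := stepQ 1879 Q1879 (allL N1879 (tt N2145 (iv F16056)) (tt N1628 F12632) (tt N1624 (iv D3630)) (tt N2139 (iv F15969)) (tt N1632 F56242) (tt N2143 (iv F16048)) (tt N2091 (iv F56400)) (tt N1879 F12633))
theorem Q1881 : ∀ i, i < 1881 → P i := stepQ 1880 Q1880 (allL N1880 (tt N2146 (iv F16058)) (tt N1625 F12634) (tt N1632 F56218) (tt N1880 F12635) (tt N1624 (iv D3631)) (tt N1634 F56219) (tt N2070 (iv F15558)) (tt N1880 F12636))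
theorem Q1882 : ∀ i, i < 1882 → P i := stepQ 1881 Q1881 (allL N1881 (tt N1637 F56233) (tt N2143 (iv F16047)) (tt N1626 (iv D3634)) (tt N2141 (iv F15983)) (tt N1636 F56234) (tt N1628 F12646) (tt N2092 (iv F56391)) (tt N1881 F12647))
theorem Q1883 : ∀ i, i < 1883 → P i := stepQ 1882 Q1882 (allL N1882 (tt N1629 (iv D3676)) (tt N2057 (iv F15511)) (tt N1882 F12783) (tt N2147 D4729) (tt N1631 F12784) (tt N1882 F12785) (tt N1953 (iv F15131)) (tt N1882 F12786))
theorem Q1884 : ∀ i, i < 1884 → P i := stepQ 1883 Q1883 (allL N1883 (tt N2147 (iv F16239)) (tt N1630 F12787) (tt N2140 (iv F56276)) (tt N1629 (iv D3677)) (tt N2139 F56128) (tt N1883 F12788) (tt N1954 (iv F15135)) (tt N1883 F12789))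
theorem Q1885 : ∀ i, i < 1885 → P i := stepQ 1884 Q1884 (allL N1884 (tt N1632 F12793) (tt N2142 (iv F16044)) (tt N2146 (iv F56369)) (tt N1631 (iv D3679)) (tt N2145 (iv F56398)) (tt N1633 F12794) (tt N2089 (iv F15732)) (tt N1884 F12795))
theorem Q1886 : ∀ i, i < 1886 → P i := stepQ 1885 Q1885 (allL N1885 (tt N1634 F12805) (tt N2148 D4738) (tt N1633 (iv D3683)) (tt N1885 F12806) (tt N2149 D4739) (tt N2146 (iv F56370)) (tt N2150 D4740) (tt N1885 F12807))
theorem Q1887 : ∀ i, i < 1887 → P i := stepQ 1886 Q1886 (allL N1886 (tt N1635 F12808) (tt N2146 (iv F16059)) (tt N2149 (iv F16272)) (tt N1886 F12809) (tt N1633 (iv D3684)) (tt N2148 F56526) (tt N2098 (iv F15756)) (tt N1886 F12810))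
theorem Q1888 : ∀ i, i < 1888 → P i := stepQ 1887 Q1887 (allL N1887 (tt N2149 (iv F16271)) (tt N1637 F12811) (tt N1635 F12812) (tt N2151 D4742) (tt N1634 (iv D3685)) (tt N2144 F56228) (tt N2152 D4744) (tt N1887 F12813))
theorem Q1889 : ∀ i, i < 1889 → P i := stepQ 1888 Q1888 (allL N1888 (tt N2150 (iv F16274)) (tt N1638 F12814) (tt N2100 (iv F15760)) (tt N1888 F12815) (tt N2152 (iv F16287)) (tt N2070 (iv F56367)) (tt N1634 (iv D3686)) (tt N2153 D4745))
theorem Q1890 : ∀ i, i < 1890 → P i := stepQ 1889 Q1889 (allL N1889 (tt N2148 (iv F56388)) (tt N1636 F12816) (tt N2144 F56235) (tt N1889 F12817) (tt N2143 (iv F56390)) (tt N1635 (iv D3687)) (tt N2101 (iv F15763)) (tt N1889 F12818))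
theorem Q1891 : ∀ i, i < 1891 → P i := stepQ 1890 Q1890 (allL N1890 (tt N2141 (iv F56096)) (tt N2151 (iv F16279)) (tt N1639 F12849) (tt N1637 (iv D3697)) (tt N1890 F12850) (tt N2059 F55954) (tt N2063 (iv F56094)) (tt N1890 F12851))
theorem Q1892 : ∀ i, i < 1892 → P i := stepQ 1891 Q1891 (allL N1891 (tt N2092 F56224) (tt N2152 (iv F16286)) (tt N1640 F12854) (tt N2063 F56225) (tt N1638 F12855) (tt N2052 F56226) (tt N1637 (iv D3699)) (tt N2056 (iv F56378)))
theorem Q1893 : ∀ i, i < 1893 → P i := stepQ 1892 Q1892 (allL N1892 (tt N2096 (iv F56387)) (tt N2153 (iv F16288)) (tt N1641 F12856) (tt N1892 F12857) (tt N2056 (iv F56377)) (tt N2049 (iv F56368)) (tt N1892 F12858) (tt N1638 (iv D3700)))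
theorem Q1894 : ∀ i, i < 1894 → P i := stepQ 1893 Q1893 (allL N1893 (tt N2104 F56227) (tt N2132 (iv F15899)) (tt N2056 (iv F56376)) (tt N1893 F12916) (tt N1641 F12917) (tt N2046 (iv F56363)) (tt N1701 F12918) (tt N1640 (iv D3719)))
theorem Q1895 : ∀ i, i < 1895 → P i := stepQ 1894 Q1894 (allL N1894 (tt N1643 (iv D3895)) (tt N1894 F13511) (tt N1653 F13512) (tt N2154 D5010) (tt N1894 F13513) (tt N1647 F13514) (tt N1894 F13515) (tt N2133 (iv F15940)))
theorem Q1896 : ∀ i, i < 1896 → P i := stepQ 1895 Q1895 (allL N1895 (tt N2154 (iv F17165)) (tt N1644 F13516) (tt N2155 D5011) (tt N1643 (iv D3896)) (tt N2156 D5012) (tt N1648 F13517) (tt N1895 F13518) (tt N2134 (iv F15944)))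
theorem Q1897 : ∀ i, i < 1897 → P i := stepQ 1896 Q1896 (allL N1896 (tt N1896 F13519) (tt N2156 (iv F17172)) (tt N1896 F13520) (tt N1896 F13521) (tt N1644 (iv D3897)) (tt N1896 F56589) (tt N1896 F13522) (tt N2135 (iv F15949)))
theorem Q1898 : ∀ i, i < 1898 → P i := stepQ 1897 Q1897 (allL N1897 (tt N1645 (iv D3898)) (tt N1897 F13523) (tt N1656 F13524) (tt N2157 D5014) (tt N1650 F13525) (tt N2133 (iv F15938)) (tt N2136 (iv F15954)) (tt N1647 F13526))
theorem Q1899 : ∀ i, i < 1899 → P i := stepQ 1898 Q1898 (allL N1898 (tt N2157 (iv F17180)) (tt N1646 F13527) (tt N2158 D5015) (tt N1645 (iv D3899)) (tt N1898 F56628) (tt N2134 (iv F15942)) (tt N2137 (iv F15958)) (tt N1648 F13528))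
theorem Q1900 : ∀ i, i < 1900 → P i := stepQ 1899 Q1899 (allL N1899 (tt N1648 F13533) (tt N1899 F13534) (tt N2159 D5018) (tt N1647 (iv D3901)) (tt N1899 F56936) (tt N2154 (iv F17167)) (tt N1899 F13535) (tt N2157 (iv F17182)))
theorem Q1901 : ∀ i, i < 1901 → P i := stepQ 1900 Q1900 (allL N1900 (tt N2159 (iv F17193)) (tt N1900 F13536) (tt N1648 (iv D3902)) (tt N1660 F13537) (tt N1900 F56938) (tt N2155 (iv F17171)) (tt N2160 D5021) (tt N2158 (iv F17185)))
theorem Q1902 : ∀ i, i < 1902 → P i := stepQ 1901 Q1901 (allL N1901 (tt N1649 (iv D3905)) (tt N1901 F13545) (tt N2057 (iv F15512)) (tt N1901 F56317) (tt N2136 (iv F15952)) (tt N1901 F13546) (tt N1650 F13547) (tt N1901 F13548))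
theorem Q1903 : ∀ i, i < 1903 → P i := stepQ 1902 Q1902 (allL N1902 (tt N1651 (iv D3917)) (tt N1671 F13585) (tt N2133 (iv F15936)) (tt N2161 D5040) (tt N1902 F13586) (tt N1656 F13587) (tt N2044 (iv F15462)) (tt N1653 F13588))
theorem Q1904 : ∀ i, i < 1904 → P i := stepQ 1903 Q1903 (allL N1903 (tt N2161 (iv F17263)) (tt N1652 F13589) (tt N2162 D5041) (tt N1651 (iv D3918)) (tt N2163 D5042) (tt N1657 F13590) (tt N2045 (iv F15466)) (tt N1654 F13591))
theorem Q1905 : ∀ i, i < 1905 → P i := stepQ 1904 Q1904 (allL N1904 (tt N1673 F13592) (tt N2163 (iv F17270)) (tt N1904 F13593) (tt N1904 F13594) (tt N1652 (iv D3919)) (tt N1701 F56532) (tt N2046 (iv F15471)) (tt N1655 F13595))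
theorem Q1906 : ∀ i, i < 1906 → P i := stepQ 1905 Q1905 (allL N1905 (tt N1654 F13596) (tt N1674 F13597) (tt N2164 D5044) (tt N1653 (iv D3920)) (tt N2165 D5045) (tt N1659 F13598) (tt N1665 F13599) (tt N2161 (iv F17266)))
theorem Q1907 : ∀ i, i < 1907 → P i := stepQ 1906 Q1906 (allL N1906 (tt N2164 (iv F17278)) (tt N1906 F13600) (tt N1654 (iv D3921)) (tt N2155 (iv F17170)) (tt N2166 D5046) (tt N1660 F13601) (tt N2167 D5047) (tt N2162 (iv F17269)))
theorem Q1908 : ∀ i, i < 1908 → P i := stepQ 1907 Q1907 (allL N1907 (tt N2165 (iv F17280)) (tt N1655 F13602) (tt N2166 (iv F17285)) (tt N1907 F13603) (tt N1654 (iv D3922)) (tt N1698 F56531) (tt N1667 F13604) (tt N2163 (iv F17272)))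
theorem Q1909 : ∀ i, i < 1909 → P i := stepQ 1908 Q1908 (allL N1908 (tt N1657 F13610) (tt N1677 F13611) (tt N2168 D5049) (tt N1656 (iv D3924)) (tt N2169 D5050) (tt N2161 (iv F17265)) (tt N2074 (iv F15577)) (tt N1659 F13612))
theorem Q1910 : ∀ i, i < 1910 → P i := stepQ 1909 Q1909 (allL N1909 (tt N2168 (iv F17293)) (tt N1909 F13613) (tt N1657 (iv D3925)) (tt N2158 (iv F17184)) (tt N2170 D5051) (tt N2162 (iv F17268)) (tt N2171 D5052) (tt N1660 F13614))
theorem Q1911 : ∀ i, i < 1911 → P i := stepQ 1910 Q1910 (allL N1910 (tt N2169 (iv F17295)) (tt N1658 F13615) (tt N2170 (iv F17300)) (tt N1663 F13616) (tt N1657 (iv D3926)) (tt N1699 (iv F56668)) (tt N2076 (iv F15582)) (tt N1661 F13617))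
theorem Q1912 : ∀ i, i < 1912 → P i := stepQ 1911 Q1911 (allL N1911 (tt N1660 F13622) (tt N2172 D5054) (tt N1659 (iv D3928)) (tt N2159 (iv F17194)) (tt N2173 D5055) (tt N2164 (iv F17279)) (tt N2174 D5056) (tt N2168 (iv F17294)))
theorem Q1913 : ∀ i, i < 1913 → P i := stepQ 1912 Q1912 (allL N1912 (tt N1661 F13623) (tt N1682 F13624) (tt N2173 (iv F17309)) (tt N1664 F13625) (tt N1659 (iv D3929)) (tt N1697 (iv F56666)) (tt N1669 F13626) (tt N2169 (iv F17298)))
theorem Q1914 : ∀ i, i < 1914 → P i := stepQ 1913 Q1913 (allL N1913 (tt N2173 (iv F17308)) (tt N1913 F13627) (tt N1661 F13628) (tt N1913 F56701) (tt N1660 (iv D3930)) (tt N1684 (iv F56669)) (tt N1675 (iv F56682)) (tt N2170 (iv F17301)))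
theorem Q1915 : ∀ i, i < 1915 → P i := stepQ 1914 Q1914 (allL N1914 (tt N2174 (iv F17310)) (tt N1914 F13629) (tt N1670 F13630) (tt N2160 (iv F17203)) (tt N1675 F56827) (tt N2167 (iv F17288)) (tt N1660 (iv D3931)) (tt N2175 D5061))
theorem Q1916 : ∀ i, i < 1916 → P i := stepQ 1915 Q1915 (allL N1915 (tt N1663 F13637) (tt N1687 F13638) (tt N1915 F56944) (tt N2169 (iv F17297)) (tt N1662 (iv D3934)) (tt N1700 F56801) (tt N2082 (iv F15603)) (tt N1664 F13639))
theorem Q1917 : ∀ i, i < 1917 → P i := stepQ 1916 Q1916 (allL N1916 (tt N1666 F13670) (tt N1696 (iv F56468)) (tt N1665 (iv D3946)) (tt N1916 F13671) (tt N1695 (iv F56469)) (tt N1668 F13672) (tt N2176 D5082) (tt N2084 (iv F15640)))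
theorem Q1918 : ∀ i, i < 1918 → P i := stepQ 1917 Q1917 (allL N1917 (tt N1667 F13673) (tt N1668 (iv F56675)) (tt N1695 F56533) (tt N1917 F13675) (tt N1665 (iv D3947)) (tt N1696 F56528) (tt N2165 (iv F17283)) (tt N2085 (iv F15644)))
theorem Q1919 : ∀ i, i < 1919 → P i := stepQ 1918 Q1918 (allL N1918 (tt N2176 (iv F17383)) (tt N1676 F56538) (tt N2167 (iv F17287)) (tt N1918 F13679) (tt N1685 F56539) (tt N1670 F13680) (tt N1666 (iv D3949)) (tt N2177 D5087))
theorem Q1920 : ∀ i, i < 1920 → P i := stepQ 1919 Q1919 (allL N1919 (tt N1670 F13689) (tt N2165 F56818) (tt N2174 (iv F17311)) (tt N1919 F13690) (tt N1674 F56819) (tt N2176 (iv F17385)) (tt N1668 (iv D3953)) (tt N2178 D5093))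
theorem Q1921 : ∀ i, i < 1921 → P i := stepQ 1920 Q1920 (allL N1920 (tt N2178 (iv F17414)) (tt N1673 F56825) (tt N2175 (iv F17324)) (tt N1920 F13702) (tt N1672 F56826) (tt N2177 (iv F17400)) (tt N2088 (iv F15679)) (tt N1670 (iv D3958)))
theorem Q1922 : ∀ i, i < 1922 → P i := stepQ 1921 Q1921 (allL N1921 (tt N1672 F13745) (tt N2161 (iv F17264)) (tt N2179 D5112) (tt N1671 (iv D3972)) (tt N2178 (iv F56971)) (tt N1677 F13746) (tt N2102 (iv F15766)) (tt N1674 F13747))
theorem Q1923 : ∀ i, i < 1923 → P i := stepQ 1922 Q1922 (allL N1922 (tt N2179 (iv F17471)) (tt N1922 F13748) (tt N1672 (iv D3973)) (tt N1922 F13749) (tt N2175 (iv F56981)) (tt N1678 F13750) (tt N2180 D5115) (tt N1675 F13751))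
theorem Q1924 : ∀ i, i < 1924 → P i := stepQ 1923 Q1923 (allL N1923 (tt N1701 (iv F56371)) (tt N2177 (iv F56704)) (tt N1923 F13755) (tt N1923 F13756) (tt N1680 F13757) (tt N1673 (iv D3975)) (tt N2104 (iv F15776)) (tt N1676 F13758))
theorem Q1925 : ∀ i, i < 1925 → P i := stepQ 1924 Q1924 (allL N1924 (tt N1675 F13759) (tt N2181 D5117) (tt N1674 (iv D3976)) (tt N1924 F13760) (tt N2174 (iv F56973)) (tt N1681 F13761) (tt N2173 F56820) (tt N2179 (iv F17474)))
theorem Q1926 : ∀ i, i < 1926 → P i := stepQ 1925 Q1925 (allL N1925 (tt N1678 F13775) (tt N2182 D5125) (tt N1677 (iv D3981)) (tt N1925 F13776) (tt N2183 D5126) (tt N2179 (iv F17473)) (tt N2184 D5127) (tt N1681 F13777))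
theorem Q1927 : ∀ i, i < 1927 → P i := stepQ 1926 Q1926 (allL N1926 (tt N1679 F13778) (tt N2169 (iv F17296)) (tt N2183 (iv F17518)) (tt N1687 F13779) (tt N1677 (iv D3982)) (tt N2185 D5128) (tt N2107 (iv F15794)) (tt N1682 F13780))
theorem Q1928 : ∀ i, i < 1928 → P i := stepQ 1927 Q1927 (allL N1927 (tt N2183 (iv F17517)) (tt N1927 F13781) (tt N1679 F13782) (tt N2186 D5129) (tt N1678 (iv D3983)) (tt N2187 D5130) (tt N2188 D5131) (tt N1683 F13783))
theorem Q1929 : ∀ i, i < 1929 → P i := stepQ 1928 Q1928 (allL N1928 (tt N2184 (iv F17520)) (tt N1928 F13784) (tt N2109 (iv F15798)) (tt N1928 F13785) (tt N2188 (iv F17533)) (tt N2180 (iv F17483)) (tt N1678 (iv D3984)) (tt N2189 D5132))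
theorem Q1930 : ∀ i, i < 1930 → P i := stepQ 1929 Q1929 (allL N1929 (tt N2185 (iv F17522)) (tt N1680 F13786) (tt N2187 (iv F17530)) (tt N1690 F13787) (tt N2177 (iv F56705)) (tt N1679 (iv D3985)) (tt N2110 (iv F15801)) (tt N1685 F13788))
theorem Q1931 : ∀ i, i < 1931 → P i := stepQ 1930 Q1930 (allL N1930 (tt N1930 F13789) (tt N1681 (iv D3986)) (tt N2172 (iv F17307)) (tt N1930 F13790) (tt N2190 D5133) (tt N2181 (iv F17490)) (tt N2191 D5134) (tt N2182 (iv F17516)))
theorem Q1932 : ∀ i, i < 1932 → P i := stepQ 1931 Q1931 (allL N1931 (tt N1683 F13791) (tt N2190 (iv F17538)) (tt N1682 F13792) (tt N2192 D5135) (tt N1681 (iv D3987)) (tt N2193 D5136) (tt N2194 D5137) (tt N2183 (iv F17519)))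
theorem Q1933 : ∀ i, i < 1933 → P i := stepQ 1932 Q1932 (allL N1932 (tt N1684 F13793) (tt N2191 (iv F17540)) (tt N1697 F13794) (tt N1932 F13795) (tt N2194 (iv F17549)) (tt N2173 F56810) (tt N1681 (iv D3988)) (tt N2195 D5138))
theorem Q1934 : ∀ i, i < 1934 → P i := stepQ 1933 Q1933 (allL N1933 (tt N1685 F13796) (tt N1697 (iv F56665)) (tt N2193 (iv F17546)) (tt N1692 F13797) (tt N2176 (iv F56695)) (tt N1682 (iv D3989)) (tt N1695 F56546) (tt N2185 (iv F17524)))
theorem Q1935 : ∀ i, i < 1935 → P i := stepQ 1934 Q1934 (allL N1934 (tt N2192 (iv F17542)) (tt N1934 F13799) (tt N1693 F13800) (tt N1683 (iv D3990)) (tt N1934 F13801) (tt N2196 D5139) (tt N2197 D5140) (tt N2186 (iv F17528)))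
theorem Q1936 : ∀ i, i < 1936 → P i := stepQ 1935 Q1935 (allL N1935 (tt N2193 (iv F17545)) (tt N1935 F13802) (tt N1685 F13803) (tt N2196 (iv F17555)) (tt N2167 (iv F56703)) (tt N1683 (iv D3991)) (tt N2166 (iv F56691)) (tt N2187 (iv F17531)))
theorem Q1937 : ∀ i, i < 1937 → P i := stepQ 1936 Q1936 (allL N1936 (tt N2194 (iv F17547)) (tt N1936 F13804) (tt N1698 F13805) (tt N2197 (iv F17558)) (tt N1684 F13806) (tt N2166 (iv F56690)) (tt N1683 (iv D3992)) (tt N2198 D5142))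
theorem Q1938 : ∀ i, i < 1938 → P i := stepQ 1937 Q1937 (allL N1937 (tt N2195 (iv F17550)) (tt N1937 F13807) (tt N1699 F13808) (tt N1937 F13809) (tt N2198 (iv F17565)) (tt N2170 F56812) (tt N2189 (iv F17536)) (tt N1684 (iv D3993)))
theorem Q1939 : ∀ i, i < 1939 → P i := stepQ 1938 Q1938 (allL N1938 (tt N1688 F13814) (tt N1938 F57283) (tt N1687 F13815) (tt N2199 D5145) (tt N1686 (iv D3995)) (tt N2200 D5146) (tt N2201 D5147) (tt N1691 F13816))
theorem Q1940 : ∀ i, i < 1940 → P i := stepQ 1939 Q1939 (allL N1939 (tt N1689 F13817) (tt N1939 F57282) (tt N2121 (iv F15822)) (tt N1939 F13818) (tt N2201 (iv F17582)) (tt N1939 F13819) (tt N1686 (iv D3996)) (tt N1939 F13820))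
theorem Q1941 : ∀ i, i < 1941 → P i := stepQ 1940 Q1940 (allL N1940 (tt N1690 F13821) (tt N1700 F56862) (tt N2200 (iv F17578)) (tt N2185 (iv F17523)) (tt N1940 F13822) (tt N1687 (iv D3997)) (tt N2122 (iv F15827)) (tt N1692 F13823))
theorem Q1942 : ∀ i, i < 1942 → P i := stepQ 1941 Q1941 (allL N1941 (tt N2199 (iv F17574)) (tt N1704 F13824) (tt N2186 (iv F17526)) (tt N1688 (iv D3998)) (tt N1941 F13825) (tt N1996 F57200) (tt N1995 (iv F57348)) (tt N1693 F13826))
theorem Q1943 : ∀ i, i < 1943 → P i := stepQ 1942 Q1942 (allL N1942 (tt N2200 (iv F17577)) (tt N1703 (iv F57031)) (tt N1690 F13828) (tt N1996 F57278) (tt N1942 F13829) (tt N1688 (iv D3999)) (tt N1994 (iv F57349)) (tt N1694 F13830))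
theorem Q1944 : ∀ i, i < 1944 → P i := stepQ 1943 Q1943 (allL N1943 (tt N2201 (iv F17581)) (tt N1705 F13831) (tt N2125 (iv F15836)) (tt N1995 F57447) (tt N1689 F13832) (tt N1994 F57448) (tt N1688 (iv D4000)) (tt N1943 F13833))
theorem Q1945 : ∀ i, i < 1945 → P i := stepQ 1944 Q1944 (allL N1944 (tt N1693 F13837) (tt N1944 F57290) (tt N2192 (iv F17543)) (tt N1691 (iv D4002)) (tt N1944 F13838) (tt N2202 D5153) (tt N1944 F13839) (tt N2199 (iv F17576)))
theorem Q1946 : ∀ i, i < 1946 → P i := stepQ 1945 Q1945 (allL N1945 (tt N1694 F13840) (tt N1945 F57029) (tt N1692 F13841) (tt N2202 (iv F17604)) (tt N1945 F13842) (tt N1691 (iv D4003)) (tt N1945 F13843) (tt N2200 (iv F17580)))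
theorem Q1947 : ∀ i, i < 1947 → P i := stepQ 1946 Q1946 (allL N1946 (tt N2202 (iv F17603)) (tt N1702 (iv F57030)) (tt N2196 (iv F17554)) (tt N1694 F13845) (tt N1997 F57276) (tt N1693 (iv D4004)) (tt N1946 F13846) (tt N1996 F57277))
theorem Q1948 : ∀ i, i < 1948 → P i := stepQ 1947 Q1947 (allL N1947 (tt N1698 F13878) (tt N2176 F56626) (tt N2194 (iv F17548)) (tt N1947 F13879) (tt N1697 F13880) (tt N2165 (iv F56686)) (tt N1696 (iv D4016)) (tt N2203 D5170))
theorem Q1949 : ∀ i, i < 1949 → P i := stepQ 1948 Q1948 (allL N1948 (tt N1699 F13881) (tt N2185 F56808) (tt N2195 (iv F17551)) (tt N1700 F13882) (tt N2203 (iv F17655)) (tt N2169 F56809) (tt N2131 (iv F15895)) (tt N1697 (iv D4017)))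
theorem Q1950 : ∀ i, i < 1950 → P i := stepQ 1949 Q1949 (allL N1949 (tt N2203 (iv F17653)) (tt N1701 F13886) (tt N2198 (iv F17564)) (tt N1949 F13887) (tt N1699 F13888) (tt N2163 (iv F56689)) (tt N2132 (iv F15902)) (tt N1698 (iv D4019)))
theorem Q1951 : ∀ i, i < 1951 → P i := stepQ 1950 Q1950 (allL N1950 (tt N1706 (iv D4388)) (tt N1789 F15112) (tt N1719 F15113) (tt N2204 D5623) (tt N1710 F15114) (tt N1827 F15115) (tt N1950 F15116) (tt N1824 F15117))
theorem Q1952 : ∀ i, i < 1952 → P i := stepQ 1951 Q1951 (allL N1951 (tt N2204 (iv F19149)) (tt N1707 F15118) (tt N2205 D5624) (tt N1706 (iv D4389)) (tt N2206 D5625) (tt N1828 F15119) (tt N1951 F15120) (tt N1825 F15121))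
theorem Q1953 : ∀ i, i < 1953 → P i := stepQ 1952 Q1952 (allL N1952 (tt N1791 F15122) (tt N2206 (iv F19158)) (tt N1836 F15123) (tt N1712 F15124) (tt N1707 (iv D4390)) (tt N2207 D5626) (tt N1952 F15125) (tt N1826 F15126))
theorem Q1954 : ∀ i, i < 1954 → P i := stepQ 1953 Q1953 (allL N1953 (tt N1708 (iv D4391)) (tt N1794 F15127) (tt N1722 F15128) (tt N2208 D5627) (tt N1824 F15129) (tt N1953 F15130) (tt N1882 F15131) (tt N1710 F15132))
theorem Q1955 : ∀ i, i < 1955 → P i := stepQ 1954 Q1954 (allL N1954 (tt N2208 (iv F19168)) (tt N1709 F15133) (tt N2209 D5628) (tt N1708 (iv D4392)) (tt N2210 D5629) (tt N1954 F15134) (tt N1883 F15135) (tt N1711 F15136))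
theorem Q1956 : ∀ i, i < 1956 → P i := stepQ 1955 Q1955 (allL N1955 (tt N1796 F15137) (tt N2210 (iv F19177)) (tt N1955 F15138) (tt N1826 F15139) (tt N1709 (iv D4393)) (tt N2211 D5630) (tt N1874 F56097) (tt N1712 F15141))
theorem Q1957 : ∀ i, i < 1957 → P i := stepQ 1956 Q1956 (allL N1956 (tt N1711 F15142) (tt N1797 F15143) (tt N2212 D5631) (tt N1710 (iv D4394)) (tt N2213 D5632) (tt N1956 F15144) (tt N1956 F15145) (tt N2208 (iv F19172)))
theorem Q1958 : ∀ i, i < 1958 → P i := stepQ 1957 Q1957 (allL N1957 (tt N2212 (iv F19187)) (tt N1957 F15146) (tt N1711 (iv D4395)) (tt N1726 F15147) (tt N2214 D5633) (tt N1957 F15148) (tt N2215 D5634) (tt N2209 (iv F19176)))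
theorem Q1959 : ∀ i, i < 1959 → P i := stepQ 1958 Q1958 (allL N1958 (tt N2213 (iv F19190)) (tt N1712 F15149) (tt N2214 (iv F19194)) (tt N2206 (iv F19159)) (tt N1711 (iv D4396)) (tt N2216 D5635) (tt N1958 F15150) (tt N2210 (iv F19180)))
theorem Q1960 : ∀ i, i < 1960 → P i := stepQ 1959 Q1959 (allL N1959 (tt N1800 F15151) (tt N2216 (iv F19199)) (tt N1959 F15152) (tt N2207 (iv F19164)) (tt N1959 F15153) (tt N1712 (iv D4397)) (tt N1959 F15154) (tt N2211 (iv F19186)))
theorem Q1961 : ∀ i, i < 1961 → P i := stepQ 1960 Q1960 (allL N1960 (tt N1713 (iv D4398)) (tt N1745 F15155) (tt N1834 F15156) (tt N2217 D5636) (tt N1960 F15157) (tt N1751 F15158) (tt N1960 F15159) (tt N1748 F15160))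
theorem Q1962 : ∀ i, i < 1962 → P i := stepQ 1961 Q1961 (allL N1961 (tt N2217 (iv F19202)) (tt N1714 F15161) (tt N2218 D5637) (tt N1713 (iv D4399)) (tt N2219 D5638) (tt N1752 F15162) (tt N1961 F15163) (tt N1749 F15164))
theorem Q1963 : ∀ i, i < 1963 → P i := stepQ 1962 Q1962 (allL N1962 (tt N1747 F15165) (tt N2219 (iv F19211)) (tt N1721 F15166) (tt N1962 F15167) (tt N1714 (iv D4400)) (tt N2220 D5639) (tt N1962 F15168) (tt N1750 F15169))
theorem Q1964 : ∀ i, i < 1964 → P i := stepQ 1963 Q1963 (allL N1963 (tt N1715 (iv D4401)) (tt N1748 F15170) (tt N1827 F15171) (tt N2221 D5640) (tt N1963 F15172) (tt N1719 F15173) (tt N1729 F15174) (tt N1745 F15175))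
theorem Q1965 : ∀ i, i < 1965 → P i := stepQ 1964 Q1964 (allL N1964 (tt N2221 (iv F19221)) (tt N1716 F15176) (tt N2222 D5641) (tt N1715 (iv D4402)) (tt N2223 D5642) (tt N1720 F15177) (tt N1730 F15178) (tt N1746 F15179))
theorem Q1966 : ∀ i, i < 1966 → P i := stepQ 1965 Q1965 (allL N1965 (tt N1750 F15180) (tt N2223 (iv F19230)) (tt N1753 F15181) (tt N1965 F15182) (tt N1716 (iv D4403)) (tt N2224 D5643) (tt N1731 F15183) (tt N1747 F15184))
theorem Q1967 : ∀ i, i < 1967 → P i := stepQ 1966 Q1966 (allL N1966 (tt N1717 (iv D4404)) (tt N1751 F15185) (tt N1824 F15186) (tt N2225 D5644) (tt N1722 F15187) (tt N1745 F15188) (tt N1966 F15189) (tt N1719 F15190))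
theorem Q1968 : ∀ i, i < 1968 → P i := stepQ 1967 Q1967 (allL N1967 (tt N2225 (iv F19240)) (tt N1718 F15191) (tt N2226 D5645) (tt N1717 (iv D4405)) (tt N2227 D5646) (tt N1746 F15192) (tt N1967 F15193) (tt N1720 F15194))
theorem Q1969 : ∀ i, i < 1969 → P i := stepQ 1968 Q1968 (allL N1968 (tt N1753 F15195) (tt N2227 (iv F19249)) (tt N1750 F15196) (tt N1724 F15197) (tt N1718 (iv D4406)) (tt N2228 D5647) (tt N1968 F15198) (tt N1721 F15199))
theorem Q1970 : ∀ i, i < 1970 → P i := stepQ 1969 Q1969 (allL N1969 (tt N1720 F15200) (tt N1754 F15201) (tt N2229 D5648) (tt N1719 (iv D4407)) (tt N2230 D5649) (tt N2221 (iv F19223)) (tt N1732 F15202) (tt N2225 (iv F19244)))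
theorem Q1971 : ∀ i, i < 1971 → P i := stepQ 1970 Q1970 (allL N1970 (tt N2229 (iv F19259)) (tt N2218 (iv F19207)) (tt N1720 (iv D4408)) (tt N2205 (iv F19155)) (tt N2231 D5650) (tt N2222 (iv F19228)) (tt N2232 D5651) (tt N2226 (iv F19248)))
theorem Q1972 : ∀ i, i < 1972 → P i := stepQ 1971 Q1971 (allL N1971 (tt N2230 (iv F19260)) (tt N1721 F15203) (tt N2231 (iv F19264)) (tt N1727 F15204) (tt N1720 (iv D4409)) (tt N2233 D5652) (tt N1734 F15205) (tt N2227 (iv F19252)))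
theorem Q1973 : ∀ i, i < 1973 → P i := stepQ 1972 Q1972 (allL N1972 (tt N1757 F15206) (tt N2233 (iv F19266)) (tt N2220 (iv F19216)) (tt N1728 F15207) (tt N2224 (iv F19237)) (tt N1721 (iv D4410)) (tt N1735 F15208) (tt N2228 (iv F19258)))
theorem Q1974 : ∀ i, i < 1974 → P i := stepQ 1973 Q1973 (allL N1973 (tt N1723 F15209) (tt N1758 F15210) (tt N2234 D5653) (tt N1722 (iv D4411)) (tt N2235 D5654) (tt N1973 F15211) (tt N1973 F15212) (tt N1725 F15213))
theorem Q1975 : ∀ i, i < 1975 → P i := stepQ 1974 Q1974 (allL N1974 (tt N2234 (iv F19269)) (tt N1974 F15214) (tt N1723 (iv D4412)) (tt N2209 (iv F19174)) (tt N2236 D5655) (tt N1974 F15215) (tt N2237 D5656) (tt N1726 F15216))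
theorem Q1976 : ∀ i, i < 1976 → P i := stepQ 1975 Q1975 (allL N1975 (tt N2235 (iv F19272)) (tt N1724 F15217) (tt N2236 (iv F19277)) (tt N2227 (iv F19250)) (tt N1723 (iv D4413)) (tt N2238 D5657) (tt N1975 F15218) (tt N1727 F15219))
theorem Q1977 : ∀ i, i < 1977 → P i := stepQ 1976 Q1976 (allL N1976 (tt N1761 F15220) (tt N2238 (iv F19282)) (tt N1976 F15221) (tt N2228 (iv F19255)) (tt N1976 F15222) (tt N1724 (iv D4414)) (tt N1976 F15223) (tt N1728 F15224))
theorem Q1978 : ∀ i, i < 1978 → P i := stepQ 1977 Q1977 (allL N1977 (tt N1726 F15225) (tt N2239 D5658) (tt N1725 (iv D4415)) (tt N2212 (iv F19188)) (tt N2240 D5659) (tt N1977 F15226) (tt N2241 D5660) (tt N2234 (iv F19271)))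
theorem Q1979 : ∀ i, i < 1979 → P i := stepQ 1978 Q1978 (allL N1978 (tt N1727 F15227) (tt N1763 F15228) (tt N2240 (iv F19290)) (tt N2230 (iv F19262)) (tt N1725 (iv D4416)) (tt N2242 D5661) (tt N1737 F15229) (tt N2235 (iv F19275)))
theorem Q1980 : ∀ i, i < 1980 → P i := stepQ 1979 Q1979 (allL N1979 (tt N2240 (iv F19289)) (tt N1979 F15230) (tt N1727 F15231) (tt N2243 D5662) (tt N1726 (iv D4417)) (tt N2244 D5663) (tt N2245 D5664) (tt N2236 (iv F19278)))
theorem Q1981 : ∀ i, i < 1981 → P i := stepQ 1980 Q1980 (allL N1980 (tt N2241 (iv F19291)) (tt N1980 F15232) (tt N1739 F15233) (tt N2215 (iv F19197)) (tt N2245 (iv F19304)) (tt N1980 F15234) (tt N1726 (iv D4418)) (tt N2246 D5665))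
theorem Q1982 : ∀ i, i < 1982 → P i := stepQ 1981 Q1981 (allL N1981 (tt N2242 (iv F19294)) (tt N1728 F15235) (tt N2244 (iv F19300)) (tt N2233 (iv F19267)) (tt N1981 F15236) (tt N1727 (iv D4419)) (tt N1740 F15237) (tt N2238 (iv F19285)))
theorem Q1983 : ∀ i, i < 1983 → P i := stepQ 1982 Q1982 (allL N1982 (tt N1730 F15238) (tt N1766 F15239) (tt N2247 D5666) (tt N1729 (iv D4420)) (tt N2248 D5667) (tt N1732 F15240) (tt N2221 (iv F19224)) (tt N1982 F15241))
theorem Q1984 : ∀ i, i < 1984 → P i := stepQ 1983 Q1983 (allL N1983 (tt N2247 (iv F19308)) (tt N1983 F15242) (tt N1730 (iv D4421)) (tt N1983 F15243) (tt N2249 D5668) (tt N1733 F15244) (tt N2250 D5669) (tt N1983 F15245))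
theorem Q1985 : ∀ i, i < 1985 → P i := stepQ 1984 Q1984 (allL N1984 (tt N2248 (iv F19312)) (tt N1731 F15246) (tt N2249 (iv F19317)) (tt N1984 F15247) (tt N1730 (iv D4422)) (tt N2251 D5670) (tt N2223 (iv F19232)) (tt N1984 F15248))
theorem Q1986 : ∀ i, i < 1986 → P i := stepQ 1985 Q1985 (allL N1985 (tt N1769 F15249) (tt N2251 (iv F19322)) (tt N1985 F15250) (tt N1985 F15251) (tt N1735 F15252) (tt N1731 (iv D4423)) (tt N2224 (iv F19238)) (tt N1985 F15253))
theorem Q1987 : ∀ i, i < 1987 → P i := stepQ 1986 Q1986 (allL N1986 (tt N1733 F15254) (tt N2252 D5671) (tt N1732 (iv D4424)) (tt N1986 F15255) (tt N2253 D5672) (tt N2247 (iv F19310)) (tt N2254 D5673) (tt N1986 F15256))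
theorem Q1988 : ∀ i, i < 1988 → P i := stepQ 1987 Q1987 (allL N1987 (tt N1734 F15257) (tt N1771 F15258) (tt N2253 (iv F19331)) (tt N1737 F15259) (tt N1732 (iv D4425)) (tt N2255 D5674) (tt N2230 (iv F19263)) (tt N1987 F15260))
theorem Q1989 : ∀ i, i < 1989 → P i := stepQ 1988 Q1988 (allL N1988 (tt N2253 (iv F19330)) (tt N1988 F15261) (tt N1734 F15262) (tt N2256 D5675) (tt N1733 (iv D4426)) (tt N2257 D5676) (tt N2258 D5677) (tt N1988 F15263))
theorem Q1990 : ∀ i, i < 1990 → P i := stepQ 1989 Q1989 (allL N1989 (tt N2254 (iv F19333)) (tt N1989 F15264) (tt N2232 (iv F19265)) (tt N1989 F15265) (tt N2258 (iv F19347)) (tt N2250 (iv F19321)) (tt N1733 (iv D4427)) (tt N2259 D5678))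
theorem Q1991 : ∀ i, i < 1991 → P i := stepQ 1990 Q1990 (allL N1990 (tt N2255 (iv F19335)) (tt N1735 F15266) (tt N2257 (iv F19344)) (tt N1740 F15267) (tt N2251 (iv F19324)) (tt N1734 (iv D4428)) (tt N2233 (iv F19268)) (tt N1990 F15268))
theorem Q1992 : ∀ i, i < 1992 → P i := stepQ 1991 Q1991 (allL N1991 (tt N1738 F15269) (tt N1991 F15270) (tt N1737 F15271) (tt N2260 D5679) (tt N1736 (iv D4429)) (tt N2261 D5680) (tt N2262 D5681) (tt N1991 F15272))
theorem Q1993 : ∀ i, i < 1993 → P i := stepQ 1992 Q1992 (allL N1992 (tt N1739 F15273) (tt N1992 F15274) (tt N2241 (iv F19292)) (tt N1992 F15275) (tt N2262 (iv F19362)) (tt N1992 F15276) (tt N1736 (iv D4430)) (tt N2263 D5682))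
theorem Q1994 : ∀ i, i < 1994 → P i := stepQ 1993 Q1993 (allL N1993 (tt N1740 F15277) (tt N1775 F15278) (tt N2261 (iv F19357)) (tt N2255 (iv F19337)) (tt N1993 F15279) (tt N1737 (iv D4431)) (tt N2242 (iv F19297)) (tt N1993 F15280))
theorem Q1995 : ∀ i, i < 1995 → P i := stepQ 1994 Q1994 (allL N1994 (tt N2260 (iv F19351)) (tt N1741 F15281) (tt N2256 (iv F19340)) (tt N1738 (iv D4432)) (tt N1994 F15282) (tt N1943 (iv F57448)) (tt N1942 F57349) (tt N1994 F15283))
theorem Q1996 : ∀ i, i < 1996 → P i := stepQ 1995 Q1995 (allL N1995 (tt N2261 (iv F19355)) (tt N1742 F15284) (tt N1740 F15285) (tt N1943 (iv F57447)) (tt N1995 F15286) (tt N1738 (iv D4433)) (tt N1941 F57348) (tt N1995 F15287))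
theorem Q1997 : ∀ i, i < 1997 → P i := stepQ 1996 Q1996 (allL N1996 (tt N2262 (iv F19360)) (tt N1743 F15288) (tt N2245 (iv F19303)) (tt N1942 (iv F57278)) (tt N1739 F15289) (tt N1941 (iv F57200)) (tt N1738 (iv D4434)) (tt N1946 (iv F57277)))
theorem Q1998 : ∀ i, i < 1998 → P i := stepQ 1997 Q1997 (allL N1997 (tt N2263 (iv F19363)) (tt N1744 F15290) (tt N2246 (iv F19306)) (tt N1997 F15291) (tt N1946 (iv F57276)) (tt N1997 F15292) (tt N1997 F15293) (tt N1739 (iv D4435)))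
theorem Q1999 : ∀ i, i < 1999 → P i := stepQ 1998 Q1998 (allL N1998 (tt N1746 F15309) (tt N2217 (iv F19203)) (tt N2264 D5692) (tt N1745 (iv D4440)) (tt N2265 D5693) (tt N2225 (iv F19242)) (tt N1998 F15310) (tt N2221 (iv F19225)))
theorem Q2000 : ∀ i, i < 2000 → P i := stepQ 1999 Q1999 (allL N1999 (tt N2264 (iv F19401)) (tt N1755 F15311) (tt N1746 (iv D4441)) (tt N1831 F15312) (tt N2266 D5694) (tt N2226 (iv F19247)) (tt N2267 D5695) (tt N2222 (iv F19229)))
theorem Q2001 : ∀ i, i < 2001 → P i := stepQ 2000 Q2000 (allL N2000 (tt N2265 (iv F19403)) (tt N1747 F15313) (tt N2266 (iv F19407)) (tt N2000 F15314) (tt N1746 (iv D4442)) (tt N2268 D5696) (tt N2000 F15315) (tt N2223 (iv F19233)))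
theorem Q2002 : ∀ i, i < 2002 → P i := stepQ 2001 Q2001 (allL N2001 (tt N2220 (iv F19215)) (tt N2268 (iv F19411)) (tt N1757 F15316) (tt N2001 F15317) (tt N2228 (iv F19256)) (tt N1747 (iv D4443)) (tt N2001 F15318) (tt N2224 (iv F19239)))
theorem Q2003 : ∀ i, i < 2003 → P i := stepQ 2002 Q2002 (allL N2002 (tt N1749 F15319) (tt N2221 (iv F19222)) (tt N2269 D5697) (tt N1748 (iv D4444)) (tt N2270 D5698) (tt N1754 F15320) (tt N1766 F15321) (tt N2217 (iv F19206)))
theorem Q2004 : ∀ i, i < 2004 → P i := stepQ 2003 Q2003 (allL N2003 (tt N2269 (iv F19414)) (tt N2226 (iv F19245)) (tt N1749 (iv D4445)) (tt N1838 F15322) (tt N2271 D5699) (tt N1755 F15323) (tt N2272 D5700) (tt N2218 (iv F19210)))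
theorem Q2005 : ∀ i, i < 2005 → P i := stepQ 2004 Q2004 (allL N2004 (tt N2270 (iv F19417)) (tt N1750 F15324) (tt N2271 (iv F19420)) (tt N2004 F15325) (tt N1749 (iv D4446)) (tt N2273 D5701) (tt N1768 F15326) (tt N2219 (iv F19214)))
theorem Q2006 : ∀ i, i < 2006 → P i := stepQ 2005 Q2005 (allL N2005 (tt N2224 (iv F19234)) (tt N2273 (iv F19424)) (tt N2228 (iv F19254)) (tt N2005 F15327) (tt N1757 F15328) (tt N1750 (iv D4447)) (tt N1769 F15329) (tt N2220 (iv F19220)))
theorem Q2007 : ∀ i, i < 2007 → P i := stepQ 2006 Q2006 (allL N2006 (tt N1752 F15330) (tt N2225 (iv F19241)) (tt N2274 D5702) (tt N1751 (iv D4448)) (tt N2275 D5703) (tt N2217 (iv F19204)) (tt N2006 F15331) (tt N1754 F15332))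
theorem Q2008 : ∀ i, i < 2008 → P i := stepQ 2007 Q2007 (allL N2007 (tt N2274 (iv F19428)) (tt N2222 (iv F19226)) (tt N1752 (iv D4449)) (tt N1841 F15333) (tt N2276 D5704) (tt N2218 (iv F19209)) (tt N2277 D5705) (tt N1755 F15334))
theorem Q2009 : ∀ i, i < 2009 → P i := stepQ 2008 Q2008 (allL N2008 (tt N2275 (iv F19431)) (tt N1753 F15335) (tt N2276 (iv F19435)) (tt N1760 F15336) (tt N1752 (iv D4450)) (tt N2278 D5706) (tt N2008 F15337) (tt N1756 F15338))
theorem Q2010 : ∀ i, i < 2010 → P i := stepQ 2009 Q2009 (allL N2009 (tt N2228 (iv F19253)) (tt N2278 (iv F19439)) (tt N2224 (iv F19235)) (tt N1761 F15339) (tt N2220 (iv F19218)) (tt N1753 (iv D4451)) (tt N2009 F15340) (tt N1757 F15341))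
theorem Q2011 : ∀ i, i < 2011 → P i := stepQ 2010 Q2010 (allL N2010 (tt N1755 F15342) (tt N2279 D5707) (tt N1754 (iv D4452)) (tt N1844 F15343) (tt N2280 D5708) (tt N2269 (iv F19416)) (tt N2281 D5709) (tt N2274 (iv F19430)))
theorem Q2012 : ∀ i, i < 2012 → P i := stepQ 2011 Q2011 (allL N2011 (tt N1756 F15344) (tt N2230 (iv F19261)) (tt N2280 (iv F19445)) (tt N1763 F15345) (tt N1754 (iv D4453)) (tt N2282 D5710) (tt N1771 F15346) (tt N2275 (iv F19434)))
theorem Q2013 : ∀ i, i < 2013 → P i := stepQ 2012 Q2012 (allL N2012 (tt N2280 (iv F19444)) (tt N2266 (iv F19406)) (tt N1756 F15347) (tt N2283 D5711) (tt N1755 (iv D4454)) (tt N2284 D5712) (tt N2285 D5713) (tt N2276 (iv F19436)))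
theorem Q2014 : ∀ i, i < 2014 → P i := stepQ 2013 Q2013 (allL N2013 (tt N2281 (iv F19446)) (tt N2267 (iv F19408)) (tt N1773 F15348) (tt N1847 F15349) (tt N2285 (iv F19456)) (tt N2272 (iv F19423)) (tt N1755 (iv D4455)) (tt N2286 D5714))
theorem Q2015 : ∀ i, i < 2015 → P i := stepQ 2014 Q2014 (allL N2014 (tt N2282 (iv F19449)) (tt N1757 F15350) (tt N2284 (iv F19454)) (tt N1765 F15351) (tt N2273 (iv F19426)) (tt N1756 (iv D4456)) (tt N1774 F15352) (tt N2278 (iv F19442)))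
theorem Q2016 : ∀ i, i < 2016 → P i := stepQ 2015 Q2015 (allL N2015 (tt N1759 F15353) (tt N2287 D5715) (tt N1758 (iv D4457)) (tt N1849 F15354) (tt N2288 D5716) (tt N2015 F15355) (tt N2289 D5717) (tt N1762 F15356))
theorem Q2017 : ∀ i, i < 2017 → P i := stepQ 2016 Q2016 (allL N2016 (tt N1760 F15357) (tt N2235 (iv F19273)) (tt N2288 (iv F19464)) (tt N2275 (iv F19432)) (tt N1758 (iv D4458)) (tt N2290 D5718) (tt N2016 F15358) (tt N1763 F15359))
theorem Q2018 : ∀ i, i < 2018 → P i := stepQ 2017 Q2017 (allL N2017 (tt N2288 (iv F19463)) (tt N2017 F15360) (tt N1760 F15361) (tt N2291 D5719) (tt N1759 (iv D4459)) (tt N2292 D5720) (tt N2293 D5721) (tt N1764 F15362))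
theorem Q2019 : ∀ i, i < 2019 → P i := stepQ 2018 Q2018 (allL N2018 (tt N2289 (iv F19466)) (tt N2018 F15363) (tt N2018 F15364) (tt N1852 F15365) (tt N2293 (iv F19484)) (tt N2018 F15366) (tt N1759 (iv D4460)) (tt N2018 F15367))
theorem Q2020 : ∀ i, i < 2020 → P i := stepQ 2019 Q2019 (allL N2019 (tt N2290 (iv F19471)) (tt N1761 F15368) (tt N2292 (iv F19479)) (tt N2278 (iv F19440)) (tt N2019 F15369) (tt N1760 (iv D4461)) (tt N2019 F15370) (tt N1765 F15371))
theorem Q2021 : ∀ i, i < 2021 → P i := stepQ 2020 Q2020 (allL N2020 (tt N2020 F15372) (tt N1762 (iv D4462)) (tt N2239 (iv F19287)) (tt N1854 F15373) (tt N2294 D5722) (tt N2020 F15374) (tt N2020 F15375) (tt N2287 (iv F19462)))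
theorem Q2022 : ∀ i, i < 2022 → P i := stepQ 2021 Q2021 (allL N2021 (tt N1764 F15376) (tt N2294 (iv F19487)) (tt N1763 F15377) (tt N2295 D5723) (tt N1762 (iv D4463)) (tt N2296 D5724) (tt N2021 F15378) (tt N2288 (iv F19465)))
theorem Q2023 : ∀ i, i < 2023 → P i := stepQ 2022 Q2022 (allL N2022 (tt N1765 F15379) (tt N2242 (iv F19295)) (tt N2296 (iv F19493)) (tt N2282 (iv F19450)) (tt N2022 F15380) (tt N1763 (iv D4464)) (tt N1775 F15381) (tt N2290 (iv F19474)))
theorem Q2024 : ∀ i, i < 2024 → P i := stepQ 2023 Q2023 (allL N2023 (tt N2295 (iv F19489)) (tt N2023 F15382) (tt N2283 (iv F19452)) (tt N1764 (iv D4465)) (tt N1857 F15383) (tt N2297 D5725) (tt N2023 F15384) (tt N2291 (iv F19477)))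
theorem Q2025 : ∀ i, i < 2025 → P i := stepQ 2024 Q2024 (allL N2024 (tt N2296 (iv F19492)) (tt N2024 F15385) (tt N1765 F15386) (tt N2297 (iv F19497)) (tt N2024 F15387) (tt N1764 (iv D4466)) (tt N2024 F15388) (tt N2292 (iv F19481)))
theorem Q2026 : ∀ i, i < 2026 → P i := stepQ 2025 Q2025 (allL N2025 (tt N1767 F15389) (tt N2298 D5726) (tt N1766 (iv D4467)) (tt N1776 F15390) (tt N2299 D5727) (tt N1770 F15391) (tt N2300 D5728) (tt N2025 F15392))
theorem Q2027 : ∀ i, i < 2027 → P i := stepQ 2026 Q2026 (allL N2026 (tt N1768 F15393) (tt N2248 (iv F19313)) (tt N2299 (iv F19504)) (tt N2026 F15394) (tt N1766 (iv D4468)) (tt N2301 D5729) (tt N2270 (iv F19419)) (tt N2026 F15395))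
theorem Q2028 : ∀ i, i < 2028 → P i := stepQ 2027 Q2027 (allL N2027 (tt N2299 (iv F19503)) (tt N2027 F15396) (tt N1768 F15397) (tt N2302 D5730) (tt N1767 (iv D4469)) (tt N2303 D5731) (tt N2304 D5732) (tt N2027 F15398))
theorem Q2029 : ∀ i, i < 2029 → P i := stepQ 2028 Q2028 (allL N2028 (tt N2300 (iv F19506)) (tt N2028 F15399) (tt N2272 (iv F19421)) (tt N1779 F15400) (tt N2304 (iv F19522)) (tt N1773 F15401) (tt N1767 (iv D4470)) (tt N2305 D5733))
theorem Q2030 : ∀ i, i < 2030 → P i := stepQ 2029 Q2029 (allL N2029 (tt N2301 (iv F19509)) (tt N1769 F15402) (tt N2303 (iv F19518)) (tt N2029 F15403) (tt N1774 F15404) (tt N1768 (iv D4471)) (tt N2273 (iv F19427)) (tt N2029 F15405))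
theorem Q2031 : ∀ i, i < 2031 → P i := stepQ 2030 Q2030 (allL N2030 (tt N2030 F15406) (tt N1770 (iv D4472)) (tt N2252 (iv F19327)) (tt N1780 F15407) (tt N2306 D5734) (tt N2298 (iv F19501)) (tt N2307 D5735) (tt N2030 F15408))
theorem Q2032 : ∀ i, i < 2032 → P i := stepQ 2031 Q2031 (allL N2031 (tt N1772 F15409) (tt N2306 (iv F19528)) (tt N1771 F15410) (tt N2031 F15411) (tt N1770 (iv D4473)) (tt N2308 D5736) (tt N2309 D5737) (tt N2031 F15412))
theorem Q2033 : ∀ i, i < 2033 → P i := stepQ 2032 Q2032 (allL N2032 (tt N1773 F15413) (tt N2307 (iv F19532)) (tt N2281 (iv F19447)) (tt N1781 F15414) (tt N2309 (iv F19540)) (tt N2300 (iv F19508)) (tt N1770 (iv D4474)) (tt N2310 D5738))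
theorem Q2034 : ∀ i, i < 2034 → P i := stepQ 2033 Q2033 (allL N2033 (tt N1774 F15415) (tt N2255 (iv F19336)) (tt N2308 (iv F19535)) (tt N1775 F15416) (tt N2301 (iv F19511)) (tt N1771 (iv D4475)) (tt N2282 (iv F19451)) (tt N2033 F15417))
theorem Q2035 : ∀ i, i < 2035 → P i := stepQ 2034 Q2034 (allL N2034 (tt N2308 (iv F19534)) (tt N2034 F15418) (tt N1774 F15419) (tt N2034 F15420) (tt N2303 (iv F19519)) (tt N1772 (iv D4476)) (tt N2311 D5739) (tt N2034 F15421))
theorem Q2036 : ∀ i, i < 2036 → P i := stepQ 2035 Q2035 (allL N2035 (tt N2309 (iv F19538)) (tt N2035 F15422) (tt N2285 (iv F19455)) (tt N2035 F15423) (tt N1773 F15424) (tt N2311 (iv F19546)) (tt N1772 (iv D4477)) (tt N2312 D5740))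
theorem Q2037 : ∀ i, i < 2037 → P i := stepQ 2036 Q2036 (allL N2036 (tt N2310 (iv F19541)) (tt N2036 F15425) (tt N2286 (iv F19457)) (tt N1782 F15426) (tt N2312 (iv F19549)) (tt N2305 (iv F19525)) (tt N2036 F15427) (tt N1773 (iv D4478)))
theorem Q2038 : ∀ i, i < 2038 → P i := stepQ 2037 Q2037 (allL N2037 (tt N2037 F15428) (tt N1776 (iv D4479)) (tt N2037 F15429) (tt N2298 (iv F19500)) (tt N2313 D5741) (tt N1780 F15430) (tt N2314 D5742) (tt N2037 F15431))
theorem Q2039 : ∀ i, i < 2039 → P i := stepQ 2038 Q2038 (allL N2038 (tt N1778 F15432) (tt N2313 (iv F19552)) (tt N1777 F15433) (tt N2315 D5743) (tt N1776 (iv D4480)) (tt N2038 F15434) (tt N1816 F56791) (tt N2038 F15435))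
theorem Q2040 : ∀ i, i < 2040 → P i := stepQ 2039 Q2039 (allL N2039 (tt N1779 F15436) (tt N2314 (iv F19557)) (tt N1817 F56656) (tt N2300 (iv F19507)) (tt N1816 (iv F56765)) (tt N1781 F15438) (tt N1776 (iv D4481)) (tt N2316 D5745))
theorem Q2041 : ∀ i, i < 2041 → P i := stepQ 2040 Q2040 (allL N2040 (tt N2315 (iv F19559)) (tt N2040 F15439) (tt N2040 F15440) (tt N1778 (iv D4482)) (tt N2302 (iv F19515)) (tt N2040 F15441) (tt N1798 F56924) (tt N2040 F15442))
theorem Q2042 : ∀ i, i < 2042 → P i := stepQ 2041 Q2041 (allL N2041 (tt N2316 (iv F19567)) (tt N2041 F15447) (tt N1815 F56658) (tt N2305 (iv F19524)) (tt N1814 (iv F56761)) (tt N1782 F15449) (tt N2041 F15450) (tt N1779 (iv D4484)))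
theorem Q2043 : ∀ i, i < 2043 → P i := stepQ 2042 Q2042 (allL N2042 (tt N2042 F15451) (tt N1781 F15452) (tt N2317 D5748) (tt N2307 (iv F19533)) (tt N2042 F15453) (tt N2314 (iv F19558)) (tt N1780 (iv D4485)) (tt N2318 D5749))
theorem Q2044 : ∀ i, i < 2044 → P i := stepQ 2043 Q2043 (allL N2043 (tt N1782 F15454) (tt N2318 (iv F19584)) (tt N1864 F15455) (tt N2310 (iv F19542)) (tt N2043 F15456) (tt N2316 (iv F19569)) (tt N2043 F15457) (tt N1781 (iv D4486)))
theorem Q2045 : ∀ i, i < 2045 → P i := stepQ 2044 Q2044 (allL N2044 (tt N1783 (iv D4487)) (tt N1834 F15458) (tt N1801 F15459) (tt N2319 D5750) (tt N2044 F15460) (tt N1807 F15461) (tt N1902 F15462) (tt N1804 F15463))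
theorem Q2046 : ∀ i, i < 2046 → P i := stepQ 2045 Q2045 (allL N2045 (tt N2319 (iv F19587)) (tt N1784 F15464) (tt N2320 D5751) (tt N1783 (iv D4488)) (tt N2321 D5752) (tt N1808 F15465) (tt N1903 F15466) (tt N1805 F15467))
theorem Q2047 : ∀ i, i < 2047 → P i := stepQ 2046 Q2046 (allL N2046 (tt N1836 F15468) (tt N2321 (iv F19596)) (tt N1791 F15469) (tt N2046 F15470) (tt N1784 (iv D4489)) (tt N1893 F56363) (tt N1904 F15471) (tt N1806 F15472))
theorem Q2048 : ∀ i, i < 2048 → P i := stepQ 2047 Q2047 (allL N2047 (tt N1785 (iv D4490)) (tt N1827 F15473) (tt N1804 F15474) (tt N2322 D5754) (tt N2047 F15475) (tt N1789 F15476) (tt N2047 F15477) (tt N1801 F15478))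
theorem Q2049 : ∀ i, i < 2049 → P i := stepQ 2048 Q2048 (allL N2048 (tt N2322 (iv F19606)) (tt N1786 F15479) (tt N2323 D5755) (tt N1785 (iv D4491)) (tt N2324 D5756) (tt N1790 F15480) (tt N2048 F15481) (tt N1802 F15482))
theorem Q2050 : ∀ i, i < 2050 → P i := stepQ 2049 Q2049 (allL N2049 (tt N1829 F15483) (tt N2324 (iv F19615)) (tt N1809 F15484) (tt N2049 F15485) (tt N1786 (iv D4492)) (tt N1892 F56368) (tt N2049 F15486) (tt N1803 F15487))
theorem Q2051 : ∀ i, i < 2051 → P i := stepQ 2050 Q2050 (allL N2050 (tt N1787 (iv D4493)) (tt N1824 F15488) (tt N1807 F15489) (tt N2325 D5758) (tt N1794 F15490) (tt N1801 F15491) (tt N1875 F15492) (tt N1789 F15493))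
theorem Q2052 : ∀ i, i < 2052 → P i := stepQ 2051 Q2051 (allL N2051 (tt N2325 (iv F19625)) (tt N1788 F15494) (tt N2326 D5759) (tt N1787 (iv D4494)) (tt N2327 D5760) (tt N1802 F15495) (tt N1876 F15496) (tt N1790 F15497))
theorem Q2053 : ∀ i, i < 2053 → P i := stepQ 2052 Q2052 (allL N2052 (tt N1826 F15498) (tt N2327 (iv F19634)) (tt N1806 F15499) (tt N1796 F15500) (tt N1788 (iv D4495)) (tt N1891 (iv F56226)) (tt N1877 F15501) (tt N1791 F15502))
theorem Q2054 : ∀ i, i < 2054 → P i := stepQ 2053 Q2053 (allL N2053 (tt N1790 F15503) (tt N2204 (iv F19150)) (tt N2328 D5762) (tt N1789 (iv D4496)) (tt N2329 D5763) (tt N2322 (iv F19608)) (tt N2053 F15504) (tt N2325 (iv F19629)))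
theorem Q2055 : ∀ i, i < 2055 → P i := stepQ 2054 Q2054 (allL N2054 (tt N2328 (iv F19644)) (tt N2320 (iv F19592)) (tt N1790 (iv D4497)) (tt N1811 F15505) (tt N2330 D5764) (tt N2323 (iv F19613)) (tt N2331 D5765) (tt N2326 (iv F19633)))
theorem Q2056 : ∀ i, i < 2056 → P i := stepQ 2055 Q2055 (allL N2055 (tt N2329 (iv F19646)) (tt N1791 F15506) (tt N2330 (iv F19649)) (tt N1799 F15507) (tt N1790 (iv D4498)) (tt N2332 D5766) (tt N2055 F15508) (tt N2327 (iv F19637)))
theorem Q2057 : ∀ i, i < 2057 → P i := stepQ 2056 Q2056 (allL N2056 (tt N2207 (iv F19162)) (tt N2332 (iv F19652)) (tt N1893 F56376) (tt N1800 F15509) (tt N1892 F56377) (tt N1791 (iv D4499)) (tt N2056 F15510) (tt N1891 F56378))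
theorem Q2058 : ∀ i, i < 2058 → P i := stepQ 2057 Q2057 (allL N2057 (tt N1792 (iv D4500)) (tt N1882 F15511) (tt N1901 F15512) (tt N2333 D5767) (tt N1875 F15513) (tt N2057 F15514) (tt N1794 F15515) (tt N2057 F15516))
theorem Q2059 : ∀ i, i < 2059 → P i := stepQ 2058 Q2058 (allL N2058 (tt N2333 (iv F19655)) (tt N1793 F15517) (tt N2058 F55904) (tt N1792 (iv D4501)) (tt N2334 D5769) (tt N2058 F15518) (tt N1795 F15519) (tt N2058 F15520))
theorem Q2060 : ∀ i, i < 2060 → P i := stepQ 2059 Q2059 (allL N2059 (tt N1874 (iv F55957)) (tt N2334 (iv F19664)) (tt N1873 F55814) (tt N1877 F15523) (tt N1793 (iv D4502)) (tt N1890 (iv F55954)) (tt N1796 F15524) (tt N2059 F15525))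
theorem Q2061 : ∀ i, i < 2061 → P i := stepQ 2060 Q2060 (allL N2060 (tt N1795 F15526) (tt N2208 (iv F19169)) (tt N2335 D5771) (tt N1794 (iv D4503)) (tt N2336 D5772) (tt N2060 F15527) (tt N2333 (iv F19658)) (tt N1797 F15528))
theorem Q2062 : ∀ i, i < 2062 → P i := stepQ 2061 Q2061 (allL N2061 (tt N2335 (iv F19674)) (tt N2061 F15529) (tt N1795 (iv D4504)) (tt N1814 F15530) (tt N2337 D5773) (tt N2061 F15531) (tt N2061 F56182) (tt N1798 F15532))
theorem Q2063 : ∀ i, i < 2063 → P i := stepQ 2062 Q2062 (allL N2062 (tt N2336 (iv F19678)) (tt N1796 F15533) (tt N2337 (iv F19681)) (tt N2327 (iv F19635)) (tt N1795 (iv D4505)) (tt N2338 D5775) (tt N2334 (iv F19666)) (tt N1799 F15534))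
theorem Q2064 : ∀ i, i < 2064 → P i := stepQ 2063 Q2063 (allL N2063 (tt N2211 (iv F19181)) (tt N2338 (iv F19686)) (tt N2063 F15535) (tt N1891 (iv F56225)) (tt N2063 F15536) (tt N1796 (iv D4506)) (tt N1890 F56094) (tt N1800 F15537))
theorem Q2065 : ∀ i, i < 2065 → P i := stepQ 2064 Q2064 (allL N2064 (tt N1798 F15538) (tt N2339 D5776) (tt N1797 (iv D4507)) (tt N1816 F15539) (tt N2340 D5777) (tt N2064 F15540) (tt N2315 (iv F56946)) (tt N2335 (iv F19677)))
theorem Q2066 : ∀ i, i < 2066 → P i := stepQ 2065 Q2065 (allL N2065 (tt N1799 F15541) (tt N2213 (iv F19191)) (tt N2340 (iv F19693)) (tt N2329 (iv F19647)) (tt N1797 (iv D4508)) (tt N2341 D5779) (tt N2065 F15542) (tt N2336 (iv F19679)))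
theorem Q2067 : ∀ i, i < 2067 → P i := stepQ 2066 Q2066 (allL N2066 (tt N2340 (iv F19692)) (tt N2066 F15543) (tt N1799 F15544) (tt N2304 F56932) (tt N1798 (iv D4509)) (tt N2342 D5781) (tt N2302 (iv F57085)) (tt N2337 (iv F19682)))
theorem Q2068 : ∀ i, i < 2068 → P i := stepQ 2067 Q2067 (allL N2067 (tt N2341 (iv F19698)) (tt N1800 F15549) (tt N2342 (iv F19704)) (tt N2332 (iv F19653)) (tt N2067 F15550) (tt N1799 (iv D4511)) (tt N2067 F15551) (tt N2338 (iv F19688)))
theorem Q2069 : ∀ i, i < 2069 → P i := stepQ 2068 Q2068 (allL N2068 (tt N1802 F15552) (tt N1830 F15553) (tt N2343 D5784) (tt N1801 (iv D4512)) (tt N2344 D5785) (tt N2325 (iv F19627)) (tt N1878 F15554) (tt N2322 (iv F19610)))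
theorem Q2070 : ∀ i, i < 2070 → P i := stepQ 2069 Q2069 (allL N2069 (tt N2343 (iv F19713)) (tt N1811 F15555) (tt N1802 (iv D4513)) (tt N2320 (iv F19593)) (tt N2345 D5786) (tt N2326 (iv F19632)) (tt N2346 D5787) (tt N2323 (iv F19614)))
theorem Q2071 : ∀ i, i < 2071 → P i := stepQ 2070 Q2070 (allL N2070 (tt N2344 (iv F19714)) (tt N1803 F15556) (tt N2345 (iv F19719)) (tt N2070 F15557) (tt N1802 (iv D4514)) (tt N1888 F56367) (tt N1880 F15558) (tt N2324 (iv F19618)))
theorem Q2072 : ∀ i, i < 2072 → P i := stepQ 2071 Q2071 (allL N2071 (tt N1805 F15563) (tt N1837 F15564) (tt N2347 D5789) (tt N1804 (iv D4516)) (tt N2348 D5790) (tt N1810 F15565) (tt N1818 F15566) (tt N2319 (iv F19591)))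
theorem Q2073 : ∀ i, i < 2073 → P i := stepQ 2072 Q2072 (allL N2072 (tt N2347 (iv F19725)) (tt N2326 (iv F19630)) (tt N1805 (iv D4517)) (tt N2323 (iv F19612)) (tt N2349 D5791) (tt N1811 F15567) (tt N2350 D5792) (tt N2320 (iv F19595)))
theorem Q2074 : ∀ i, i < 2074 → P i := stepQ 2073 Q2073 (allL N2073 (tt N2348 (iv F19727)) (tt N1806 F15568) (tt N2349 (iv F19731)) (tt N2073 F15569) (tt N1805 (iv D4518)) (tt N1862 F56360) (tt N1820 F15570) (tt N2321 (iv F19599)))
theorem Q2075 : ∀ i, i < 2075 → P i := stepQ 2074 Q2074 (allL N2074 (tt N1808 F15575) (tt N1840 F15576) (tt N2351 D5794) (tt N1807 (iv D4520)) (tt N2352 D5795) (tt N2319 (iv F19589)) (tt N1908 F15577) (tt N1810 F15578))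
theorem Q2076 : ∀ i, i < 2076 → P i := stepQ 2075 Q2075 (allL N2075 (tt N2351 (iv F19738)) (tt N2323 (iv F19611)) (tt N1808 (iv D4521)) (tt N2326 (iv F19631)) (tt N2353 D5796) (tt N2320 (iv F19594)) (tt N2354 D5797) (tt N1811 F15579))
theorem Q2077 : ∀ i, i < 2077 → P i := stepQ 2076 Q2076 (allL N2076 (tt N2352 (iv F19740)) (tt N1809 F15580) (tt N2353 (iv F19745)) (tt N1815 F15581) (tt N1808 (iv D4522)) (tt N1863 (iv F56511)) (tt N1910 F15582) (tt N1812 F15583))
theorem Q2078 : ∀ i, i < 2078 → P i := stepQ 2077 Q2077 (allL N2077 (tt N1811 F15588) (tt N2355 D5799) (tt N1810 (iv D4524)) (tt N2328 (iv F19645)) (tt N2356 D5800) (tt N2347 (iv F19726)) (tt N2357 D5801) (tt N2351 (iv F19739)))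
theorem Q2079 : ∀ i, i < 2079 → P i := stepQ 2078 Q2078 (allL N2078 (tt N1812 F15589) (tt N1845 F15590) (tt N2356 (iv F19754)) (tt N1817 F15591) (tt N1810 (iv D4525)) (tt N1861 (iv F56508)) (tt N1822 F15592) (tt N2352 (iv F19744)))
theorem Q2080 : ∀ i, i < 2080 → P i := stepQ 2079 Q2079 (allL N2079 (tt N2356 (iv F19753)) (tt N2345 (iv F19718)) (tt N1812 F15593) (tt N2272 (iv F56537)) (tt N1811 (iv D4526)) (tt N1847 (iv F56510)) (tt N1838 (iv F56521)) (tt N2353 (iv F19746)))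
theorem Q2081 : ∀ i, i < 2081 → P i := stepQ 2080 Q2080 (allL N2080 (tt N2357 (iv F19755)) (tt N2346 (iv F19720)) (tt N1823 F15594) (tt N2331 (iv F19651)) (tt N1838 F56677) (tt N2350 (iv F19733)) (tt N1811 (iv D4527)) (tt N2358 D5806))
theorem Q2082 : ∀ i, i < 2082 → P i := stepQ 2081 Q2081 (allL N2081 (tt N1814 F15598) (tt N2359 D5807) (tt N1813 (iv D4529)) (tt N2335 (iv F19675)) (tt N2316 F56928) (tt N2081 F15599) (tt N2081 F56477) (tt N1816 F15600))
theorem Q2083 : ∀ i, i < 2083 → P i := stepQ 2082 Q2082 (allL N2082 (tt N1815 F15601) (tt N1850 F15602) (tt N2316 (iv F56802)) (tt N2352 (iv F19742)) (tt N1813 (iv D4530)) (tt N1864 F56657) (tt N1915 F15603) (tt N1817 F15604))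
theorem Q2084 : ∀ i, i < 2084 → P i := stepQ 2083 Q2083 (allL N2083 (tt N2083 F15615) (tt N1816 (iv D4534)) (tt N1854 F15616) (tt N2339 (iv F19690)) (tt N2314 F56931) (tt N2083 F15617) (tt N2313 (iv F56945)) (tt N2359 (iv F19769)))
theorem Q2085 : ∀ i, i < 2085 → P i := stepQ 2084 Q2084 (allL N2084 (tt N1819 F15637) (tt N1860 (iv F56312)) (tt N1818 (iv D4542)) (tt N2084 F15638) (tt N1859 (iv F56385)) (tt N1821 F15639) (tt N2360 D5827) (tt N1916 F15640))
theorem Q2086 : ∀ i, i < 2086 → P i := stepQ 2085 Q2085 (allL N2085 (tt N1820 F15641) (tt N1821 (iv F56519)) (tt N1859 (iv F56384)) (tt N2085 F15643) (tt N1818 (iv D4543)) (tt N1860 F56359) (tt N2348 (iv F19730)) (tt N1917 F15644))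
theorem Q2087 : ∀ i, i < 2087 → P i := stepQ 2086 Q2086 (allL N2086 (tt N2360 (iv F19830)) (tt N1839 F56452) (tt N2350 (iv F19732)) (tt N2086 F15649) (tt N1848 (iv F56506)) (tt N1823 F15650) (tt N1819 (iv D4545)) (tt N2361 D5832))
theorem Q2088 : ∀ i, i < 2088 → P i := stepQ 2087 Q2087 (allL N2087 (tt N1823 F15662) (tt N2348 F56672) (tt N2357 (iv F19756)) (tt N2087 F15663) (tt N1837 F56673) (tt N2360 (iv F19832)) (tt N1821 (iv D4549)) (tt N2362 D5838))
theorem Q2089 : ∀ i, i < 2089 → P i := stepQ 2088 Q2088 (allL N2088 (tt N2362 (iv F19868)) (tt N1836 F56678) (tt N2358 (iv F19765)) (tt N2088 F15678) (tt N1835 F56679) (tt N2361 (iv F19850)) (tt N1920 F15679) (tt N1823 (iv D4554)))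
theorem Q2090 : ∀ i, i < 2090 → P i := stepQ 2089 Q2089 (allL N2089 (tt N1825 F15730) (tt N2325 (iv F19626)) (tt N2363 D5857) (tt N1824 (iv D4568)) (tt N2364 D5858) (tt N1830 F15731) (tt N1884 F15732) (tt N2204 (iv F19153)))
theorem Q2091 : ∀ i, i < 2091 → P i := stepQ 2090 Q2090 (allL N2090 (tt N2363 (iv F19934)) (tt N1838 F15733) (tt N1825 (iv D4569)) (tt N2226 (iv F19246)) (tt N2346 (iv F56575)) (tt N1831 F15734) (tt N2345 (iv F56536)) (tt N2205 (iv F19157)))
theorem Q2092 : ∀ i, i < 2092 → P i := stepQ 2091 Q2091 (allL N2091 (tt N2364 (iv F19936)) (tt N1826 F15735) (tt N2346 (iv F56574)) (tt N2210 (iv F19178)) (tt N1825 (iv D4570)) (tt N2365 D5861) (tt N1879 F56400) (tt N2206 (iv F19161)))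
theorem Q2093 : ∀ i, i < 2093 → P i := stepQ 2092 Q2092 (allL N2092 (tt N1891 (iv F56224)) (tt N2365 (iv F19943)) (tt N1839 F15737) (tt N2211 (iv F19183)) (tt N1833 F15738) (tt N1826 (iv D4571)) (tt N1881 F56391) (tt N2207 (iv F19167)))
theorem Q2094 : ∀ i, i < 2094 → P i := stepQ 2093 Q2093 (allL N2093 (tt N1828 F15740) (tt N2322 (iv F19607)) (tt N2366 D5862) (tt N1827 (iv D4572)) (tt N2367 D5863) (tt N2204 (iv F19151)) (tt N2093 F15741) (tt N1830 F15742))
theorem Q2095 : ∀ i, i < 2095 → P i := stepQ 2094 Q2094 (allL N2094 (tt N2366 (iv F19946)) (tt N1841 F15743) (tt N1828 (iv D4573)) (tt N2222 (iv F19227)) (tt N2368 D5864) (tt N2205 (iv F19156)) (tt N2369 D5865) (tt N1831 F15744))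
theorem Q2096 : ∀ i, i < 2096 → P i := stepQ 2095 Q2095 (allL N2095 (tt N2367 (iv F19948)) (tt N1829 F15745) (tt N2368 (iv F19953)) (tt N2095 F15746) (tt N1828 (iv D4574)) (tt N2370 D5866) (tt N2095 F15747) (tt N1832 F15748))
theorem Q2097 : ∀ i, i < 2097 → P i := stepQ 2096 Q2096 (allL N2096 (tt N1892 F56387) (tt N2370 (iv F19957)) (tt N1843 F15749) (tt N2096 F15750) (tt N2207 (iv F19165)) (tt N1829 (iv D4575)) (tt N2096 F15751) (tt N1833 F15752))
theorem Q2098 : ∀ i, i < 2098 → P i := stepQ 2097 Q2097 (allL N2097 (tt N1831 F15753) (tt N2371 D5867) (tt N1830 (iv D4576)) (tt N2264 (iv F19402)) (tt N2372 D5868) (tt N2363 (iv F19935)) (tt N2373 D5869) (tt N2366 (iv F19947)))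
theorem Q2099 : ∀ i, i < 2099 → P i := stepQ 2098 Q2098 (allL N2098 (tt N1832 F15754) (tt N2344 (iv F19715)) (tt N2372 (iv F19963)) (tt N2098 F15755) (tt N1830 (iv D4577)) (tt N2374 D5870) (tt N1886 F15756) (tt N2367 (iv F19951)))
theorem Q2100 : ∀ i, i < 2100 → P i := stepQ 2099 Q2099 (allL N2099 (tt N2372 (iv F19962)) (tt N1846 F15757) (tt N1832 F15758) (tt N2375 D5871) (tt N1831 (iv D4578)) (tt N2376 D5872) (tt N2377 D5873) (tt N2368 (iv F19954)))
theorem Q2101 : ∀ i, i < 2101 → P i := stepQ 2100 Q2100 (allL N2100 (tt N2373 (iv F19964)) (tt N1847 F15759) (tt N1888 F15760) (tt N2267 (iv F19410)) (tt N2377 (iv F19975)) (tt N2345 (iv F56535)) (tt N1831 (iv D4579)) (tt N2378 D5874))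
theorem Q2102 : ∀ i, i < 2102 → P i := stepQ 2101 Q2101 (allL N2101 (tt N2374 (iv F19966)) (tt N1833 F15761) (tt N2376 (iv F19972)) (tt N2101 F15762) (tt N2365 (iv F19944)) (tt N1832 (iv D4580)) (tt N1889 F15763) (tt N2370 (iv F19960)))
theorem Q2103 : ∀ i, i < 2103 → P i := stepQ 2102 Q2102 (allL N2102 (tt N1835 F15764) (tt N2319 (iv F19588)) (tt N2379 D5875) (tt N1834 (iv D4581)) (tt N2362 (iv F56817)) (tt N1840 F15765) (tt N1921 F15766) (tt N1837 F15767))
theorem Q2104 : ∀ i, i < 2104 → P i := stepQ 2103 Q2103 (allL N2103 (tt N2379 (iv F19978)) (tt N2205 (iv F19154)) (tt N1835 (iv D4582)) (tt N2218 (iv F19208)) (tt N2358 (iv F56823)) (tt N1841 F15768) (tt N2380 D5878) (tt N1838 F15769))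
theorem Q2105 : ∀ i, i < 2105 → P i := stepQ 2104 Q2104 (allL N2104 (tt N1893 (iv F56227)) (tt N2361 (iv F56614)) (tt N2207 (iv F19163)) (tt N2104 F15774) (tt N1843 F15775) (tt N1836 (iv D4584)) (tt N1923 F15776) (tt N1839 F15777))
theorem Q2106 : ∀ i, i < 2106 → P i := stepQ 2105 Q2105 (allL N2105 (tt N1838 F15778) (tt N2381 D5880) (tt N1837 (iv D4585)) (tt N2269 (iv F19415)) (tt N2357 (iv F56815)) (tt N1844 F15779) (tt N2356 F56671) (tt N2379 (iv F19980)))
theorem Q2107 : ∀ i, i < 2107 → P i := stepQ 2106 Q2106 (allL N2106 (tt N1841 F15790) (tt N2382 D5888) (tt N1840 (iv D4590)) (tt N2274 (iv F19429)) (tt N2383 D5889) (tt N2379 (iv F19979)) (tt N2384 D5890) (tt N1844 F15791))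
theorem Q2108 : ∀ i, i < 2108 → P i := stepQ 2107 Q2107 (allL N2107 (tt N1842 F15792) (tt N2352 (iv F19741)) (tt N2383 (iv F20013)) (tt N1850 F15793) (tt N1840 (iv D4591)) (tt N2385 D5891) (tt N1926 F15794) (tt N1845 F15795))
theorem Q2109 : ∀ i, i < 2109 → P i := stepQ 2108 Q2108 (allL N2108 (tt N2383 (iv F20012)) (tt N2368 (iv F19952)) (tt N1842 F15796) (tt N2386 D5892) (tt N1841 (iv D4592)) (tt N2387 D5893) (tt N2388 D5894) (tt N1846 F15797))
theorem Q2110 : ∀ i, i < 2110 → P i := stepQ 2109 Q2109 (allL N2109 (tt N2384 (iv F20015)) (tt N2369 (iv F19955)) (tt N1928 F15798) (tt N2277 (iv F19438)) (tt N2388 (iv F20026)) (tt N2380 (iv F19988)) (tt N1841 (iv D4593)) (tt N2389 D5895))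
theorem Q2111 : ∀ i, i < 2111 → P i := stepQ 2110 Q2110 (allL N2110 (tt N2385 (iv F20017)) (tt N1843 F15799) (tt N2387 (iv F20023)) (tt N1853 F15800) (tt N2361 F56661) (tt N1842 (iv D4594)) (tt N1929 F15801) (tt N1848 F15802))
theorem Q2112 : ∀ i, i < 2112 → P i := stepQ 2111 Q2111 (allL N2111 (tt N2371 (iv F19961)) (tt N1844 (iv D4595)) (tt N2355 (iv F19752)) (tt N2279 (iv F19443)) (tt N2390 D5896) (tt N2381 (iv F19994)) (tt N2391 D5897) (tt N2382 (iv F20011)))
theorem Q2113 : ∀ i, i < 2113 → P i := stepQ 2112 Q2112 (allL N2112 (tt N1846 F15803) (tt N2390 (iv F20029)) (tt N1845 F15804) (tt N2392 D5898) (tt N1844 (iv D4596)) (tt N2393 D5899) (tt N2394 D5900) (tt N2383 (iv F20014)))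
theorem Q2114 : ∀ i, i < 2114 → P i := stepQ 2113 Q2113 (allL N2113 (tt N1847 F15805) (tt N2391 (iv F20030)) (tt N1861 F15806) (tt N2281 (iv F19448)) (tt N2394 (iv F20037)) (tt N2356 F56662) (tt N1844 (iv D4597)) (tt N2395 D5901))
theorem Q2115 : ∀ i, i < 2115 → P i := stepQ 2114 Q2114 (allL N2114 (tt N1848 F15807) (tt N1861 (iv F56507)) (tt N2393 (iv F20034)) (tt N1856 F15808) (tt N2360 (iv F56534)) (tt N1845 (iv D4598)) (tt N1859 F56386) (tt N2385 (iv F20020)))
theorem Q2116 : ∀ i, i < 2116 → P i := stepQ 2115 Q2115 (allL N2115 (tt N2392 (iv F20031)) (tt N2375 (iv F19969)) (tt N1857 F15810) (tt N1846 (iv D4599)) (tt N2283 (iv F19453)) (tt N2396 D5902) (tt N2397 D5903) (tt N2386 (iv F20022)))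
theorem Q2117 : ∀ i, i < 2117 → P i := stepQ 2116 Q2116 (allL N2116 (tt N2393 (iv F20033)) (tt N2376 (iv F19971)) (tt N1848 F15811) (tt N2396 (iv F20041)) (tt N2350 F56659) (tt N1846 (iv D4600)) (tt N2349 F56660) (tt N2387 (iv F20024)))
theorem Q2118 : ∀ i, i < 2118 → P i := stepQ 2117 Q2117 (allL N2117 (tt N2394 (iv F20035)) (tt N2377 (iv F19973)) (tt N1862 F15812) (tt N2397 (iv F20043)) (tt N1847 F15813) (tt N2349 (iv F56529)) (tt N1846 (iv D4601)) (tt N2398 D5905))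
theorem Q2119 : ∀ i, i < 2119 → P i := stepQ 2118 Q2118 (allL N2118 (tt N2395 (iv F20038)) (tt N2378 (iv F19976)) (tt N1863 F15814) (tt N2286 (iv F19458)) (tt N2398 (iv F20047)) (tt N2353 F56667) (tt N2389 (iv F20028)) (tt N1847 (iv D4602)))
theorem Q2120 : ∀ i, i < 2120 → P i := stepQ 2119 Q2119 (allL N2119 (tt N2119 F15815) (tt N1849 (iv D4603)) (tt N2359 (iv F19767)) (tt N2287 (iv F19460)) (tt N2399 D5906) (tt N2119 F15816) (tt N2400 D5907) (tt N1854 F15817))
theorem Q2121 : ∀ i, i < 2121 → P i := stepQ 2120 Q2120 (allL N2120 (tt N1851 F15818) (tt N2399 (iv F20049)) (tt N1850 F15819) (tt N2401 D5908) (tt N1849 (iv D4604)) (tt N2402 D5909) (tt N2403 D5910) (tt N1855 F15820))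
theorem Q2122 : ∀ i, i < 2122 → P i := stepQ 2121 Q2121 (allL N2121 (tt N1852 F15821) (tt N2400 (iv F20052)) (tt N1939 F15822) (tt N2289 (iv F19468)) (tt N2403 (iv F20063)) (tt N2121 F15823) (tt N1849 (iv D4605)) (tt N2121 F15824))
theorem Q2123 : ∀ i, i < 2123 → P i := stepQ 2122 Q2122 (allL N2122 (tt N1853 F15825) (tt N1864 F56716) (tt N2402 (iv F20058)) (tt N2385 (iv F20018)) (tt N2122 F15826) (tt N1850 (iv D4606)) (tt N1940 F15827) (tt N1856 F15828))
theorem Q2124 : ∀ i, i < 2124 → P i := stepQ 2123 Q2123 (allL N2123 (tt N2401 (iv F20055)) (tt N2123 F15829) (tt N2386 (iv F20021)) (tt N1851 (iv D4607)) (tt N2291 (iv F19476)) (tt N2258 F57379) (tt N2257 (iv F57431)) (tt N1857 F15830))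
theorem Q2125 : ∀ i, i < 2125 → P i := stepQ 2124 Q2124 (allL N2124 (tt N2402 (iv F20057)) (tt N2124 F15831) (tt N1853 F15832) (tt N2258 F57378) (tt N2124 F15833) (tt N1851 (iv D4608)) (tt N2256 (iv F57449)) (tt N1858 F15834))
theorem Q2126 : ∀ i, i < 2126 → P i := stepQ 2125 Q2125 (allL N2125 (tt N2403 (iv F20061)) (tt N2125 F15835) (tt N1943 F15836) (tt N2257 F57490) (tt N1852 F15837) (tt N2256 F57491) (tt N1851 (iv D4609)) (tt N2125 F15838))
theorem Q2127 : ∀ i, i < 2127 → P i := stepQ 2126 Q2126 (allL N2126 (tt N2126 F15839) (tt N1855 F15840) (tt N2314 F56957) (tt N2404 D5914) (tt N1854 (iv D4610)) (tt N2317 F56958) (tt N2126 F15841) (tt N2399 (iv F20050)))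
theorem Q2128 : ∀ i, i < 2128 → P i := stepQ 2127 Q2127 (allL N2127 (tt N1857 F15842) (tt N2404 (iv F20077)) (tt N2392 (iv F20032)) (tt N1855 (iv D4611)) (tt N2295 (iv F19490)) (tt N2405 D5916) (tt N2127 F15843) (tt N2401 (iv F20056)))
theorem Q2129 : ∀ i, i < 2129 → P i := stepQ 2128 Q2128 (allL N2128 (tt N1858 F15844) (tt N2317 (iv F56872)) (tt N1856 F15845) (tt N2405 (iv F20084)) (tt N2128 F15846) (tt N1855 (iv D4612)) (tt N2128 F15847) (tt N2402 (iv F20060)))
theorem Q2130 : ∀ i, i < 2130 → P i := stepQ 2129 Q2129 (allL N2129 (tt N2405 (iv F20083)) (tt N2129 F15848) (tt N2396 (iv F20040)) (tt N1858 F15849) (tt N2259 F57238) (tt N1857 (iv D4613)) (tt N2129 F15850) (tt N2258 (iv F57242)))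
theorem Q2131 : ∀ i, i < 2131 → P i := stepQ 2130 Q2130 (allL N2130 (tt N1862 F15890) (tt N2360 F56467) (tt N2394 (iv F20036)) (tt N2130 F15891) (tt N1861 F15892) (tt N2348 (iv F56527)) (tt N1860 (iv D4625)) (tt N2406 D5933))
theorem Q2132 : ∀ i, i < 2132 → P i := stepQ 2131 Q2131 (allL N2131 (tt N1863 F15893) (tt N2385 F56663) (tt N2395 (iv F20039)) (tt N1864 F15894) (tt N2406 (iv F20142)) (tt N2352 F56664) (tt N1948 F15895) (tt N1861 (iv D4626)))
theorem Q2133 : ∀ i, i < 2133 → P i := stepQ 2132 Q2132 (allL N2132 (tt N2406 (iv F20140)) (tt N1893 F15899) (tt N2398 (iv F20046)) (tt N2132 F15900) (tt N1863 F15901) (tt N2321 (iv F56530)) (tt N1949 F15902) (tt N1862 (iv D4628)))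
theorem Q2134 : ∀ i, i < 2134 → P i := stepQ 2133 Q2133 (allL N2133 (tt N1865 (iv D4638)) (tt N2133 F15935) (tt N1902 F15936) (tt N2407 D5945) (tt N2133 F15937) (tt N1897 F15938) (tt N1869 F15939) (tt N1894 F15940))
theorem Q2135 : ∀ i, i < 2135 → P i := stepQ 2134 Q2134 (allL N2134 (tt N2407 (iv F20181)) (tt N1866 F15941) (tt N2408 D5946) (tt N1865 (iv D4639)) (tt N2409 D5947) (tt N1898 F15942) (tt N1870 F15943) (tt N1895 F15944))
theorem Q2136 : ∀ i, i < 2136 → P i := stepQ 2135 Q2135 (allL N2135 (tt N2135 F15945) (tt N2409 (iv F20190)) (tt N2135 F15946) (tt N2135 F15947) (tt N1866 (iv D4640)) (tt N2135 F56419) (tt N1871 F15948) (tt N1896 F15949))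
theorem Q2137 : ∀ i, i < 2137 → P i := stepQ 2136 Q2136 (allL N2136 (tt N1867 (iv D4641)) (tt N2136 F15950) (tt N1875 F15951) (tt N2410 D5949) (tt N1901 F15952) (tt N1869 F15953) (tt N1897 F15954) (tt N2136 F15955))
theorem Q2138 : ∀ i, i < 2138 → P i := stepQ 2137 Q2137 (allL N2137 (tt N2410 (iv F20200)) (tt N1868 F15956) (tt N2411 D5950) (tt N1867 (iv D4642)) (tt N2137 F56472) (tt N1870 F15957) (tt N1898 F15958) (tt N2137 F15959))
theorem Q2139 : ∀ i, i < 2139 → P i := stepQ 2138 Q2138 (allL N2138 (tt N1870 F15965) (tt N2138 F15966) (tt N2412 D5953) (tt N1869 (iv D4644)) (tt N2413 D5954) (tt N2410 (iv F20202)) (tt N2407 (iv F20184)) (tt N2138 F15967))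
theorem Q2140 : ∀ i, i < 2140 → P i := stepQ 2139 Q2139 (allL N2139 (tt N2412 (iv F20219)) (tt N1874 F15968) (tt N1870 (iv D4645)) (tt N1879 F15969) (tt N1883 (iv F56128)) (tt N2411 (iv F20207)) (tt N2210 (iv F56251)) (tt N2139 F15970))
theorem Q2141 : ∀ i, i < 2141 → P i := stepQ 2140 Q2140 (allL N2140 (tt N2413 (iv F20222)) (tt N1871 F15971) (tt N1883 F56276) (tt N2140 F15972) (tt N1870 (iv D4646)) (tt N2140 F56418) (tt N2409 (iv F20192)) (tt N2140 F15973))
theorem Q2142 : ∀ i, i < 2142 → P i := stepQ 2141 Q2141 (allL N2141 (tt N1890 F56096) (tt N2411 (iv F20205)) (tt N1872 (iv D4649)) (tt N1881 F15983) (tt N2141 F56174) (tt N1874 F15984) (tt N2211 (iv F56252)) (tt N2141 F15985))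
theorem Q2143 : ∀ i, i < 2143 → P i := stepQ 2142 Q2142 (allL N2142 (tt N1876 F16043) (tt N1884 F16044) (tt N2414 D5981) (tt N1875 (iv D4665)) (tt N2415 D5982) (tt N1878 F16045) (tt N2325 (iv F19628)) (tt N2142 F16046))
theorem Q2144 : ∀ i, i < 2144 → P i := stepQ 2143 Q2143 (allL N2143 (tt N2414 (iv F20314)) (tt N1881 F16047) (tt N1876 (iv D4666)) (tt N2411 (iv F20206)) (tt N1889 F56390) (tt N1879 F16048) (tt N2365 (iv F56562)) (tt N2143 F16049))
theorem Q2145 : ∀ i, i < 2145 → P i := stepQ 2144 Q2144 (allL N2144 (tt N2415 (iv F20317)) (tt N1877 F16050) (tt N1889 (iv F56235)) (tt N2334 (iv F19665)) (tt N1876 (iv D4667)) (tt N1887 (iv F56228)) (tt N2327 (iv F19636)) (tt N2144 F16051))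
theorem Q2146 : ∀ i, i < 2146 → P i := stepQ 2145 Q2145 (allL N2145 (tt N1879 F16056) (tt N2415 F56397) (tt N1878 (iv D4669)) (tt N2412 (iv F20220)) (tt N1884 F56398) (tt N2414 (iv F20315)) (tt N2364 (iv F56570)) (tt N2145 F16057))
theorem Q2147 : ∀ i, i < 2147 → P i := stepQ 2146 Q2146 (allL N2146 (tt N1880 F16058) (tt N1886 F16059) (tt N1884 F56369) (tt N2146 F16060) (tt N1878 (iv D4670)) (tt N1885 F56370) (tt N2344 (iv F19717)) (tt N2146 F16061))
theorem Q2148 : ∀ i, i < 2148 → P i := stepQ 2147 Q2147 (allL N2147 (tt N1883 F16239) (tt N2333 (iv F19656)) (tt N2413 (iv F56426)) (tt N1882 (iv D4729)) (tt N2412 F56277) (tt N2147 F16240) (tt N2208 (iv F19171)) (tt N2147 F16241))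
theorem Q2149 : ∀ i, i < 2149 → P i := stepQ 2148 Q2148 (allL N2148 (tt N1889 F56388) (tt N1885 (iv D4738)) (tt N2415 F56392) (tt N2148 F16269) (tt N2414 (iv F56560)) (tt N1886 (iv F56526)) (tt N2374 (iv F56555)) (tt N2148 F16270))
theorem Q2150 : ∀ i, i < 2150 → P i := stepQ 2149 Q2149 (allL N2149 (tt N1887 F16271) (tt N2414 (iv F56559)) (tt N1886 F16272) (tt N2416 D6081) (tt N1885 (iv D4739)) (tt N2415 F56380) (tt N2417 D6083) (tt N2149 F16273))
theorem Q2151 : ∀ i, i < 2151 → P i := stepQ 2150 Q2150 (allL N2150 (tt N1888 F16274) (tt N2374 (iv F56554)) (tt N2373 (iv F19965)) (tt N2150 F16275) (tt N2417 (iv F20625)) (tt N2344 (iv F56540)) (tt N1885 (iv D4740)) (tt N2418 D6084))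
theorem Q2152 : ∀ i, i < 2152 → P i := stepQ 2151 Q2151 (allL N2151 (tt N2416 (iv F20617)) (tt N1890 F16279) (tt N2151 F16280) (tt N1887 (iv D4742)) (tt N2151 F16281) (tt N2334 F56093) (tt N2338 (iv F56248)) (tt N2151 F16282))
theorem Q2153 : ∀ i, i < 2153 → P i := stepQ 2152 Q2152 (allL N2152 (tt N2417 (iv F20624)) (tt N1891 F16286) (tt N2377 (iv F19974)) (tt N2338 F56374) (tt N1888 F16287) (tt N2327 F56375) (tt N1887 (iv D4744)) (tt N2332 (iv F56552)))
theorem Q2154 : ∀ i, i < 2154 → P i := stepQ 2153 Q2153 (allL N2153 (tt N2418 (iv F20626)) (tt N1892 F16288) (tt N2378 (iv F19977)) (tt N2153 F16289) (tt N2332 (iv F56551)) (tt N2324 (iv F56541)) (tt N2153 F16290) (tt N1888 (iv D4745)))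
theorem Q2155 : ∀ i, i < 2155 → P i := stepQ 2154 Q2154 (allL N2154 (tt N1895 F17165) (tt N2154 F17166) (tt N2419 D6424) (tt N1894 (iv D5010)) (tt N2420 D6425) (tt N1899 F17167) (tt N2154 F17168) (tt N2407 (iv F20185)))
theorem Q2156 : ∀ i, i < 2156 → P i := stepQ 2155 Q2155 (allL N2155 (tt N2419 (iv F21727)) (tt N2155 F17169) (tt N1895 (iv D5011)) (tt N1906 F17170) (tt N2421 D6426) (tt N1900 F17171) (tt N2422 D6427) (tt N2408 (iv F20189)))
theorem Q2157 : ∀ i, i < 2157 → P i := stepQ 2156 Q2156 (allL N2156 (tt N2420 (iv F21730)) (tt N1896 F17172) (tt N2421 (iv F21735)) (tt N2156 F17173) (tt N1895 (iv D5012)) (tt N2156 F56741) (tt N2156 F17174) (tt N2409 (iv F20193)))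
theorem Q2158 : ∀ i, i < 2158 → P i := stepQ 2157 Q2157 (allL N2157 (tt N1898 F17180) (tt N2157 F17181) (tt N2423 D6429) (tt N1897 (iv D5014)) (tt N2157 F56776) (tt N2407 (iv F20183)) (tt N2410 (iv F20203)) (tt N1899 F17182))
theorem Q2159 : ∀ i, i < 2159 → P i := stepQ 2158 Q2158 (allL N2158 (tt N2423 (iv F21744)) (tt N2158 F17183) (tt N1898 (iv D5015)) (tt N1909 F17184) (tt N2158 F56778) (tt N2408 (iv F20188)) (tt N2424 D6432) (tt N1900 F17185))
theorem Q2160 : ∀ i, i < 2160 → P i := stepQ 2159 Q2159 (allL N2159 (tt N1900 F17193) (tt N2425 D6434) (tt N1899 (iv D5018)) (tt N1911 F17194) (tt N2159 F57094) (tt N2419 (iv F21729)) (tt N2426 D6436) (tt N2423 (iv F21746)))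
theorem Q2161 : ∀ i, i < 2161 → P i := stepQ 2160 Q2160 (allL N2160 (tt N2426 (iv F21764)) (tt N2160 F17201) (tt N2160 F17202) (tt N1914 F17203) (tt N2160 F57027) (tt N2422 (iv F21739)) (tt N1900 (iv D5021)) (tt N2427 D6441))
theorem Q2162 : ∀ i, i < 2162 → P i := stepQ 2161 Q2161 (allL N2161 (tt N1903 F17263) (tt N1921 F17264) (tt N2428 D6465) (tt N1902 (iv D5040)) (tt N2429 D6466) (tt N1908 F17265) (tt N2319 (iv F19590)) (tt N1905 F17266))
theorem Q2163 : ∀ i, i < 2163 → P i := stepQ 2162 Q2162 (allL N2162 (tt N2428 (iv F21856)) (tt N2162 F17267) (tt N1903 (iv D5041)) (tt N2408 (iv F20187)) (tt N2430 D6467) (tt N1909 F17268) (tt N2431 D6468) (tt N1906 F17269))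
theorem Q2164 : ∀ i, i < 2164 → P i := stepQ 2163 Q2163 (allL N2163 (tt N2429 (iv F21859)) (tt N1904 F17270) (tt N2430 (iv F21864)) (tt N2163 F17271) (tt N1903 (iv D5042)) (tt N1949 F56689) (tt N2321 (iv F19598)) (tt N1907 F17272))
theorem Q2165 : ∀ i, i < 2165 → P i := stepQ 2164 Q2164 (allL N2164 (tt N1906 F17278) (tt N2432 D6470) (tt N1905 (iv D5044)) (tt N2419 (iv F21728)) (tt N2433 D6471) (tt N1911 F17279) (tt N2434 D6472) (tt N2428 (iv F21858)))
theorem Q2166 : ∀ i, i < 2166 → P i := stepQ 2165 Q2165 (allL N2165 (tt N1907 F17280) (tt N1919 (iv F56818)) (tt N2433 (iv F21876)) (tt N2165 F17282) (tt N1905 (iv D5045)) (tt N1947 F56686) (tt N1917 F17283) (tt N2429 (iv F21862)))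
theorem Q2167 : ∀ i, i < 2167 → P i := stepQ 2166 Q2166 (allL N2166 (tt N2433 (iv F21875)) (tt N2166 F17284) (tt N1907 F17285) (tt N2435 D6474) (tt N1906 (iv D5046)) (tt N1936 F56690) (tt N1935 F56691) (tt N2430 (iv F21865)))
theorem Q2168 : ∀ i, i < 2168 → P i := stepQ 2167 Q2167 (allL N2167 (tt N2434 (iv F21877)) (tt N2167 F17286) (tt N1918 F17287) (tt N2422 (iv F21738)) (tt N1935 F56703) (tt N1914 F17288) (tt N1906 (iv D5047)) (tt N2436 D6477))
theorem Q2169 : ∀ i, i < 2169 → P i := stepQ 2168 Q2168 (allL N2168 (tt N1909 F17293) (tt N2437 D6478) (tt N1908 (iv D5049)) (tt N2423 (iv F21745)) (tt N2438 D6479) (tt N2428 (iv F21857)) (tt N2439 D6480) (tt N1911 F17294))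
theorem Q2170 : ∀ i, i < 2170 → P i := stepQ 2169 Q2169 (allL N2169 (tt N1910 F17295) (tt N1926 F17296) (tt N2438 (iv F21900)) (tt N1915 F17297) (tt N1908 (iv D5050)) (tt N1948 (iv F56809)) (tt N2352 (iv F19743)) (tt N1912 F17298))
theorem Q2171 : ∀ i, i < 2171 → P i := stepQ 2170 Q2170 (allL N2170 (tt N2438 (iv F21899)) (tt N2170 F17299) (tt N1910 F17300) (tt N2170 F56858) (tt N1909 (iv D5051)) (tt N1937 (iv F56812)) (tt N2440 D6484) (tt N1913 F17301))
theorem Q2172 : ∀ i, i < 2172 → P i := stepQ 2171 Q2171 (allL N2171 (tt N2439 (iv F21902)) (tt N2171 F17302) (tt N2354 (iv F19747)) (tt N2424 (iv F21755)) (tt N2440 (iv F21914)) (tt N2431 (iv F21867)) (tt N1909 (iv D5052)) (tt N2441 D6485))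
theorem Q2173 : ∀ i, i < 2173 → P i := stepQ 2172 Q2172 (allL N2172 (tt N2172 F17306) (tt N1911 (iv D5054)) (tt N1930 F17307) (tt N2425 (iv F21761)) (tt N2442 D6486) (tt N2432 (iv F21874)) (tt N2443 D6487) (tt N2437 (iv F21898)))
theorem Q2174 : ∀ i, i < 2174 → P i := stepQ 2173 Q2173 (allL N2173 (tt N1913 F17308) (tt N2442 (iv F21918)) (tt N1912 F17309) (tt N2173 F56844) (tt N1911 (iv D5055)) (tt N1932 (iv F56810)) (tt N1924 (iv F56820)) (tt N2438 (iv F21901)))
theorem Q2175 : ∀ i, i < 2175 → P i := stepQ 2174 Q2174 (allL N2174 (tt N1914 F17310) (tt N2443 (iv F21921)) (tt N1919 F17311) (tt N2426 (iv F21766)) (tt N1924 F56973) (tt N2434 (iv F21879)) (tt N1911 (iv D5056)) (tt N2444 D6491))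
theorem Q2176 : ∀ i, i < 2176 → P i := stepQ 2175 Q2175 (allL N2175 (tt N2444 (iv F21929)) (tt N2175 F17323) (tt N1920 F17324) (tt N2427 (iv F21781)) (tt N1922 F56981) (tt N2436 (iv F21895)) (tt N2441 (iv F21916)) (tt N1914 (iv D5061)))
theorem Q2177 : ∀ i, i < 2177 → P i := stepQ 2176 Q2176 (allL N2176 (tt N1918 F17383) (tt N1947 (iv F56626)) (tt N2434 (iv F21878)) (tt N2176 F17384) (tt N1933 F56695) (tt N1919 F17385) (tt N1916 (iv D5082)) (tt N2445 D6524))
theorem Q2178 : ∀ i, i < 2178 → P i := stepQ 2177 Q2177 (allL N2177 (tt N2445 (iv F22023)) (tt N1923 F56704) (tt N2436 (iv F21894)) (tt N2177 F17399) (tt N1929 F56705) (tt N1920 F17400) (tt N2361 (iv F19851)) (tt N1918 (iv D5087)))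
theorem Q2179 : ∀ i, i < 2179 → P i := stepQ 2178 Q2178 (allL N2178 (tt N1920 F17414) (tt N2429 F56970) (tt N2444 (iv F21930)) (tt N2178 F17415) (tt N1921 F56971) (tt N2445 (iv F22025)) (tt N2362 (iv F19870)) (tt N1919 (iv D5093)))
theorem Q2180 : ∀ i, i < 2180 → P i := stepQ 2179 Q2179 (allL N2179 (tt N1922 F17471) (tt N2446 D6560) (tt N1921 (iv D5112)) (tt N2179 F17472) (tt N2444 (iv F57126)) (tt N1925 F17473) (tt N2447 D6562) (tt N1924 F17474))
theorem Q2181 : ∀ i, i < 2181 → P i := stepQ 2180 Q2180 (allL N2180 (tt N2447 (iv F22138)) (tt N2180 F17481) (tt N2380 (iv F19987)) (tt N2180 F17482) (tt N2441 (iv F57132)) (tt N1928 F17483) (tt N1922 (iv D5115)) (tt N2440 F56980))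
theorem Q2182 : ∀ i, i < 2182 → P i := stepQ 2181 Q2181 (allL N2181 (tt N2181 F17488) (tt N1924 (iv D5117)) (tt N2432 (iv F21873)) (tt N2181 F17489) (tt N2443 (iv F57128)) (tt N1930 F17490) (tt N2442 F56974) (tt N2446 (iv F22134)))
theorem Q2183 : ∀ i, i < 2183 → P i := stepQ 2182 Q2182 (allL N2182 (tt N2182 F17514) (tt N1925 (iv D5125)) (tt N2437 (iv F21897)) (tt N2182 F17515) (tt N2448 D6578) (tt N2446 (iv F22133)) (tt N2449 D6579) (tt N1930 F17516))
theorem Q2184 : ∀ i, i < 2184 → P i := stepQ 2183 Q2183 (allL N2183 (tt N1927 F17517) (tt N2448 (iv F22192)) (tt N1926 F17518) (tt N2450 D6580) (tt N1925 (iv D5126)) (tt N2451 D6581) (tt N2452 D6582) (tt N1931 F17519))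
theorem Q2185 : ∀ i, i < 2185 → P i := stepQ 2184 Q2184 (allL N2184 (tt N1928 F17520) (tt N2449 (iv F22195)) (tt N2384 (iv F20016)) (tt N2184 F17521) (tt N2452 (iv F22205)) (tt N2447 (iv F22140)) (tt N1925 (iv D5127)) (tt N2453 D6583))
theorem Q2186 : ∀ i, i < 2186 → P i := stepQ 2185 Q2185 (allL N2185 (tt N1929 F17522) (tt N1948 (iv F56808)) (tt N2451 (iv F22202)) (tt N1940 F17523) (tt N2445 (iv F56847)) (tt N1926 (iv D5128)) (tt N2385 (iv F20019)) (tt N1933 F17524))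
theorem Q2187 : ∀ i, i < 2187 → P i := stepQ 2186 Q2186 (allL N2186 (tt N2450 (iv F22197)) (tt N2186 F17525) (tt N1941 F17526) (tt N1927 (iv D5129)) (tt N2186 F17527) (tt N2245 F57092) (tt N2244 (iv F57196)) (tt N1934 F17528))
theorem Q2188 : ∀ i, i < 2188 → P i := stepQ 2187 Q2187 (allL N2187 (tt N2451 (iv F22201)) (tt N2187 F17529) (tt N1929 F17530) (tt N2245 (iv F57083)) (tt N2436 (iv F56861)) (tt N1927 (iv D5130)) (tt N2243 F57074) (tt N1935 F17531))
theorem Q2189 : ∀ i, i < 2189 → P i := stepQ 2188 Q2188 (allL N2188 (tt N2452 (iv F22204)) (tt N2188 F17532) (tt N2388 (iv F20025)) (tt N2244 (iv F57195)) (tt N1928 F17533) (tt N2243 F57032) (tt N1927 (iv D5131)) (tt N2454 D6587))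
theorem Q2190 : ∀ i, i < 2190 → P i := stepQ 2189 Q2189 (allL N2189 (tt N2453 (iv F22206)) (tt N2189 F17534) (tt N2389 (iv F20027)) (tt N2189 F17535) (tt N2454 (iv F22219)) (tt N2440 F56965) (tt N1937 F17536) (tt N1928 (iv D5132)))
theorem Q2191 : ∀ i, i < 2191 → P i := stepQ 2190 Q2190 (allL N2190 (tt N2190 F17537) (tt N1931 F17538) (tt N2442 (iv F21919)) (tt N2455 D6588) (tt N1930 (iv D5133)) (tt N2456 D6589) (tt N2457 D6590) (tt N2448 (iv F22193)))
theorem Q2192 : ∀ i, i < 2192 → P i := stepQ 2191 Q2191 (allL N2191 (tt N2191 F17539) (tt N1932 F17540) (tt N2456 F56963) (tt N2191 F17541) (tt N2457 (iv F22228)) (tt N2442 F56964) (tt N1930 (iv D5134)) (tt N2458 D6592))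
theorem Q2193 : ∀ i, i < 2193 → P i := stepQ 2192 Q2192 (allL N2192 (tt N1934 F17542) (tt N2455 (iv F22222)) (tt N1944 F17543) (tt N1931 (iv D5135)) (tt N2192 F17544) (tt N2459 D6593) (tt N2460 D6594) (tt N2450 (iv F22200)))
theorem Q2194 : ∀ i, i < 2194 → P i := stepQ 2193 Q2193 (allL N2193 (tt N1935 F17545) (tt N2456 (iv F22225)) (tt N1933 F17546) (tt N2459 (iv F22236)) (tt N2434 (iv F56848)) (tt N1931 (iv D5136)) (tt N2433 (iv F56835)) (tt N2451 (iv F22203)))
theorem Q2195 : ∀ i, i < 2195 → P i := stepQ 2194 Q2194 (allL N2194 (tt N1936 F17547) (tt N2457 (iv F22227)) (tt N1947 F17548) (tt N2460 (iv F22239)) (tt N1932 F17549) (tt N2433 (iv F56834)) (tt N1931 (iv D5137)) (tt N2461 D6596))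
theorem Q2196 : ∀ i, i < 2196 → P i := stepQ 2195 Q2195 (allL N2195 (tt N1937 F17550) (tt N2458 (iv F22232)) (tt N1948 F17551) (tt N2195 F17552) (tt N2461 (iv F22246)) (tt N2438 F56962) (tt N2453 (iv F22208)) (tt N1932 (iv D5138)))
theorem Q2197 : ∀ i, i < 2197 → P i := stepQ 2196 Q2196 (allL N2196 (tt N2459 (iv F22234)) (tt N2196 F17553) (tt N1946 F17554) (tt N1935 F17555) (tt N2246 F57204) (tt N1934 (iv D5139)) (tt N2435 (iv F56838)) (tt N2245 F57205))
theorem Q2198 : ∀ i, i < 2198 → P i := stepQ 2197 Q2197 (allL N2197 (tt N2460 (iv F22237)) (tt N2197 F17556) (tt N2197 F17557) (tt N1936 F17558) (tt N2197 F17559) (tt N2435 (iv F56837)) (tt N1934 (iv D5140)) (tt N2462 D6599))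
theorem Q2199 : ∀ i, i < 2199 → P i := stepQ 2198 Q2198 (allL N2198 (tt N2461 (iv F22244)) (tt N2198 F17563) (tt N1949 F17564) (tt N2462 (iv F22256)) (tt N1937 F17565) (tt N2430 (iv F56836)) (tt N2454 (iv F22220)) (tt N1936 (iv D5142)))
theorem Q2200 : ∀ i, i < 2200 → P i := stepQ 2199 Q2199 (allL N2199 (tt N1941 F17574) (tt N2199 F57389) (tt N2450 (iv F22198)) (tt N1938 (iv D5145)) (tt N2199 F17575) (tt N2262 F57340) (tt N2261 (iv F57394)) (tt N1944 F17576))
theorem Q2201 : ∀ i, i < 2201 → P i := stepQ 2200 Q2200 (allL N2200 (tt N1942 F17577) (tt N2200 F57198) (tt N1940 F17578) (tt N2262 F57346) (tt N2200 F17579) (tt N1938 (iv D5146)) (tt N2260 (iv F57445)) (tt N1945 F17580))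
theorem Q2202 : ∀ i, i < 2202 → P i := stepQ 2201 Q2201 (allL N2201 (tt N1943 F17581) (tt N2201 F57387) (tt N2403 (iv F20062)) (tt N2261 F57477) (tt N1939 F17582) (tt N2260 F57478) (tt N1938 (iv D5147)) (tt N2201 F17583))
theorem Q2203 : ∀ i, i < 2203 → P i := stepQ 2202 Q2202 (allL N2202 (tt N1946 F17603) (tt N2202 F57197) (tt N2459 (iv F22235)) (tt N1945 F17604) (tt N2263 F57342) (tt N1944 (iv D5153)) (tt N2202 F17605) (tt N2262 F57343))
theorem Q2204 : ∀ i, i < 2204 → P i := stepQ 2203 Q2203 (allL N2203 (tt N1949 F17653) (tt N2445 F56775) (tt N2461 (iv F22245)) (tt N2203 F17654) (tt N1948 F17655) (tt N2429 (iv F56833)) (tt N2406 (iv F20143)) (tt N1947 (iv D5170)))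
theorem Q2205 : ∀ i, i < 2205 → P i := stepQ 2204 Q2204 (allL N2204 (tt N1951 F19149) (tt N2053 F19150) (tt N2463 D7193) (tt N1950 (iv D5623)) (tt N2464 D7194) (tt N2093 F19151) (tt N2204 F19152) (tt N2089 F19153))
theorem Q2206 : ∀ i, i < 2206 → P i := stepQ 2205 Q2205 (allL N2205 (tt N2463 (iv F24230)) (tt N2103 F19154) (tt N1951 (iv D5624)) (tt N1970 F19155) (tt N2465 D7195) (tt N2094 F19156) (tt N2466 D7196) (tt N2090 F19157))
theorem Q2207 : ∀ i, i < 2207 → P i := stepQ 2206 Q2206 (allL N2206 (tt N2464 (iv F24234)) (tt N1952 F19158) (tt N2465 (iv F24240)) (tt N1958 F19159) (tt N1951 (iv D5625)) (tt N2467 D7197) (tt N2206 F19160) (tt N2091 F19161))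
theorem Q2208 : ∀ i, i < 2208 → P i := stepQ 2207 Q2207 (allL N2207 (tt N2056 F19162) (tt N2467 (iv F24246)) (tt N2104 F19163) (tt N1959 F19164) (tt N2096 F19165) (tt N1952 (iv D5626)) (tt N2207 F19166) (tt N2092 F19167))
theorem Q2209 : ∀ i, i < 2209 → P i := stepQ 2208 Q2208 (allL N2208 (tt N1954 F19168) (tt N2060 F19169) (tt N2468 D7198) (tt N1953 (iv D5627)) (tt N2469 D7199) (tt N2208 F19170) (tt N2147 F19171) (tt N1956 F19172))
theorem Q2210 : ∀ i, i < 2210 → P i := stepQ 2209 Q2209 (allL N2209 (tt N2468 (iv F24251)) (tt N2209 F19173) (tt N1954 (iv D5628)) (tt N1974 F19174) (tt N2470 D7200) (tt N2209 F19175) (tt N2471 D7201) (tt N1957 F19176))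
theorem Q2211 : ∀ i, i < 2211 → P i := stepQ 2210 Q2210 (allL N2210 (tt N2469 (iv F24255)) (tt N1955 F19177) (tt N2470 (iv F24261)) (tt N2091 F19178) (tt N1954 (iv D5629)) (tt N2472 D7202) (tt N2139 F56251) (tt N1958 F19180))
theorem Q2212 : ∀ i, i < 2212 → P i := stepQ 2211 Q2211 (allL N2211 (tt N2063 F19181) (tt N2472 (iv F24267)) (tt N2211 F19182) (tt N2092 F19183) (tt N2211 F19184) (tt N1955 (iv D5630)) (tt N2141 F56252) (tt N1959 F19186))
theorem Q2213 : ∀ i, i < 2213 → P i := stepQ 2212 Q2212 (allL N2212 (tt N1957 F19187) (tt N2473 D7203) (tt N1956 (iv D5631)) (tt N1977 F19188) (tt N2474 D7204) (tt N2212 F19189) (tt N2475 D7205) (tt N2468 (iv F24254)))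
theorem Q2214 : ∀ i, i < 2214 → P i := stepQ 2213 Q2213 (allL N2213 (tt N1958 F19190) (tt N2065 F19191) (tt N2474 (iv F24277)) (tt N2464 (iv F24236)) (tt N1956 (iv D5632)) (tt N2476 D7206) (tt N2213 F19192) (tt N2469 (iv F24259)))
theorem Q2215 : ∀ i, i < 2215 → P i := stepQ 2214 Q2214 (allL N2214 (tt N2474 (iv F24276)) (tt N2214 F19193) (tt N1958 F19194) (tt N2477 D7207) (tt N1957 (iv D5633)) (tt N2478 D7208) (tt N2479 D7209) (tt N2470 (iv F24262)))
theorem Q2216 : ∀ i, i < 2216 → P i := stepQ 2215 Q2215 (allL N2215 (tt N2475 (iv F24278)) (tt N2215 F19195) (tt N2215 F19196) (tt N1980 F19197) (tt N2479 (iv F24293)) (tt N2215 F19198) (tt N1957 (iv D5634)) (tt N2480 D7210))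
theorem Q2217 : ∀ i, i < 2217 → P i := stepQ 2216 Q2216 (allL N2216 (tt N2476 (iv F24282)) (tt N1959 F19199) (tt N2478 (iv F24289)) (tt N2467 (iv F24247)) (tt N2216 F19200) (tt N1958 (iv D5635)) (tt N2216 F19201) (tt N2472 (iv F24271)))
theorem Q2218 : ∀ i, i < 2218 → P i := stepQ 2217 Q2217 (allL N2217 (tt N1961 F19202) (tt N1998 F19203) (tt N2481 D7211) (tt N1960 (iv D5636)) (tt N2482 D7212) (tt N2006 F19204) (tt N2217 F19205) (tt N2002 F19206))
theorem Q2219 : ∀ i, i < 2219 → P i := stepQ 2218 Q2218 (allL N2218 (tt N2481 (iv F24298)) (tt N1970 F19207) (tt N1961 (iv D5637)) (tt N2103 F19208) (tt N2483 D7213) (tt N2007 F19209) (tt N2484 D7214) (tt N2003 F19210))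
theorem Q2220 : ∀ i, i < 2220 → P i := stepQ 2219 Q2219 (allL N2219 (tt N2482 (iv F24302)) (tt N1962 F19211) (tt N2483 (iv F24308)) (tt N2219 F19212) (tt N1961 (iv D5638)) (tt N2485 D7215) (tt N2219 F19213) (tt N2004 F19214))
theorem Q2221 : ∀ i, i < 2221 → P i := stepQ 2220 Q2220 (allL N2220 (tt N2001 F19215) (tt N2485 (iv F24314)) (tt N1972 F19216) (tt N2220 F19217) (tt N2009 F19218) (tt N1962 (iv D5639)) (tt N2220 F19219) (tt N2005 F19220))
theorem Q2222 : ∀ i, i < 2222 → P i := stepQ 2221 Q2221 (allL N2221 (tt N1964 F19221) (tt N2002 F19222) (tt N2486 D7216) (tt N1963 (iv D5640)) (tt N2487 D7217) (tt N1969 F19223) (tt N1982 F19224) (tt N1998 F19225))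
theorem Q2223 : ∀ i, i < 2223 → P i := stepQ 2222 Q2222 (allL N2222 (tt N2486 (iv F24319)) (tt N2007 F19226) (tt N1964 (iv D5641)) (tt N2094 F19227) (tt N2488 D7218) (tt N1970 F19228) (tt N2489 D7219) (tt N1999 F19229))
theorem Q2224 : ∀ i, i < 2224 → P i := stepQ 2223 Q2223 (allL N2223 (tt N2487 (iv F24323)) (tt N1965 F19230) (tt N2488 (iv F24329)) (tt N2223 F19231) (tt N1964 (iv D5642)) (tt N2490 D7220) (tt N1984 F19232) (tt N2000 F19233))
theorem Q2225 : ∀ i, i < 2225 → P i := stepQ 2224 Q2224 (allL N2224 (tt N2005 F19234) (tt N2490 (iv F24335)) (tt N2009 F19235) (tt N2224 F19236) (tt N1972 F19237) (tt N1965 (iv D5643)) (tt N1985 F19238) (tt N2001 F19239))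
theorem Q2226 : ∀ i, i < 2226 → P i := stepQ 2225 Q2225 (allL N2225 (tt N1967 F19240) (tt N2006 F19241) (tt N2491 D7221) (tt N1966 (iv D5644)) (tt N2492 D7222) (tt N1998 F19242) (tt N2225 F19243) (tt N1969 F19244))
theorem Q2227 : ∀ i, i < 2227 → P i := stepQ 2226 Q2226 (allL N2226 (tt N2491 (iv F24340)) (tt N2003 F19245) (tt N1967 (iv D5645)) (tt N2090 F19246) (tt N2493 D7223) (tt N1999 F19247) (tt N2494 D7224) (tt N1970 F19248))
theorem Q2228 : ∀ i, i < 2228 → P i := stepQ 2227 Q2227 (allL N2227 (tt N2492 (iv F24344)) (tt N1968 F19249) (tt N2493 (iv F24350)) (tt N1975 F19250) (tt N1967 (iv D5646)) (tt N2495 D7225) (tt N2227 F19251) (tt N1971 F19252))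
theorem Q2229 : ∀ i, i < 2229 → P i := stepQ 2228 Q2228 (allL N2228 (tt N2009 F19253) (tt N2495 (iv F24356)) (tt N2005 F19254) (tt N1976 F19255) (tt N2001 F19256) (tt N1968 (iv D5647)) (tt N2228 F19257) (tt N1972 F19258))
theorem Q2230 : ∀ i, i < 2230 → P i := stepQ 2229 Q2229 (allL N2229 (tt N1970 F19259) (tt N2496 D7226) (tt N1969 (iv D5648)) (tt N2463 (iv F24231)) (tt N2497 D7227) (tt N2486 (iv F24321)) (tt N2498 D7228) (tt N2491 (iv F24343)))
theorem Q2231 : ∀ i, i < 2231 → P i := stepQ 2230 Q2230 (allL N2230 (tt N1971 F19260) (tt N2011 F19261) (tt N2497 (iv F24363)) (tt N1978 F19262) (tt N1969 (iv D5649)) (tt N2499 D7229) (tt N1987 F19263) (tt N2492 (iv F24348)))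
theorem Q2232 : ∀ i, i < 2232 → P i := stepQ 2231 Q2231 (allL N2231 (tt N2497 (iv F24362)) (tt N2483 (iv F24307)) (tt N1971 F19264) (tt N2500 D7230) (tt N1970 (iv D5650)) (tt N2501 D7231) (tt N2502 D7232) (tt N2493 (iv F24351)))
theorem Q2233 : ∀ i, i < 2233 → P i := stepQ 2232 Q2232 (allL N2232 (tt N2498 (iv F24364)) (tt N2484 (iv F24310)) (tt N1989 F19265) (tt N2466 (iv F24244)) (tt N2502 (iv F24373)) (tt N2489 (iv F24334)) (tt N1970 (iv D5651)) (tt N2503 D7233))
theorem Q2234 : ∀ i, i < 2234 → P i := stepQ 2233 Q2233 (allL N2233 (tt N2499 (iv F24366)) (tt N1972 F19266) (tt N2501 (iv F24371)) (tt N1981 F19267) (tt N2490 (iv F24337)) (tt N1971 (iv D5652)) (tt N1990 F19268) (tt N2495 (iv F24360)))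
theorem Q2235 : ∀ i, i < 2235 → P i := stepQ 2234 Q2234 (allL N2234 (tt N1974 F19269) (tt N2504 D7234) (tt N1973 (iv D5653)) (tt N2468 (iv F24252)) (tt N2505 D7235) (tt N2234 F19270) (tt N2506 D7236) (tt N1977 F19271))
theorem Q2236 : ∀ i, i < 2236 → P i := stepQ 2235 Q2235 (allL N2235 (tt N1975 F19272) (tt N2016 F19273) (tt N2505 (iv F24380)) (tt N2492 (iv F24346)) (tt N1973 (iv D5654)) (tt N2507 D7237) (tt N2235 F19274) (tt N1978 F19275))
theorem Q2237 : ∀ i, i < 2237 → P i := stepQ 2236 Q2236 (allL N2236 (tt N2505 (iv F24379)) (tt N2236 F19276) (tt N1975 F19277) (tt N2508 D7238) (tt N1974 (iv D5655)) (tt N2509 D7239) (tt N2510 D7240) (tt N1979 F19278))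
theorem Q2238 : ∀ i, i < 2238 → P i := stepQ 2237 Q2237 (allL N2237 (tt N2506 (iv F24382)) (tt N2237 F19279) (tt N2237 F19280) (tt N2471 (iv F24265)) (tt N2510 (iv F24398)) (tt N2237 F19281) (tt N1974 (iv D5656)) (tt N2511 D7241))
theorem Q2239 : ∀ i, i < 2239 → P i := stepQ 2238 Q2238 (allL N2238 (tt N2507 (iv F24385)) (tt N1976 F19282) (tt N2509 (iv F24393)) (tt N2495 (iv F24357)) (tt N2238 F19283) (tt N1975 (iv D5657)) (tt N2238 F19284) (tt N1981 F19285))
theorem Q2240 : ∀ i, i < 2240 → P i := stepQ 2239 Q2239 (allL N2239 (tt N2239 F19286) (tt N1977 (iv D5658)) (tt N2020 F19287) (tt N2473 (iv F24274)) (tt N2512 D7242) (tt N2239 F19288) (tt N2513 D7243) (tt N2504 (iv F24378)))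
theorem Q2241 : ∀ i, i < 2241 → P i := stepQ 2240 Q2240 (allL N2240 (tt N1979 F19289) (tt N2512 (iv F24404)) (tt N1978 F19290) (tt N2514 D7244) (tt N1977 (iv D5659)) (tt N2515 D7245) (tt N2516 D7246) (tt N2505 (iv F24381)))
theorem Q2242 : ∀ i, i < 2242 → P i := stepQ 2241 Q2241 (allL N2241 (tt N1980 F19291) (tt N2513 (iv F24407)) (tt N1992 F19292) (tt N2475 (iv F24280)) (tt N2516 (iv F24416)) (tt N2241 F19293) (tt N1977 (iv D5660)) (tt N2517 D7247))
theorem Q2243 : ∀ i, i < 2243 → P i := stepQ 2242 Q2242 (allL N2242 (tt N1981 F19294) (tt N2022 F19295) (tt N2515 (iv F24412)) (tt N2499 (iv F24368)) (tt N2242 F19296) (tt N1978 (iv D5661)) (tt N1993 F19297) (tt N2507 (iv F24389)))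
theorem Q2244 : ∀ i, i < 2244 → P i := stepQ 2243 Q2243 (allL N2243 (tt N2514 (iv F24410)) (tt N2243 F19298) (tt N2500 (iv F24370)) (tt N1979 (iv D5662)) (tt N2477 (iv F24287)) (tt N2188 (iv F57032)) (tt N2187 (iv F57074)) (tt N2508 (iv F24391)))
theorem Q2245 : ∀ i, i < 2245 → P i := stepQ 2244 Q2244 (allL N2244 (tt N2515 (iv F24411)) (tt N2244 F19299) (tt N1981 F19300) (tt N2188 F57195) (tt N2244 F19301) (tt N1979 (iv D5663)) (tt N2186 F57196) (tt N2509 (iv F24395)))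
theorem Q2246 : ∀ i, i < 2246 → P i := stepQ 2245 Q2245 (allL N2245 (tt N2516 (iv F24414)) (tt N2245 F19302) (tt N1996 F19303) (tt N2187 F57083) (tt N1980 F19304) (tt N2186 (iv F57092)) (tt N1979 (iv D5664)) (tt N2196 (iv F57205)))
theorem Q2247 : ∀ i, i < 2247 → P i := stepQ 2246 Q2246 (allL N2246 (tt N2517 (iv F24417)) (tt N2246 F19305) (tt N1997 F19306) (tt N2480 (iv F24296)) (tt N2196 (iv F57204)) (tt N2246 F19307) (tt N2511 (iv F24402)) (tt N1980 (iv D5665)))
theorem Q2248 : ∀ i, i < 2248 → P i := stepQ 2247 Q2247 (allL N2247 (tt N1983 F19308) (tt N2518 D7252) (tt N1982 (iv D5666)) (tt N2247 F19309) (tt N2519 D7253) (tt N1986 F19310) (tt N2520 D7254) (tt N2247 F19311))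
theorem Q2249 : ∀ i, i < 2249 → P i := stepQ 2248 Q2248 (allL N2248 (tt N1984 F19312) (tt N2026 F19313) (tt N2519 (iv F24437)) (tt N2248 F19314) (tt N1982 (iv D5667)) (tt N2521 D7255) (tt N2487 (iv F24326)) (tt N2248 F19315))
theorem Q2250 : ∀ i, i < 2250 → P i := stepQ 2249 Q2249 (allL N2249 (tt N2519 (iv F24436)) (tt N2249 F19316) (tt N1984 F19317) (tt N2522 D7256) (tt N1983 (iv D5668)) (tt N2523 D7257) (tt N2524 D7258) (tt N2249 F19318))
theorem Q2251 : ∀ i, i < 2251 → P i := stepQ 2250 Q2250 (allL N2250 (tt N2520 (iv F24439)) (tt N2250 F19319) (tt N2489 (iv F24332)) (tt N2250 F19320) (tt N2524 (iv F24456)) (tt N1989 F19321) (tt N1983 (iv D5669)) (tt N2525 D7259))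
theorem Q2252 : ∀ i, i < 2252 → P i := stepQ 2251 Q2251 (allL N2251 (tt N2521 (iv F24442)) (tt N1985 F19322) (tt N2523 (iv F24452)) (tt N2251 F19323) (tt N1990 F19324) (tt N1984 (iv D5670)) (tt N2490 (iv F24338)) (tt N2251 F19325))
theorem Q2253 : ∀ i, i < 2253 → P i := stepQ 2252 Q2252 (allL N2252 (tt N2252 F19326) (tt N1986 (iv D5671)) (tt N2030 F19327) (tt N2252 F19328) (tt N2526 D7260) (tt N2518 (iv F24434)) (tt N2527 D7261) (tt N2252 F19329))
theorem Q2254 : ∀ i, i < 2254 → P i := stepQ 2253 Q2253 (allL N2253 (tt N1988 F19330) (tt N2526 (iv F24462)) (tt N1987 F19331) (tt N2528 D7262) (tt N1986 (iv D5672)) (tt N2529 D7263) (tt N2530 D7264) (tt N2253 F19332))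
theorem Q2255 : ∀ i, i < 2255 → P i := stepQ 2254 Q2254 (allL N2254 (tt N1989 F19333) (tt N2527 (iv F24466)) (tt N2498 (iv F24365)) (tt N2254 F19334) (tt N2530 (iv F24476)) (tt N2520 (iv F24441)) (tt N1986 (iv D5673)) (tt N2531 D7265))
theorem Q2256 : ∀ i, i < 2256 → P i := stepQ 2255 Q2255 (allL N2255 (tt N1990 F19335) (tt N2033 F19336) (tt N2529 (iv F24473)) (tt N1993 F19337) (tt N2521 (iv F24445)) (tt N1987 (iv D5674)) (tt N2499 (iv F24369)) (tt N2255 F19338))
theorem Q2257 : ∀ i, i < 2257 → P i := stepQ 2256 Q2256 (allL N2256 (tt N2528 (iv F24468)) (tt N2256 F19339) (tt N1994 F19340) (tt N1988 (iv D5675)) (tt N2256 F19341) (tt N2125 (iv F57491)) (tt N2124 F57449) (tt N2256 F19342))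
theorem Q2258 : ∀ i, i < 2258 → P i := stepQ 2257 Q2257 (allL N2257 (tt N2529 (iv F24472)) (tt N2257 F19343) (tt N1990 F19344) (tt N2125 (iv F57490)) (tt N2523 (iv F24453)) (tt N1988 (iv D5676)) (tt N2123 F57431) (tt N2257 F19345))
theorem Q2259 : ∀ i, i < 2259 → P i := stepQ 2258 Q2258 (allL N2258 (tt N2530 (iv F24475)) (tt N2258 F19346) (tt N2502 (iv F24372)) (tt N2124 (iv F57378)) (tt N1989 F19347) (tt N2123 (iv F57379)) (tt N1988 (iv D5677)) (tt N2129 F57242))
theorem Q2260 : ∀ i, i < 2260 → P i := stepQ 2259 Q2259 (allL N2259 (tt N2531 (iv F24477)) (tt N2259 F19348) (tt N2503 (iv F24374)) (tt N2259 F19349) (tt N2129 (iv F57238)) (tt N2525 (iv F24459)) (tt N2259 F19350) (tt N1989 (iv D5678)))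
theorem Q2261 : ∀ i, i < 2261 → P i := stepQ 2260 Q2260 (allL N2260 (tt N1994 F19351) (tt N2260 F19352) (tt N2528 (iv F24469)) (tt N1991 (iv D5679)) (tt N2260 F19353) (tt N2201 (iv F57478)) (tt N2200 F57445) (tt N2260 F19354))
theorem Q2262 : ∀ i, i < 2262 → P i := stepQ 2261 Q2261 (allL N2261 (tt N1995 F19355) (tt N2261 F19356) (tt N1993 F19357) (tt N2201 (iv F57477)) (tt N2261 F19358) (tt N1991 (iv D5680)) (tt N2199 F57394) (tt N2261 F19359))
theorem Q2263 : ∀ i, i < 2263 → P i := stepQ 2262 Q2262 (allL N2262 (tt N1996 F19360) (tt N2262 F19361) (tt N2516 (iv F24415)) (tt N2200 (iv F57346)) (tt N1992 F19362) (tt N2199 (iv F57340)) (tt N1991 (iv D5681)) (tt N2202 (iv F57343)))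
theorem Q2264 : ∀ i, i < 2264 → P i := stepQ 2263 Q2263 (allL N2263 (tt N1997 F19363) (tt N2263 F19364) (tt N2517 (iv F24418)) (tt N2263 F19365) (tt N2202 (iv F57342)) (tt N2263 F19366) (tt N2263 F19367) (tt N1992 (iv D5682)))
theorem Q2265 : ∀ i, i < 2265 → P i := stepQ 2264 Q2264 (allL N2264 (tt N1999 F19401) (tt N2532 D7284) (tt N1998 (iv D5692)) (tt N2097 F19402) (tt N2533 D7285) (tt N2491 (iv F24342)) (tt N2534 D7286) (tt N2486 (iv F24322)))
theorem Q2266 : ∀ i, i < 2266 → P i := stepQ 2265 Q2265 (allL N2265 (tt N2000 F19403) (tt N2482 (iv F24303)) (tt N2533 (iv F24546)) (tt N2265 F19404) (tt N1998 (iv D5693)) (tt N2535 D7287) (tt N2265 F19405) (tt N2487 (iv F24327)))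
theorem Q2267 : ∀ i, i < 2267 → P i := stepQ 2266 Q2266 (allL N2266 (tt N2533 (iv F24545)) (tt N2012 F19406) (tt N2000 F19407) (tt N2536 D7288) (tt N1999 (iv D5694)) (tt N2537 D7289) (tt N2538 D7290) (tt N2488 (iv F24330)))
theorem Q2268 : ∀ i, i < 2268 → P i := stepQ 2267 Q2267 (allL N2267 (tt N2534 (iv F24547)) (tt N2013 F19408) (tt N2267 F19409) (tt N2100 F19410) (tt N2538 (iv F24560)) (tt N2494 (iv F24355)) (tt N1999 (iv D5695)) (tt N2539 D7291))
theorem Q2269 : ∀ i, i < 2269 → P i := stepQ 2268 Q2268 (allL N2268 (tt N2535 (iv F24550)) (tt N2001 F19411) (tt N2537 (iv F24557)) (tt N2268 F19412) (tt N2495 (iv F24358)) (tt N2000 (iv D5696)) (tt N2268 F19413) (tt N2490 (iv F24339)))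
theorem Q2270 : ∀ i, i < 2270 → P i := stepQ 2269 Q2269 (allL N2269 (tt N2003 F19414) (tt N2540 D7292) (tt N2002 (iv D5697)) (tt N2105 F19415) (tt N2541 D7293) (tt N2010 F19416) (tt N2542 D7294) (tt N2481 (iv F24301)))
theorem Q2271 : ∀ i, i < 2271 → P i := stepQ 2270 Q2270 (allL N2270 (tt N2004 F19417) (tt N2487 (iv F24324)) (tt N2541 (iv F24567)) (tt N2270 F19418) (tt N2002 (iv D5698)) (tt N2543 D7295) (tt N2026 F19419) (tt N2482 (iv F24306)))
theorem Q2272 : ∀ i, i < 2272 → P i := stepQ 2271 Q2271 (allL N2271 (tt N2541 (iv F24566)) (tt N2493 (iv F24349)) (tt N2004 F19420) (tt N2544 D7296) (tt N2003 (iv D5699)) (tt N2545 D7297) (tt N2546 D7298) (tt N2483 (iv F24309)))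
theorem Q2273 : ∀ i, i < 2273 → P i := stepQ 2272 Q2272 (allL N2272 (tt N2542 (iv F24568)) (tt N2494 (iv F24352)) (tt N2028 F19421) (tt N2079 F56537) (tt N2546 (iv F24581)) (tt N2013 F19423) (tt N2003 (iv D5700)) (tt N2547 D7299))
theorem Q2274 : ∀ i, i < 2274 → P i := stepQ 2273 Q2273 (allL N2273 (tt N2543 (iv F24572)) (tt N2005 F19424) (tt N2545 (iv F24578)) (tt N2273 F19425) (tt N2014 F19426) (tt N2004 (iv D5701)) (tt N2029 F19427) (tt N2485 (iv F24318)))
theorem Q2275 : ∀ i, i < 2275 → P i := stepQ 2274 Q2274 (allL N2274 (tt N2007 F19428) (tt N2548 D7300) (tt N2006 (iv D5702)) (tt N2106 F19429) (tt N2549 D7301) (tt N2481 (iv F24300)) (tt N2550 D7302) (tt N2010 F19430))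
theorem Q2276 : ∀ i, i < 2276 → P i := stepQ 2275 Q2275 (allL N2275 (tt N2008 F19431) (tt N2492 (iv F24345)) (tt N2549 (iv F24588)) (tt N2016 F19432) (tt N2006 (iv D5703)) (tt N2551 D7303) (tt N2275 F19433) (tt N2011 F19434))
theorem Q2277 : ∀ i, i < 2277 → P i := stepQ 2276 Q2276 (allL N2276 (tt N2549 (iv F24587)) (tt N2488 (iv F24328)) (tt N2008 F19435) (tt N2552 D7304) (tt N2007 (iv D5704)) (tt N2553 D7305) (tt N2554 D7306) (tt N2012 F19436))
theorem Q2278 : ∀ i, i < 2278 → P i := stepQ 2277 Q2277 (allL N2277 (tt N2550 (iv F24590)) (tt N2489 (iv F24331)) (tt N2277 F19437) (tt N2109 F19438) (tt N2554 (iv F24603)) (tt N2484 (iv F24313)) (tt N2007 (iv D5705)) (tt N2555 D7307))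
theorem Q2279 : ∀ i, i < 2279 → P i := stepQ 2278 Q2278 (allL N2278 (tt N2551 (iv F24593)) (tt N2009 F19439) (tt N2553 (iv F24600)) (tt N2019 F19440) (tt N2485 (iv F24316)) (tt N2008 (iv D5706)) (tt N2278 F19441) (tt N2014 F19442))
theorem Q2280 : ∀ i, i < 2280 → P i := stepQ 2279 Q2279 (allL N2279 (tt N2532 (iv F24543)) (tt N2010 (iv D5707)) (tt N2496 (iv F24361)) (tt N2111 F19443) (tt N2556 D7308) (tt N2540 (iv F24565)) (tt N2557 D7309) (tt N2548 (iv F24586)))
theorem Q2281 : ∀ i, i < 2281 → P i := stepQ 2280 Q2280 (allL N2280 (tt N2012 F19444) (tt N2556 (iv F24607)) (tt N2011 F19445) (tt N2558 D7310) (tt N2010 (iv D5708)) (tt N2559 D7311) (tt N2560 D7312) (tt N2549 (iv F24589)))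
theorem Q2282 : ∀ i, i < 2282 → P i := stepQ 2281 Q2281 (allL N2281 (tt N2013 F19446) (tt N2557 (iv F24608)) (tt N2032 F19447) (tt N2113 F19448) (tt N2560 (iv F24617)) (tt N2542 (iv F24571)) (tt N2010 (iv D5709)) (tt N2561 D7313))
theorem Q2283 : ∀ i, i < 2283 → P i := stepQ 2282 Q2282 (allL N2282 (tt N2014 F19449) (tt N2499 (iv F24367)) (tt N2559 (iv F24614)) (tt N2022 F19450) (tt N2543 (iv F24574)) (tt N2011 (iv D5710)) (tt N2033 F19451) (tt N2551 (iv F24596)))
theorem Q2284 : ∀ i, i < 2284 → P i := stepQ 2283 Q2283 (allL N2283 (tt N2558 (iv F24610)) (tt N2536 (iv F24553)) (tt N2023 F19452) (tt N2012 (iv D5711)) (tt N2115 F19453) (tt N2562 D7314) (tt N2563 D7315) (tt N2552 (iv F24599)))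
theorem Q2285 : ∀ i, i < 2285 → P i := stepQ 2284 Q2284 (allL N2284 (tt N2559 (iv F24613)) (tt N2537 (iv F24556)) (tt N2014 F19454) (tt N2562 (iv F24622)) (tt N2545 (iv F24579)) (tt N2012 (iv D5712)) (tt N2564 D7316) (tt N2553 (iv F24601)))
theorem Q2286 : ∀ i, i < 2286 → P i := stepQ 2285 Q2285 (allL N2285 (tt N2560 (iv F24615)) (tt N2538 (iv F24558)) (tt N2035 F19455) (tt N2563 (iv F24624)) (tt N2013 F19456) (tt N2564 (iv F24627)) (tt N2012 (iv D5713)) (tt N2565 D7317))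
theorem Q2287 : ∀ i, i < 2287 → P i := stepQ 2286 Q2286 (allL N2286 (tt N2561 (iv F24618)) (tt N2539 (iv F24561)) (tt N2036 F19457) (tt N2118 F19458) (tt N2565 (iv F24629)) (tt N2547 (iv F24584)) (tt N2555 (iv F24606)) (tt N2013 (iv D5714)))
theorem Q2288 : ∀ i, i < 2288 → P i := stepQ 2287 Q2287 (allL N2287 (tt N2287 F19459) (tt N2015 (iv D5715)) (tt N2504 (iv F24376)) (tt N2119 F19460) (tt N2566 D7318) (tt N2287 F19461) (tt N2567 D7319) (tt N2020 F19462))
theorem Q2289 : ∀ i, i < 2289 → P i := stepQ 2288 Q2288 (allL N2288 (tt N2017 F19463) (tt N2566 (iv F24631)) (tt N2016 F19464) (tt N2568 D7320) (tt N2015 (iv D5716)) (tt N2569 D7321) (tt N2570 D7322) (tt N2021 F19465))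
theorem Q2290 : ∀ i, i < 2290 → P i := stepQ 2289 Q2289 (allL N2289 (tt N2018 F19466) (tt N2567 (iv F24634)) (tt N2289 F19467) (tt N2121 F19468) (tt N2570 (iv F24647)) (tt N2289 F19469) (tt N2015 (iv D5717)) (tt N2289 F19470))
theorem Q2291 : ∀ i, i < 2291 → P i := stepQ 2290 Q2290 (allL N2290 (tt N2019 F19471) (tt N2507 (iv F24386)) (tt N2569 (iv F24642)) (tt N2551 (iv F24594)) (tt N2290 F19472) (tt N2016 (iv D5718)) (tt N2290 F19473) (tt N2022 F19474))
theorem Q2292 : ∀ i, i < 2292 → P i := stepQ 2291 Q2291 (allL N2291 (tt N2568 (iv F24638)) (tt N2291 F19475) (tt N2552 (iv F24597)) (tt N2017 (iv D5719)) (tt N2123 F19476) (tt N2524 F57417) (tt N2523 (iv F57485)) (tt N2023 F19477))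
theorem Q2293 : ∀ i, i < 2293 → P i := stepQ 2292 Q2292 (allL N2292 (tt N2569 (iv F24641)) (tt N2292 F19478) (tt N2019 F19479) (tt N2524 F57416) (tt N2292 F19480) (tt N2017 (iv D5720)) (tt N2522 (iv F57484)) (tt N2024 F19481))
theorem Q2294 : ∀ i, i < 2294 → P i := stepQ 2293 Q2293 (allL N2293 (tt N2570 (iv F24645)) (tt N2293 F19482) (tt N2293 F19483) (tt N2523 F57507) (tt N2018 F19484) (tt N2522 F57508) (tt N2017 (iv D5721)) (tt N2293 F19485))
theorem Q2295 : ∀ i, i < 2295 → P i := stepQ 2294 Q2294 (allL N2294 (tt N2294 F19486) (tt N2021 F19487) (tt N2512 (iv F24405)) (tt N2571 D7326) (tt N2020 (iv D5722)) (tt N2572 D7327) (tt N2294 F19488) (tt N2566 (iv F24632)))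
theorem Q2296 : ∀ i, i < 2296 → P i := stepQ 2295 Q2295 (allL N2295 (tt N2023 F19489) (tt N2571 (iv F24662)) (tt N2558 (iv F24611)) (tt N2021 (iv D5723)) (tt N2127 F19490) (tt N2573 D7328) (tt N2295 F19491) (tt N2568 (iv F24640)))
theorem Q2297 : ∀ i, i < 2297 → P i := stepQ 2296 Q2296 (allL N2296 (tt N2024 F19492) (tt N2572 (iv F24666)) (tt N2022 F19493) (tt N2573 (iv F24670)) (tt N2296 F19494) (tt N2021 (iv D5724)) (tt N2296 F19495) (tt N2569 (iv F24644)))
theorem Q2298 : ∀ i, i < 2298 → P i := stepQ 2297 Q2297 (allL N2297 (tt N2573 (iv F24669)) (tt N2297 F19496) (tt N2562 (iv F24621)) (tt N2024 F19497) (tt N2525 (iv F57331)) (tt N2023 (iv D5725)) (tt N2297 F19498) (tt N2524 (iv F57312)))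
theorem Q2299 : ∀ i, i < 2299 → P i := stepQ 2298 Q2298 (allL N2298 (tt N2298 F19499) (tt N2025 (iv D5726)) (tt N2518 (iv F24432)) (tt N2037 F19500) (tt N2574 D7330) (tt N2030 F19501) (tt N2575 D7331) (tt N2298 F19502))
theorem Q2300 : ∀ i, i < 2300 → P i := stepQ 2299 Q2299 (allL N2299 (tt N2027 F19503) (tt N2574 (iv F24677)) (tt N2026 F19504) (tt N2576 D7332) (tt N2025 (iv D5727)) (tt N2577 D7333) (tt N2578 D7334) (tt N2299 F19505))
theorem Q2301 : ∀ i, i < 2301 → P i := stepQ 2300 Q2300 (allL N2300 (tt N2028 F19506) (tt N2575 (iv F24680)) (tt N2542 (iv F24569)) (tt N2039 F19507) (tt N2578 (iv F24692)) (tt N2032 F19508) (tt N2025 (iv D5728)) (tt N2579 D7335))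
theorem Q2302 : ∀ i, i < 2302 → P i := stepQ 2301 Q2301 (allL N2301 (tt N2029 F19509) (tt N2521 (iv F24443)) (tt N2577 (iv F24688)) (tt N2301 F19510) (tt N2033 F19511) (tt N2026 (iv D5729)) (tt N2543 (iv F24575)) (tt N2301 F19512))
theorem Q2303 : ∀ i, i < 2303 → P i := stepQ 2302 Q2302 (allL N2302 (tt N2576 (iv F24683)) (tt N2302 F19513) (tt N2302 F19514) (tt N2027 (iv D5730)) (tt N2040 F19515) (tt N2580 D7336) (tt N2066 F57085) (tt N2302 F19516))
theorem Q2304 : ∀ i, i < 2304 → P i := stepQ 2303 Q2303 (allL N2303 (tt N2577 (iv F24687)) (tt N2303 F19517) (tt N2029 F19518) (tt N2580 (iv F24699)) (tt N2034 F19519) (tt N2027 (iv D5731)) (tt N2581 D7338) (tt N2303 F19520))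
theorem Q2305 : ∀ i, i < 2305 → P i := stepQ 2304 Q2304 (allL N2304 (tt N2578 (iv F24691)) (tt N2304 F19521) (tt N2546 (iv F24580)) (tt N2066 (iv F56932)) (tt N2028 F19522) (tt N2581 (iv F24707)) (tt N2027 (iv D5732)) (tt N2582 D7339))
theorem Q2306 : ∀ i, i < 2306 → P i := stepQ 2305 Q2305 (allL N2305 (tt N2579 (iv F24693)) (tt N2305 F19523) (tt N2547 (iv F24582)) (tt N2041 F19524) (tt N2582 (iv F24709)) (tt N2036 F19525) (tt N2305 F19526) (tt N2028 (iv D5733)))
theorem Q2307 : ∀ i, i < 2307 → P i := stepQ 2306 Q2306 (allL N2306 (tt N2306 F19527) (tt N2031 F19528) (tt N2526 (iv F24463)) (tt N2306 F19529) (tt N2030 (iv D5734)) (tt N2583 D7340) (tt N2584 D7341) (tt N2306 F19530))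
theorem Q2308 : ∀ i, i < 2308 → P i := stepQ 2307 Q2307 (allL N2307 (tt N2307 F19531) (tt N2032 F19532) (tt N2585 D7342) (tt N2042 F19533) (tt N2584 (iv F24718)) (tt N2575 (iv F24682)) (tt N2030 (iv D5735)) (tt N2586 D7343))
theorem Q2309 : ∀ i, i < 2309 → P i := stepQ 2308 Q2308 (allL N2308 (tt N2034 F19534) (tt N2583 (iv F24712)) (tt N2033 F19535) (tt N2308 F19536) (tt N2577 (iv F24689)) (tt N2031 (iv D5736)) (tt N2587 D7344) (tt N2308 F19537))
theorem Q2310 : ∀ i, i < 2310 → P i := stepQ 2309 Q2309 (allL N2309 (tt N2035 F19538) (tt N2584 (iv F24716)) (tt N2560 (iv F24616)) (tt N2309 F19539) (tt N2032 F19540) (tt N2587 (iv F24726)) (tt N2031 (iv D5737)) (tt N2588 D7345))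
theorem Q2311 : ∀ i, i < 2311 → P i := stepQ 2310 Q2310 (allL N2310 (tt N2036 F19541) (tt N2586 (iv F24721)) (tt N2561 (iv F24619)) (tt N2043 F19542) (tt N2588 (iv F24729)) (tt N2579 (iv F24695)) (tt N2310 F19543) (tt N2032 (iv D5738)))
theorem Q2312 : ∀ i, i < 2312 → P i := stepQ 2311 Q2311 (allL N2311 (tt N2587 (iv F24724)) (tt N2311 F19544) (tt N2564 (iv F24626)) (tt N2311 F19545) (tt N2581 (iv F24706)) (tt N2035 F19546) (tt N2034 (iv D5739)) (tt N2589 D7346))
theorem Q2313 : ∀ i, i < 2313 → P i := stepQ 2312 Q2312 (allL N2312 (tt N2588 (iv F24727)) (tt N2312 F19547) (tt N2565 (iv F24628)) (tt N2312 F19548) (tt N2036 F19549) (tt N2589 (iv F24733)) (tt N2312 F19550) (tt N2035 (iv D5740)))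
theorem Q2314 : ∀ i, i < 2314 → P i := stepQ 2313 Q2313 (allL N2313 (tt N2313 F19551) (tt N2038 F19552) (tt N2313 F19553) (tt N2590 D7347) (tt N2037 (iv D5741)) (tt N2313 F19554) (tt N2083 F56945) (tt N2313 F19555))
theorem Q2315 : ∀ i, i < 2315 → P i := stepQ 2314 Q2314 (allL N2314 (tt N2314 F19556) (tt N2039 F19557) (tt N2126 (iv F56957)) (tt N2575 (iv F24681)) (tt N2083 (iv F56931)) (tt N2042 F19558) (tt N2037 (iv D5742)) (tt N2591 D7350))
theorem Q2316 : ∀ i, i < 2316 → P i := stepQ 2315 Q2315 (allL N2315 (tt N2040 F19559) (tt N2590 (iv F24736)) (tt N2315 F19560) (tt N2038 (iv D5743)) (tt N2576 (iv F24685)) (tt N2315 F19561) (tt N2064 F56946) (tt N2315 F19562))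
theorem Q2317 : ∀ i, i < 2317 → P i := stepQ 2316 Q2316 (allL N2316 (tt N2041 F19567) (tt N2591 (iv F24748)) (tt N2082 F56802) (tt N2579 (iv F24694)) (tt N2081 (iv F56928)) (tt N2043 F19569) (tt N2316 F19570) (tt N2039 (iv D5745)))
theorem Q2318 : ∀ i, i < 2318 → P i := stepQ 2317 Q2317 (allL N2317 (tt N2317 F19579) (tt N2128 F56872) (tt N2042 (iv D5748)) (tt N2592 D7355) (tt N2317 F19581) (tt N2126 (iv F56958)) (tt N2317 F19582) (tt N2593 D7356))
theorem Q2319 : ∀ i, i < 2319 → P i := stepQ 2318 Q2318 (allL N2318 (tt N2318 F19583) (tt N2043 F19584) (tt N2593 (iv F24771)) (tt N2586 (iv F24722)) (tt N2318 F19585) (tt N2591 (iv F24749)) (tt N2318 F19586) (tt N2042 (iv D5749)))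
theorem Q2320 : ∀ i, i < 2320 → P i := stepQ 2319 Q2319 (allL N2319 (tt N2045 F19587) (tt N2102 F19588) (tt N2594 D7357) (tt N2044 (iv D5750)) (tt N2595 D7358) (tt N2074 F19589) (tt N2161 F19590) (tt N2071 F19591))
theorem Q2321 : ∀ i, i < 2321 → P i := stepQ 2320 Q2320 (allL N2320 (tt N2594 (iv F24773)) (tt N2054 F19592) (tt N2045 (iv D5751)) (tt N2069 F19593) (tt N2596 D7359) (tt N2075 F19594) (tt N2597 D7360) (tt N2072 F19595))
theorem Q2322 : ∀ i, i < 2322 → P i := stepQ 2321 Q2321 (allL N2321 (tt N2595 (iv F24777)) (tt N2046 F19596) (tt N2596 (iv F24783)) (tt N2321 F19597) (tt N2045 (iv D5752)) (tt N2132 F56530) (tt N2163 F19598) (tt N2073 F19599))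
theorem Q2323 : ∀ i, i < 2323 → P i := stepQ 2322 Q2322 (allL N2322 (tt N2048 F19606) (tt N2093 F19607) (tt N2598 D7362) (tt N2047 (iv D5754)) (tt N2599 D7363) (tt N2053 F19608) (tt N2322 F19609) (tt N2068 F19610))
theorem Q2324 : ∀ i, i < 2324 → P i := stepQ 2323 Q2323 (allL N2323 (tt N2598 (iv F24794)) (tt N2075 F19611) (tt N2048 (iv D5755)) (tt N2072 F19612) (tt N2600 D7364) (tt N2054 F19613) (tt N2601 D7365) (tt N2069 F19614))
theorem Q2325 : ∀ i, i < 2325 → P i := stepQ 2324 Q2324 (allL N2324 (tt N2599 (iv F24798)) (tt N2049 F19615) (tt N2600 (iv F24804)) (tt N2324 F19616) (tt N2048 (iv D5756)) (tt N2153 F56541) (tt N2324 F19617) (tt N2070 F19618))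
theorem Q2326 : ∀ i, i < 2326 → P i := stepQ 2325 Q2325 (allL N2325 (tt N2051 F19625) (tt N2089 F19626) (tt N2602 D7367) (tt N2050 (iv D5758)) (tt N2603 D7368) (tt N2068 F19627) (tt N2142 F19628) (tt N2053 F19629))
theorem Q2327 : ∀ i, i < 2327 → P i := stepQ 2326 Q2326 (allL N2326 (tt N2602 (iv F24815)) (tt N2072 F19630) (tt N2051 (iv D5759)) (tt N2075 F19631) (tt N2604 D7369) (tt N2069 F19632) (tt N2605 D7370) (tt N2054 F19633))
theorem Q2328 : ∀ i, i < 2328 → P i := stepQ 2327 Q2327 (allL N2327 (tt N2603 (iv F24819)) (tt N2052 F19634) (tt N2604 (iv F24825)) (tt N2062 F19635) (tt N2051 (iv D5760)) (tt N2152 (iv F56375)) (tt N2144 F19636) (tt N2055 F19637))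
theorem Q2329 : ∀ i, i < 2329 → P i := stepQ 2328 Q2328 (allL N2328 (tt N2054 F19644) (tt N2606 D7372) (tt N2053 (iv D5762)) (tt N2077 F19645) (tt N2607 D7373) (tt N2598 (iv F24796)) (tt N2608 D7374) (tt N2602 (iv F24818)))
theorem Q2330 : ∀ i, i < 2330 → P i := stepQ 2329 Q2329 (allL N2329 (tt N2055 F19646) (tt N2464 (iv F24235)) (tt N2607 (iv F24838)) (tt N2065 F19647) (tt N2053 (iv D5763)) (tt N2609 D7375) (tt N2329 F19648) (tt N2603 (iv F24823)))
theorem Q2331 : ∀ i, i < 2331 → P i := stepQ 2330 Q2330 (allL N2330 (tt N2607 (iv F24837)) (tt N2596 (iv F24782)) (tt N2055 F19649) (tt N2546 F56849) (tt N2054 (iv D5764)) (tt N2610 D7377) (tt N2544 (iv F56976)) (tt N2604 (iv F24826)))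
theorem Q2332 : ∀ i, i < 2332 → P i := stepQ 2331 Q2331 (allL N2331 (tt N2608 (iv F24839)) (tt N2597 (iv F24785)) (tt N2331 F19650) (tt N2080 F19651) (tt N2544 (iv F56975)) (tt N2601 (iv F24809)) (tt N2054 (iv D5765)) (tt N2611 D7379))
theorem Q2333 : ∀ i, i < 2333 → P i := stepQ 2332 Q2332 (allL N2332 (tt N2609 (iv F24842)) (tt N2056 F19652) (tt N2610 (iv F24847)) (tt N2067 F19653) (tt N2153 F56551) (tt N2055 (iv D5766)) (tt N2332 F19654) (tt N2152 F56552))
theorem Q2334 : ∀ i, i < 2334 → P i := stepQ 2333 Q2333 (allL N2333 (tt N2058 F19655) (tt N2147 F19656) (tt N2333 F56035) (tt N2057 (iv D5767)) (tt N2612 D7381) (tt N2333 F19657) (tt N2060 F19658) (tt N2333 F19659))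
theorem Q2335 : ∀ i, i < 2335 → P i := stepQ 2334 Q2334 (allL N2334 (tt N2612 (iv F24856)) (tt N2059 F19664) (tt N2334 F55762) (tt N2144 F19665) (tt N2058 (iv D5769)) (tt N2151 (iv F56093)) (tt N2062 F19666) (tt N2334 F19667))
theorem Q2336 : ∀ i, i < 2336 → P i := stepQ 2335 Q2335 (allL N2335 (tt N2061 F19674) (tt N2613 D7385) (tt N2060 (iv D5771)) (tt N2081 F19675) (tt N2614 D7386) (tt N2335 F19676) (tt N2335 F56318) (tt N2064 F19677))
theorem Q2337 : ∀ i, i < 2337 → P i := stepQ 2336 Q2336 (allL N2336 (tt N2062 F19678) (tt N2469 (iv F24256)) (tt N2614 (iv F24878)) (tt N2603 (iv F24821)) (tt N2060 (iv D5772)) (tt N2615 D7388) (tt N2612 (iv F24859)) (tt N2065 F19679))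
theorem Q2338 : ∀ i, i < 2338 → P i := stepQ 2337 Q2337 (allL N2337 (tt N2614 (iv F24877)) (tt N2337 F19680) (tt N2062 F19681) (tt N2582 F57088) (tt N2061 (iv D5773)) (tt N2616 D7390) (tt N2337 F56036) (tt N2066 F19682))
theorem Q2339 : ∀ i, i < 2339 → P i := stepQ 2338 Q2338 (allL N2338 (tt N2615 (iv F24883)) (tt N2063 F19686) (tt N2616 (iv F24890)) (tt N2152 (iv F56374)) (tt N2338 F19687) (tt N2062 (iv D5775)) (tt N2151 F56248) (tt N2067 F19688))
theorem Q2340 : ∀ i, i < 2340 → P i := stepQ 2339 Q2339 (allL N2339 (tt N2339 F19689) (tt N2064 (iv D5776)) (tt N2473 (iv F24273)) (tt N2083 F19690) (tt N2617 D7393) (tt N2339 F19691) (tt N2590 (iv F57100)) (tt N2613 (iv F24876)))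
theorem Q2341 : ∀ i, i < 2341 → P i := stepQ 2340 Q2340 (allL N2340 (tt N2066 F19692) (tt N2617 (iv F24900)) (tt N2065 F19693) (tt N2578 F57089) (tt N2064 (iv D5777)) (tt N2618 D7396) (tt N2576 (iv F57101)) (tt N2614 (iv F24879)))
theorem Q2342 : ∀ i, i < 2342 → P i := stepQ 2341 Q2341 (allL N2341 (tt N2067 F19698) (tt N2476 (iv F24283)) (tt N2618 (iv F24908)) (tt N2609 (iv F24843)) (tt N2341 F19699) (tt N2065 (iv D5779)) (tt N2341 F19700) (tt N2615 (iv F24885)))
theorem Q2343 : ∀ i, i < 2343 → P i := stepQ 2342 Q2342 (allL N2342 (tt N2618 (iv F24907)) (tt N2342 F19703) (tt N2067 F19704) (tt N2581 F57090) (tt N2342 F19705) (tt N2066 (iv D5781)) (tt N2580 (iv F57270)) (tt N2616 (iv F24892)))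
theorem Q2344 : ∀ i, i < 2344 → P i := stepQ 2343 Q2343 (allL N2343 (tt N2069 F19713) (tt N2619 D7403) (tt N2068 (iv D5784)) (tt N2594 (iv F24774)) (tt N2620 D7404) (tt N2602 (iv F24817)) (tt N2621 D7405) (tt N2598 (iv F24797)))
theorem Q2345 : ∀ i, i < 2345 → P i := stepQ 2344 Q2344 (allL N2344 (tt N2070 F19714) (tt N2098 F19715) (tt N2620 (iv F24932)) (tt N2344 F19716) (tt N2068 (iv D5785)) (tt N2150 F56540) (tt N2146 F19717) (tt N2599 (iv F24802)))
theorem Q2346 : ∀ i, i < 2346 → P i := stepQ 2345 Q2345 (allL N2345 (tt N2620 (iv F24931)) (tt N2079 F19718) (tt N2070 F19719) (tt N2494 (iv F56698)) (tt N2069 (iv D5786)) (tt N2100 F56535) (tt N2090 F56536) (tt N2600 (iv F24805)))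
theorem Q2347 : ∀ i, i < 2347 → P i := stepQ 2346 Q2346 (allL N2346 (tt N2621 (iv F24933)) (tt N2080 F19720) (tt N2091 F56574) (tt N2597 (iv F24787)) (tt N2090 F56575) (tt N2605 (iv F24830)) (tt N2069 (iv D5787)) (tt N2465 (iv F56722)))
theorem Q2348 : ∀ i, i < 2348 → P i := stepQ 2347 Q2347 (allL N2347 (tt N2072 F19725) (tt N2622 D7411) (tt N2071 (iv D5789)) (tt N2598 (iv F24795)) (tt N2623 D7412) (tt N2077 F19726) (tt N2624 D7413) (tt N2594 (iv F24776)))
theorem Q2349 : ∀ i, i < 2349 → P i := stepQ 2348 Q2348 (allL N2348 (tt N2073 F19727) (tt N2087 (iv F56672)) (tt N2623 (iv F24951)) (tt N2348 F19729) (tt N2071 (iv D5790)) (tt N2130 F56527) (tt N2085 F19730) (tt N2595 (iv F24781)))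
theorem Q2350 : ∀ i, i < 2350 → P i := stepQ 2349 Q2349 (allL N2349 (tt N2623 (iv F24950)) (tt N2604 (iv F24824)) (tt N2073 F19731) (tt N2625 D7415) (tt N2072 (iv D5791)) (tt N2117 F56529) (tt N2116 (iv F56660)) (tt N2596 (iv F24784)))
theorem Q2351 : ∀ i, i < 2351 → P i := stepQ 2350 Q2350 (allL N2350 (tt N2624 (iv F24952)) (tt N2605 (iv F24827)) (tt N2086 F19732) (tt N2601 (iv F24808)) (tt N2116 (iv F56659)) (tt N2080 F19733) (tt N2072 (iv D5792)) (tt N2626 D7418))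
theorem Q2352 : ∀ i, i < 2352 → P i := stepQ 2351 Q2351 (allL N2351 (tt N2075 F19738) (tt N2627 D7419) (tt N2074 (iv D5794)) (tt N2602 (iv F24816)) (tt N2628 D7420) (tt N2594 (iv F24775)) (tt N2629 D7421) (tt N2077 F19739))
theorem Q2353 : ∀ i, i < 2353 → P i := stepQ 2352 Q2352 (allL N2352 (tt N2076 F19740) (tt N2107 F19741) (tt N2628 (iv F24970)) (tt N2082 F19742) (tt N2074 (iv D5795)) (tt N2131 (iv F56664)) (tt N2169 F19743) (tt N2078 F19744))
theorem Q2354 : ∀ i, i < 2354 → P i := stepQ 2353 Q2353 (allL N2353 (tt N2628 (iv F24969)) (tt N2600 (iv F24803)) (tt N2076 F19745) (tt N2547 (iv F56700)) (tt N2075 (iv D5796)) (tt N2118 (iv F56667)) (tt N2630 D7425) (tt N2079 F19746))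
theorem Q2355 : ∀ i, i < 2355 → P i := stepQ 2354 Q2354 (allL N2354 (tt N2629 (iv F24972)) (tt N2601 (iv F24806)) (tt N2171 F19747) (tt N2605 (iv F24829)) (tt N2630 (iv F24984)) (tt N2597 (iv F24788)) (tt N2075 (iv D5797)) (tt N2631 D7426))
theorem Q2356 : ∀ i, i < 2356 → P i := stepQ 2355 Q2355 (allL N2355 (tt N2619 (iv F24929)) (tt N2077 (iv D5799)) (tt N2111 F19752) (tt N2606 (iv F24836)) (tt N2632 D7427) (tt N2622 (iv F24949)) (tt N2633 D7428) (tt N2627 (iv F24968)))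
theorem Q2357 : ∀ i, i < 2357 → P i := stepQ 2356 Q2356 (allL N2356 (tt N2079 F19753) (tt N2632 (iv F24987)) (tt N2078 F19754) (tt N2542 (iv F56692)) (tt N2077 (iv D5800)) (tt N2113 (iv F56662)) (tt N2105 (iv F56671)) (tt N2628 (iv F24971)))
theorem Q2358 : ∀ i, i < 2358 → P i := stepQ 2357 Q2357 (allL N2357 (tt N2080 F19755) (tt N2633 (iv F24989)) (tt N2087 F19756) (tt N2608 (iv F24841)) (tt N2105 F56815) (tt N2624 (iv F24954)) (tt N2077 (iv D5801)) (tt N2634 D7432))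
theorem Q2359 : ∀ i, i < 2359 → P i := stepQ 2358 Q2358 (allL N2358 (tt N2634 (iv F24997)) (tt N2465 F56822) (tt N2088 F19765) (tt N2611 (iv F24851)) (tt N2103 F56823) (tt N2626 (iv F24966)) (tt N2631 (iv F24986)) (tt N2080 (iv D5806)))
theorem Q2360 : ∀ i, i < 2360 → P i := stepQ 2359 Q2359 (allL N2359 (tt N2359 F19766) (tt N2081 (iv D5807)) (tt N2119 F19767) (tt N2613 (iv F24874)) (tt N2591 F57087) (tt N2359 F19768) (tt N2359 F56632) (tt N2083 F19769))
theorem Q2361 : ∀ i, i < 2361 → P i := stepQ 2360 Q2360 (allL N2360 (tt N2086 F19830) (tt N2130 (iv F56467)) (tt N2624 (iv F24953)) (tt N2360 F19831) (tt N2114 F56534) (tt N2087 F19832) (tt N2084 (iv D5827)) (tt N2635 D7465))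
theorem Q2362 : ∀ i, i < 2362 → P i := stepQ 2361 Q2361 (allL N2361 (tt N2635 (iv F25094)) (tt N2104 F56614) (tt N2626 (iv F24965)) (tt N2361 F19849) (tt N2110 (iv F56661)) (tt N2088 F19850) (tt N2177 F19851) (tt N2086 (iv D5832)))
theorem Q2363 : ∀ i, i < 2363 → P i := stepQ 2362 Q2362 (allL N2362 (tt N2088 F19868) (tt N2595 F56816) (tt N2634 (iv F24998)) (tt N2362 F19869) (tt N2102 F56817) (tt N2635 (iv F25096)) (tt N2178 F19870) (tt N2087 (iv D5838)))
theorem Q2364 : ∀ i, i < 2364 → P i := stepQ 2363 Q2363 (allL N2363 (tt N2090 F19934) (tt N2636 D7501) (tt N2089 (iv D5857)) (tt N2491 (iv F24341)) (tt N2621 (iv F56727)) (tt N2097 F19935) (tt N2620 (iv F56697)) (tt N2463 (iv F24233)))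
theorem Q2365 : ∀ i, i < 2365 → P i := stepQ 2364 Q2364 (allL N2364 (tt N2091 F19936) (tt N2603 (iv F24820)) (tt N2621 (iv F56726)) (tt N2469 (iv F24257)) (tt N2089 (iv D5858)) (tt N2637 D7504) (tt N2145 F56570) (tt N2464 (iv F24238)))
theorem Q2366 : ∀ i, i < 2366 → P i := stepQ 2365 Q2365 (allL N2365 (tt N2637 (iv F25226)) (tt N2092 F19943) (tt N2605 F56561) (tt N2472 (iv F24268)) (tt N2101 F19944) (tt N2091 (iv D5861)) (tt N2143 F56562) (tt N2467 (iv F24250)))
theorem Q2367 : ∀ i, i < 2367 → P i := stepQ 2366 Q2366 (allL N2366 (tt N2094 F19946) (tt N2638 D7509) (tt N2093 (iv D5862)) (tt N2486 (iv F24320)) (tt N2639 D7510) (tt N2463 (iv F24232)) (tt N2640 D7511) (tt N2097 F19947))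
theorem Q2368 : ∀ i, i < 2368 → P i := stepQ 2367 Q2367 (allL N2367 (tt N2095 F19948) (tt N2599 (iv F24799)) (tt N2639 (iv F25242)) (tt N2367 F19949) (tt N2093 (iv D5863)) (tt N2641 D7512) (tt N2367 F19950) (tt N2098 F19951))
theorem Q2369 : ∀ i, i < 2369 → P i := stepQ 2368 Q2368 (allL N2368 (tt N2639 (iv F25241)) (tt N2108 F19952) (tt N2095 F19953) (tt N2642 D7513) (tt N2094 (iv D5864)) (tt N2643 D7514) (tt N2644 D7515) (tt N2099 F19954))
theorem Q2370 : ∀ i, i < 2370 → P i := stepQ 2369 Q2369 (allL N2369 (tt N2640 (iv F25244)) (tt N2109 F19955) (tt N2369 F19956) (tt N2489 (iv F24333)) (tt N2644 (iv F25258)) (tt N2466 (iv F24245)) (tt N2094 (iv D5865)) (tt N2645 D7516))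
theorem Q2371 : ∀ i, i < 2371 → P i := stepQ 2370 Q2370 (allL N2370 (tt N2641 (iv F25246)) (tt N2096 F19957) (tt N2643 (iv F25254)) (tt N2370 F19958) (tt N2467 (iv F24248)) (tt N2095 (iv D5866)) (tt N2370 F19959) (tt N2101 F19960))
theorem Q2372 : ∀ i, i < 2372 → P i := stepQ 2371 Q2371 (allL N2371 (tt N2111 F19961) (tt N2097 (iv D5867)) (tt N2619 (iv F24930)) (tt N2532 (iv F24544)) (tt N2646 D7517) (tt N2636 (iv F25220)) (tt N2647 D7518) (tt N2638 (iv F25240)))
theorem Q2373 : ∀ i, i < 2373 → P i := stepQ 2372 Q2372 (allL N2372 (tt N2099 F19962) (tt N2646 (iv F25263)) (tt N2098 F19963) (tt N2648 D7519) (tt N2097 (iv D5868)) (tt N2649 D7520) (tt N2650 D7521) (tt N2639 (iv F25243)))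
theorem Q2374 : ∀ i, i < 2374 → P i := stepQ 2373 Q2373 (allL N2373 (tt N2100 F19964) (tt N2647 (iv F25265)) (tt N2150 F19965) (tt N2534 (iv F24549)) (tt N2650 (iv F25272)) (tt N2620 (iv F56696)) (tt N2097 (iv D5869)) (tt N2651 D7522))
theorem Q2375 : ∀ i, i < 2375 → P i := stepQ 2374 Q2374 (allL N2374 (tt N2101 F19966) (tt N2150 F56554) (tt N2649 (iv F25269)) (tt N2374 F19967) (tt N2637 (iv F25227)) (tt N2098 (iv D5870)) (tt N2148 F56555) (tt N2641 (iv F25249)))
theorem Q2376 : ∀ i, i < 2376 → P i := stepQ 2375 Q2375 (allL N2375 (tt N2648 (iv F25266)) (tt N2115 F19969) (tt N2375 F19970) (tt N2099 (iv D5871)) (tt N2536 (iv F24555)) (tt N2652 D7523) (tt N2653 D7524) (tt N2642 (iv F25252)))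
theorem Q2377 : ∀ i, i < 2377 → P i := stepQ 2376 Q2376 (allL N2376 (tt N2649 (iv F25268)) (tt N2116 F19971) (tt N2101 F19972) (tt N2652 (iv F25277)) (tt N2605 F56556) (tt N2099 (iv D5872)) (tt N2604 F56557) (tt N2643 (iv F25255)))
theorem Q2378 : ∀ i, i < 2378 → P i := stepQ 2377 Q2377 (allL N2377 (tt N2650 (iv F25270)) (tt N2117 F19973) (tt N2152 F19974) (tt N2653 (iv F25279)) (tt N2100 F19975) (tt N2604 F56547) (tt N2099 (iv D5873)) (tt N2610 (iv F56713)))
theorem Q2379 : ∀ i, i < 2379 → P i := stepQ 2378 Q2378 (allL N2378 (tt N2651 (iv F25273)) (tt N2118 F19976) (tt N2153 F19977) (tt N2539 (iv F24563)) (tt N2610 (iv F56712)) (tt N2600 (iv F56699)) (tt N2645 (iv F25261)) (tt N2100 (iv D5874)))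
theorem Q2380 : ∀ i, i < 2380 → P i := stepQ 2379 Q2379 (allL N2379 (tt N2103 F19978) (tt N2654 D7527) (tt N2102 (iv D5875)) (tt N2481 (iv F24299)) (tt N2634 (iv F56968)) (tt N2106 F19979) (tt N2655 D7529) (tt N2105 F19980))
theorem Q2381 : ∀ i, i < 2381 → P i := stepQ 2380 Q2380 (allL N2380 (tt N2655 (iv F25291)) (tt N2466 (iv F24242)) (tt N2180 F19987) (tt N2484 (iv F24312)) (tt N2631 (iv F56979)) (tt N2109 F19988) (tt N2103 (iv D5878)) (tt N2630 F56824))
theorem Q2382 : ∀ i, i < 2382 → P i := stepQ 2381 Q2381 (allL N2381 (tt N2636 (iv F25219)) (tt N2105 (iv D5880)) (tt N2622 (iv F24948)) (tt N2540 (iv F24564)) (tt N2633 (iv F56967)) (tt N2111 F19994) (tt N2632 F56813) (tt N2654 (iv F25287)))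
theorem Q2383 : ∀ i, i < 2383 → P i := stepQ 2382 Q2382 (allL N2382 (tt N2638 (iv F25239)) (tt N2106 (iv D5888)) (tt N2627 (iv F24967)) (tt N2548 (iv F24585)) (tt N2656 D7545) (tt N2654 (iv F25286)) (tt N2657 D7546) (tt N2111 F20011))
theorem Q2384 : ∀ i, i < 2384 → P i := stepQ 2383 Q2383 (allL N2383 (tt N2108 F20012) (tt N2656 (iv F25331)) (tt N2107 F20013) (tt N2658 D7547) (tt N2106 (iv D5889)) (tt N2659 D7548) (tt N2660 D7549) (tt N2112 F20014))
theorem Q2385 : ∀ i, i < 2385 → P i := stepQ 2384 Q2384 (allL N2384 (tt N2109 F20015) (tt N2657 (iv F25333)) (tt N2184 F20016) (tt N2550 (iv F24592)) (tt N2660 (iv F25342)) (tt N2655 (iv F25293)) (tt N2106 (iv D5890)) (tt N2661 D7550))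
theorem Q2386 : ∀ i, i < 2386 → P i := stepQ 2385 Q2385 (allL N2385 (tt N2110 F20017) (tt N2131 (iv F56663)) (tt N2659 (iv F25338)) (tt N2122 F20018) (tt N2635 (iv F56694)) (tt N2107 (iv D5891)) (tt N2185 F20019) (tt N2114 F20020))
theorem Q2387 : ∀ i, i < 2387 → P i := stepQ 2386 Q2386 (allL N2386 (tt N2658 (iv F25334)) (tt N2642 (iv F25250)) (tt N2123 F20021) (tt N2108 (iv D5892)) (tt N2552 (iv F24598)) (tt N2502 F57243) (tt N2501 F57244) (tt N2115 F20022))
theorem Q2388 : ∀ i, i < 2388 → P i := stepQ 2387 Q2387 (allL N2387 (tt N2659 (iv F25337)) (tt N2643 (iv F25253)) (tt N2110 F20023) (tt N2502 F57156) (tt N2626 F56804) (tt N2108 (iv D5893)) (tt N2500 F57157) (tt N2116 F20024))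
theorem Q2389 : ∀ i, i < 2389 → P i := stepQ 2388 Q2388 (allL N2388 (tt N2660 (iv F25340)) (tt N2644 (iv F25256)) (tt N2188 F20025) (tt N2501 F57154) (tt N2109 F20026) (tt N2500 F57155) (tt N2108 (iv D5894)) (tt N2662 D7554))
theorem Q2390 : ∀ i, i < 2390 → P i := stepQ 2389 Q2389 (allL N2389 (tt N2661 (iv F25343)) (tt N2645 (iv F25259)) (tt N2189 F20027) (tt N2555 (iv F24605)) (tt N2662 (iv F25353)) (tt N2630 F56811) (tt N2118 F20028) (tt N2109 (iv D5895)))
theorem Q2391 : ∀ i, i < 2391 → P i := stepQ 2390 Q2390 (allL N2390 (tt N2646 (iv F25262)) (tt N2112 F20029) (tt N2632 (iv F24988)) (tt N2663 D7555) (tt N2111 (iv D5896)) (tt N2664 D7556) (tt N2665 D7557) (tt N2656 (iv F25332)))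
theorem Q2392 : ∀ i, i < 2392 → P i := stepQ 2391 Q2391 (allL N2391 (tt N2647 (iv F25264)) (tt N2113 F20030) (tt N2664 F56805) (tt N2557 (iv F24609)) (tt N2665 (iv F25358)) (tt N2632 F56806) (tt N2111 (iv D5897)) (tt N2666 D7559))
theorem Q2393 : ∀ i, i < 2393 → P i := stepQ 2392 Q2392 (allL N2392 (tt N2115 F20031) (tt N2663 (iv F25355)) (tt N2127 F20032) (tt N2112 (iv D5898)) (tt N2558 (iv F24612)) (tt N2667 D7560) (tt N2668 D7561) (tt N2658 (iv F25336)))
theorem Q2394 : ∀ i, i < 2394 → P i := stepQ 2393 Q2393 (allL N2393 (tt N2116 F20033) (tt N2664 (iv F25356)) (tt N2114 F20034) (tt N2667 (iv F25363)) (tt N2624 (iv F56693)) (tt N2112 (iv D5899)) (tt N2623 (iv F56684)) (tt N2659 (iv F25339)))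
theorem Q2395 : ∀ i, i < 2395 → P i := stepQ 2394 Q2394 (allL N2394 (tt N2117 F20035) (tt N2665 (iv F25357)) (tt N2130 F20036) (tt N2668 (iv F25366)) (tt N2113 F20037) (tt N2623 (iv F56683)) (tt N2112 (iv D5900)) (tt N2669 D7563))
theorem Q2396 : ∀ i, i < 2396 → P i := stepQ 2395 Q2395 (allL N2395 (tt N2118 F20038) (tt N2666 (iv F25360)) (tt N2131 F20039) (tt N2561 (iv F24620)) (tt N2669 (iv F25372)) (tt N2628 F56807) (tt N2661 (iv F25345)) (tt N2113 (iv D5901)))
theorem Q2397 : ∀ i, i < 2397 → P i := stepQ 2396 Q2396 (allL N2396 (tt N2667 (iv F25361)) (tt N2652 (iv F25275)) (tt N2129 F20040) (tt N2116 F20041) (tt N2503 F57055) (tt N2115 (iv D5902)) (tt N2625 F56803) (tt N2502 (iv F57057)))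
theorem Q2398 : ∀ i, i < 2398 → P i := stepQ 2397 Q2397 (allL N2397 (tt N2668 (iv F25364)) (tt N2653 (iv F25278)) (tt N2397 F20042) (tt N2117 F20043) (tt N2563 (iv F24625)) (tt N2625 (iv F56687)) (tt N2115 (iv D5903)) (tt N2670 D7566))
theorem Q2399 : ∀ i, i < 2399 → P i := stepQ 2398 Q2398 (allL N2398 (tt N2669 (iv F25370)) (tt N2610 (iv F56711)) (tt N2132 F20046) (tt N2670 (iv F25378)) (tt N2118 F20047) (tt N2596 (iv F56688)) (tt N2662 (iv F25354)) (tt N2117 (iv D5905)))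
theorem Q2400 : ∀ i, i < 2400 → P i := stepQ 2399 Q2399 (allL N2399 (tt N2399 F20048) (tt N2120 F20049) (tt N2591 F57109) (tt N2671 D7568) (tt N2119 (iv D5906)) (tt N2593 F57110) (tt N2672 D7570) (tt N2126 F20050))
theorem Q2401 : ∀ i, i < 2401 → P i := stepQ 2400 Q2400 (allL N2400 (tt N2400 F20051) (tt N2121 F20052) (tt N2400 F56941) (tt N2567 (iv F24635)) (tt N2672 (iv F25390)) (tt N2400 F20053) (tt N2119 (iv D5907)) (tt N2400 F20054))
theorem Q2402 : ∀ i, i < 2402 → P i := stepQ 2401 Q2401 (allL N2401 (tt N2123 F20055) (tt N2671 (iv F25382)) (tt N2658 (iv F25335)) (tt N2120 (iv D5908)) (tt N2568 (iv F24639)) (tt N2530 F57430) (tt N2529 (iv F57486)) (tt N2127 F20056))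
theorem Q2403 : ∀ i, i < 2403 → P i := stepQ 2402 Q2402 (allL N2402 (tt N2124 F20057) (tt N2593 (iv F57046)) (tt N2122 F20058) (tt N2530 F57471) (tt N2402 F20059) (tt N2120 (iv D5909)) (tt N2528 (iv F57492)) (tt N2128 F20060))
theorem Q2404 : ∀ i, i < 2404 → P i := stepQ 2403 Q2403 (allL N2403 (tt N2125 F20061) (tt N2672 (iv F25389)) (tt N2201 F20062) (tt N2529 F57499) (tt N2121 F20063) (tt N2528 F57500) (tt N2120 (iv D5910)) (tt N2403 F20064))
theorem Q2405 : ∀ i, i < 2405 → P i := stepQ 2404 Q2404 (allL N2404 (tt N2404 F20076) (tt N2127 F20077) (tt N2673 D7578) (tt N2126 (iv D5914)) (tt N2571 (iv F24663)) (tt N2592 F57108) (tt N2404 F20078) (tt N2671 (iv F25383)))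
theorem Q2406 : ∀ i, i < 2406 → P i := stepQ 2405 Q2405 (allL N2405 (tt N2129 F20083) (tt N2592 (iv F57045)) (tt N2667 (iv F25362)) (tt N2128 F20084) (tt N2531 F57375) (tt N2127 (iv D5916)) (tt N2405 F20085) (tt N2530 (iv F57377)))
theorem Q2407 : ∀ i, i < 2407 → P i := stepQ 2406 Q2406 (allL N2406 (tt N2132 F20140) (tt N2635 F56625) (tt N2669 (iv F25371)) (tt N2406 F20141) (tt N2131 F20142) (tt N2595 (iv F56685)) (tt N2203 F20143) (tt N2130 (iv D5933)))
theorem Q2408 : ∀ i, i < 2408 → P i := stepQ 2407 Q2407 (allL N2407 (tt N2134 F20181) (tt N2407 F20182) (tt N2674 D7613) (tt N2133 (iv D5945)) (tt N2675 D7614) (tt N2157 F20183) (tt N2138 F20184) (tt N2154 F20185))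
theorem Q2409 : ∀ i, i < 2409 → P i := stepQ 2408 Q2408 (allL N2408 (tt N2674 (iv F25534)) (tt N2408 F20186) (tt N2134 (iv D5946)) (tt N2162 F20187) (tt N2471 (iv F56593)) (tt N2158 F20188) (tt N2470 F56577) (tt N2155 F20189))
theorem Q2410 : ∀ i, i < 2410 → P i := stepQ 2409 Q2409 (allL N2409 (tt N2675 (iv F25538)) (tt N2135 F20190) (tt N2471 (iv F56592)) (tt N2409 F20191) (tt N2134 (iv D5947)) (tt N2409 F56588) (tt N2140 F20192) (tt N2156 F20193))
theorem Q2411 : ∀ i, i < 2411 → P i := stepQ 2410 Q2410 (allL N2410 (tt N2137 F20200) (tt N2410 F20201) (tt N2676 D7618) (tt N2136 (iv D5949)) (tt N2410 F56627) (tt N2138 F20202) (tt N2157 F20203) (tt N2410 F20204))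
theorem Q2412 : ∀ i, i < 2412 → P i := stepQ 2411 Q2411 (allL N2411 (tt N2676 (iv F25555)) (tt N2141 F20205) (tt N2137 (iv D5950)) (tt N2143 F20206) (tt N2411 F56314) (tt N2139 F20207) (tt N2472 (iv F56405)) (tt N2411 F20208))
theorem Q2413 : ∀ i, i < 2413 → P i := stepQ 2412 Q2412 (allL N2412 (tt N2139 F20219) (tt N2612 F56250) (tt N2138 (iv D5953)) (tt N2145 F20220) (tt N2147 (iv F56277)) (tt N2676 (iv F25557)) (tt N2469 (iv F56404)) (tt N2412 F20221))
theorem Q2414 : ∀ i, i < 2414 → P i := stepQ 2413 Q2413 (allL N2413 (tt N2140 F20222) (tt N2413 F20223) (tt N2147 F56426) (tt N2413 F20224) (tt N2138 (iv D5954)) (tt N2413 F56587) (tt N2675 (iv F25541)) (tt N2413 F20225))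
theorem Q2415 : ∀ i, i < 2415 → P i := stepQ 2414 Q2414 (allL N2414 (tt N2143 F20314) (tt N2149 F56559) (tt N2142 (iv D5981)) (tt N2676 (iv F25556)) (tt N2148 F56560) (tt N2145 F20315) (tt N2637 (iv F56725)) (tt N2414 F20316))
theorem Q2416 : ∀ i, i < 2416 → P i := stepQ 2415 Q2415 (allL N2415 (tt N2144 F20317) (tt N2145 (iv F56397)) (tt N2148 (iv F56392)) (tt N2612 (iv F24858)) (tt N2142 (iv D5982)) (tt N2149 (iv F56380)) (tt N2603 (iv F24822)) (tt N2415 F20319))
theorem Q2417 : ∀ i, i < 2417 → P i := stepQ 2416 Q2416 (allL N2416 (tt N2151 F20617) (tt N2676 (iv F56403)) (tt N2416 F20618) (tt N2149 (iv D6081)) (tt N2416 F20619) (tt N2612 F56247) (tt N2615 (iv F56402)) (tt N2416 F20620))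
theorem Q2418 : ∀ i, i < 2418 → P i := stepQ 2417 Q2417 (allL N2417 (tt N2152 F20624) (tt N2637 F56548) (tt N2650 (iv F25271)) (tt N2615 F56549) (tt N2150 F20625) (tt N2603 F56550) (tt N2149 (iv D6083)) (tt N2609 (iv F56715)))
theorem Q2419 : ∀ i, i < 2419 → P i := stepQ 2418 Q2418 (allL N2418 (tt N2153 F20626) (tt N2641 (iv F56717)) (tt N2651 (iv F25274)) (tt N2418 F20627) (tt N2609 (iv F56714)) (tt N2599 (iv F56706)) (tt N2418 F20628) (tt N2150 (iv D6084)))
theorem Q2420 : ∀ i, i < 2420 → P i := stepQ 2419 Q2419 (allL N2419 (tt N2155 F21727) (tt N2677 D8229) (tt N2154 (iv D6424)) (tt N2164 F21728) (tt N2678 D8230) (tt N2159 F21729) (tt N2679 D8231) (tt N2674 (iv F25537)))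
theorem Q2421 : ∀ i, i < 2421 → P i := stepQ 2420 Q2420 (allL N2420 (tt N2156 F21730) (tt N2420 F21731) (tt N2678 (iv F27485)) (tt N2420 F21732) (tt N2154 (iv D6425)) (tt N2420 F56916) (tt N2420 F21733) (tt N2675 (iv F25542)))
theorem Q2422 : ∀ i, i < 2422 → P i := stepQ 2421 Q2421 (allL N2421 (tt N2678 (iv F27484)) (tt N2421 F21734) (tt N2156 F21735) (tt N2511 (iv F56920)) (tt N2155 (iv D6426)) (tt N2421 F56915) (tt N2480 (iv F56922)) (tt N2471 F56745))
theorem Q2423 : ∀ i, i < 2423 → P i := stepQ 2422 Q2422 (allL N2422 (tt N2679 (iv F27486)) (tt N2422 F21736) (tt N2422 F21737) (tt N2167 F21738) (tt N2480 (iv F56921)) (tt N2160 F21739) (tt N2155 (iv D6427)) (tt N2479 (iv F57067)))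
theorem Q2424 : ∀ i, i < 2424 → P i := stepQ 2423 Q2423 (allL N2423 (tt N2158 F21744) (tt N2680 D8237) (tt N2157 (iv D6429)) (tt N2168 F21745) (tt N2423 F56935) (tt N2674 (iv F25536)) (tt N2681 D8239) (tt N2159 F21746))
theorem Q2425 : ∀ i, i < 2425 → P i := stepQ 2424 Q2424 (allL N2424 (tt N2681 (iv F27515)) (tt N2424 F21754) (tt N2472 F56579) (tt N2171 F21755) (tt N2424 F56629) (tt N2470 F56580) (tt N2158 (iv D6432)) (tt N2478 (iv F56733)))
theorem Q2426 : ∀ i, i < 2426 → P i := stepQ 2425 Q2425 (allL N2425 (tt N2425 F21759) (tt N2159 (iv D6434)) (tt N2425 F21760) (tt N2172 F21761) (tt N2425 F57279) (tt N2677 (iv F27483)) (tt N2682 D8246) (tt N2680 (iv F27511)))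
theorem Q2427 : ∀ i, i < 2427 → P i := stepQ 2426 Q2426 (allL N2426 (tt N2160 F21764) (tt N2682 (iv F27537)) (tt N2426 F21765) (tt N2174 F21766) (tt N2426 F57163) (tt N2679 (iv F27489)) (tt N2159 (iv D6436)) (tt N2683 D8250))
theorem Q2428 : ∀ i, i < 2428 → P i := stepQ 2427 Q2427 (allL N2427 (tt N2683 (iv F27547)) (tt N2427 F21779) (tt N2427 F21780) (tt N2175 F21781) (tt N2427 F56940) (tt N2479 F56912) (tt N2478 F56913) (tt N2160 (iv D6441)))
theorem Q2429 : ∀ i, i < 2429 → P i := stepQ 2428 Q2428 (allL N2428 (tt N2162 F21856) (tt N2684 D8287) (tt N2161 (iv D6465)) (tt N2674 (iv F25535)) (tt N2685 D8288) (tt N2168 F21857) (tt N2686 D8289) (tt N2164 F21858))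
theorem Q2430 : ∀ i, i < 2430 → P i := stepQ 2429 Q2429 (allL N2429 (tt N2163 F21859) (tt N2178 (iv F56970)) (tt N2685 (iv F27669)) (tt N2429 F21861) (tt N2161 (iv D6466)) (tt N2203 F56833) (tt N2595 (iv F24780)) (tt N2165 F21862))
theorem Q2431 : ∀ i, i < 2431 → P i := stepQ 2430 Q2430 (allL N2430 (tt N2685 (iv F27668)) (tt N2430 F21863) (tt N2163 F21864) (tt N2510 (iv F56919)) (tt N2162 (iv D6467)) (tt N2198 F56836) (tt N2508 (iv F57002)) (tt N2166 F21865))
theorem Q2432 : ∀ i, i < 2432 → P i := stepQ 2431 Q2431 (allL N2431 (tt N2686 (iv F27671)) (tt N2431 F21866) (tt N2597 (iv F24786)) (tt N2470 F56581) (tt N2508 (iv F56734)) (tt N2171 F21867) (tt N2162 (iv D6468)) (tt N2477 (iv F56735)))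
theorem Q2433 : ∀ i, i < 2433 → P i := stepQ 2432 Q2432 (allL N2432 (tt N2432 F21872) (tt N2164 (iv D6470)) (tt N2181 F21873) (tt N2677 (iv F27482)) (tt N2687 D8295) (tt N2172 F21874) (tt N2688 D8296) (tt N2684 (iv F27667)))
theorem Q2434 : ∀ i, i < 2434 → P i := stepQ 2433 Q2433 (allL N2433 (tt N2166 F21875) (tt N2687 (iv F27691)) (tt N2165 F21876) (tt N2689 D8297) (tt N2164 (iv D6471)) (tt N2194 F56834) (tt N2193 F56835) (tt N2685 (iv F27670)))
theorem Q2435 : ∀ i, i < 2435 → P i := stepQ 2434 Q2434 (allL N2434 (tt N2167 F21877) (tt N2688 (iv F27694)) (tt N2176 F21878) (tt N2679 (iv F27488)) (tt N2193 F56848) (tt N2174 F21879) (tt N2164 (iv D6472)) (tt N2690 D8300))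
theorem Q2436 : ∀ i, i < 2436 → P i := stepQ 2435 Q2435 (allL N2435 (tt N2689 (iv F27696)) (tt N2435 F21885) (tt N2435 F21886) (tt N2166 (iv D6474)) (tt N2511 F57081) (tt N2197 F56837) (tt N2196 F56838) (tt N2510 F57082))
theorem Q2437 : ∀ i, i < 2437 → P i := stepQ 2436 Q2436 (allL N2436 (tt N2690 (iv F27704)) (tt N2436 F21893) (tt N2177 F21894) (tt N2479 (iv F57066)) (tt N2187 F56861) (tt N2175 F21895) (tt N2477 F56914) (tt N2167 (iv D6477)))
theorem Q2438 : ∀ i, i < 2438 → P i := stepQ 2437 Q2437 (allL N2437 (tt N2437 F21896) (tt N2168 (iv D6478)) (tt N2182 F21897) (tt N2680 (iv F27510)) (tt N2691 D8305) (tt N2684 (iv F27666)) (tt N2692 D8306) (tt N2172 F21898))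
theorem Q2439 : ∀ i, i < 2439 → P i := stepQ 2438 Q2438 (allL N2438 (tt N2170 F21899) (tt N2691 (iv F27720)) (tt N2169 F21900) (tt N2438 F57008) (tt N2168 (iv D6479)) (tt N2195 (iv F56962)) (tt N2693 D8309) (tt N2173 F21901))
theorem Q2440 : ∀ i, i < 2440 → P i := stepQ 2439 Q2439 (allL N2439 (tt N2171 F21902) (tt N2692 (iv F27724)) (tt N2629 (iv F24973)) (tt N2681 (iv F27516)) (tt N2693 (iv F27732)) (tt N2686 (iv F27672)) (tt N2168 (iv D6480)) (tt N2694 D8310))
theorem Q2441 : ∀ i, i < 2441 → P i := stepQ 2440 Q2440 (allL N2440 (tt N2693 (iv F27731)) (tt N2440 F21913) (tt N2630 (iv F24983)) (tt N2440 F56939) (tt N2171 F21914) (tt N2189 (iv F56965)) (tt N2170 (iv D6484)) (tt N2180 (iv F56980)))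
theorem Q2442 : ∀ i, i < 2442 → P i := stepQ 2441 Q2441 (allL N2441 (tt N2694 (iv F27733)) (tt N2441 F21915) (tt N2631 (iv F24985)) (tt N2478 F56889) (tt N2180 F57132) (tt N2477 F56890) (tt N2175 F21916) (tt N2171 (iv D6485)))
theorem Q2443 : ∀ i, i < 2443 → P i := stepQ 2442 Q2442 (allL N2442 (tt N2442 F21917) (tt N2173 F21918) (tt N2190 F21919) (tt N2442 F57009) (tt N2172 (iv D6486)) (tt N2191 (iv F56964)) (tt N2181 (iv F56974)) (tt N2691 (iv F27722)))
theorem Q2444 : ∀ i, i < 2444 → P i := stepQ 2443 Q2443 (allL N2443 (tt N2443 F21920) (tt N2174 F21921) (tt N2687 F57127) (tt N2682 (iv F27538)) (tt N2181 F57128) (tt N2688 (iv F27695)) (tt N2172 (iv D6487)) (tt N2695 D8319))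
theorem Q2445 : ∀ i, i < 2445 → P i := stepQ 2444 Q2444 (allL N2444 (tt N2175 F21929) (tt N2695 (iv F27758)) (tt N2178 F21930) (tt N2683 (iv F27549)) (tt N2179 F57126) (tt N2690 (iv F27706)) (tt N2694 (iv F27734)) (tt N2174 (iv D6491)))
theorem Q2446 : ∀ i, i < 2446 → P i := stepQ 2445 Q2445 (allL N2445 (tt N2177 F22023) (tt N2203 (iv F56775)) (tt N2690 (iv F27705)) (tt N2445 F22024) (tt N2185 F56847) (tt N2178 F22025) (tt N2635 (iv F25097)) (tt N2176 (iv D6524)))
theorem Q2447 : ∀ i, i < 2447 → P i := stepQ 2446 Q2446 (allL N2446 (tt N2446 F22131) (tt N2179 (iv D6560)) (tt N2684 (iv F27665)) (tt N2446 F22132) (tt N2695 (iv F57311)) (tt N2182 F22133) (tt N2696 D8410) (tt N2181 F22134))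
theorem Q2448 : ∀ i, i < 2448 → P i := stepQ 2447 Q2447 (allL N2447 (tt N2180 F22138) (tt N2696 (iv F28025)) (tt N2655 (iv F25292)) (tt N2447 F22139) (tt N2694 (iv F57308)) (tt N2184 F22140) (tt N2179 (iv D6562)) (tt N2693 F57125))
theorem Q2449 : ∀ i, i < 2449 → P i := stepQ 2448 Q2448 (allL N2448 (tt N2448 F22191) (tt N2183 F22192) (tt N2691 (iv F27721)) (tt N2697 D8433) (tt N2182 (iv D6578)) (tt N2698 D8434) (tt N2699 D8435) (tt N2190 F22193))
theorem Q2450 : ∀ i, i < 2450 → P i := stepQ 2449 Q2449 (allL N2449 (tt N2449 F22194) (tt N2184 F22195) (tt N2700 D8436) (tt N2449 F22196) (tt N2699 (iv F28110)) (tt N2696 (iv F28027)) (tt N2182 (iv D6579)) (tt N2701 D8437))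
theorem Q2451 : ∀ i, i < 2451 → P i := stepQ 2450 Q2450 (allL N2450 (tt N2186 F22197) (tt N2697 (iv F28102)) (tt N2199 F22198) (tt N2183 (iv D6580)) (tt N2450 F22199) (tt N2516 F57202) (tt N2515 (iv F57323)) (tt N2192 F22200))
theorem Q2452 : ∀ i, i < 2452 → P i := stepQ 2451 Q2451 (allL N2451 (tt N2187 F22201) (tt N2698 (iv F28106)) (tt N2185 F22202) (tt N2516 F57206) (tt N2690 (iv F57013)) (tt N2183 (iv D6581)) (tt N2514 F57207) (tt N2193 F22203))
theorem Q2453 : ∀ i, i < 2453 → P i := stepQ 2452 Q2452 (allL N2452 (tt N2188 F22204) (tt N2699 (iv F28109)) (tt N2660 (iv F25341)) (tt N2515 (iv F57322)) (tt N2184 F22205) (tt N2514 F57203) (tt N2183 (iv D6582)) (tt N2702 D8441))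
theorem Q2454 : ∀ i, i < 2454 → P i := stepQ 2453 Q2453 (allL N2453 (tt N2189 F22206) (tt N2701 (iv F28113)) (tt N2661 (iv F25344)) (tt N2453 F22207) (tt N2702 (iv F28126)) (tt N2693 F57113) (tt N2195 F22208) (tt N2184 (iv D6583)))
theorem Q2455 : ∀ i, i < 2455 → P i := stepQ 2454 Q2454 (allL N2454 (tt N2702 (iv F28125)) (tt N2454 F22218) (tt N2662 (iv F25352)) (tt N2509 (iv F57028)) (tt N2189 F22219) (tt N2508 (iv F56998)) (tt N2198 F22220) (tt N2188 (iv D6587)))
theorem Q2456 : ∀ i, i < 2456 → P i := stepQ 2455 Q2455 (allL N2455 (tt N2455 F22221) (tt N2192 F22222) (tt N2455 F57300) (tt N2190 (iv D6588)) (tt N2455 F22223) (tt N2703 D8448) (tt N2704 D8449) (tt N2697 (iv F28104)))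
theorem Q2457 : ∀ i, i < 2457 → P i := stepQ 2456 Q2456 (allL N2456 (tt N2456 F22224) (tt N2193 F22225) (tt N2191 (iv F56963)) (tt N2703 (iv F28149)) (tt N2688 (iv F57014)) (tt N2190 (iv D6589)) (tt N2687 (iv F56987)) (tt N2698 (iv F28107)))
theorem Q2458 : ∀ i, i < 2458 → P i := stepQ 2457 Q2457 (allL N2457 (tt N2457 F22226) (tt N2194 F22227) (tt N2688 F56934) (tt N2704 (iv F28152)) (tt N2191 F22228) (tt N2687 (iv F56986)) (tt N2190 (iv D6590)) (tt N2705 D8452))
theorem Q2459 : ∀ i, i < 2459 → P i := stepQ 2458 Q2458 (allL N2458 (tt N2458 F22231) (tt N2195 F22232) (tt N2698 F57114) (tt N2458 F22233) (tt N2705 (iv F28162)) (tt N2691 F57115) (tt N2701 (iv F28115)) (tt N2191 (iv D6592)))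
theorem Q2460 : ∀ i, i < 2460 → P i := stepQ 2459 Q2459 (allL N2459 (tt N2196 F22234) (tt N2703 (iv F28148)) (tt N2202 F22235) (tt N2193 F22236) (tt N2517 F57274) (tt N2192 (iv D6593)) (tt N2689 (iv F56989)) (tt N2516 F57275))
theorem Q2461 : ∀ i, i < 2461 → P i := stepQ 2460 Q2460 (allL N2460 (tt N2197 F22237) (tt N2704 (iv F28151)) (tt N2460 F22238) (tt N2194 F22239) (tt N2460 F22240) (tt N2689 (iv F56988)) (tt N2192 (iv D6594)) (tt N2706 D8457))
theorem Q2462 : ∀ i, i < 2462 → P i := stepQ 2461 Q2461 (allL N2461 (tt N2198 F22244) (tt N2705 (iv F28161)) (tt N2203 F22245) (tt N2706 (iv F28178)) (tt N2195 F22246) (tt N2685 (iv F56985)) (tt N2702 (iv F28127)) (tt N2194 (iv D6596)))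
theorem Q2463 : ∀ i, i < 2463 → P i := stepQ 2462 Q2462 (allL N2462 (tt N2706 (iv F28176)) (tt N2462 F22254) (tt N2462 F22255) (tt N2198 F22256) (tt N2462 F22257) (tt N2510 F57158) (tt N2509 F57159) (tt N2197 (iv D6599)))
theorem Q2464 : ∀ i, i < 2464 → P i := stepQ 2463 Q2463 (allL N2463 (tt N2205 F24230) (tt N2707 D9198) (tt N2204 (iv D7193)) (tt N2229 F24231) (tt N2708 D9199) (tt N2366 F24232) (tt N2709 D9200) (tt N2363 F24233))
theorem Q2465 : ∀ i, i < 2465 → P i := stepQ 2464 Q2464 (allL N2464 (tt N2206 F24234) (tt N2329 F24235) (tt N2708 (iv F30657)) (tt N2213 F24236) (tt N2204 (iv D7194)) (tt N2710 D9201) (tt N2464 F24237) (tt N2364 F24238))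
theorem Q2466 : ∀ i, i < 2466 → P i := stepQ 2465 Q2465 (allL N2465 (tt N2708 (iv F30656)) (tt N2358 (iv F56822)) (tt N2206 F24240) (tt N2711 D9202) (tt N2205 (iv D7195)) (tt N2712 D9203) (tt N2713 D9204) (tt N2346 F56722))
theorem Q2467 : ∀ i, i < 2467 → P i := stepQ 2466 Q2466 (allL N2466 (tt N2709 (iv F30659)) (tt N2380 F24242) (tt N2466 F24243) (tt N2232 F24244) (tt N2713 (iv F30679)) (tt N2369 F24245) (tt N2205 (iv D7196)) (tt N2714 D9205))
theorem Q2468 : ∀ i, i < 2468 → P i := stepQ 2467 Q2467 (allL N2467 (tt N2710 (iv F30663)) (tt N2207 F24246) (tt N2712 (iv F30674)) (tt N2216 F24247) (tt N2370 F24248) (tt N2206 (iv D7197)) (tt N2467 F24249) (tt N2365 F24250))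
theorem Q2469 : ∀ i, i < 2469 → P i := stepQ 2468 Q2468 (allL N2468 (tt N2209 F24251) (tt N2715 D9206) (tt N2208 (iv D7198)) (tt N2234 F24252) (tt N2716 D9207) (tt N2468 F24253) (tt N2717 D9208) (tt N2212 F24254))
theorem Q2470 : ∀ i, i < 2470 → P i := stepQ 2469 Q2469 (allL N2469 (tt N2210 F24255) (tt N2336 F24256) (tt N2716 (iv F30691)) (tt N2364 F24257) (tt N2208 (iv D7199)) (tt N2718 D9209) (tt N2412 F56404) (tt N2213 F24259))
theorem Q2471 : ∀ i, i < 2471 → P i := stepQ 2470 Q2470 (allL N2470 (tt N2716 (iv F30690)) (tt N2470 F24260) (tt N2210 F24261) (tt N2431 (iv F56581)) (tt N2209 (iv D7200)) (tt N2424 (iv F56580)) (tt N2408 (iv F56577)) (tt N2214 F24262))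
theorem Q2472 : ∀ i, i < 2472 → P i := stepQ 2471 Q2471 (allL N2471 (tt N2717 (iv F30693)) (tt N2471 F24263) (tt N2409 F56592) (tt N2237 F24265) (tt N2408 F56593) (tt N2471 F24266) (tt N2209 (iv D7201)) (tt N2421 (iv F56745)))
theorem Q2473 : ∀ i, i < 2473 → P i := stepQ 2472 Q2472 (allL N2472 (tt N2718 (iv F30697)) (tt N2211 F24267) (tt N2424 (iv F56579)) (tt N2365 F24268) (tt N2472 F24269) (tt N2210 (iv D7202)) (tt N2411 F56405) (tt N2216 F24271))
theorem Q2474 : ∀ i, i < 2474 → P i := stepQ 2473 Q2473 (allL N2473 (tt N2473 F24272) (tt N2212 (iv D7203)) (tt N2339 F24273) (tt N2239 F24274) (tt N2719 D9214) (tt N2473 F24275) (tt N2720 D9215) (tt N2715 (iv F30689)))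
theorem Q2475 : ∀ i, i < 2475 → P i := stepQ 2474 Q2474 (allL N2474 (tt N2214 F24276) (tt N2719 (iv F30720)) (tt N2213 F24277) (tt N2721 D9216) (tt N2212 (iv D7204)) (tt N2722 D9217) (tt N2723 D9218) (tt N2716 (iv F30692)))
theorem Q2476 : ∀ i, i < 2476 → P i := stepQ 2475 Q2475 (allL N2475 (tt N2215 F24278) (tt N2720 (iv F30723)) (tt N2475 F24279) (tt N2241 F24280) (tt N2723 (iv F30733)) (tt N2475 F24281) (tt N2212 (iv D7205)) (tt N2724 D9219))
theorem Q2477 : ∀ i, i < 2477 → P i := stepQ 2476 Q2476 (allL N2476 (tt N2216 F24282) (tt N2341 F24283) (tt N2722 (iv F30729)) (tt N2710 (iv F30665)) (tt N2476 F24284) (tt N2213 (iv D7206)) (tt N2476 F24285) (tt N2718 (iv F30702)))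
theorem Q2478 : ∀ i, i < 2478 → P i := stepQ 2477 Q2477 (allL N2477 (tt N2721 (iv F30726)) (tt N2477 F24286) (tt N2711 (iv F30670)) (tt N2214 (iv D7207)) (tt N2243 F24287) (tt N2441 (iv F56890)) (tt N2436 (iv F56914)) (tt N2431 F56735))
theorem Q2479 : ∀ i, i < 2479 → P i := stepQ 2478 Q2478 (allL N2478 (tt N2722 (iv F30728)) (tt N2478 F24288) (tt N2216 F24289) (tt N2441 (iv F56889)) (tt N2478 F24290) (tt N2214 (iv D7208)) (tt N2427 (iv F56913)) (tt N2424 F56733))
theorem Q2480 : ∀ i, i < 2480 → P i := stepQ 2479 Q2479 (allL N2479 (tt N2723 (iv F30731)) (tt N2479 F24291) (tt N2479 F24292) (tt N2436 F57066) (tt N2215 F24293) (tt N2427 (iv F56912)) (tt N2214 (iv D7209)) (tt N2422 F57067))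
theorem Q2481 : ∀ i, i < 2481 → P i := stepQ 2480 Q2480 (allL N2480 (tt N2724 (iv F30734)) (tt N2480 F24294) (tt N2480 F24295) (tt N2246 F24296) (tt N2422 F56921) (tt N2480 F24297) (tt N2421 F56922) (tt N2215 (iv D7210)))
theorem Q2482 : ∀ i, i < 2482 → P i := stepQ 2481 Q2481 (allL N2481 (tt N2218 F24298) (tt N2725 D9224) (tt N2217 (iv D7211)) (tt N2379 F24299) (tt N2726 D9225) (tt N2274 F24300) (tt N2727 D9226) (tt N2269 F24301))
theorem Q2483 : ∀ i, i < 2483 → P i := stepQ 2482 Q2482 (allL N2482 (tt N2219 F24302) (tt N2265 F24303) (tt N2726 (iv F30756)) (tt N2482 F24304) (tt N2217 (iv D7212)) (tt N2728 D9227) (tt N2482 F24305) (tt N2270 F24306))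
theorem Q2484 : ∀ i, i < 2484 → P i := stepQ 2483 Q2483 (allL N2483 (tt N2726 (iv F30755)) (tt N2231 F24307) (tt N2219 F24308) (tt N2729 D9228) (tt N2218 (iv D7213)) (tt N2730 D9229) (tt N2731 D9230) (tt N2271 F24309))
theorem Q2485 : ∀ i, i < 2485 → P i := stepQ 2484 Q2484 (allL N2484 (tt N2727 (iv F30758)) (tt N2232 F24310) (tt N2484 F24311) (tt N2380 F24312) (tt N2731 (iv F30778)) (tt N2277 F24313) (tt N2218 (iv D7214)) (tt N2732 D9231))
theorem Q2486 : ∀ i, i < 2486 → P i := stepQ 2485 Q2485 (allL N2485 (tt N2728 (iv F30762)) (tt N2220 F24314) (tt N2730 (iv F30773)) (tt N2485 F24315) (tt N2278 F24316) (tt N2219 (iv D7215)) (tt N2485 F24317) (tt N2273 F24318))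
theorem Q2487 : ∀ i, i < 2487 → P i := stepQ 2486 Q2486 (allL N2486 (tt N2222 F24319) (tt N2733 D9232) (tt N2221 (iv D7216)) (tt N2366 F24320) (tt N2734 D9233) (tt N2229 F24321) (tt N2735 D9234) (tt N2264 F24322))
theorem Q2488 : ∀ i, i < 2488 → P i := stepQ 2487 Q2487 (allL N2487 (tt N2223 F24323) (tt N2270 F24324) (tt N2734 (iv F30790)) (tt N2487 F24325) (tt N2221 (iv D7217)) (tt N2736 D9235) (tt N2248 F24326) (tt N2265 F24327))
theorem Q2489 : ∀ i, i < 2489 → P i := stepQ 2488 Q2488 (allL N2488 (tt N2734 (iv F30789)) (tt N2276 F24328) (tt N2223 F24329) (tt N2737 D9236) (tt N2222 (iv D7218)) (tt N2738 D9237) (tt N2739 D9238) (tt N2266 F24330))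
theorem Q2490 : ∀ i, i < 2490 → P i := stepQ 2489 Q2489 (allL N2489 (tt N2735 (iv F30792)) (tt N2277 F24331) (tt N2250 F24332) (tt N2369 F24333) (tt N2739 (iv F30812)) (tt N2232 F24334) (tt N2222 (iv D7219)) (tt N2740 D9239))
theorem Q2491 : ∀ i, i < 2491 → P i := stepQ 2490 Q2490 (allL N2490 (tt N2736 (iv F30796)) (tt N2224 F24335) (tt N2738 (iv F30807)) (tt N2490 F24336) (tt N2233 F24337) (tt N2223 (iv D7220)) (tt N2251 F24338) (tt N2268 F24339))
theorem Q2492 : ∀ i, i < 2492 → P i := stepQ 2491 Q2491 (allL N2491 (tt N2226 F24340) (tt N2741 D9240) (tt N2225 (iv D7221)) (tt N2363 F24341) (tt N2742 D9241) (tt N2264 F24342) (tt N2743 D9242) (tt N2229 F24343))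
theorem Q2493 : ∀ i, i < 2493 → P i := stepQ 2492 Q2492 (allL N2492 (tt N2227 F24344) (tt N2275 F24345) (tt N2742 (iv F30824)) (tt N2235 F24346) (tt N2225 (iv D7222)) (tt N2744 D9243) (tt N2492 F24347) (tt N2230 F24348))
theorem Q2494 : ∀ i, i < 2494 → P i := stepQ 2493 Q2493 (allL N2493 (tt N2742 (iv F30823)) (tt N2271 F24349) (tt N2227 F24350) (tt N2745 D9244) (tt N2226 (iv D7223)) (tt N2746 D9245) (tt N2747 D9246) (tt N2231 F24351))
theorem Q2495 : ∀ i, i < 2495 → P i := stepQ 2494 Q2494 (allL N2494 (tt N2743 (iv F30826)) (tt N2272 F24352) (tt N2494 F24353) (tt N2345 F56698) (tt N2747 (iv F30846)) (tt N2267 F24355) (tt N2226 (iv D7224)) (tt N2748 D9247))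
theorem Q2496 : ∀ i, i < 2496 → P i := stepQ 2495 Q2495 (allL N2495 (tt N2744 (iv F30830)) (tt N2228 F24356) (tt N2746 (iv F30841)) (tt N2238 F24357) (tt N2268 F24358) (tt N2227 (iv D7225)) (tt N2495 F24359) (tt N2233 F24360))
theorem Q2497 : ∀ i, i < 2497 → P i := stepQ 2496 Q2496 (allL N2496 (tt N2725 (iv F30750)) (tt N2229 (iv D7226)) (tt N2279 F24361) (tt N2707 (iv F30653)) (tt N2749 D9248) (tt N2733 (iv F30787)) (tt N2750 D9249) (tt N2741 (iv F30822)))
theorem Q2498 : ∀ i, i < 2498 → P i := stepQ 2497 Q2497 (allL N2497 (tt N2231 F24362) (tt N2749 (iv F30852)) (tt N2230 F24363) (tt N2751 D9250) (tt N2229 (iv D7227)) (tt N2752 D9251) (tt N2753 D9252) (tt N2742 (iv F30825)))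
theorem Q2499 : ∀ i, i < 2499 → P i := stepQ 2498 Q2498 (allL N2498 (tt N2232 F24364) (tt N2750 (iv F30854)) (tt N2254 F24365) (tt N2709 (iv F30661)) (tt N2753 (iv F30861)) (tt N2735 (iv F30795)) (tt N2229 (iv D7228)) (tt N2754 D9253))
theorem Q2500 : ∀ i, i < 2500 → P i := stepQ 2499 Q2499 (allL N2499 (tt N2233 F24366) (tt N2282 F24367) (tt N2752 (iv F30858)) (tt N2242 F24368) (tt N2736 (iv F30799)) (tt N2230 (iv D7229)) (tt N2255 F24369) (tt N2744 (iv F30835)))
theorem Q2501 : ∀ i, i < 2501 → P i := stepQ 2500 Q2500 (allL N2500 (tt N2751 (iv F30855)) (tt N2729 (iv F30768)) (tt N2243 F24370) (tt N2231 (iv D7230)) (tt N2711 (iv F30671)) (tt N2388 (iv F57155)) (tt N2387 (iv F57157)) (tt N2745 (iv F30839)))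
theorem Q2502 : ∀ i, i < 2502 → P i := stepQ 2501 Q2501 (allL N2501 (tt N2752 (iv F30857)) (tt N2730 (iv F30772)) (tt N2233 F24371) (tt N2388 (iv F57154)) (tt N2738 (iv F30808)) (tt N2231 (iv D7231)) (tt N2386 (iv F57244)) (tt N2746 (iv F30843)))
theorem Q2503 : ∀ i, i < 2503 → P i := stepQ 2502 Q2502 (allL N2502 (tt N2753 (iv F30859)) (tt N2731 (iv F30776)) (tt N2258 F24372) (tt N2387 (iv F57156)) (tt N2232 F24373) (tt N2386 (iv F57243)) (tt N2231 (iv D7232)) (tt N2396 F57057))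
theorem Q2504 : ∀ i, i < 2504 → P i := stepQ 2503 Q2503 (allL N2503 (tt N2754 (iv F30862)) (tt N2732 (iv F30779)) (tt N2259 F24374) (tt N2714 (iv F30682)) (tt N2396 (iv F57055)) (tt N2740 (iv F30816)) (tt N2748 (iv F30851)) (tt N2232 (iv D7233)))
theorem Q2505 : ∀ i, i < 2505 → P i := stepQ 2504 Q2504 (allL N2504 (tt N2504 F24375) (tt N2234 (iv D7234)) (tt N2287 F24376) (tt N2715 (iv F30687)) (tt N2755 D9258) (tt N2504 F24377) (tt N2756 D9259) (tt N2239 F24378))
theorem Q2506 : ∀ i, i < 2506 → P i := stepQ 2505 Q2505 (allL N2505 (tt N2236 F24379) (tt N2755 (iv F30872)) (tt N2235 F24380) (tt N2757 D9260) (tt N2234 (iv D7235)) (tt N2758 D9261) (tt N2759 D9262) (tt N2240 F24381))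
theorem Q2507 : ∀ i, i < 2507 → P i := stepQ 2506 Q2506 (allL N2506 (tt N2237 F24382) (tt N2756 (iv F30876)) (tt N2506 F24383) (tt N2717 (iv F30695)) (tt N2759 (iv F30886)) (tt N2506 F24384) (tt N2234 (iv D7236)) (tt N2760 D9263))
theorem Q2508 : ∀ i, i < 2508 → P i := stepQ 2507 Q2507 (allL N2507 (tt N2238 F24385) (tt N2290 F24386) (tt N2758 (iv F30881)) (tt N2744 (iv F30832)) (tt N2507 F24387) (tt N2235 (iv D7237)) (tt N2507 F24388) (tt N2242 F24389))
theorem Q2509 : ∀ i, i < 2509 → P i := stepQ 2508 Q2508 (allL N2508 (tt N2757 (iv F30878)) (tt N2508 F24390) (tt N2745 (iv F30837)) (tt N2236 (iv D7238)) (tt N2431 F56734) (tt N2454 F56998) (tt N2430 F57002) (tt N2243 F24391))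
theorem Q2510 : ∀ i, i < 2510 → P i := stepQ 2509 Q2509 (allL N2509 (tt N2758 (iv F30880)) (tt N2509 F24392) (tt N2238 F24393) (tt N2454 F57028) (tt N2509 F24394) (tt N2236 (iv D7239)) (tt N2462 (iv F57159)) (tt N2244 F24395))
theorem Q2511 : ∀ i, i < 2511 → P i := stepQ 2510 Q2510 (allL N2510 (tt N2759 (iv F30884)) (tt N2510 F24396) (tt N2510 F24397) (tt N2430 F56919) (tt N2237 F24398) (tt N2462 (iv F57158)) (tt N2236 (iv D7240)) (tt N2435 (iv F57082)))
theorem Q2512 : ∀ i, i < 2512 → P i := stepQ 2511 Q2511 (allL N2511 (tt N2760 (iv F30887)) (tt N2511 F24399) (tt N2511 F24400) (tt N2421 F56920) (tt N2435 (iv F57081)) (tt N2511 F24401) (tt N2246 F24402) (tt N2237 (iv D7241)))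
theorem Q2513 : ∀ i, i < 2513 → P i := stepQ 2512 Q2512 (allL N2512 (tt N2512 F24403) (tt N2240 F24404) (tt N2294 F24405) (tt N2761 D9268) (tt N2239 (iv D7242)) (tt N2762 D9269) (tt N2763 D9270) (tt N2755 (iv F30874)))
theorem Q2514 : ∀ i, i < 2514 → P i := stepQ 2513 Q2513 (allL N2513 (tt N2513 F24406) (tt N2241 F24407) (tt N2513 F24408) (tt N2720 (iv F30724)) (tt N2763 (iv F30913)) (tt N2513 F24409) (tt N2239 (iv D7243)) (tt N2764 D9271))
theorem Q2515 : ∀ i, i < 2515 → P i := stepQ 2514 Q2514 (allL N2514 (tt N2243 F24410) (tt N2761 (iv F30905)) (tt N2751 (iv F30856)) (tt N2240 (iv D7244)) (tt N2721 (iv F30727)) (tt N2452 (iv F57203)) (tt N2451 (iv F57207)) (tt N2757 (iv F30879)))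
theorem Q2516 : ∀ i, i < 2516 → P i := stepQ 2515 Q2515 (allL N2515 (tt N2244 F24411) (tt N2762 (iv F30907)) (tt N2242 F24412) (tt N2452 F57322) (tt N2515 F24413) (tt N2240 (iv D7245)) (tt N2450 F57323) (tt N2758 (iv F30883)))
theorem Q2517 : ∀ i, i < 2517 → P i := stepQ 2516 Q2516 (allL N2516 (tt N2245 F24414) (tt N2763 (iv F30911)) (tt N2262 F24415) (tt N2451 (iv F57206)) (tt N2241 F24416) (tt N2450 (iv F57202)) (tt N2240 (iv D7246)) (tt N2459 (iv F57275)))
theorem Q2518 : ∀ i, i < 2518 → P i := stepQ 2517 Q2517 (allL N2517 (tt N2246 F24417) (tt N2764 (iv F30915)) (tt N2263 F24418) (tt N2724 (iv F30736)) (tt N2459 (iv F57274)) (tt N2517 F24419) (tt N2760 (iv F30890)) (tt N2241 (iv D7247)))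
theorem Q2519 : ∀ i, i < 2519 → P i := stepQ 2518 Q2518 (allL N2518 (tt N2518 F24431) (tt N2247 (iv D7252)) (tt N2298 F24432) (tt N2518 F24433) (tt N2765 D9281) (tt N2252 F24434) (tt N2766 D9282) (tt N2518 F24435))
theorem Q2520 : ∀ i, i < 2520 → P i := stepQ 2519 Q2519 (allL N2519 (tt N2249 F24436) (tt N2765 (iv F30942)) (tt N2248 F24437) (tt N2767 D9283) (tt N2247 (iv D7253)) (tt N2768 D9284) (tt N2769 D9285) (tt N2519 F24438))
theorem Q2521 : ∀ i, i < 2521 → P i := stepQ 2520 Q2520 (allL N2520 (tt N2250 F24439) (tt N2766 (iv F30946)) (tt N2735 (iv F30793)) (tt N2520 F24440) (tt N2769 (iv F30958)) (tt N2254 F24441) (tt N2247 (iv D7254)) (tt N2770 D9286))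
theorem Q2522 : ∀ i, i < 2522 → P i := stepQ 2521 Q2521 (allL N2521 (tt N2251 F24442) (tt N2301 F24443) (tt N2768 (iv F30954)) (tt N2521 F24444) (tt N2255 F24445) (tt N2248 (iv D7255)) (tt N2736 (iv F30800)) (tt N2521 F24446))
theorem Q2523 : ∀ i, i < 2523 → P i := stepQ 2522 Q2522 (allL N2522 (tt N2767 (iv F30949)) (tt N2522 F24447) (tt N2522 F24448) (tt N2249 (iv D7256)) (tt N2522 F24449) (tt N2293 (iv F57508)) (tt N2292 F57484) (tt N2522 F24450))
theorem Q2524 : ∀ i, i < 2524 → P i := stepQ 2523 Q2523 (allL N2523 (tt N2768 (iv F30953)) (tt N2523 F24451) (tt N2251 F24452) (tt N2293 (iv F57507)) (tt N2257 F24453) (tt N2249 (iv D7257)) (tt N2291 F57485) (tt N2523 F24454))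
theorem Q2525 : ∀ i, i < 2525 → P i := stepQ 2524 Q2524 (allL N2524 (tt N2769 (iv F30957)) (tt N2524 F24455) (tt N2739 (iv F30811)) (tt N2292 (iv F57416)) (tt N2250 F24456) (tt N2291 (iv F57417)) (tt N2249 (iv D7258)) (tt N2297 F57312))
theorem Q2526 : ∀ i, i < 2526 → P i := stepQ 2525 Q2525 (allL N2525 (tt N2770 (iv F30959)) (tt N2525 F24457) (tt N2740 (iv F30814)) (tt N2525 F24458) (tt N2297 F57331) (tt N2259 F24459) (tt N2525 F24460) (tt N2250 (iv D7259)))
theorem Q2527 : ∀ i, i < 2527 → P i := stepQ 2526 Q2526 (allL N2526 (tt N2526 F24461) (tt N2253 F24462) (tt N2306 F24463) (tt N2771 D9291) (tt N2252 (iv D7260)) (tt N2772 D9292) (tt N2773 D9293) (tt N2526 F24464))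
theorem Q2528 : ∀ i, i < 2528 → P i := stepQ 2527 Q2527 (allL N2527 (tt N2527 F24465) (tt N2254 F24466) (tt N2774 D9294) (tt N2527 F24467) (tt N2773 (iv F30987)) (tt N2766 (iv F30948)) (tt N2252 (iv D7261)) (tt N2775 D9295))
theorem Q2529 : ∀ i, i < 2529 → P i := stepQ 2528 Q2528 (allL N2528 (tt N2256 F24468) (tt N2771 (iv F30977)) (tt N2260 F24469) (tt N2253 (iv D7262)) (tt N2528 F24470) (tt N2403 (iv F57500)) (tt N2402 F57492) (tt N2528 F24471))
theorem Q2530 : ∀ i, i < 2530 → P i := stepQ 2529 Q2529 (allL N2529 (tt N2257 F24472) (tt N2772 (iv F30982)) (tt N2255 F24473) (tt N2403 (iv F57499)) (tt N2768 (iv F30955)) (tt N2253 (iv D7263)) (tt N2401 F57486) (tt N2529 F24474))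
theorem Q2531 : ∀ i, i < 2531 → P i := stepQ 2530 Q2530 (allL N2530 (tt N2258 F24475) (tt N2773 (iv F30986)) (tt N2753 (iv F30860)) (tt N2402 (iv F57471)) (tt N2254 F24476) (tt N2401 (iv F57430)) (tt N2253 (iv D7264)) (tt N2405 F57377))
theorem Q2532 : ∀ i, i < 2532 → P i := stepQ 2531 Q2531 (allL N2531 (tt N2259 F24477) (tt N2775 (iv F30991)) (tt N2754 (iv F30863)) (tt N2531 F24478) (tt N2405 (iv F57375)) (tt N2770 (iv F30961)) (tt N2531 F24479) (tt N2254 (iv D7265)))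
theorem Q2533 : ∀ i, i < 2533 → P i := stepQ 2532 Q2532 (allL N2532 (tt N2279 F24543) (tt N2264 (iv D7284)) (tt N2725 (iv F30751)) (tt N2371 F24544) (tt N2776 D9322) (tt N2741 (iv F30821)) (tt N2777 D9323) (tt N2733 (iv F30788)))
theorem Q2534 : ∀ i, i < 2534 → P i := stepQ 2533 Q2533 (allL N2533 (tt N2266 F24545) (tt N2776 (iv F31085)) (tt N2265 F24546) (tt N2778 D9324) (tt N2264 (iv D7285)) (tt N2779 D9325) (tt N2780 D9326) (tt N2734 (iv F30791)))
theorem Q2535 : ∀ i, i < 2535 → P i := stepQ 2534 Q2534 (allL N2534 (tt N2267 F24547) (tt N2777 (iv F31087)) (tt N2534 F24548) (tt N2373 F24549) (tt N2780 (iv F31096)) (tt N2743 (iv F30829)) (tt N2264 (iv D7286)) (tt N2781 D9327))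
theorem Q2536 : ∀ i, i < 2536 → P i := stepQ 2535 Q2535 (allL N2535 (tt N2268 F24550) (tt N2728 (iv F30763)) (tt N2779 (iv F31093)) (tt N2535 F24551) (tt N2744 (iv F30833)) (tt N2265 (iv D7287)) (tt N2535 F24552) (tt N2736 (iv F30801)))
theorem Q2537 : ∀ i, i < 2537 → P i := stepQ 2536 Q2536 (allL N2536 (tt N2778 (iv F31089)) (tt N2283 F24553) (tt N2536 F24554) (tt N2266 (iv D7288)) (tt N2375 F24555) (tt N2782 D9328) (tt N2783 D9329) (tt N2737 (iv F30805)))
theorem Q2538 : ∀ i, i < 2538 → P i := stepQ 2537 Q2537 (allL N2537 (tt N2779 (iv F31092)) (tt N2284 F24556) (tt N2268 F24557) (tt N2782 (iv F31102)) (tt N2746 (iv F30842)) (tt N2266 (iv D7289)) (tt N2784 D9330) (tt N2738 (iv F30809)))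
theorem Q2539 : ∀ i, i < 2539 → P i := stepQ 2538 Q2538 (allL N2538 (tt N2780 (iv F31094)) (tt N2285 F24558) (tt N2538 F24559) (tt N2783 (iv F31104)) (tt N2267 F24560) (tt N2784 (iv F31108)) (tt N2266 (iv D7290)) (tt N2785 D9331))
theorem Q2540 : ∀ i, i < 2540 → P i := stepQ 2539 Q2539 (allL N2539 (tt N2781 (iv F31097)) (tt N2286 F24561) (tt N2539 F24562) (tt N2378 F24563) (tt N2785 (iv F31111)) (tt N2748 (iv F30850)) (tt N2740 (iv F30817)) (tt N2267 (iv D7291)))
theorem Q2541 : ∀ i, i < 2541 → P i := stepQ 2540 Q2540 (allL N2540 (tt N2741 (iv F30818)) (tt N2269 (iv D7292)) (tt N2733 (iv F30785)) (tt N2381 F24564) (tt N2786 D9332) (tt N2279 F24565) (tt N2787 D9333) (tt N2725 (iv F30754)))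
theorem Q2542 : ∀ i, i < 2542 → P i := stepQ 2541 Q2541 (allL N2541 (tt N2271 F24566) (tt N2786 (iv F31112)) (tt N2270 F24567) (tt N2788 D9334) (tt N2269 (iv D7293)) (tt N2789 D9335) (tt N2790 D9336) (tt N2726 (iv F30757)))
theorem Q2543 : ∀ i, i < 2543 → P i := stepQ 2542 Q2542 (allL N2542 (tt N2272 F24568) (tt N2787 (iv F31113)) (tt N2300 F24569) (tt N2356 F56692) (tt N2790 (iv F31124)) (tt N2281 F24571) (tt N2269 (iv D7294)) (tt N2791 D9337))
theorem Q2544 : ∀ i, i < 2544 → P i := stepQ 2543 Q2543 (allL N2543 (tt N2273 F24572) (tt N2736 (iv F30797)) (tt N2789 (iv F31120)) (tt N2543 F24573) (tt N2282 F24574) (tt N2270 (iv D7295)) (tt N2301 F24575) (tt N2728 (iv F30767)))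
theorem Q2545 : ∀ i, i < 2545 → P i := stepQ 2544 Q2544 (allL N2544 (tt N2788 (iv F31116)) (tt N2745 (iv F30836)) (tt N2544 F24576) (tt N2271 (iv D7296)) (tt N2331 F56975) (tt N2792 D9338) (tt N2330 F56976) (tt N2729 (iv F30771)))
theorem Q2546 : ∀ i, i < 2546 → P i := stepQ 2545 Q2545 (allL N2545 (tt N2789 (iv F31119)) (tt N2746 (iv F30840)) (tt N2273 F24578) (tt N2792 (iv F31130)) (tt N2284 F24579) (tt N2271 (iv D7297)) (tt N2793 D9340) (tt N2730 (iv F30775)))
theorem Q2547 : ∀ i, i < 2547 → P i := stepQ 2546 Q2546 (allL N2546 (tt N2790 (iv F31122)) (tt N2747 (iv F30844)) (tt N2304 F24580) (tt N2330 (iv F56849)) (tt N2272 F24581) (tt N2793 (iv F31135)) (tt N2271 (iv D7298)) (tt N2794 D9341))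
theorem Q2548 : ∀ i, i < 2548 → P i := stepQ 2547 Q2547 (allL N2547 (tt N2791 (iv F31125)) (tt N2748 (iv F30847)) (tt N2305 F24582) (tt N2353 F56700) (tt N2794 (iv F31137)) (tt N2286 F24584) (tt N2732 (iv F30783)) (tt N2272 (iv D7299)))
theorem Q2549 : ∀ i, i < 2549 → P i := stepQ 2548 Q2548 (allL N2548 (tt N2733 (iv F30784)) (tt N2274 (iv D7300)) (tt N2741 (iv F30819)) (tt N2382 F24585) (tt N2795 D9342) (tt N2725 (iv F30753)) (tt N2796 D9343) (tt N2279 F24586))
theorem Q2550 : ∀ i, i < 2550 → P i := stepQ 2549 Q2549 (allL N2549 (tt N2276 F24587) (tt N2795 (iv F31138)) (tt N2275 F24588) (tt N2797 D9344) (tt N2274 (iv D7301)) (tt N2798 D9345) (tt N2799 D9346) (tt N2280 F24589))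
theorem Q2551 : ∀ i, i < 2551 → P i := stepQ 2550 Q2550 (allL N2550 (tt N2277 F24590) (tt N2796 (iv F31140)) (tt N2550 F24591) (tt N2384 F24592) (tt N2799 (iv F31151)) (tt N2727 (iv F30761)) (tt N2274 (iv D7302)) (tt N2800 D9347))
theorem Q2552 : ∀ i, i < 2552 → P i := stepQ 2551 Q2551 (allL N2551 (tt N2278 F24593) (tt N2744 (iv F30831)) (tt N2798 (iv F31147)) (tt N2290 F24594) (tt N2728 (iv F30765)) (tt N2275 (iv D7303)) (tt N2551 F24595) (tt N2282 F24596))
theorem Q2553 : ∀ i, i < 2553 → P i := stepQ 2552 Q2552 (allL N2552 (tt N2797 (iv F31142)) (tt N2737 (iv F30802)) (tt N2291 F24597) (tt N2276 (iv D7304)) (tt N2386 F24598) (tt N2739 F57320) (tt N2738 F57321) (tt N2283 F24599))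
theorem Q2554 : ∀ i, i < 2554 → P i := stepQ 2553 Q2553 (allL N2553 (tt N2798 (iv F31146)) (tt N2738 (iv F30806)) (tt N2278 F24600) (tt N2739 F57317) (tt N2730 (iv F30774)) (tt N2276 (iv D7305)) (tt N2737 (iv F57363)) (tt N2284 F24601))
theorem Q2555 : ∀ i, i < 2555 → P i := stepQ 2554 Q2554 (allL N2554 (tt N2799 (iv F31149)) (tt N2739 (iv F30810)) (tt N2554 F24602) (tt N2738 F57318) (tt N2277 F24603) (tt N2737 (iv F57362)) (tt N2276 (iv D7306)) (tt N2782 F57319))
theorem Q2556 : ∀ i, i < 2556 → P i := stepQ 2555 Q2555 (allL N2555 (tt N2800 (iv F31152)) (tt N2740 (iv F30813)) (tt N2555 F24604) (tt N2389 F24605) (tt N2782 (iv F57218)) (tt N2732 (iv F30782)) (tt N2286 F24606) (tt N2277 (iv D7307)))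
theorem Q2557 : ∀ i, i < 2557 → P i := stepQ 2556 Q2556 (allL N2556 (tt N2776 (iv F31084)) (tt N2280 F24607) (tt N2749 (iv F30853)) (tt N2801 D9352) (tt N2279 (iv D7308)) (tt N2802 D9353) (tt N2803 D9354) (tt N2795 (iv F31139)))
theorem Q2558 : ∀ i, i < 2558 → P i := stepQ 2557 Q2557 (allL N2557 (tt N2777 (iv F31086)) (tt N2281 F24608) (tt N2804 D9355) (tt N2391 F24609) (tt N2803 (iv F31170)) (tt N2787 (iv F31115)) (tt N2279 (iv D7309)) (tt N2805 D9356))
theorem Q2559 : ∀ i, i < 2559 → P i := stepQ 2558 Q2558 (allL N2558 (tt N2283 F24610) (tt N2801 (iv F31166)) (tt N2295 F24611) (tt N2280 (iv D7310)) (tt N2392 F24612) (tt N2806 D9357) (tt N2807 D9358) (tt N2797 (iv F31145)))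
theorem Q2560 : ∀ i, i < 2560 → P i := stepQ 2559 Q2559 (allL N2559 (tt N2284 F24613) (tt N2802 (iv F31168)) (tt N2282 F24614) (tt N2806 (iv F31176)) (tt N2789 (iv F31121)) (tt N2280 (iv D7311)) (tt N2808 D9359) (tt N2798 (iv F31148)))
theorem Q2561 : ∀ i, i < 2561 → P i := stepQ 2560 Q2560 (allL N2560 (tt N2285 F24615) (tt N2803 (iv F31169)) (tt N2309 F24616) (tt N2807 (iv F31179)) (tt N2281 F24617) (tt N2808 (iv F31183)) (tt N2280 (iv D7312)) (tt N2809 D9360))
theorem Q2562 : ∀ i, i < 2562 → P i := stepQ 2561 Q2561 (allL N2561 (tt N2286 F24618) (tt N2805 (iv F31172)) (tt N2310 F24619) (tt N2395 F24620) (tt N2809 (iv F31186)) (tt N2791 (iv F31128)) (tt N2800 (iv F31155)) (tt N2281 (iv D7313)))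
theorem Q2563 : ∀ i, i < 2563 → P i := stepQ 2562 Q2562 (allL N2562 (tt N2806 (iv F31174)) (tt N2782 (iv F31100)) (tt N2297 F24621) (tt N2284 F24622) (tt N2740 (iv F57153)) (tt N2283 (iv D7314)) (tt N2785 F57064) (tt N2739 (iv F57254)))
theorem Q2564 : ∀ i, i < 2564 → P i := stepQ 2563 Q2563 (allL N2563 (tt N2807 (iv F31177)) (tt N2783 (iv F31103)) (tt N2563 F24623) (tt N2285 F24624) (tt N2397 F24625) (tt N2785 F57062) (tt N2283 (iv D7315)) (tt N2784 F57063))
theorem Q2565 : ∀ i, i < 2565 → P i := stepQ 2564 Q2564 (allL N2564 (tt N2808 (iv F31181)) (tt N2784 (iv F31106)) (tt N2311 F24626) (tt N2785 F57041) (tt N2793 (iv F31134)) (tt N2285 F24627) (tt N2284 (iv D7316)) (tt N2783 (iv F57044)))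
theorem Q2566 : ∀ i, i < 2566 → P i := stepQ 2565 Q2565 (allL N2565 (tt N2809 (iv F31184)) (tt N2785 (iv F31109)) (tt N2312 F24628) (tt N2784 F57040) (tt N2286 F24629) (tt N2783 (iv F57043)) (tt N2782 (iv F57219)) (tt N2285 (iv D7317)))
theorem Q2567 : ∀ i, i < 2567 → P i := stepQ 2566 Q2566 (allL N2566 (tt N2566 F24630) (tt N2288 F24631) (tt N2755 (iv F30873)) (tt N2810 D9365) (tt N2287 (iv D7318)) (tt N2811 D9366) (tt N2812 D9367) (tt N2294 F24632))
theorem Q2568 : ∀ i, i < 2568 → P i := stepQ 2567 Q2567 (allL N2567 (tt N2567 F24633) (tt N2289 F24634) (tt N2813 D9368) (tt N2400 F24635) (tt N2812 (iv F31207)) (tt N2567 F24636) (tt N2287 (iv D7319)) (tt N2567 F24637))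
theorem Q2569 : ∀ i, i < 2569 → P i := stepQ 2568 Q2568 (allL N2568 (tt N2291 F24638) (tt N2810 (iv F31198)) (tt N2797 (iv F31143)) (tt N2288 (iv D7320)) (tt N2401 F24639) (tt N2769 F57483) (tt N2768 (iv F57506)) (tt N2295 F24640))
theorem Q2570 : ∀ i, i < 2570 → P i := stepQ 2569 Q2569 (allL N2569 (tt N2292 F24641) (tt N2811 (iv F31202)) (tt N2290 F24642) (tt N2769 F57482) (tt N2569 F24643) (tt N2288 (iv D7321)) (tt N2767 (iv F57505)) (tt N2296 F24644))
theorem Q2571 : ∀ i, i < 2571 → P i := stepQ 2570 Q2570 (allL N2570 (tt N2293 F24645) (tt N2812 (iv F31206)) (tt N2570 F24646) (tt N2768 F57521) (tt N2289 F24647) (tt N2767 F57522) (tt N2288 (iv D7322)) (tt N2570 F24648))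
theorem Q2572 : ∀ i, i < 2572 → P i := stepQ 2571 Q2571 (allL N2571 (tt N2571 F24661) (tt N2295 F24662) (tt N2814 D9375) (tt N2294 (iv D7326)) (tt N2404 F24663) (tt N2815 D9376) (tt N2571 F24664) (tt N2810 (iv F31200)))
theorem Q2573 : ∀ i, i < 2573 → P i := stepQ 2572 Q2572 (allL N2572 (tt N2572 F24665) (tt N2296 F24666) (tt N2762 (iv F30908)) (tt N2815 (iv F31240)) (tt N2572 F24667) (tt N2294 (iv D7327)) (tt N2572 F24668) (tt N2811 (iv F31204)))
theorem Q2574 : ∀ i, i < 2574 → P i := stepQ 2573 Q2573 (allL N2573 (tt N2297 F24669) (tt N2815 (iv F31239)) (tt N2806 (iv F31175)) (tt N2296 F24670) (tt N2770 (iv F57440)) (tt N2295 (iv D7328)) (tt N2573 F24671) (tt N2769 (iv F57401)))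
theorem Q2575 : ∀ i, i < 2575 → P i := stepQ 2574 Q2574 (allL N2574 (tt N2574 F24676) (tt N2299 F24677) (tt N2765 (iv F30943)) (tt N2816 D9378) (tt N2298 (iv D7330)) (tt N2817 D9379) (tt N2818 D9380) (tt N2574 F24678))
theorem Q2576 : ∀ i, i < 2576 → P i := stepQ 2575 Q2575 (allL N2575 (tt N2575 F24679) (tt N2300 F24680) (tt N2819 D9381) (tt N2314 F24681) (tt N2818 (iv F31256)) (tt N2307 F24682) (tt N2298 (iv D7331)) (tt N2820 D9382))
theorem Q2577 : ∀ i, i < 2577 → P i := stepQ 2576 Q2576 (allL N2576 (tt N2302 F24683) (tt N2816 (iv F31247)) (tt N2576 F24684) (tt N2299 (iv D7332)) (tt N2315 F24685) (tt N2821 D9383) (tt N2340 F57101) (tt N2576 F24686))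
theorem Q2578 : ∀ i, i < 2578 → P i := stepQ 2577 Q2577 (allL N2577 (tt N2303 F24687) (tt N2817 (iv F31251)) (tt N2301 F24688) (tt N2821 (iv F31266)) (tt N2308 F24689) (tt N2299 (iv D7333)) (tt N2822 D9385) (tt N2577 F24690))
theorem Q2579 : ∀ i, i < 2579 → P i := stepQ 2578 Q2578 (allL N2578 (tt N2304 F24691) (tt N2818 (iv F31255)) (tt N2790 (iv F31123)) (tt N2340 (iv F57089)) (tt N2300 F24692) (tt N2822 (iv F31274)) (tt N2299 (iv D7334)) (tt N2823 D9386))
theorem Q2580 : ∀ i, i < 2580 → P i := stepQ 2579 Q2579 (allL N2579 (tt N2305 F24693) (tt N2820 (iv F31260)) (tt N2791 (iv F31126)) (tt N2316 F24694) (tt N2823 (iv F31276)) (tt N2310 F24695) (tt N2579 F24696) (tt N2300 (iv D7335)))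
theorem Q2581 : ∀ i, i < 2581 → P i := stepQ 2580 Q2580 (allL N2580 (tt N2821 (iv F31264)) (tt N2580 F24697) (tt N2580 F24698) (tt N2303 F24699) (tt N2580 F24700) (tt N2302 (iv D7336)) (tt N2342 F57270) (tt N2580 F24701))
theorem Q2582 : ∀ i, i < 2582 → P i := stepQ 2581 Q2581 (allL N2581 (tt N2822 (iv F31272)) (tt N2581 F24705) (tt N2793 (iv F31133)) (tt N2342 (iv F57090)) (tt N2311 F24706) (tt N2304 F24707) (tt N2303 (iv D7338)) (tt N2824 D9390))
theorem Q2583 : ∀ i, i < 2583 → P i := stepQ 2582 Q2582 (allL N2582 (tt N2823 (iv F31275)) (tt N2582 F24708) (tt N2794 (iv F31136)) (tt N2337 (iv F57088)) (tt N2305 F24709) (tt N2824 (iv F31290)) (tt N2582 F24710) (tt N2304 (iv D7339)))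
theorem Q2584 : ∀ i, i < 2584 → P i := stepQ 2583 Q2583 (allL N2583 (tt N2583 F24711) (tt N2308 F24712) (tt N2772 (iv F30983)) (tt N2583 F24713) (tt N2817 (iv F31252)) (tt N2306 (iv D7340)) (tt N2825 D9391) (tt N2583 F24714))
theorem Q2585 : ∀ i, i < 2585 → P i := stepQ 2584 Q2584 (allL N2584 (tt N2584 F24715) (tt N2309 F24716) (tt N2826 D9392) (tt N2584 F24717) (tt N2307 F24718) (tt N2825 (iv F31295)) (tt N2306 (iv D7341)) (tt N2827 D9393))
theorem Q2586 : ∀ i, i < 2586 → P i := stepQ 2585 Q2585 (allL N2585 (tt N2585 F24719) (tt N2804 (iv F31171)) (tt N2307 (iv D7342)) (tt N2828 D9394) (tt N2826 (iv F31297)) (tt N2819 (iv F31258)) (tt N2774 (iv F30989)) (tt N2829 D9395))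
theorem Q2587 : ∀ i, i < 2587 → P i := stepQ 2586 Q2586 (allL N2586 (tt N2586 F24720) (tt N2310 F24721) (tt N2829 (iv F31306)) (tt N2318 F24722) (tt N2827 (iv F31301)) (tt N2820 (iv F31262)) (tt N2586 F24723) (tt N2307 (iv D7343)))
theorem Q2588 : ∀ i, i < 2588 → P i := stepQ 2587 Q2587 (allL N2587 (tt N2311 F24724) (tt N2825 (iv F31293)) (tt N2808 (iv F31182)) (tt N2587 F24725) (tt N2822 (iv F31273)) (tt N2309 F24726) (tt N2308 (iv D7344)) (tt N2830 D9396))
theorem Q2589 : ∀ i, i < 2589 → P i := stepQ 2588 Q2588 (allL N2588 (tt N2312 F24727) (tt N2827 (iv F31299)) (tt N2809 (iv F31185)) (tt N2588 F24728) (tt N2310 F24729) (tt N2830 (iv F31309)) (tt N2588 F24730) (tt N2309 (iv D7345)))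
theorem Q2590 : ∀ i, i < 2590 → P i := stepQ 2589 Q2589 (allL N2589 (tt N2830 (iv F31307)) (tt N2589 F24731) (tt N2783 F57065) (tt N2589 F24732) (tt N2824 (iv F31289)) (tt N2312 F24733) (tt N2589 F24734) (tt N2311 (iv D7346)))
theorem Q2591 : ∀ i, i < 2591 → P i := stepQ 2590 Q2590 (allL N2590 (tt N2590 F24735) (tt N2315 F24736) (tt N2831 D9397) (tt N2313 (iv D7347)) (tt N2816 (iv F31248)) (tt N2590 F24737) (tt N2339 F57100) (tt N2590 F24738))
theorem Q2592 : ∀ i, i < 2592 → P i := stepQ 2591 Q2591 (allL N2591 (tt N2591 F24747) (tt N2316 F24748) (tt N2399 (iv F57109)) (tt N2820 (iv F31261)) (tt N2359 (iv F57087)) (tt N2318 F24749) (tt N2591 F24750) (tt N2314 (iv D7350)))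
theorem Q2593 : ∀ i, i < 2593 → P i := stepQ 2592 Q2592 (allL N2592 (tt N2592 F24766) (tt N2405 F57045) (tt N2828 (iv F31304)) (tt N2317 (iv D7355)) (tt N2775 F57462) (tt N2404 (iv F57108)) (tt N2592 F24768) (tt N2773 (iv F57466)))
theorem Q2594 : ∀ i, i < 2594 → P i := stepQ 2593 Q2593 (allL N2593 (tt N2593 F24769) (tt N2402 F57046) (tt N2318 F24771) (tt N2773 F57498) (tt N2593 F24772) (tt N2399 (iv F57110)) (tt N2771 (iv F57511)) (tt N2317 (iv D7356)))
theorem Q2595 : ∀ i, i < 2595 → P i := stepQ 2594 Q2594 (allL N2594 (tt N2320 F24773) (tt N2832 D9410) (tt N2319 (iv D7357)) (tt N2343 F24774) (tt N2833 D9411) (tt N2351 F24775) (tt N2834 D9412) (tt N2347 F24776))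
theorem Q2596 : ∀ i, i < 2596 → P i := stepQ 2595 Q2595 (allL N2595 (tt N2321 F24777) (tt N2362 (iv F56816)) (tt N2833 (iv F31371)) (tt N2595 F24779) (tt N2319 (iv D7358)) (tt N2406 F56685) (tt N2429 F24780) (tt N2348 F24781))
theorem Q2597 : ∀ i, i < 2597 → P i := stepQ 2596 Q2596 (allL N2596 (tt N2833 (iv F31370)) (tt N2330 F24782) (tt N2321 F24783) (tt N2747 (iv F56852)) (tt N2320 (iv D7359)) (tt N2398 F56688) (tt N2745 (iv F56894)) (tt N2349 F24784))
theorem Q2598 : ∀ i, i < 2598 → P i := stepQ 2597 Q2597 (allL N2597 (tt N2834 (iv F31373)) (tt N2331 F24785) (tt N2431 F24786) (tt N2346 F24787) (tt N2745 (iv F56893)) (tt N2354 F24788) (tt N2320 (iv D7360)) (tt N2711 (iv F56892)))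
theorem Q2599 : ∀ i, i < 2599 → P i := stepQ 2598 Q2598 (allL N2598 (tt N2323 F24794) (tt N2835 D9418) (tt N2322 (iv D7362)) (tt N2347 F24795) (tt N2836 D9419) (tt N2328 F24796) (tt N2837 D9420) (tt N2343 F24797))
theorem Q2600 : ∀ i, i < 2600 → P i := stepQ 2599 Q2599 (allL N2599 (tt N2324 F24798) (tt N2367 F24799) (tt N2836 (iv F31405)) (tt N2599 F24800) (tt N2322 (iv D7363)) (tt N2418 F56706) (tt N2599 F24801) (tt N2344 F24802))
theorem Q2601 : ∀ i, i < 2601 → P i := stepQ 2600 Q2600 (allL N2600 (tt N2836 (iv F31404)) (tt N2353 F24803) (tt N2324 F24804) (tt N2748 (iv F56853)) (tt N2323 (iv D7364)) (tt N2378 F56699) (tt N2714 (iv F56856)) (tt N2345 F24805))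
theorem Q2602 : ∀ i, i < 2602 → P i := stepQ 2601 Q2601 (allL N2601 (tt N2837 (iv F31407)) (tt N2354 F24806) (tt N2601 F24807) (tt N2350 F24808) (tt N2714 (iv F56855)) (tt N2331 F24809) (tt N2323 (iv D7365)) (tt N2713 (iv F56896)))
theorem Q2603 : ∀ i, i < 2603 → P i := stepQ 2602 Q2602 (allL N2602 (tt N2326 F24815) (tt N2838 D9426) (tt N2325 (iv D7367)) (tt N2351 F24816) (tt N2839 D9427) (tt N2343 F24817) (tt N2840 D9428) (tt N2328 F24818))
theorem Q2604 : ∀ i, i < 2604 → P i := stepQ 2603 Q2603 (allL N2603 (tt N2327 F24819) (tt N2364 F24820) (tt N2839 (iv F31439)) (tt N2336 F24821) (tt N2325 (iv D7368)) (tt N2417 (iv F56550)) (tt N2415 F24822) (tt N2329 F24823))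
theorem Q2605 : ∀ i, i < 2605 → P i := stepQ 2604 Q2604 (allL N2604 (tt N2839 (iv F31438)) (tt N2349 F24824) (tt N2327 F24825) (tt N2794 F57017) (tt N2326 (iv D7369)) (tt N2377 (iv F56547)) (tt N2376 (iv F56557)) (tt N2330 F24826))
theorem Q2606 : ∀ i, i < 2606 → P i := stepQ 2605 Q2605 (allL N2605 (tt N2840 (iv F31441)) (tt N2350 F24827) (tt N2365 (iv F56561)) (tt N2354 F24829) (tt N2376 (iv F56556)) (tt N2346 F24830) (tt N2326 (iv D7370)) (tt N2712 (iv F56558)))
theorem Q2607 : ∀ i, i < 2607 → P i := stepQ 2606 Q2606 (allL N2606 (tt N2832 (iv F31365)) (tt N2328 (iv D7372)) (tt N2707 (iv F30652)) (tt N2355 F24836) (tt N2841 D9434) (tt N2835 (iv F31402)) (tt N2842 D9435) (tt N2838 (iv F31437)))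
theorem Q2608 : ∀ i, i < 2608 → P i := stepQ 2607 Q2607 (allL N2607 (tt N2330 F24837) (tt N2841 (iv F31467)) (tt N2329 F24838) (tt N2790 F57003) (tt N2328 (iv D7373)) (tt N2843 D9437) (tt N2788 (iv F57123)) (tt N2839 (iv F31440)))
theorem Q2609 : ∀ i, i < 2609 → P i := stepQ 2608 Q2608 (allL N2608 (tt N2331 F24839) (tt N2842 (iv F31468)) (tt N2608 F24840) (tt N2357 F24841) (tt N2788 (iv F57122)) (tt N2837 (iv F31410)) (tt N2328 (iv D7374)) (tt N2844 D9439))
theorem Q2610 : ∀ i, i < 2610 → P i := stepQ 2609 Q2609 (allL N2609 (tt N2332 F24842) (tt N2710 (iv F30664)) (tt N2843 (iv F31474)) (tt N2341 F24843) (tt N2418 F56714) (tt N2329 (iv D7375)) (tt N2609 F24844) (tt N2417 F56715))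
theorem Q2611 : ∀ i, i < 2611 → P i := stepQ 2610 Q2610 (allL N2610 (tt N2843 (iv F31473)) (tt N2398 F56711) (tt N2332 F24847) (tt N2793 F57016) (tt N2378 F56712) (tt N2330 (iv D7377)) (tt N2792 (iv F57131)) (tt N2377 F56713))
theorem Q2612 : ∀ i, i < 2612 → P i := stepQ 2611 Q2611 (allL N2611 (tt N2844 (iv F31478)) (tt N2711 F56977) (tt N2611 F24850) (tt N2358 F24851) (tt N2729 (iv F57111)) (tt N2713 (iv F56895)) (tt N2712 F56723) (tt N2331 (iv D7379)))
theorem Q2613 : ∀ i, i < 2613 → P i := stepQ 2612 Q2612 (allL N2612 (tt N2334 F24856) (tt N2412 (iv F56250)) (tt N2612 F55903) (tt N2415 F24858) (tt N2333 (iv D7381)) (tt N2416 (iv F56247)) (tt N2336 F24859) (tt N2612 F24860))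
theorem Q2614 : ∀ i, i < 2614 → P i := stepQ 2613 Q2613 (allL N2613 (tt N2613 F24873) (tt N2335 (iv D7385)) (tt N2715 (iv F30686)) (tt N2359 F24874) (tt N2845 D9452) (tt N2613 F24875) (tt N2613 F56475) (tt N2339 F24876))
theorem Q2615 : ∀ i, i < 2615 → P i := stepQ 2614 Q2614 (allL N2614 (tt N2337 F24877) (tt N2845 (iv F31524)) (tt N2336 F24878) (tt N2823 F57271) (tt N2335 (iv D7386)) (tt N2846 D9455) (tt N2614 F56180) (tt N2340 F24879))
theorem Q2616 : ∀ i, i < 2616 → P i := stepQ 2615 Q2615 (allL N2615 (tt N2338 F24883) (tt N2718 (iv F30698)) (tt N2846 (iv F31534)) (tt N2417 (iv F56549)) (tt N2615 F24884) (tt N2336 (iv D7388)) (tt N2416 F56402) (tt N2341 F24885))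
theorem Q2617 : ∀ i, i < 2617 → P i := stepQ 2616 Q2616 (allL N2616 (tt N2846 (iv F31533)) (tt N2616 F24889) (tt N2338 F24890) (tt N2824 F57220) (tt N2616 F24891) (tt N2337 (iv D7390)) (tt N2616 F55906) (tt N2342 F24892))
theorem Q2618 : ∀ i, i < 2618 → P i := stepQ 2617 Q2617 (allL N2617 (tt N2617 F24899) (tt N2340 F24900) (tt N2719 (iv F30721)) (tt N2818 F57272) (tt N2339 (iv D7393)) (tt N2847 D9463) (tt N2816 (iv F57284)) (tt N2845 (iv F31525)))
theorem Q2619 : ∀ i, i < 2619 → P i := stepQ 2618 Q2618 (allL N2618 (tt N2342 F24907) (tt N2847 (iv F31559)) (tt N2341 F24908) (tt N2822 F57273) (tt N2618 F24909) (tt N2340 (iv D7396)) (tt N2821 (iv F57285)) (tt N2846 (iv F31536)))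
theorem Q2620 : ∀ i, i < 2620 → P i := stepQ 2619 Q2619 (allL N2619 (tt N2355 F24929) (tt N2343 (iv D7403)) (tt N2371 F24930) (tt N2832 (iv F31367)) (tt N2848 D9476) (tt N2838 (iv F31436)) (tt N2849 D9477) (tt N2835 (iv F31403)))
theorem Q2621 : ∀ i, i < 2621 → P i := stepQ 2620 Q2620 (allL N2620 (tt N2345 F24931) (tt N2848 (iv F31600)) (tt N2344 F24932) (tt N2743 (iv F56850)) (tt N2343 (iv D7404)) (tt N2373 F56696) (tt N2363 F56697) (tt N2836 (iv F31406)))
theorem Q2622 : ∀ i, i < 2622 → P i := stepQ 2621 Q2621 (allL N2621 (tt N2346 F24933) (tt N2849 (iv F31603)) (tt N2364 F56726) (tt N2834 (iv F31375)) (tt N2363 F56727) (tt N2840 (iv F31444)) (tt N2343 (iv D7405)) (tt N2708 (iv F56887)))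
theorem Q2623 : ∀ i, i < 2623 → P i := stepQ 2622 Q2622 (allL N2622 (tt N2838 (iv F31433)) (tt N2347 (iv D7411)) (tt N2381 F24948) (tt N2835 (iv F31401)) (tt N2850 D9486) (tt N2355 F24949) (tt N2851 D9487) (tt N2832 (iv F31369)))
theorem Q2624 : ∀ i, i < 2624 → P i := stepQ 2623 Q2623 (allL N2623 (tt N2349 F24950) (tt N2850 (iv F31624)) (tt N2348 F24951) (tt N2852 D9488) (tt N2347 (iv D7412)) (tt N2394 F56683) (tt N2393 F56684) (tt N2833 (iv F31372)))
theorem Q2625 : ∀ i, i < 2625 → P i := stepQ 2624 Q2624 (allL N2624 (tt N2350 F24952) (tt N2851 (iv F31626)) (tt N2360 F24953) (tt N2837 (iv F31409)) (tt N2393 F56693) (tt N2357 F24954) (tt N2347 (iv D7413)) (tt N2853 D9491))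
theorem Q2626 : ∀ i, i < 2626 → P i := stepQ 2625 Q2625 (allL N2625 (tt N2852 (iv F31628)) (tt N2794 F57020) (tt N2625 F24960) (tt N2349 (iv D7415)) (tt N2748 F57021) (tt N2397 F56687) (tt N2396 (iv F56803)) (tt N2747 F57022))
theorem Q2627 : ∀ i, i < 2627 → P i := stepQ 2626 Q2626 (allL N2626 (tt N2853 (iv F31636)) (tt N2712 F56702) (tt N2361 F24965) (tt N2713 F57058) (tt N2387 (iv F56804)) (tt N2358 F24966) (tt N2711 F57059) (tt N2350 (iv D7418)))
theorem Q2628 : ∀ i, i < 2628 → P i := stepQ 2627 Q2627 (allL N2627 (tt N2835 (iv F31399)) (tt N2351 (iv D7419)) (tt N2382 F24967) (tt N2838 (iv F31435)) (tt N2854 D9496) (tt N2832 (iv F31368)) (tt N2855 D9497) (tt N2355 F24968))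
theorem Q2629 : ∀ i, i < 2629 → P i := stepQ 2628 Q2628 (allL N2628 (tt N2353 F24969) (tt N2854 (iv F31647)) (tt N2352 F24970) (tt N2791 (iv F56843)) (tt N2351 (iv D7420)) (tt N2395 (iv F56807)) (tt N2856 D9500) (tt N2356 F24971))
theorem Q2630 : ∀ i, i < 2630 → P i := stepQ 2629 Q2629 (allL N2629 (tt N2354 F24972) (tt N2855 (iv F31650)) (tt N2439 F24973) (tt N2840 (iv F31443)) (tt N2856 (iv F31659)) (tt N2834 (iv F31376)) (tt N2351 (iv D7421)) (tt N2857 D9501))
theorem Q2631 : ∀ i, i < 2631 → P i := stepQ 2630 Q2630 (allL N2630 (tt N2856 (iv F31657)) (tt N2714 (iv F56854)) (tt N2440 F24983) (tt N2732 (iv F56857)) (tt N2354 F24984) (tt N2389 (iv F56811)) (tt N2353 (iv D7425)) (tt N2380 (iv F56824)))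
theorem Q2632 : ∀ i, i < 2632 → P i := stepQ 2631 Q2631 (allL N2631 (tt N2857 (iv F31660)) (tt N2713 F56978) (tt N2441 F24985) (tt N2712 F56721) (tt N2380 F56979) (tt N2711 (iv F56891)) (tt N2358 F24986) (tt N2354 (iv D7426)))
theorem Q2633 : ∀ i, i < 2633 → P i := stepQ 2632 Q2632 (allL N2632 (tt N2848 (iv F31599)) (tt N2356 F24987) (tt N2390 F24988) (tt N2787 (iv F56842)) (tt N2355 (iv D7427)) (tt N2391 (iv F56806)) (tt N2381 (iv F56813)) (tt N2854 (iv F31649)))
theorem Q2634 : ∀ i, i < 2634 → P i := stepQ 2633 Q2633 (allL N2633 (tt N2849 (iv F31602)) (tt N2357 F24989) (tt N2850 F56966) (tt N2842 (iv F31469)) (tt N2381 F56967) (tt N2851 (iv F31627)) (tt N2355 (iv D7428)) (tt N2858 D9510))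
theorem Q2635 : ∀ i, i < 2635 → P i := stepQ 2634 Q2634 (allL N2634 (tt N2358 F24997) (tt N2858 (iv F31679)) (tt N2362 F24998) (tt N2844 (iv F31480)) (tt N2379 F56968) (tt N2853 (iv F31638)) (tt N2857 (iv F31662)) (tt N2357 (iv D7432)))
theorem Q2636 : ∀ i, i < 2636 → P i := stepQ 2635 Q2635 (allL N2635 (tt N2361 F25094) (tt N2406 (iv F56625)) (tt N2853 (iv F31637)) (tt N2635 F25095) (tt N2385 F56694) (tt N2362 F25096) (tt N2445 F25097) (tt N2360 (iv D7465)))
theorem Q2637 : ∀ i, i < 2637 → P i := stepQ 2636 Q2636 (allL N2636 (tt N2381 F25219) (tt N2363 (iv D7501)) (tt N2838 (iv F31434)) (tt N2741 (iv F30820)) (tt N2849 (iv F56882)) (tt N2371 F25220) (tt N2848 (iv F56841)) (tt N2707 (iv F30655)))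
theorem Q2638 : ∀ i, i < 2638 → P i := stepQ 2637 Q2637 (allL N2637 (tt N2365 F25226) (tt N2417 (iv F56548)) (tt N2840 F56724) (tt N2718 (iv F30699)) (tt N2374 F25227) (tt N2364 (iv D7504)) (tt N2414 F56725) (tt N2710 (iv F30668)))
theorem Q2639 : ∀ i, i < 2639 → P i := stepQ 2638 Q2638 (allL N2638 (tt N2382 F25239) (tt N2366 (iv D7509)) (tt N2835 (iv F31400)) (tt N2733 (iv F30786)) (tt N2859 D9610) (tt N2707 (iv F30654)) (tt N2860 D9611) (tt N2371 F25240))
theorem Q2640 : ∀ i, i < 2640 → P i := stepQ 2639 Q2639 (allL N2639 (tt N2368 F25241) (tt N2859 (iv F31988)) (tt N2367 F25242) (tt N2861 D9612) (tt N2366 (iv D7510)) (tt N2862 D9613) (tt N2863 D9614) (tt N2372 F25243))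
theorem Q2641 : ∀ i, i < 2641 → P i := stepQ 2640 Q2640 (allL N2640 (tt N2369 F25244) (tt N2860 (iv F31991)) (tt N2640 F25245) (tt N2735 (iv F30794)) (tt N2863 (iv F32000)) (tt N2709 (iv F30662)) (tt N2366 (iv D7511)) (tt N2864 D9615))
theorem Q2642 : ∀ i, i < 2642 → P i := stepQ 2641 Q2641 (allL N2641 (tt N2370 F25246) (tt N2418 F56717) (tt N2862 (iv F31996)) (tt N2641 F25247) (tt N2710 (iv F30666)) (tt N2367 (iv D7512)) (tt N2641 F25248) (tt N2374 F25249))
theorem Q2643 : ∀ i, i < 2643 → P i := stepQ 2642 Q2642 (allL N2642 (tt N2861 (iv F31992)) (tt N2386 F25250) (tt N2642 F25251) (tt N2368 (iv D7513)) (tt N2737 (iv F30804)) (tt N2731 F57221) (tt N2730 F57222) (tt N2375 F25252))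
theorem Q2644 : ∀ i, i < 2644 → P i := stepQ 2643 Q2643 (allL N2643 (tt N2862 (iv F31995)) (tt N2387 F25253) (tt N2370 F25254) (tt N2731 F57239) (tt N2712 (iv F30675)) (tt N2368 (iv D7514)) (tt N2729 F57240) (tt N2376 F25255))
theorem Q2645 : ∀ i, i < 2645 → P i := stepQ 2644 Q2644 (allL N2644 (tt N2863 (iv F31998)) (tt N2388 F25256) (tt N2644 F25257) (tt N2730 F57296) (tt N2369 F25258) (tt N2729 F57297) (tt N2368 (iv D7515)) (tt N2792 F57298))
theorem Q2646 : ∀ i, i < 2646 → P i := stepQ 2645 Q2645 (allL N2645 (tt N2864 (iv F32001)) (tt N2389 F25259) (tt N2645 F25260) (tt N2740 (iv F30815)) (tt N2792 (iv F57130)) (tt N2714 (iv F30683)) (tt N2378 F25261) (tt N2369 (iv D7516)))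
theorem Q2647 : ∀ i, i < 2647 → P i := stepQ 2646 Q2646 (allL N2646 (tt N2390 F25262) (tt N2372 F25263) (tt N2848 (iv F31601)) (tt N2865 D9620) (tt N2371 (iv D7517)) (tt N2866 D9621) (tt N2867 D9622) (tt N2859 (iv F31989)))
theorem Q2648 : ∀ i, i < 2648 → P i := stepQ 2647 Q2647 (allL N2647 (tt N2391 F25264) (tt N2373 F25265) (tt N2866 (iv F56873)) (tt N2777 (iv F31088)) (tt N2867 (iv F32023)) (tt N2848 (iv F56840)) (tt N2371 (iv D7518)) (tt N2868 D9624))
theorem Q2649 : ∀ i, i < 2649 → P i := stepQ 2648 Q2648 (allL N2648 (tt N2375 F25266) (tt N2865 (iv F32018)) (tt N2648 F25267) (tt N2372 (iv D7519)) (tt N2778 (iv F31091)) (tt N2869 D9625) (tt N2870 D9626) (tt N2861 (iv F31994)))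
theorem Q2650 : ∀ i, i < 2650 → P i := stepQ 2649 Q2649 (allL N2649 (tt N2376 F25268) (tt N2866 (iv F32020)) (tt N2374 F25269) (tt N2869 (iv F32030)) (tt N2840 F56718) (tt N2372 (iv D7520)) (tt N2839 F56719) (tt N2862 (iv F31997)))
theorem Q2651 : ∀ i, i < 2651 → P i := stepQ 2650 Q2650 (allL N2650 (tt N2377 F25270) (tt N2867 (iv F32022)) (tt N2417 F25271) (tt N2870 (iv F32032)) (tt N2373 F25272) (tt N2839 F56709) (tt N2372 (iv D7521)) (tt N2843 (iv F56867)))
theorem Q2652 : ∀ i, i < 2652 → P i := stepQ 2651 Q2651 (allL N2651 (tt N2378 F25273) (tt N2868 (iv F32027)) (tt N2418 F25274) (tt N2781 (iv F31099)) (tt N2843 (iv F56866)) (tt N2836 (iv F56851)) (tt N2864 (iv F32003)) (tt N2373 (iv D7522)))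
theorem Q2653 : ∀ i, i < 2653 → P i := stepQ 2652 Q2652 (allL N2652 (tt N2869 (iv F32028)) (tt N2396 F25275) (tt N2652 F25276) (tt N2376 F25277) (tt N2732 F56884) (tt N2375 (iv D7523)) (tt N2794 F56885) (tt N2731 (iv F57056)))
theorem Q2654 : ∀ i, i < 2654 → P i := stepQ 2653 Q2653 (allL N2653 (tt N2870 (iv F32031)) (tt N2397 F25278) (tt N2824 (iv F57042)) (tt N2377 F25279) (tt N2783 (iv F31105)) (tt N2794 F56868) (tt N2375 (iv D7524)) (tt N2793 (iv F56869)))
theorem Q2655 : ∀ i, i < 2655 → P i := stepQ 2654 Q2654 (allL N2654 (tt N2707 (iv F30651)) (tt N2379 (iv D7527)) (tt N2832 (iv F31366)) (tt N2725 (iv F30752)) (tt N2858 (iv F57120)) (tt N2382 F25286) (tt N2871 D9635) (tt N2381 F25287))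
theorem Q2656 : ∀ i, i < 2656 → P i := stepQ 2655 Q2655 (allL N2655 (tt N2380 F25291) (tt N2871 (iv F32054)) (tt N2447 F25292) (tt N2727 (iv F30760)) (tt N2857 (iv F57124)) (tt N2384 F25293) (tt N2379 (iv D7529)) (tt N2856 F56969))
theorem Q2657 : ∀ i, i < 2657 → P i := stepQ 2656 Q2656 (allL N2656 (tt N2859 (iv F31987)) (tt N2383 F25331) (tt N2854 (iv F31648)) (tt N2872 D9658) (tt N2382 (iv D7545)) (tt N2873 D9659) (tt N2874 D9660) (tt N2390 F25332))
theorem Q2658 : ∀ i, i < 2658 → P i := stepQ 2657 Q2657 (allL N2657 (tt N2860 (iv F31990)) (tt N2384 F25333) (tt N2875 D9661) (tt N2796 (iv F31141)) (tt N2874 (iv F32116)) (tt N2871 (iv F32055)) (tt N2382 (iv D7546)) (tt N2876 D9662))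
theorem Q2659 : ∀ i, i < 2659 → P i := stepQ 2658 Q2658 (allL N2658 (tt N2386 F25334) (tt N2872 (iv F32111)) (tt N2401 F25335) (tt N2383 (iv D7547)) (tt N2797 (iv F31144)) (tt N2753 F57315) (tt N2752 F57316) (tt N2392 F25336))
theorem Q2660 : ∀ i, i < 2660 → P i := stepQ 2659 Q2659 (allL N2659 (tt N2387 F25337) (tt N2873 (iv F32113)) (tt N2385 F25338) (tt N2753 F57326) (tt N2853 (iv F56846)) (tt N2383 (iv D7548)) (tt N2751 F57327) (tt N2393 F25339))
theorem Q2661 : ∀ i, i < 2661 → P i := stepQ 2660 Q2660 (allL N2660 (tt N2388 F25340) (tt N2874 (iv F32115)) (tt N2452 F25341) (tt N2752 F57313) (tt N2384 F25342) (tt N2751 F57314) (tt N2383 (iv D7549)) (tt N2877 D9666))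
theorem Q2662 : ∀ i, i < 2662 → P i := stepQ 2661 Q2661 (allL N2661 (tt N2389 F25343) (tt N2876 (iv F32118)) (tt N2453 F25344) (tt N2800 (iv F31154)) (tt N2877 (iv F32131)) (tt N2856 F56961) (tt N2395 F25345) (tt N2384 (iv D7550)))
theorem Q2663 : ∀ i, i < 2663 → P i := stepQ 2662 Q2662 (allL N2662 (tt N2877 (iv F32129)) (tt N2792 (iv F57129)) (tt N2454 F25352) (tt N2746 F56999) (tt N2389 F25353) (tt N2745 F57000) (tt N2398 F25354) (tt N2388 (iv D7554)))
theorem Q2664 : ∀ i, i < 2664 → P i := stepQ 2663 Q2663 (allL N2663 (tt N2865 (iv F32017)) (tt N2392 F25355) (tt N2878 D9672) (tt N2390 (iv D7555)) (tt N2801 (iv F31167)) (tt N2879 D9673) (tt N2880 D9674) (tt N2872 (iv F32112)))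
theorem Q2665 : ∀ i, i < 2665 → P i := stepQ 2664 Q2664 (allL N2664 (tt N2866 (iv F32019)) (tt N2393 F25356) (tt N2391 (iv F56805)) (tt N2879 (iv F32146)) (tt N2851 (iv F56845)) (tt N2390 (iv D7556)) (tt N2850 (iv F56829)) (tt N2873 (iv F32114)))
theorem Q2666 : ∀ i, i < 2666 → P i := stepQ 2665 Q2665 (allL N2665 (tt N2867 (iv F32021)) (tt N2394 F25357) (tt N2851 F56774) (tt N2880 (iv F32148)) (tt N2391 F25358) (tt N2850 (iv F56828)) (tt N2390 (iv D7557)) (tt N2881 D9677))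
theorem Q2667 : ∀ i, i < 2667 → P i := stepQ 2666 Q2666 (allL N2666 (tt N2868 (iv F32026)) (tt N2395 F25360) (tt N2873 F56959) (tt N2805 (iv F31173)) (tt N2881 (iv F32154)) (tt N2854 F56960) (tt N2876 (iv F32119)) (tt N2391 (iv D7559)))
theorem Q2668 : ∀ i, i < 2668 → P i := stepQ 2667 Q2667 (allL N2667 (tt N2396 F25361) (tt N2879 (iv F32145)) (tt N2405 F25362) (tt N2393 F25363) (tt N2754 F57237) (tt N2392 (iv D7560)) (tt N2852 (iv F56831)) (tt N2753 (iv F57241)))
theorem Q2669 : ∀ i, i < 2669 → P i := stepQ 2668 Q2668 (allL N2668 (tt N2397 F25364) (tt N2880 (iv F32147)) (tt N2668 F25365) (tt N2394 F25366) (tt N2807 (iv F31180)) (tt N2852 (iv F56830)) (tt N2392 (iv D7561)) (tt N2882 D9682))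
theorem Q2670 : ∀ i, i < 2670 → P i := stepQ 2669 Q2669 (allL N2669 (tt N2398 F25370) (tt N2881 (iv F32153)) (tt N2406 F25371) (tt N2882 (iv F32166)) (tt N2395 F25372) (tt N2833 (iv F56832)) (tt N2877 (iv F32132)) (tt N2394 (iv D7563)))
theorem Q2671 : ∀ i, i < 2671 → P i := stepQ 2670 Q2670 (allL N2670 (tt N2882 (iv F32164)) (tt N2793 F56992) (tt N2670 F25377) (tt N2398 F25378) (tt N2784 F56993) (tt N2747 F56994) (tt N2746 F56995) (tt N2397 (iv D7566)))
theorem Q2672 : ∀ i, i < 2672 → P i := stepQ 2671 Q2671 (allL N2671 (tt N2671 F25381) (tt N2401 F25382) (tt N2883 D9686) (tt N2399 (iv D7568)) (tt N2810 (iv F31199)) (tt N2773 F57489) (tt N2772 (iv F57509)) (tt N2404 F25383))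
theorem Q2673 : ∀ i, i < 2673 → P i := stepQ 2672 Q2672 (allL N2672 (tt N2672 F25388) (tt N2403 F25389) (tt N2672 F57097) (tt N2772 F57517) (tt N2400 F25390) (tt N2771 F57518) (tt N2399 (iv D7570)) (tt N2672 F25391))
theorem Q2674 : ∀ i, i < 2674 → P i := stepQ 2673 Q2673 (allL N2673 (tt N2673 F25416) (tt N2878 (iv F32144)) (tt N2404 (iv D7578)) (tt N2819 F57291) (tt N2814 (iv F31237)) (tt N2828 F57292) (tt N2884 D9699) (tt N2883 (iv F32176)))
theorem Q2675 : ∀ i, i < 2675 → P i := stepQ 2674 Q2674 (allL N2674 (tt N2408 F25534) (tt N2885 D9740) (tt N2407 (iv D7613)) (tt N2428 F25535) (tt N2717 (iv F56744)) (tt N2423 F25536) (tt N2716 F56729) (tt N2419 F25537))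
theorem Q2676 : ∀ i, i < 2676 → P i := stepQ 2675 Q2675 (allL N2675 (tt N2409 F25538) (tt N2675 F25539) (tt N2717 (iv F56743)) (tt N2675 F25540) (tt N2407 (iv D7614)) (tt N2675 F56740) (tt N2413 F25541) (tt N2420 F25542))
theorem Q2677 : ∀ i, i < 2677 → P i := stepQ 2676 Q2676 (allL N2676 (tt N2411 F25555) (tt N2416 F56403) (tt N2410 (iv D7618)) (tt N2414 F25556) (tt N2676 F56470) (tt N2412 F25557) (tt N2718 (iv F56578)) (tt N2676 F25558))
theorem Q2678 : ∀ i, i < 2678 → P i := stepQ 2677 Q2677 (allL N2677 (tt N2677 F27480) (tt N2419 (iv D8229)) (tt N2677 F27481) (tt N2432 F27482) (tt N2886 D10533) (tt N2425 F27483) (tt N2887 D10534) (tt N2885 (iv F32356)))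
theorem Q2679 : ∀ i, i < 2679 → P i := stepQ 2678 Q2678 (allL N2678 (tt N2421 F27484) (tt N2886 (iv F34833)) (tt N2420 F27485) (tt N2760 (iv F57078)) (tt N2419 (iv D8230)) (tt N2678 F57075) (tt N2724 (iv F57080)) (tt N2717 F56918))
theorem Q2680 : ∀ i, i < 2680 → P i := stepQ 2679 Q2679 (allL N2679 (tt N2422 F27486) (tt N2887 (iv F34836)) (tt N2679 F27487) (tt N2434 F27488) (tt N2724 (iv F57079)) (tt N2426 F27489) (tt N2419 (iv D8231)) (tt N2723 (iv F57259)))
theorem Q2681 : ∀ i, i < 2681 → P i := stepQ 2680 Q2680 (allL N2680 (tt N2680 F27508) (tt N2423 (iv D8237)) (tt N2680 F27509) (tt N2437 F27510) (tt N2680 F57093) (tt N2885 (iv F32355)) (tt N2888 D10544) (tt N2425 F27511))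
theorem Q2682 : ∀ i, i < 2682 → P i := stepQ 2681 Q2681 (allL N2681 (tt N2424 F27515) (tt N2888 (iv F34870)) (tt N2718 F56730) (tt N2439 F27516) (tt N2681 F56777) (tt N2716 F56731) (tt N2423 (iv D8239)) (tt N2722 (iv F56908)))
theorem Q2683 : ∀ i, i < 2683 → P i := stepQ 2682 Q2682 (allL N2682 (tt N2682 F27536) (tt N2426 F27537) (tt N2889 D10556) (tt N2443 F27538) (tt N2682 F57334) (tt N2887 (iv F34838)) (tt N2425 (iv D8246)) (tt N2890 D10557))
theorem Q2684 : ∀ i, i < 2684 → P i := stepQ 2683 Q2683 (allL N2683 (tt N2427 F27547) (tt N2890 (iv F34909)) (tt N2683 F27548) (tt N2444 F27549) (tt N2683 F57096) (tt N2723 F57069) (tt N2722 F57070) (tt N2426 (iv D8250)))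
theorem Q2685 : ∀ i, i < 2685 → P i := stepQ 2684 Q2684 (allL N2684 (tt N2684 F27664) (tt N2428 (iv D8287)) (tt N2446 F27665) (tt N2885 (iv F32354)) (tt N2891 D10608) (tt N2437 F27666) (tt N2892 D10609) (tt N2432 F27667))
theorem Q2686 : ∀ i, i < 2686 → P i := stepQ 2685 Q2685 (allL N2685 (tt N2430 F27668) (tt N2891 (iv F35071)) (tt N2429 F27669) (tt N2759 (iv F57077)) (tt N2428 (iv D8288)) (tt N2461 F56985) (tt N2757 (iv F57162)) (tt N2433 F27670))
theorem Q2687 : ∀ i, i < 2687 → P i := stepQ 2686 Q2686 (allL N2686 (tt N2431 F27671) (tt N2892 (iv F35075)) (tt N2834 (iv F31374)) (tt N2716 F56732) (tt N2757 (iv F56910)) (tt N2439 F27672) (tt N2428 (iv D8289)) (tt N2721 (iv F56911)))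
theorem Q2688 : ∀ i, i < 2688 → P i := stepQ 2687 Q2687 (allL N2687 (tt N2687 F27690) (tt N2433 F27691) (tt N2443 (iv F57127)) (tt N2893 D10618) (tt N2432 (iv D8295)) (tt N2457 F56986) (tt N2456 F56987) (tt N2891 (iv F35073)))
theorem Q2689 : ∀ i, i < 2689 → P i := stepQ 2688 Q2688 (allL N2688 (tt N2688 F27693) (tt N2434 F27694) (tt N2457 (iv F56934)) (tt N2887 (iv F34837)) (tt N2456 F57014) (tt N2443 F27695) (tt N2432 (iv D8296)) (tt N2894 D10622))
theorem Q2690 : ∀ i, i < 2690 → P i := stepQ 2689 Q2689 (allL N2689 (tt N2435 F27696) (tt N2893 (iv F35102)) (tt N2689 F27697) (tt N2433 (iv D8297)) (tt N2760 F57268) (tt N2460 F56988) (tt N2459 F56989) (tt N2759 F57269))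
theorem Q2691 : ∀ i, i < 2691 → P i := stepQ 2690 Q2690 (allL N2690 (tt N2436 F27704) (tt N2894 (iv F35115)) (tt N2445 F27705) (tt N2723 (iv F57258)) (tt N2451 F57013) (tt N2444 F27706) (tt N2721 F57073) (tt N2434 (iv D8300)))
theorem Q2692 : ∀ i, i < 2692 → P i := stepQ 2691 Q2691 (allL N2691 (tt N2691 F27719) (tt N2438 F27720) (tt N2448 F27721) (tt N2691 F57181) (tt N2437 (iv D8305)) (tt N2458 (iv F57115)) (tt N2895 D10634) (tt N2442 F27722))
theorem Q2693 : ∀ i, i < 2693 → P i := stepQ 2692 Q2692 (allL N2692 (tt N2692 F27723) (tt N2439 F27724) (tt N2896 D10635) (tt N2888 (iv F34871)) (tt N2895 (iv F35152)) (tt N2892 (iv F35076)) (tt N2437 (iv D8306)) (tt N2897 D10636))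
theorem Q2694 : ∀ i, i < 2694 → P i := stepQ 2693 Q2693 (allL N2693 (tt N2440 F27731) (tt N2895 (iv F35151)) (tt N2856 (iv F31658)) (tt N2693 F57095) (tt N2439 F27732) (tt N2453 (iv F57113)) (tt N2438 (iv D8309)) (tt N2447 (iv F57125)))
theorem Q2695 : ∀ i, i < 2695 → P i := stepQ 2694 Q2694 (allL N2694 (tt N2441 F27733) (tt N2897 (iv F35156)) (tt N2857 (iv F31661)) (tt N2722 F57053) (tt N2447 F57308) (tt N2721 F57054) (tt N2444 F27734) (tt N2439 (iv D8310)))
theorem Q2696 : ∀ i, i < 2696 → P i := stepQ 2695 Q2695 (allL N2695 (tt N2695 F27757) (tt N2444 F27758) (tt N2891 F57310) (tt N2890 (iv F34910)) (tt N2446 F57311) (tt N2894 (iv F35116)) (tt N2897 (iv F35157)) (tt N2443 (iv D8319)))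
theorem Q2697 : ∀ i, i < 2697 → P i := stepQ 2696 Q2696 (allL N2696 (tt N2696 F28024) (tt N2447 F28025) (tt N2898 D10769) (tt N2696 F28026) (tt N2897 (iv F57415)) (tt N2449 F28027) (tt N2446 (iv D8410)) (tt N2895 F57309))
theorem Q2698 : ∀ i, i < 2698 → P i := stepQ 2697 Q2697 (allL N2697 (tt N2697 F28101) (tt N2450 F28102) (tt N2697 F57408) (tt N2448 (iv D8433)) (tt N2697 F28103) (tt N2763 F57350) (tt N2762 (iv F57434)) (tt N2455 F28104))
theorem Q2699 : ∀ i, i < 2699 → P i := stepQ 2698 Q2698 (allL N2698 (tt N2698 F28105) (tt N2451 F28106) (tt N2458 (iv F57114)) (tt N2763 F57354) (tt N2894 (iv F57190)) (tt N2448 (iv D8434)) (tt N2761 F57355) (tt N2456 F28107))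
theorem Q2700 : ∀ i, i < 2700 → P i := stepQ 2699 Q2699 (allL N2699 (tt N2699 F28108) (tt N2452 F28109) (tt N2899 D10802) (tt N2762 (iv F57433)) (tt N2449 F28110) (tt N2761 F57351) (tt N2448 (iv D8435)) (tt N2900 D10803))
theorem Q2701 : ∀ i, i < 2701 → P i := stepQ 2700 Q2700 (allL N2700 (tt N2700 F28111) (tt N2875 (iv F32117)) (tt N2449 (iv D8436)) (tt N2901 D10804) (tt N2899 (iv F35664)) (tt N2898 (iv F35548)) (tt N2896 (iv F35154)) (tt N2902 D10805))
theorem Q2702 : ∀ i, i < 2702 → P i := stepQ 2701 Q2701 (allL N2701 (tt N2701 F28112) (tt N2453 F28113) (tt N2902 (iv F35672)) (tt N2701 F28114) (tt N2900 (iv F35667)) (tt N2895 F57299) (tt N2458 F28115) (tt N2449 (iv D8437)))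
theorem Q2703 : ∀ i, i < 2703 → P i := stepQ 2702 Q2702 (allL N2702 (tt N2454 F28125) (tt N2900 (iv F35666)) (tt N2877 (iv F32130)) (tt N2758 (iv F57194)) (tt N2453 F28126) (tt N2757 (iv F57145)) (tt N2461 F28127) (tt N2452 (iv D8441)))
theorem Q2704 : ∀ i, i < 2704 → P i := stepQ 2703 Q2703 (allL N2703 (tt N2703 F28147) (tt N2459 F28148) (tt N2703 F57201) (tt N2456 F28149) (tt N2764 F57352) (tt N2455 (iv D8448)) (tt N2893 (iv F57150)) (tt N2763 F57353))
theorem Q2705 : ∀ i, i < 2705 → P i := stepQ 2704 Q2704 (allL N2704 (tt N2704 F28150) (tt N2460 F28151) (tt N2903 D10820) (tt N2457 F28152) (tt N2704 F28153) (tt N2893 (iv F57149)) (tt N2455 (iv D8449)) (tt N2904 D10821))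
theorem Q2706 : ∀ i, i < 2706 → P i := stepQ 2705 Q2705 (allL N2705 (tt N2705 F28160) (tt N2461 F28161) (tt N2894 F57091) (tt N2904 (iv F35723)) (tt N2458 F28162) (tt N2891 (iv F57148)) (tt N2900 (iv F35668)) (tt N2457 (iv D8452)))
theorem Q2707 : ∀ i, i < 2707 → P i := stepQ 2706 Q2706 (allL N2706 (tt N2462 F28176) (tt N2904 (iv F35722)) (tt N2706 F28177) (tt N2461 F28178) (tt N2706 F28179) (tt N2759 F57328) (tt N2758 F57329) (tt N2460 (iv D8457)))
theorem Q2708 : ∀ i, i < 2708 → P i := stepQ 2707 Q2707 (allL N2707 (tt N2654 F30651) (tt N2463 (iv D9198)) (tt N2606 F30652) (tt N2496 F30653) (tt N2905 D11747) (tt N2638 F30654) (tt N2906 D11748) (tt N2636 F30655))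
theorem Q2709 : ∀ i, i < 2709 → P i := stepQ 2708 Q2708 (allL N2708 (tt N2465 F30656) (tt N2905 (iv F38786)) (tt N2464 F30657) (tt N2907 D11749) (tt N2463 (iv D9199)) (tt N2908 D11750) (tt N2909 D11751) (tt N2621 F56887))
theorem Q2710 : ∀ i, i < 2710 → P i := stepQ 2709 Q2709 (allL N2709 (tt N2466 F30659) (tt N2906 (iv F38790)) (tt N2709 F30660) (tt N2498 F30661) (tt N2909 (iv F38803)) (tt N2640 F30662) (tt N2463 (iv D9200)) (tt N2910 D11752))
theorem Q2711 : ∀ i, i < 2711 → P i := stepQ 2710 Q2710 (allL N2710 (tt N2467 F30663) (tt N2609 F30664) (tt N2908 (iv F38798)) (tt N2476 F30665) (tt N2641 F30666) (tt N2464 (iv D9201)) (tt N2710 F30667) (tt N2637 F30668))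
theorem Q2712 : ∀ i, i < 2712 → P i := stepQ 2711 Q2711 (allL N2711 (tt N2907 (iv F38793)) (tt N2611 (iv F56977)) (tt N2477 F30670) (tt N2465 (iv D9202)) (tt N2500 F30671) (tt N2631 F56891) (tt N2626 (iv F57059)) (tt N2597 F56892))
theorem Q2713 : ∀ i, i < 2713 → P i := stepQ 2712 Q2712 (allL N2712 (tt N2908 (iv F38797)) (tt N2626 (iv F56702)) (tt N2467 F30674) (tt N2631 (iv F56721)) (tt N2643 F30675) (tt N2465 (iv D9203)) (tt N2611 (iv F56723)) (tt N2605 F56558))
theorem Q2714 : ∀ i, i < 2714 → P i := stepQ 2713 Q2713 (allL N2713 (tt N2909 (iv F38801)) (tt N2631 (iv F56978)) (tt N2713 F30678) (tt N2626 (iv F57058)) (tt N2466 F30679) (tt N2611 F56895) (tt N2465 (iv D9204)) (tt N2601 F56896))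
theorem Q2715 : ∀ i, i < 2715 → P i := stepQ 2714 Q2714 (allL N2714 (tt N2910 (iv F38804)) (tt N2630 F56854) (tt N2714 F30681) (tt N2503 F30682) (tt N2601 F56855) (tt N2645 F30683) (tt N2600 F56856) (tt N2466 (iv D9205)))
theorem Q2716 : ∀ i, i < 2716 → P i := stepQ 2715 Q2715 (allL N2715 (tt N2715 F30685) (tt N2468 (iv D9206)) (tt N2613 F30686) (tt N2504 F30687) (tt N2911 D11757) (tt N2715 F30688) (tt N2912 D11758) (tt N2473 F30689))
theorem Q2717 : ∀ i, i < 2717 → P i := stepQ 2716 Q2716 (allL N2716 (tt N2470 F30690) (tt N2911 (iv F38825)) (tt N2469 F30691) (tt N2686 (iv F56732)) (tt N2468 (iv D9207)) (tt N2681 (iv F56731)) (tt N2674 (iv F56729)) (tt N2474 F30692))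
theorem Q2718 : ∀ i, i < 2718 → P i := stepQ 2717 Q2717 (allL N2717 (tt N2471 F30693) (tt N2912 (iv F38829)) (tt N2675 F56743) (tt N2506 F30695) (tt N2674 F56744) (tt N2717 F30696) (tt N2468 (iv D9208)) (tt N2678 (iv F56918)))
theorem Q2719 : ∀ i, i < 2719 → P i := stepQ 2718 Q2718 (allL N2718 (tt N2472 F30697) (tt N2615 F30698) (tt N2681 (iv F56730)) (tt N2637 F30699) (tt N2718 F30700) (tt N2469 (iv D9209)) (tt N2676 F56578) (tt N2476 F30702))
theorem Q2720 : ∀ i, i < 2720 → P i := stepQ 2719 Q2719 (allL N2719 (tt N2719 F30719) (tt N2474 F30720) (tt N2617 F30721) (tt N2913 D11767) (tt N2473 (iv D9214)) (tt N2914 D11768) (tt N2915 D11769) (tt N2911 (iv F38827)))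
theorem Q2721 : ∀ i, i < 2721 → P i := stepQ 2720 Q2720 (allL N2720 (tt N2720 F30722) (tt N2475 F30723) (tt N2916 D11770) (tt N2513 F30724) (tt N2915 (iv F38872)) (tt N2720 F30725) (tt N2473 (iv D9215)) (tt N2917 D11771))
theorem Q2722 : ∀ i, i < 2722 → P i := stepQ 2721 Q2721 (allL N2721 (tt N2477 F30726) (tt N2913 (iv F38864)) (tt N2907 (iv F38794)) (tt N2474 (iv D9216)) (tt N2514 F30727) (tt N2694 (iv F57054)) (tt N2690 (iv F57073)) (tt N2686 F56911))
theorem Q2723 : ∀ i, i < 2723 → P i := stepQ 2722 Q2722 (allL N2722 (tt N2478 F30728) (tt N2914 (iv F38867)) (tt N2476 F30729) (tt N2694 (iv F57053)) (tt N2722 F30730) (tt N2474 (iv D9217)) (tt N2683 (iv F57070)) (tt N2681 F56908))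
theorem Q2724 : ∀ i, i < 2724 → P i := stepQ 2723 Q2723 (allL N2723 (tt N2479 F30731) (tt N2915 (iv F38871)) (tt N2723 F30732) (tt N2690 F57258) (tt N2475 F30733) (tt N2683 (iv F57069)) (tt N2474 (iv D9218)) (tt N2679 F57259))
theorem Q2725 : ∀ i, i < 2725 → P i := stepQ 2724 Q2724 (allL N2724 (tt N2480 F30734) (tt N2917 (iv F38879)) (tt N2724 F30735) (tt N2517 F30736) (tt N2679 F57079) (tt N2724 F30737) (tt N2678 F57080) (tt N2475 (iv D9219)))
theorem Q2726 : ∀ i, i < 2726 → P i := stepQ 2725 Q2725 (allL N2725 (tt N2496 F30750) (tt N2481 (iv D9224)) (tt N2532 F30751) (tt N2654 F30752) (tt N2918 D11781) (tt N2548 F30753) (tt N2919 D11782) (tt N2540 F30754))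
theorem Q2727 : ∀ i, i < 2727 → P i := stepQ 2726 Q2726 (allL N2726 (tt N2483 F30755) (tt N2918 (iv F38910)) (tt N2482 F30756) (tt N2920 D11783) (tt N2481 (iv D9225)) (tt N2921 D11784) (tt N2922 D11785) (tt N2541 F30757))
theorem Q2728 : ∀ i, i < 2728 → P i := stepQ 2727 Q2727 (allL N2727 (tt N2484 F30758) (tt N2919 (iv F38914)) (tt N2727 F30759) (tt N2655 F30760) (tt N2922 (iv F38927)) (tt N2550 F30761) (tt N2481 (iv D9226)) (tt N2923 D11786))
theorem Q2729 : ∀ i, i < 2729 → P i := stepQ 2728 Q2728 (allL N2728 (tt N2485 F30762) (tt N2535 F30763) (tt N2921 (iv F38922)) (tt N2728 F30764) (tt N2551 F30765) (tt N2482 (iv D9227)) (tt N2728 F30766) (tt N2543 F30767))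
theorem Q2730 : ∀ i, i < 2730 → P i := stepQ 2729 Q2729 (allL N2729 (tt N2920 (iv F38917)) (tt N2500 F30768) (tt N2729 F30769) (tt N2483 (iv D9228)) (tt N2611 F57111) (tt N2644 (iv F57297)) (tt N2643 (iv F57240)) (tt N2544 F30771))
theorem Q2731 : ∀ i, i < 2731 → P i := stepQ 2730 Q2730 (allL N2730 (tt N2921 (iv F38921)) (tt N2501 F30772) (tt N2485 F30773) (tt N2644 (iv F57296)) (tt N2553 F30774) (tt N2483 (iv D9229)) (tt N2642 (iv F57222)) (tt N2545 F30775))
theorem Q2732 : ∀ i, i < 2732 → P i := stepQ 2731 Q2731 (allL N2731 (tt N2922 (iv F38925)) (tt N2502 F30776) (tt N2731 F30777) (tt N2643 (iv F57239)) (tt N2484 F30778) (tt N2642 (iv F57221)) (tt N2483 (iv D9230)) (tt N2652 F57056))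
theorem Q2733 : ∀ i, i < 2733 → P i := stepQ 2732 Q2732 (allL N2732 (tt N2923 (iv F38928)) (tt N2503 F30779) (tt N2732 F30780) (tt N2630 F56857) (tt N2652 (iv F56884)) (tt N2555 F30782) (tt N2547 F30783) (tt N2484 (iv D9231)))
theorem Q2734 : ∀ i, i < 2734 → P i := stepQ 2733 Q2733 (allL N2733 (tt N2548 F30784) (tt N2486 (iv D9232)) (tt N2540 F30785) (tt N2638 F30786) (tt N2924 D11791) (tt N2496 F30787) (tt N2925 D11792) (tt N2532 F30788))
theorem Q2735 : ∀ i, i < 2735 → P i := stepQ 2734 Q2734 (allL N2734 (tt N2488 F30789) (tt N2924 (iv F38949)) (tt N2487 F30790) (tt N2926 D11793) (tt N2486 (iv D9233)) (tt N2927 D11794) (tt N2928 D11795) (tt N2533 F30791))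
theorem Q2736 : ∀ i, i < 2736 → P i := stepQ 2735 Q2735 (allL N2735 (tt N2489 F30792) (tt N2925 (iv F38953)) (tt N2520 F30793) (tt N2640 F30794) (tt N2928 (iv F38966)) (tt N2498 F30795) (tt N2486 (iv D9234)) (tt N2929 D11796))
theorem Q2737 : ∀ i, i < 2737 → P i := stepQ 2736 Q2736 (allL N2736 (tt N2490 F30796) (tt N2543 F30797) (tt N2927 (iv F38961)) (tt N2736 F30798) (tt N2499 F30799) (tt N2487 (iv D9235)) (tt N2521 F30800) (tt N2535 F30801))
theorem Q2738 : ∀ i, i < 2738 → P i := stepQ 2737 Q2737 (allL N2737 (tt N2926 (iv F38956)) (tt N2552 F30802) (tt N2737 F30803) (tt N2488 (iv D9236)) (tt N2642 F30804) (tt N2554 F57362) (tt N2553 F57363) (tt N2536 F30805))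
theorem Q2739 : ∀ i, i < 2739 → P i := stepQ 2738 Q2738 (allL N2738 (tt N2927 (iv F38960)) (tt N2553 F30806) (tt N2490 F30807) (tt N2554 (iv F57318)) (tt N2501 F30808) (tt N2488 (iv D9237)) (tt N2552 (iv F57321)) (tt N2537 F30809))
theorem Q2740 : ∀ i, i < 2740 → P i := stepQ 2739 Q2739 (allL N2739 (tt N2928 (iv F38964)) (tt N2554 F30810) (tt N2524 F30811) (tt N2553 (iv F57317)) (tt N2489 F30812) (tt N2552 (iv F57320)) (tt N2488 (iv D9238)) (tt N2562 F57254))
theorem Q2741 : ∀ i, i < 2741 → P i := stepQ 2740 Q2740 (allL N2740 (tt N2929 (iv F38967)) (tt N2555 F30813) (tt N2525 F30814) (tt N2645 F30815) (tt N2562 F57153) (tt N2503 F30816) (tt N2539 F30817) (tt N2489 (iv D9239)))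
theorem Q2742 : ∀ i, i < 2742 → P i := stepQ 2741 Q2741 (allL N2741 (tt N2540 F30818) (tt N2491 (iv D9240)) (tt N2548 F30819) (tt N2636 F30820) (tt N2930 D11801) (tt N2532 F30821) (tt N2931 D11802) (tt N2496 F30822))
theorem Q2743 : ∀ i, i < 2743 → P i := stepQ 2742 Q2742 (allL N2742 (tt N2493 F30823) (tt N2930 (iv F38988)) (tt N2492 F30824) (tt N2932 D11803) (tt N2491 (iv D9241)) (tt N2933 D11804) (tt N2934 D11805) (tt N2497 F30825))
theorem Q2744 : ∀ i, i < 2744 → P i := stepQ 2743 Q2743 (allL N2743 (tt N2494 F30826) (tt N2931 (iv F38992)) (tt N2743 F30827) (tt N2620 F56850) (tt N2934 (iv F39005)) (tt N2534 F30829) (tt N2491 (iv D9242)) (tt N2935 D11806))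
theorem Q2745 : ∀ i, i < 2745 → P i := stepQ 2744 Q2744 (allL N2744 (tt N2495 F30830) (tt N2551 F30831) (tt N2933 (iv F39000)) (tt N2507 F30832) (tt N2535 F30833) (tt N2492 (iv D9243)) (tt N2744 F30834) (tt N2499 F30835))
theorem Q2746 : ∀ i, i < 2746 → P i := stepQ 2745 Q2745 (allL N2745 (tt N2932 (iv F38995)) (tt N2544 F30836) (tt N2508 F30837) (tt N2493 (iv D9244)) (tt N2597 F56893) (tt N2662 (iv F57000)) (tt N2596 F56894) (tt N2500 F30839))
theorem Q2747 : ∀ i, i < 2747 → P i := stepQ 2746 Q2746 (allL N2746 (tt N2933 (iv F38999)) (tt N2545 F30840) (tt N2495 F30841) (tt N2662 (iv F56999)) (tt N2537 F30842) (tt N2493 (iv D9245)) (tt N2670 (iv F56995)) (tt N2501 F30843))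
theorem Q2748 : ∀ i, i < 2748 → P i := stepQ 2747 Q2747 (allL N2747 (tt N2934 (iv F39003)) (tt N2546 F30844) (tt N2747 F30845) (tt N2596 F56852) (tt N2494 F30846) (tt N2670 (iv F56994)) (tt N2493 (iv D9246)) (tt N2625 (iv F57022)))
theorem Q2749 : ∀ i, i < 2749 → P i := stepQ 2748 Q2748 (allL N2748 (tt N2935 (iv F39006)) (tt N2547 F30847) (tt N2748 F30848) (tt N2600 F56853) (tt N2625 (iv F57021)) (tt N2539 F30850) (tt N2503 F30851) (tt N2494 (iv D9247)))
theorem Q2750 : ∀ i, i < 2750 → P i := stepQ 2749 Q2749 (allL N2749 (tt N2918 (iv F38909)) (tt N2497 F30852) (tt N2556 F30853) (tt N2936 D11811) (tt N2496 (iv D9248)) (tt N2937 D11812) (tt N2938 D11813) (tt N2930 (iv F38990)))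
theorem Q2751 : ∀ i, i < 2751 → P i := stepQ 2750 Q2750 (allL N2750 (tt N2919 (iv F38913)) (tt N2498 F30854) (tt N2939 D11814) (tt N2906 (iv F38791)) (tt N2938 (iv F39030)) (tt N2925 (iv F38955)) (tt N2496 (iv D9249)) (tt N2940 D11815))
theorem Q2752 : ∀ i, i < 2752 → P i := stepQ 2751 Q2751 (allL N2751 (tt N2500 F30855) (tt N2936 (iv F39026)) (tt N2514 F30856) (tt N2497 (iv D9250)) (tt N2907 (iv F38795)) (tt N2660 (iv F57314)) (tt N2659 (iv F57327)) (tt N2932 (iv F38998)))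
theorem Q2753 : ∀ i, i < 2753 → P i := stepQ 2752 Q2752 (allL N2752 (tt N2501 F30857) (tt N2937 (iv F39027)) (tt N2499 F30858) (tt N2660 (iv F57313)) (tt N2927 (iv F38962)) (tt N2497 (iv D9251)) (tt N2658 (iv F57316)) (tt N2933 (iv F39002)))
theorem Q2754 : ∀ i, i < 2754 → P i := stepQ 2753 Q2753 (allL N2753 (tt N2502 F30859) (tt N2938 (iv F39029)) (tt N2530 F30860) (tt N2659 (iv F57326)) (tt N2498 F30861) (tt N2658 (iv F57315)) (tt N2497 (iv D9252)) (tt N2667 F57241))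
theorem Q2755 : ∀ i, i < 2755 → P i := stepQ 2754 Q2754 (allL N2754 (tt N2503 F30862) (tt N2940 (iv F39033)) (tt N2531 F30863) (tt N2910 (iv F38806)) (tt N2667 (iv F57237)) (tt N2929 (iv F38970)) (tt N2935 (iv F39010)) (tt N2498 (iv D9253)))
theorem Q2756 : ∀ i, i < 2756 → P i := stepQ 2755 Q2755 (allL N2755 (tt N2755 F30871) (tt N2505 F30872) (tt N2566 F30873) (tt N2941 D11825) (tt N2504 (iv D9258)) (tt N2942 D11826) (tt N2943 D11827) (tt N2512 F30874))
theorem Q2757 : ∀ i, i < 2757 → P i := stepQ 2756 Q2756 (allL N2756 (tt N2756 F30875) (tt N2506 F30876) (tt N2944 D11828) (tt N2912 (iv F38830)) (tt N2943 (iv F39063)) (tt N2756 F30877) (tt N2504 (iv D9259)) (tt N2945 D11829))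
theorem Q2758 : ∀ i, i < 2758 → P i := stepQ 2757 Q2757 (allL N2757 (tt N2508 F30878) (tt N2941 (iv F39054)) (tt N2932 (iv F38996)) (tt N2505 (iv D9260)) (tt N2686 F56910) (tt N2702 F57145) (tt N2685 F57162) (tt N2514 F30879))
theorem Q2759 : ∀ i, i < 2759 → P i := stepQ 2758 Q2758 (allL N2758 (tt N2509 F30880) (tt N2942 (iv F39057)) (tt N2507 F30881) (tt N2702 F57194) (tt N2758 F30882) (tt N2505 (iv D9261)) (tt N2706 (iv F57329)) (tt N2515 F30883))
theorem Q2760 : ∀ i, i < 2760 → P i := stepQ 2759 Q2759 (allL N2759 (tt N2510 F30884) (tt N2943 (iv F39062)) (tt N2759 F30885) (tt N2685 F57077) (tt N2506 F30886) (tt N2706 (iv F57328)) (tt N2505 (iv D9262)) (tt N2689 (iv F57269)))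
theorem Q2761 : ∀ i, i < 2761 → P i := stepQ 2760 Q2760 (allL N2760 (tt N2511 F30887) (tt N2945 (iv F39069)) (tt N2760 F30888) (tt N2678 F57078) (tt N2689 (iv F57268)) (tt N2760 F30889) (tt N2517 F30890) (tt N2506 (iv D9263)))
theorem Q2762 : ∀ i, i < 2762 → P i := stepQ 2761 Q2761 (allL N2761 (tt N2761 F30904) (tt N2514 F30905) (tt N2946 D11839) (tt N2512 (iv D9268)) (tt N2913 (iv F38865)) (tt N2699 (iv F57351)) (tt N2698 (iv F57355)) (tt N2941 (iv F39055)))
theorem Q2763 : ∀ i, i < 2763 → P i := stepQ 2762 Q2762 (allL N2762 (tt N2762 F30906) (tt N2515 F30907) (tt N2572 F30908) (tt N2699 F57433) (tt N2762 F30909) (tt N2512 (iv D9269)) (tt N2697 F57434) (tt N2942 (iv F39060)))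
theorem Q2764 : ∀ i, i < 2764 → P i := stepQ 2763 Q2763 (allL N2763 (tt N2763 F30910) (tt N2516 F30911) (tt N2763 F30912) (tt N2698 (iv F57354)) (tt N2513 F30913) (tt N2697 (iv F57350)) (tt N2512 (iv D9270)) (tt N2703 (iv F57353)))
theorem Q2765 : ∀ i, i < 2765 → P i := stepQ 2764 Q2764 (allL N2764 (tt N2764 F30914) (tt N2517 F30915) (tt N2764 F30916) (tt N2917 (iv F38880)) (tt N2703 (iv F57352)) (tt N2764 F30917) (tt N2945 (iv F39071)) (tt N2513 (iv D9271)))
theorem Q2766 : ∀ i, i < 2766 → P i := stepQ 2765 Q2765 (allL N2765 (tt N2765 F30941) (tt N2519 F30942) (tt N2574 F30943) (tt N2947 D11854) (tt N2518 (iv D9281)) (tt N2948 D11855) (tt N2949 D11856) (tt N2765 F30944))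
theorem Q2767 : ∀ i, i < 2767 → P i := stepQ 2766 Q2766 (allL N2766 (tt N2766 F30945) (tt N2520 F30946) (tt N2950 D11857) (tt N2766 F30947) (tt N2949 (iv F39153)) (tt N2527 F30948) (tt N2518 (iv D9282)) (tt N2951 D11858))
theorem Q2768 : ∀ i, i < 2768 → P i := stepQ 2767 Q2767 (allL N2767 (tt N2522 F30949) (tt N2947 (iv F39143)) (tt N2767 F30950) (tt N2519 (iv D9283)) (tt N2767 F30951) (tt N2570 (iv F57522)) (tt N2569 F57505) (tt N2767 F30952))
theorem Q2769 : ∀ i, i < 2769 → P i := stepQ 2768 Q2768 (allL N2768 (tt N2523 F30953) (tt N2948 (iv F39147)) (tt N2521 F30954) (tt N2570 (iv F57521)) (tt N2529 F30955) (tt N2519 (iv D9284)) (tt N2568 F57506) (tt N2768 F30956))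
theorem Q2770 : ∀ i, i < 2770 → P i := stepQ 2769 Q2769 (allL N2769 (tt N2524 F30957) (tt N2949 (iv F39152)) (tt N2928 (iv F38965)) (tt N2569 (iv F57482)) (tt N2520 F30958) (tt N2568 (iv F57483)) (tt N2519 (iv D9285)) (tt N2573 F57401))
theorem Q2771 : ∀ i, i < 2771 → P i := stepQ 2770 Q2770 (allL N2770 (tt N2525 F30959) (tt N2951 (iv F39158)) (tt N2929 (iv F38968)) (tt N2770 F30960) (tt N2573 F57440) (tt N2531 F30961) (tt N2770 F30962) (tt N2520 (iv D9286)))
theorem Q2772 : ∀ i, i < 2772 → P i := stepQ 2771 Q2771 (allL N2771 (tt N2771 F30976) (tt N2528 F30977) (tt N2771 F30978) (tt N2526 (iv D9291)) (tt N2771 F30979) (tt N2672 (iv F57518)) (tt N2593 F57511) (tt N2771 F30980))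
theorem Q2773 : ∀ i, i < 2773 → P i := stepQ 2772 Q2772 (allL N2772 (tt N2772 F30981) (tt N2529 F30982) (tt N2583 F30983) (tt N2672 (iv F57517)) (tt N2948 (iv F39149)) (tt N2526 (iv D9292)) (tt N2671 F57509) (tt N2772 F30984))
theorem Q2774 : ∀ i, i < 2774 → P i := stepQ 2773 Q2773 (allL N2773 (tt N2773 F30985) (tt N2530 F30986) (tt N2952 D11871) (tt N2593 (iv F57498)) (tt N2527 F30987) (tt N2671 (iv F57489)) (tt N2526 (iv D9293)) (tt N2592 F57466))
theorem Q2775 : ∀ i, i < 2775 → P i := stepQ 2774 Q2774 (allL N2774 (tt N2774 F30988) (tt N2939 (iv F39031)) (tt N2527 (iv D9294)) (tt N2953 D11873) (tt N2952 (iv F39206)) (tt N2950 (iv F39155)) (tt N2585 F30989) (tt N2954 D11874))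
theorem Q2776 : ∀ i, i < 2776 → P i := stepQ 2775 Q2775 (allL N2775 (tt N2775 F30990) (tt N2531 F30991) (tt N2954 (iv F39216)) (tt N2775 F30992) (tt N2592 (iv F57462)) (tt N2951 (iv F39160)) (tt N2775 F30993) (tt N2527 (iv D9295)))
theorem Q2777 : ∀ i, i < 2777 → P i := stepQ 2776 Q2776 (allL N2776 (tt N2556 F31084) (tt N2533 F31085) (tt N2918 (iv F38911)) (tt N2955 D11905) (tt N2532 (iv D9322)) (tt N2956 D11906) (tt N2957 D11907) (tt N2924 (iv F38951)))
theorem Q2778 : ∀ i, i < 2778 → P i := stepQ 2777 Q2777 (allL N2777 (tt N2557 F31086) (tt N2534 F31087) (tt N2958 D11908) (tt N2647 F31088) (tt N2957 (iv F39322)) (tt N2931 (iv F38994)) (tt N2532 (iv D9323)) (tt N2959 D11909))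
theorem Q2779 : ∀ i, i < 2779 → P i := stepQ 2778 Q2778 (allL N2778 (tt N2536 F31089) (tt N2955 (iv F39316)) (tt N2778 F31090) (tt N2533 (iv D9324)) (tt N2648 F31091) (tt N2960 D11910) (tt N2961 D11911) (tt N2926 (iv F38959)))
theorem Q2780 : ∀ i, i < 2780 → P i := stepQ 2779 Q2779 (allL N2779 (tt N2537 F31092) (tt N2956 (iv F39319)) (tt N2535 F31093) (tt N2960 (iv F39330)) (tt N2933 (iv F39001)) (tt N2533 (iv D9325)) (tt N2962 D11912) (tt N2927 (iv F38963)))
theorem Q2781 : ∀ i, i < 2781 → P i := stepQ 2780 Q2780 (allL N2780 (tt N2538 F31094) (tt N2957 (iv F39321)) (tt N2780 F31095) (tt N2961 (iv F39332)) (tt N2534 F31096) (tt N2962 (iv F39336)) (tt N2533 (iv D9326)) (tt N2963 D11913))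
theorem Q2782 : ∀ i, i < 2782 → P i := stepQ 2781 Q2781 (allL N2781 (tt N2539 F31097) (tt N2959 (iv F39326)) (tt N2781 F31098) (tt N2651 F31099) (tt N2963 (iv F39339)) (tt N2935 (iv F39009)) (tt N2929 (iv F38971)) (tt N2534 (iv D9327)))
theorem Q2783 : ∀ i, i < 2783 → P i := stepQ 2782 Q2782 (allL N2782 (tt N2960 (iv F39328)) (tt N2562 F31100) (tt N2782 F31101) (tt N2537 F31102) (tt N2555 F57218) (tt N2536 (iv D9328)) (tt N2565 F57219) (tt N2554 (iv F57319)))
theorem Q2784 : ∀ i, i < 2784 → P i := stepQ 2783 Q2783 (allL N2783 (tt N2961 (iv F39331)) (tt N2563 F31103) (tt N2589 (iv F57065)) (tt N2538 F31104) (tt N2653 F31105) (tt N2565 F57043) (tt N2536 (iv D9329)) (tt N2564 F57044))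
theorem Q2785 : ∀ i, i < 2785 → P i := stepQ 2784 Q2784 (allL N2784 (tt N2962 (iv F39334)) (tt N2564 F31106) (tt N2784 F31107) (tt N2565 (iv F57040)) (tt N2670 (iv F56993)) (tt N2538 F31108) (tt N2537 (iv D9330)) (tt N2563 (iv F57063)))
theorem Q2786 : ∀ i, i < 2786 → P i := stepQ 2785 Q2785 (allL N2785 (tt N2963 (iv F39337)) (tt N2565 F31109) (tt N2785 F31110) (tt N2564 (iv F57041)) (tt N2539 F31111) (tt N2563 (iv F57062)) (tt N2562 (iv F57064)) (tt N2538 (iv D9331)))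
theorem Q2787 : ∀ i, i < 2787 → P i := stepQ 2786 Q2786 (allL N2786 (tt N2930 (iv F38987)) (tt N2541 F31112) (tt N2924 (iv F38950)) (tt N2964 D11919) (tt N2540 (iv D9332)) (tt N2965 D11920) (tt N2966 D11921) (tt N2918 (iv F38912)))
theorem Q2788 : ∀ i, i < 2788 → P i := stepQ 2787 Q2787 (allL N2787 (tt N2931 (iv F38991)) (tt N2542 F31113) (tt N2967 D11922) (tt N2632 F56842) (tt N2966 (iv F39361)) (tt N2557 F31115) (tt N2540 (iv D9333)) (tt N2968 D11923))
theorem Q2789 : ∀ i, i < 2789 → P i := stepQ 2788 Q2788 (allL N2788 (tt N2544 F31116) (tt N2964 (iv F39356)) (tt N2788 F31117) (tt N2541 (iv D9334)) (tt N2608 F57122) (tt N2969 D11924) (tt N2607 F57123) (tt N2920 (iv F38920)))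
theorem Q2790 : ∀ i, i < 2790 → P i := stepQ 2789 Q2789 (allL N2789 (tt N2545 F31119) (tt N2965 (iv F39358)) (tt N2543 F31120) (tt N2969 (iv F39369)) (tt N2559 F31121) (tt N2541 (iv D9335)) (tt N2970 D11926) (tt N2921 (iv F38924)))
theorem Q2791 : ∀ i, i < 2791 → P i := stepQ 2790 Q2790 (allL N2790 (tt N2546 F31122) (tt N2966 (iv F39360)) (tt N2578 F31123) (tt N2607 (iv F57003)) (tt N2542 F31124) (tt N2970 (iv F39376)) (tt N2541 (iv D9336)) (tt N2971 D11927))
theorem Q2792 : ∀ i, i < 2792 → P i := stepQ 2791 Q2791 (allL N2791 (tt N2547 F31125) (tt N2968 (iv F39364)) (tt N2579 F31126) (tt N2628 F56843) (tt N2971 (iv F39379)) (tt N2561 F31128) (tt N2923 (iv F38932)) (tt N2542 (iv D9337)))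
theorem Q2793 : ∀ i, i < 2793 → P i := stepQ 2792 Q2792 (allL N2792 (tt N2969 (iv F39367)) (tt N2662 F57129) (tt N2792 F31129) (tt N2545 F31130) (tt N2645 F57130) (tt N2544 (iv D9338)) (tt N2610 F57131) (tt N2644 (iv F57298)))
theorem Q2794 : ∀ i, i < 2794 → P i := stepQ 2793 Q2793 (allL N2793 (tt N2970 (iv F39373)) (tt N2670 (iv F56992)) (tt N2581 F31133) (tt N2610 (iv F57016)) (tt N2564 F31134) (tt N2546 F31135) (tt N2545 (iv D9340)) (tt N2653 F56869))
theorem Q2795 : ∀ i, i < 2795 → P i := stepQ 2794 Q2794 (allL N2794 (tt N2971 (iv F39377)) (tt N2625 (iv F57020)) (tt N2582 F31136) (tt N2604 (iv F57017)) (tt N2547 F31137) (tt N2653 (iv F56868)) (tt N2652 (iv F56885)) (tt N2546 (iv D9341)))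
theorem Q2796 : ∀ i, i < 2796 → P i := stepQ 2795 Q2795 (allL N2795 (tt N2924 (iv F38948)) (tt N2549 F31138) (tt N2930 (iv F38989)) (tt N2972 D11933) (tt N2548 (iv D9342)) (tt N2973 D11934) (tt N2974 D11935) (tt N2556 F31139))
theorem Q2797 : ∀ i, i < 2797 → P i := stepQ 2796 Q2796 (allL N2796 (tt N2925 (iv F38952)) (tt N2550 F31140) (tt N2975 D11936) (tt N2657 F31141) (tt N2974 (iv F39399)) (tt N2919 (iv F38916)) (tt N2548 (iv D9343)) (tt N2976 D11937))
theorem Q2798 : ∀ i, i < 2798 → P i := stepQ 2797 Q2797 (allL N2797 (tt N2552 F31142) (tt N2972 (iv F39393)) (tt N2568 F31143) (tt N2549 (iv D9344)) (tt N2658 F31144) (tt N2928 F57428) (tt N2927 F57429) (tt N2558 F31145))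
theorem Q2799 : ∀ i, i < 2799 → P i := stepQ 2798 Q2798 (allL N2798 (tt N2553 F31146) (tt N2973 (iv F39396)) (tt N2551 F31147) (tt N2928 F57432) (tt N2921 (iv F38923)) (tt N2549 (iv D9345)) (tt N2926 (iv F57453)) (tt N2559 F31148))
theorem Q2800 : ∀ i, i < 2800 → P i := stepQ 2799 Q2799 (allL N2799 (tt N2554 F31149) (tt N2974 (iv F39398)) (tt N2799 F31150) (tt N2927 F57426) (tt N2550 F31151) (tt N2926 (iv F57452)) (tt N2549 (iv D9346)) (tt N2960 F57427))
theorem Q2801 : ∀ i, i < 2801 → P i := stepQ 2800 Q2800 (allL N2800 (tt N2555 F31152) (tt N2976 (iv F39401)) (tt N2800 F31153) (tt N2661 F31154) (tt N2960 (iv F57360)) (tt N2923 (iv F38931)) (tt N2561 F31155) (tt N2550 (iv D9347)))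
theorem Q2802 : ∀ i, i < 2802 → P i := stepQ 2801 Q2801 (allL N2801 (tt N2955 (iv F39315)) (tt N2558 F31166) (tt N2977 D11947) (tt N2556 (iv D9352)) (tt N2663 F31167) (tt N2978 D11948) (tt N2979 D11949) (tt N2972 (iv F39395)))
theorem Q2803 : ∀ i, i < 2803 → P i := stepQ 2802 Q2802 (allL N2802 (tt N2956 (iv F39318)) (tt N2559 F31168) (tt N2937 (iv F39028)) (tt N2978 (iv F39435)) (tt N2965 (iv F39359)) (tt N2556 (iv D9353)) (tt N2980 D11950) (tt N2973 (iv F39397)))
theorem Q2804 : ∀ i, i < 2804 → P i := stepQ 2803 Q2803 (allL N2803 (tt N2957 (iv F39320)) (tt N2560 F31169) (tt N2981 D11951) (tt N2979 (iv F39437)) (tt N2557 F31170) (tt N2980 (iv F39440)) (tt N2556 (iv D9354)) (tt N2982 D11952))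
theorem Q2805 : ∀ i, i < 2805 → P i := stepQ 2804 Q2804 (allL N2804 (tt N2958 (iv F39323)) (tt N2585 F31171) (tt N2557 (iv D9355)) (tt N2983 D11953) (tt N2981 (iv F39442)) (tt N2967 (iv F39363)) (tt N2939 (iv F39032)) (tt N2984 D11954))
theorem Q2806 : ∀ i, i < 2806 → P i := stepQ 2805 Q2805 (allL N2805 (tt N2959 (iv F39325)) (tt N2561 F31172) (tt N2984 (iv F39448)) (tt N2666 F31173) (tt N2982 (iv F39444)) (tt N2968 (iv F39366)) (tt N2976 (iv F39403)) (tt N2557 (iv D9356)))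
theorem Q2807 : ∀ i, i < 2807 → P i := stepQ 2806 Q2806 (allL N2806 (tt N2562 F31174) (tt N2978 (iv F39434)) (tt N2573 F31175) (tt N2559 F31176) (tt N2929 (iv F57324)) (tt N2558 (iv D9357)) (tt N2963 F57253) (tt N2928 (iv F57380)))
theorem Q2808 : ∀ i, i < 2808 → P i := stepQ 2807 Q2807 (allL N2807 (tt N2563 F31177) (tt N2979 (iv F39436)) (tt N2807 F31178) (tt N2560 F31179) (tt N2668 F31180) (tt N2963 F57248) (tt N2558 (iv D9358)) (tt N2962 F57249))
theorem Q2809 : ∀ i, i < 2809 → P i := stepQ 2808 Q2808 (allL N2808 (tt N2564 F31181) (tt N2980 (iv F39439)) (tt N2587 F31182) (tt N2963 F57214) (tt N2970 (iv F39375)) (tt N2560 F31183) (tt N2559 (iv D9359)) (tt N2961 F57215))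
theorem Q2810 : ∀ i, i < 2810 → P i := stepQ 2809 Q2809 (allL N2809 (tt N2565 F31184) (tt N2982 (iv F39443)) (tt N2588 F31185) (tt N2962 F57216) (tt N2561 F31186) (tt N2961 F57217) (tt N2960 (iv F57361)) (tt N2560 (iv D9360)))
theorem Q2811 : ∀ i, i < 2811 → P i := stepQ 2810 Q2810 (allL N2810 (tt N2810 F31197) (tt N2568 F31198) (tt N2985 D11961) (tt N2566 (iv D9365)) (tt N2671 F31199) (tt N2949 F57504) (tt N2948 (iv F57520)) (tt N2571 F31200))
theorem Q2812 : ∀ i, i < 2812 → P i := stepQ 2811 Q2811 (allL N2811 (tt N2811 F31201) (tt N2569 F31202) (tt N2942 (iv F39058)) (tt N2949 F57503) (tt N2811 F31203) (tt N2566 (iv D9366)) (tt N2947 (iv F57519)) (tt N2572 F31204))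
theorem Q2813 : ∀ i, i < 2813 → P i := stepQ 2812 Q2812 (allL N2812 (tt N2812 F31205) (tt N2570 F31206) (tt N2986 D11965) (tt N2948 F57527) (tt N2567 F31207) (tt N2947 F57528) (tt N2566 (iv D9367)) (tt N2812 F31208))
theorem Q2814 : ∀ i, i < 2814 → P i := stepQ 2813 Q2813 (allL N2813 (tt N2813 F31209) (tt N2813 F31210) (tt N2567 (iv D9368)) (tt N2813 F56943) (tt N2986 (iv F39488)) (tt N2813 F31211) (tt N2944 (iv F39067)) (tt N2813 F31212))
theorem Q2815 : ∀ i, i < 2815 → P i := stepQ 2814 Q2814 (allL N2814 (tt N2814 F31236) (tt N2977 (iv F39432)) (tt N2571 (iv D9375)) (tt N2946 (iv F39101)) (tt N2673 F31237) (tt N2987 D11973) (tt N2988 D11974) (tt N2985 (iv F39471)))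
theorem Q2816 : ∀ i, i < 2816 → P i := stepQ 2815 Q2815 (allL N2815 (tt N2815 F31238) (tt N2573 F31239) (tt N2987 (iv F39520)) (tt N2572 F31240) (tt N2951 F57465) (tt N2571 (iv D9376)) (tt N2815 F31241) (tt N2949 (iv F57481)))
theorem Q2817 : ∀ i, i < 2817 → P i := stepQ 2816 Q2816 (allL N2816 (tt N2816 F31246) (tt N2576 F31247) (tt N2989 D11976) (tt N2574 (iv D9378)) (tt N2590 F31248) (tt N2990 D11977) (tt N2617 F57284) (tt N2816 F31249))
theorem Q2818 : ∀ i, i < 2818 → P i := stepQ 2817 Q2817 (allL N2817 (tt N2817 F31250) (tt N2577 F31251) (tt N2948 (iv F39148)) (tt N2990 (iv F39535)) (tt N2583 F31252) (tt N2574 (iv D9379)) (tt N2991 D11979) (tt N2817 F31253))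
theorem Q2819 : ∀ i, i < 2819 → P i := stepQ 2818 Q2818 (allL N2818 (tt N2818 F31254) (tt N2578 F31255) (tt N2992 D11980) (tt N2617 (iv F57272)) (tt N2575 F31256) (tt N2991 (iv F39545)) (tt N2574 (iv D9380)) (tt N2993 D11981))
theorem Q2820 : ∀ i, i < 2820 → P i := stepQ 2819 Q2819 (allL N2819 (tt N2819 F31257) (tt N2967 (iv F39362)) (tt N2575 (iv D9381)) (tt N2673 (iv F57291)) (tt N2992 (iv F39547)) (tt N2585 F31258) (tt N2950 (iv F39156)) (tt N2994 D11983))
theorem Q2821 : ∀ i, i < 2821 → P i := stepQ 2820 Q2820 (allL N2820 (tt N2820 F31259) (tt N2579 F31260) (tt N2994 (iv F39556)) (tt N2591 F31261) (tt N2993 (iv F39550)) (tt N2586 F31262) (tt N2820 F31263) (tt N2575 (iv D9382)))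
theorem Q2822 : ∀ i, i < 2822 → P i := stepQ 2821 Q2821 (allL N2821 (tt N2580 F31264) (tt N2990 (iv F39534)) (tt N2821 F31265) (tt N2577 F31266) (tt N2821 F31267) (tt N2576 (iv D9383)) (tt N2618 F57285) (tt N2821 F31268))
theorem Q2823 : ∀ i, i < 2823 → P i := stepQ 2822 Q2822 (allL N2822 (tt N2581 F31272) (tt N2991 (iv F39543)) (tt N2970 (iv F39374)) (tt N2618 (iv F57273)) (tt N2587 F31273) (tt N2578 F31274) (tt N2577 (iv D9385)) (tt N2995 D11987))
theorem Q2824 : ∀ i, i < 2824 → P i := stepQ 2823 Q2823 (allL N2823 (tt N2582 F31275) (tt N2993 (iv F39549)) (tt N2971 (iv F39378)) (tt N2614 (iv F57271)) (tt N2579 F31276) (tt N2995 (iv F39571)) (tt N2823 F31277) (tt N2578 (iv D9386)))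
theorem Q2825 : ∀ i, i < 2825 → P i := stepQ 2824 Q2824 (allL N2824 (tt N2995 (iv F39569)) (tt N2824 F31288) (tt N2653 F57042) (tt N2616 (iv F57220)) (tt N2589 F31289) (tt N2582 F31290) (tt N2824 F31291) (tt N2581 (iv D9390)))
theorem Q2826 : ∀ i, i < 2826 → P i := stepQ 2825 Q2825 (allL N2825 (tt N2825 F31292) (tt N2587 F31293) (tt N2996 D11992) (tt N2825 F31294) (tt N2991 (iv F39544)) (tt N2584 F31295) (tt N2583 (iv D9391)) (tt N2997 D11993))
theorem Q2827 : ∀ i, i < 2827 → P i := stepQ 2826 Q2826 (allL N2826 (tt N2826 F31296) (tt N2981 (iv F39441)) (tt N2584 (iv D9392)) (tt N2998 D11994) (tt N2585 F31297) (tt N2996 (iv F39587)) (tt N2952 (iv F39207)) (tt N2999 D11995))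
theorem Q2828 : ∀ i, i < 2828 → P i := stepQ 2827 Q2827 (allL N2827 (tt N2827 F31298) (tt N2588 F31299) (tt N2999 (iv F39596)) (tt N2827 F31300) (tt N2586 F31301) (tt N2997 (iv F39591)) (tt N2827 F31302) (tt N2584 (iv D9393)))
theorem Q2829 : ∀ i, i < 2829 → P i := stepQ 2828 Q2828 (allL N2828 (tt N2828 F31303) (tt N2983 (iv F39445)) (tt N2592 F31304) (tt N2585 (iv D9394)) (tt N2954 F57464) (tt N2673 (iv F57292)) (tt N2953 (iv F39214)) (tt N2952 (iv F57497)))
theorem Q2830 : ∀ i, i < 2830 → P i := stepQ 2829 Q2829 (allL N2829 (tt N2829 F31305) (tt N2984 (iv F39447)) (tt N2586 F31306) (tt N2952 F57516) (tt N2999 (iv F39597)) (tt N2994 (iv F39557)) (tt N2998 (iv F57525)) (tt N2585 (iv D9395)))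
theorem Q2831 : ∀ i, i < 2831 → P i := stepQ 2830 Q2830 (allL N2830 (tt N2589 F31307) (tt N2997 (iv F39589)) (tt N2961 F57257) (tt N2830 F31308) (tt N2995 (iv F39570)) (tt N2588 F31309) (tt N2830 F31310) (tt N2587 (iv D9396)))
theorem Q2832 : ∀ i, i < 2832 → P i := stepQ 2831 Q2831 (allL N2831 (tt N2831 F31311) (tt N2831 F31312) (tt N2590 (iv D9397)) (tt N2831 F31313) (tt N2989 (iv F39531)) (tt N2831 F31314) (tt N2916 (iv F57390)) (tt N2831 F31315))
theorem Q2833 : ∀ i, i < 2833 → P i := stepQ 2832 Q2832 (allL N2832 (tt N2606 F31365) (tt N2594 (iv D9410)) (tt N2654 F31366) (tt N2619 F31367) (tt N3000 D12015) (tt N2627 F31368) (tt N3001 D12016) (tt N2622 F31369))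
theorem Q2834 : ∀ i, i < 2834 → P i := stepQ 2833 Q2833 (allL N2833 (tt N2596 F31370) (tt N3000 (iv F39669)) (tt N2595 F31371) (tt N2934 (iv F56991)) (tt N2594 (iv D9411)) (tt N2669 F56832) (tt N2932 (iv F56997)) (tt N2623 F31372))
theorem Q2835 : ∀ i, i < 2835 → P i := stepQ 2834 Q2834 (allL N2834 (tt N2597 F31373) (tt N3001 (iv F39673)) (tt N2686 F31374) (tt N2621 F31375) (tt N2932 (iv F56996)) (tt N2629 F31376) (tt N2594 (iv D9412)) (tt N2907 (iv F57026)))
theorem Q2836 : ∀ i, i < 2836 → P i := stepQ 2835 Q2835 (allL N2835 (tt N2627 F31399) (tt N2598 (iv D9418)) (tt N2638 F31400) (tt N2622 F31401) (tt N3002 D12025) (tt N2606 F31402) (tt N3003 D12026) (tt N2619 F31403))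
theorem Q2837 : ∀ i, i < 2837 → P i := stepQ 2836 Q2836 (allL N2836 (tt N2600 F31404) (tt N3002 (iv F39708)) (tt N2599 F31405) (tt N2935 (iv F56990)) (tt N2598 (iv D9419)) (tt N2651 F56851) (tt N2910 (iv F57019)) (tt N2620 F31406))
theorem Q2838 : ∀ i, i < 2838 → P i := stepQ 2837 Q2837 (allL N2837 (tt N2601 F31407) (tt N3003 (iv F39712)) (tt N2837 F31408) (tt N2624 F31409) (tt N2910 (iv F57018)) (tt N2608 F31410) (tt N2598 (iv D9420)) (tt N2909 (iv F57024)))
theorem Q2839 : ∀ i, i < 2839 → P i := stepQ 2838 Q2838 (allL N2838 (tt N2622 F31433) (tt N2602 (iv D9426)) (tt N2636 F31434) (tt N2627 F31435) (tt N3004 D12035) (tt N2619 F31436) (tt N3005 D12036) (tt N2606 F31437))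
theorem Q2840 : ∀ i, i < 2840 → P i := stepQ 2839 Q2839 (allL N2839 (tt N2604 F31438) (tt N3004 (iv F39747)) (tt N2603 F31439) (tt N2971 F57166) (tt N2602 (iv D9427)) (tt N2650 (iv F56709)) (tt N2649 (iv F56719)) (tt N2607 F31440))
theorem Q2841 : ∀ i, i < 2841 → P i := stepQ 2840 Q2840 (allL N2840 (tt N2605 F31441) (tt N3005 (iv F39751)) (tt N2637 (iv F56724)) (tt N2629 F31443) (tt N2649 (iv F56718)) (tt N2621 F31444) (tt N2602 (iv D9428)) (tt N2908 (iv F56720)))
theorem Q2842 : ∀ i, i < 2842 → P i := stepQ 2841 Q2841 (allL N2841 (tt N3000 (iv F39668)) (tt N2607 F31467) (tt N2905 (iv F38787)) (tt N2966 F57164) (tt N2606 (iv D9434)) (tt N3006 D12046) (tt N2964 (iv F57302)) (tt N3004 (iv F39749)))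
theorem Q2843 : ∀ i, i < 2843 → P i := stepQ 2842 Q2842 (allL N2842 (tt N3001 (iv F39672)) (tt N2608 F31468) (tt N3007 D12048) (tt N2633 F31469) (tt N2964 (iv F57301)) (tt N3003 (iv F39714)) (tt N2606 (iv D9435)) (tt N3008 D12049))
theorem Q2844 : ∀ i, i < 2844 → P i := stepQ 2843 Q2843 (allL N2843 (tt N2610 F31473) (tt N3006 (iv F39787)) (tt N2609 F31474) (tt N2970 F57165) (tt N2651 F56866) (tt N2607 (iv D9437)) (tt N2969 (iv F57307)) (tt N2650 F56867))
theorem Q2845 : ∀ i, i < 2845 → P i := stepQ 2844 Q2844 (allL N2844 (tt N2611 F31478) (tt N3008 (iv F39791)) (tt N2844 F31479) (tt N2634 F31480) (tt N2920 (iv F57295)) (tt N2909 (iv F57023)) (tt N2908 F56888) (tt N2608 (iv D9439)))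
theorem Q2846 : ∀ i, i < 2846 → P i := stepQ 2845 Q2845 (allL N2845 (tt N2845 F31523) (tt N2614 F31524) (tt N2911 (iv F38826)) (tt N2993 F57385) (tt N2613 (iv D9452)) (tt N3009 D12070) (tt N2845 F56319) (tt N2617 F31525))
theorem Q2847 : ∀ i, i < 2847 → P i := stepQ 2846 Q2846 (allL N2846 (tt N2616 F31533) (tt N3009 (iv F39860)) (tt N2615 F31534) (tt N2995 F57357) (tt N2846 F31535) (tt N2614 (iv D9455)) (tt N2846 F56040) (tt N2618 F31536))
theorem Q2848 : ∀ i, i < 2848 → P i := stepQ 2847 Q2847 (allL N2847 (tt N2847 F31558) (tt N2618 F31559) (tt N2914 (iv F38868)) (tt N2991 F57386) (tt N2847 F31560) (tt N2617 (iv D9463)) (tt N2990 (iv F57391)) (tt N3009 (iv F39862)))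
theorem Q2849 : ∀ i, i < 2849 → P i := stepQ 2848 Q2848 (allL N2848 (tt N2632 F31599) (tt N2620 F31600) (tt N2646 F31601) (tt N2931 (iv F57004)) (tt N2619 (iv D9476)) (tt N2647 F56840) (tt N2636 F56841) (tt N3002 (iv F39710)))
theorem Q2850 : ∀ i, i < 2850 → P i := stepQ 2849 Q2849 (allL N2849 (tt N2633 F31602) (tt N2621 F31603) (tt N3004 F56881) (tt N3001 (iv F39674)) (tt N2636 F56882) (tt N3005 (iv F39753)) (tt N2619 (iv D9477)) (tt N2905 (iv F57050)))
theorem Q2851 : ∀ i, i < 2851 → P i := stepQ 2850 Q2850 (allL N2850 (tt N3004 (iv F39746)) (tt N2623 F31624) (tt N2633 (iv F56966)) (tt N3010 D12114) (tt N2622 (iv D9486)) (tt N2665 F56828) (tt N2664 F56829) (tt N3000 (iv F39671)))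
theorem Q2852 : ∀ i, i < 2852 → P i := stepQ 2851 Q2851 (allL N2851 (tt N3005 (iv F39750)) (tt N2624 F31626) (tt N2665 (iv F56774)) (tt N3003 (iv F39713)) (tt N2664 F56845) (tt N2633 F31627) (tt N2622 (iv D9487)) (tt N3011 D12118))
theorem Q2853 : ∀ i, i < 2853 → P i := stepQ 2852 Q2852 (allL N2852 (tt N2625 F31628) (tt N3010 (iv F39992)) (tt N2852 F31629) (tt N2623 (iv D9488)) (tt N2935 F57151) (tt N2668 F56830) (tt N2667 F56831) (tt N2934 F57152))
theorem Q2854 : ∀ i, i < 2854 → P i := stepQ 2853 Q2853 (allL N2853 (tt N2626 F31636) (tt N3011 (iv F40001)) (tt N2635 F31637) (tt N2909 F57192) (tt N2659 F56846) (tt N2634 F31638) (tt N2907 F57193) (tt N2624 (iv D9491)))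
theorem Q2855 : ∀ i, i < 2855 → P i := stepQ 2854 Q2854 (allL N2854 (tt N3002 (iv F39707)) (tt N2628 F31647) (tt N2656 F31648) (tt N2968 (iv F57006)) (tt N2627 (iv D9496)) (tt N2666 (iv F56960)) (tt N3012 D12130) (tt N2632 F31649))
theorem Q2856 : ∀ i, i < 2856 → P i := stepQ 2855 Q2855 (allL N2855 (tt N3003 (iv F39711)) (tt N2629 F31650) (tt N3013 D12131) (tt N3005 (iv F39752)) (tt N3012 (iv F40031)) (tt N3001 (iv F39675)) (tt N2627 (iv D9497)) (tt N3014 D12132))
theorem Q2857 : ∀ i, i < 2857 → P i := stepQ 2856 Q2856 (allL N2856 (tt N2630 F31657) (tt N3012 (iv F40030)) (tt N2693 F31658) (tt N2923 (iv F57007)) (tt N2629 F31659) (tt N2661 (iv F56961)) (tt N2628 (iv D9500)) (tt N2655 (iv F56969)))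
theorem Q2858 : ∀ i, i < 2858 → P i := stepQ 2857 Q2857 (allL N2857 (tt N2631 F31660) (tt N3014 (iv F40034)) (tt N2694 F31661) (tt N2908 F56883) (tt N2655 F57124) (tt N2907 (iv F57025)) (tt N2634 F31662) (tt N2629 (iv D9501)))
theorem Q2859 : ∀ i, i < 2859 → P i := stepQ 2858 Q2858 (allL N2858 (tt N2905 F57118) (tt N2634 F31679) (tt N3000 F57119) (tt N3008 (iv F39792)) (tt N2654 F57120) (tt N3011 (iv F40002)) (tt N3014 (iv F40035)) (tt N2633 (iv D9510)))
theorem Q2860 : ∀ i, i < 2860 → P i := stepQ 2859 Q2859 (allL N2859 (tt N2656 F31987) (tt N2639 F31988) (tt N3002 (iv F39709)) (tt N3015 D12276) (tt N2638 (iv D9610)) (tt N3016 D12277) (tt N3017 D12278) (tt N2646 F31989))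
theorem Q2861 : ∀ i, i < 2861 → P i := stepQ 2860 Q2860 (allL N2860 (tt N2657 F31990) (tt N2640 F31991) (tt N3018 D12279) (tt N2925 (iv F38954)) (tt N3017 (iv F40475)) (tt N2906 (iv F38792)) (tt N2638 (iv D9611)) (tt N3019 D12280))
theorem Q2862 : ∀ i, i < 2862 → P i := stepQ 2861 Q2861 (allL N2861 (tt N2642 F31992) (tt N3015 (iv F40468)) (tt N2861 F31993) (tt N2639 (iv D9612)) (tt N2926 (iv F38958)) (tt N2922 F57364) (tt N2921 F57365) (tt N2648 F31994))
theorem Q2863 : ∀ i, i < 2863 → P i := stepQ 2862 Q2862 (allL N2862 (tt N2643 F31995) (tt N3016 (iv F40471)) (tt N2641 F31996) (tt N2922 F57372) (tt N2908 (iv F38799)) (tt N2639 (iv D9613)) (tt N2920 F57373) (tt N2649 F31997))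
theorem Q2864 : ∀ i, i < 2864 → P i := stepQ 2863 Q2863 (allL N2863 (tt N2644 F31998) (tt N3017 (iv F40474)) (tt N2863 F31999) (tt N2921 F57405) (tt N2640 F32000) (tt N2920 F57406) (tt N2639 (iv D9614)) (tt N2969 F57407))
theorem Q2865 : ∀ i, i < 2865 → P i := stepQ 2864 Q2864 (allL N2864 (tt N2645 F32001) (tt N3019 (iv F40479)) (tt N2864 F32002) (tt N2929 (iv F38969)) (tt N2969 (iv F57306)) (tt N2910 (iv F38807)) (tt N2651 F32003) (tt N2640 (iv D9615)))
theorem Q2866 : ∀ i, i < 2866 → P i := stepQ 2865 Q2865 (allL N2865 (tt N2663 F32017) (tt N2648 F32018) (tt N3020 D12290) (tt N2646 (iv D9620)) (tt N2955 (iv F39317)) (tt N3021 D12291) (tt N3022 D12292) (tt N3015 (iv F40469)))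
theorem Q2867 : ∀ i, i < 2867 → P i := stepQ 2866 Q2866 (allL N2866 (tt N2664 F32019) (tt N2649 F32020) (tt N2647 F56873) (tt N3021 (iv F40513)) (tt N3005 F56875) (tt N2646 (iv D9621)) (tt N3004 F56876) (tt N3016 (iv F40472)))
theorem Q2868 : ∀ i, i < 2868 → P i := stepQ 2867 Q2867 (allL N2867 (tt N2665 F32021) (tt N2650 F32022) (tt N3005 F56874) (tt N3022 (iv F40516)) (tt N2647 F32023) (tt N3004 F56864) (tt N2646 (iv D9622)) (tt N3006 (iv F57036)))
theorem Q2869 : ∀ i, i < 2869 → P i := stepQ 2868 Q2868 (allL N2868 (tt N2666 F32026) (tt N2651 F32027) (tt N3016 (iv F57047)) (tt N2959 (iv F39327)) (tt N3006 (iv F57035)) (tt N3002 (iv F57005)) (tt N3019 (iv F40480)) (tt N2647 (iv D9624)))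
theorem Q2870 : ∀ i, i < 2870 → P i := stepQ 2869 Q2869 (allL N2869 (tt N2652 F32028) (tt N3021 (iv F40512)) (tt N2869 F32029) (tt N2649 F32030) (tt N2923 F57051) (tt N2648 (iv D9625)) (tt N2971 F57052) (tt N2922 (iv F57234)))
theorem Q2871 : ∀ i, i < 2871 → P i := stepQ 2870 Q2870 (allL N2870 (tt N2653 F32031) (tt N3022 (iv F40515)) (tt N2995 (iv F57213)) (tt N2650 F32032) (tt N2961 (iv F39333)) (tt N2971 F57037) (tt N2648 (iv D9626)) (tt N2970 (iv F57038)))
theorem Q2872 : ∀ i, i < 2872 → P i := stepQ 2871 Q2871 (allL N2871 (tt N2906 (iv F38789)) (tt N2655 F32054) (tt N3023 D12310) (tt N2919 (iv F38915)) (tt N3014 (iv F57305)) (tt N2657 F32055) (tt N2654 (iv D9635)) (tt N3012 F57121))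
theorem Q2873 : ∀ i, i < 2873 → P i := stepQ 2872 Q2872 (allL N2872 (tt N3015 (iv F40467)) (tt N2658 F32111) (tt N3024 D12339) (tt N2656 (iv D9658)) (tt N2972 (iv F39394)) (tt N2938 F57424) (tt N2937 F57425) (tt N2663 F32112))
theorem Q2874 : ∀ i, i < 2874 → P i := stepQ 2873 Q2873 (allL N2873 (tt N3016 (iv F40470)) (tt N2659 F32113) (tt N2666 (iv F56959)) (tt N2938 F57438) (tt N3011 (iv F57011)) (tt N2656 (iv D9659)) (tt N2936 F57439) (tt N2664 F32114))
theorem Q2875 : ∀ i, i < 2875 → P i := stepQ 2874 Q2874 (allL N2874 (tt N3017 (iv F40473)) (tt N2660 F32115) (tt N3025 D12343) (tt N2937 F57420) (tt N2657 F32116) (tt N2936 F57421) (tt N2656 (iv D9660)) (tt N3026 D12344))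
theorem Q2876 : ∀ i, i < 2876 → P i := stepQ 2875 Q2875 (allL N2875 (tt N3018 (iv F40476)) (tt N2700 F32117) (tt N2657 (iv D9661)) (tt N3027 D12345) (tt N3025 (iv F40648)) (tt N3023 (iv F40564)) (tt N3013 (iv F40033)) (tt N3028 D12346))
theorem Q2877 : ∀ i, i < 2877 → P i := stepQ 2876 Q2876 (allL N2876 (tt N3019 (iv F40478)) (tt N2661 F32118) (tt N3028 (iv F40654)) (tt N2976 (iv F39402)) (tt N3026 (iv F40650)) (tt N3012 F57112) (tt N2666 F32119) (tt N2657 (iv D9662)))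
theorem Q2878 : ∀ i, i < 2878 → P i := stepQ 2877 Q2877 (allL N2877 (tt N2662 F32129) (tt N3026 (iv F40649)) (tt N2702 F32130) (tt N2933 F57146) (tt N2661 F32131) (tt N2932 F57147) (tt N2669 F32132) (tt N2660 (iv D9666)))
theorem Q2879 : ∀ i, i < 2879 → P i := stepQ 2878 Q2878 (allL N2878 (tt N3020 (iv F40509)) (tt N2673 F32144) (tt N2663 (iv D9672)) (tt N2967 F57116) (tt N2977 (iv F39433)) (tt N2983 F57117) (tt N3029 D12358) (tt N3024 (iv F40639)))
theorem Q2880 : ∀ i, i < 2880 → P i := stepQ 2879 Q2879 (allL N2879 (tt N3021 (iv F40511)) (tt N2667 F32145) (tt N2983 (iv F57048)) (tt N2664 F32146) (tt N2940 F57374) (tt N2663 (iv D9673)) (tt N3010 (iv F56983)) (tt N2938 (iv F57376)))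
theorem Q2881 : ∀ i, i < 2881 → P i := stepQ 2880 Q2880 (allL N2880 (tt N3022 (iv F40514)) (tt N2668 F32147) (tt N3030 D12361) (tt N2665 F32148) (tt N2979 (iv F39438)) (tt N3010 (iv F56982)) (tt N2663 (iv D9674)) (tt N3031 D12362))
theorem Q2882 : ∀ i, i < 2882 → P i := stepQ 2881 Q2881 (allL N2881 (tt N3006 (iv F57034)) (tt N2669 F32153) (tt N3011 F56933) (tt N3031 (iv F40692)) (tt N2666 F32154) (tt N3000 (iv F56984)) (tt N3026 (iv F40651)) (tt N2665 (iv D9677)))
theorem Q2883 : ∀ i, i < 2883 → P i := stepQ 2882 Q2882 (allL N2882 (tt N2670 F32164) (tt N3031 (iv F40691)) (tt N2882 F32165) (tt N2669 F32166) (tt N2962 F57140) (tt N2934 F57141) (tt N2933 F57142) (tt N2668 (iv D9682)))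
theorem Q2884 : ∀ i, i < 2884 → P i := stepQ 2883 Q2883 (allL N2883 (tt N2883 F32175) (tt N3024 (iv F40638)) (tt N2671 (iv D9686)) (tt N2994 F57398) (tt N2985 (iv F39470)) (tt N2952 F57510) (tt N2996 (iv F57523)) (tt N2673 F32176))
theorem Q2885 : ∀ i, i < 2885 → P i := stepQ 2884 Q2884 (allL N2884 (tt N2884 F32220) (tt N3029 (iv F40685)) (tt N2884 F32221) (tt N2950 F57396) (tt N2988 (iv F39523)) (tt N2953 F57397) (tt N2673 (iv D9699)) (tt N3032 D12389))
theorem Q2886 : ∀ i, i < 2886 → P i := stepQ 2885 Q2885 (allL N2885 (tt N2885 F32352) (tt N2674 (iv D9740)) (tt N2885 F32353) (tt N2684 F32354) (tt N2912 (iv F56917)) (tt N2680 F32355) (tt N2911 F56905) (tt N2677 F32356))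
theorem Q2887 : ∀ i, i < 2887 → P i := stepQ 2886 Q2886 (allL N2886 (tt N2886 F34832) (tt N2678 F34833) (tt N2886 F34834) (tt N2945 (iv F57265)) (tt N2677 (iv D10533)) (tt N2886 F57263) (tt N2917 (iv F57267)) (tt N2912 F57076))
theorem Q2888 : ∀ i, i < 2888 → P i := stepQ 2887 Q2887 (allL N2887 (tt N2887 F34835) (tt N2679 F34836) (tt N3033 D13457) (tt N2688 F34837) (tt N2917 (iv F57266)) (tt N2682 F34838) (tt N2677 (iv D10534)) (tt N2915 (iv F57382)))
theorem Q2889 : ∀ i, i < 2889 → P i := stepQ 2888 Q2888 (allL N2888 (tt N2888 F34869) (tt N2681 F34870) (tt N3009 F56906) (tt N2692 F34871) (tt N2888 F56937) (tt N2911 F56907) (tt N2680 (iv D10544)) (tt N2914 (iv F57068)))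
theorem Q2890 : ∀ i, i < 2890 → P i := stepQ 2889 Q2889 (allL N2889 (tt N2889 F34905) (tt N2889 F34906) (tt N2682 (iv D10556)) (tt N3034 D13488) (tt N2889 F57443) (tt N3033 (iv F44076)) (tt N2889 F34907) (tt N3035 D13489))
theorem Q2891 : ∀ i, i < 2891 → P i := stepQ 2890 Q2890 (allL N2890 (tt N2890 F34908) (tt N2683 F34909) (tt N3035 (iv F44184)) (tt N2695 F34910) (tt N2890 F57281) (tt N2915 F57260) (tt N2914 F57261) (tt N2682 (iv D10557)))
theorem Q2892 : ∀ i, i < 2892 → P i := stepQ 2891 Q2891 (allL N2891 (tt N2891 F35070) (tt N2685 F35071) (tt N2695 (iv F57310)) (tt N2943 (iv F57264)) (tt N2684 (iv D10608)) (tt N2705 F57148) (tt N2941 (iv F57333)) (tt N2687 F35073))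
theorem Q2893 : ∀ i, i < 2893 → P i := stepQ 2892 Q2892 (allL N2892 (tt N2892 F35074) (tt N2686 F35075) (tt N3036 D13558) (tt N2911 F56909) (tt N2941 (iv F57071)) (tt N2692 F35076) (tt N2684 (iv D10609)) (tt N2913 (iv F57072)))
theorem Q2894 : ∀ i, i < 2894 → P i := stepQ 2893 Q2893 (allL N2893 (tt N2893 F35101) (tt N2689 F35102) (tt N3034 (iv F57332)) (tt N2687 (iv D10618)) (tt N2945 F57383) (tt N2704 F57149) (tt N2703 F57150) (tt N2943 F57384))
theorem Q2895 : ∀ i, i < 2895 → P i := stepQ 2894 Q2894 (allL N2894 (tt N2894 F35114) (tt N2690 F35115) (tt N2705 (iv F57091)) (tt N2915 (iv F57381)) (tt N2698 F57190) (tt N2695 F35116) (tt N2913 F57262) (tt N2688 (iv D10622)))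
theorem Q2896 : ∀ i, i < 2896 → P i := stepQ 2895 Q2895 (allL N2895 (tt N2895 F35150) (tt N2693 F35151) (tt N3037 D13591) (tt N2895 F57280) (tt N2692 F35152) (tt N2701 (iv F57299)) (tt N2691 (iv D10634)) (tt N2696 (iv F57309)))
theorem Q2897 : ∀ i, i < 2897 → P i := stepQ 2896 Q2896 (allL N2896 (tt N2896 F35153) (tt N3013 (iv F40032)) (tt N2692 (iv D10635)) (tt N3038 D13593) (tt N3037 (iv F44511)) (tt N3036 (iv F44406)) (tt N2700 F35154) (tt N3039 D13594))
theorem Q2898 : ∀ i, i < 2898 → P i := stepQ 2897 Q2897 (allL N2897 (tt N2897 F35155) (tt N2694 F35156) (tt N3039 (iv F44520)) (tt N2914 F57235) (tt N2696 F57415) (tt N2913 F57236) (tt N2695 F35157) (tt N2692 (iv D10636)))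
theorem Q2899 : ∀ i, i < 2899 → P i := stepQ 2898 Q2898 (allL N2898 (tt N2898 F35547) (tt N3023 (iv F40563)) (tt N2696 (iv D10769)) (tt N3040 D13765) (tt N3039 (iv F57488)) (tt N2700 F35548) (tt N3036 (iv F44407)) (tt N3037 (iv F57336)))
theorem Q2900 : ∀ i, i < 2900 → P i := stepQ 2899 Q2899 (allL N2899 (tt N2899 F35663) (tt N3025 (iv F40647)) (tt N2699 (iv D10802)) (tt N2987 (iv F57494)) (tt N2700 F35664) (tt N2946 F57451) (tt N3037 (iv F44512)) (tt N3041 D13811))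
theorem Q2901 : ∀ i, i < 2901 → P i := stepQ 2900 Q2900 (allL N2900 (tt N2900 F35665) (tt N2702 F35666) (tt N3041 (iv F45177)) (tt N2942 (iv F57338)) (tt N2701 F35667) (tt N2941 (iv F57325)) (tt N2705 F35668) (tt N2699 (iv D10803)))
theorem Q2902 : ∀ i, i < 2902 → P i := stepQ 2901 Q2901 (allL N2901 (tt N2901 F35669) (tt N3027 (iv F40652)) (tt N2901 F35670) (tt N2700 (iv D10804)) (tt N3032 (iv F57524)) (tt N3040 (iv F45020)) (tt N3038 (iv F44518)) (tt N2988 F57514))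
theorem Q2903 : ∀ i, i < 2903 → P i := stepQ 2902 Q2902 (allL N2902 (tt N2902 F35671) (tt N3028 (iv F40653)) (tt N2701 F35672) (tt N2988 (iv F57493)) (tt N3041 (iv F45178)) (tt N3037 (iv F57335)) (tt N2946 F57450) (tt N2700 (iv D10805)))
theorem Q2904 : ∀ i, i < 2904 → P i := stepQ 2903 Q2903 (allL N2903 (tt N2903 F35718) (tt N2903 F35719) (tt N2704 (iv D10820)) (tt N3033 (iv F57337)) (tt N2903 F35720) (tt N3034 (iv F57330)) (tt N2903 F57487) (tt N3042 D13834))
theorem Q2905 : ∀ i, i < 2905 → P i := stepQ 2904 Q2904 (allL N2904 (tt N2904 F35721) (tt N2706 F35722) (tt N3042 (iv F45252)) (tt N2705 F35723) (tt N2904 F35724) (tt N2943 F57441) (tt N2942 F57442) (tt N2704 (iv D10821)))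
theorem Q2906 : ∀ i, i < 2906 → P i := stepQ 2905 Q2905 (allL N2905 (tt N2858 (iv F57118)) (tt N2708 F38786) (tt N2841 F38787) (tt N3043 D14979) (tt N2707 (iv D11747)) (tt N3044 D14980) (tt N3045 D14981) (tt N2849 F57050))
theorem Q2907 : ∀ i, i < 2907 → P i := stepQ 2906 Q2906 (allL N2906 (tt N2871 F38789) (tt N2709 F38790) (tt N3046 D14982) (tt N2750 F38791) (tt N3045 (iv F49001)) (tt N2860 F38792) (tt N2707 (iv D11748)) (tt N3047 D14983))
theorem Q2908 : ∀ i, i < 2908 → P i := stepQ 2907 Q2907 (allL N2907 (tt N2711 F38793) (tt N3043 (iv F48991)) (tt N2721 F38794) (tt N2708 (iv D11749)) (tt N2751 F38795) (tt N2857 F57025) (tt N2853 (iv F57193)) (tt N2834 F57026))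
theorem Q2909 : ∀ i, i < 2909 → P i := stepQ 2908 Q2908 (allL N2908 (tt N2712 F38797) (tt N3044 (iv F48995)) (tt N2710 F38798) (tt N2857 (iv F56883)) (tt N2862 F38799) (tt N2708 (iv D11750)) (tt N2844 (iv F56888)) (tt N2840 F56720))
theorem Q2910 : ∀ i, i < 2910 → P i := stepQ 2909 Q2909 (allL N2909 (tt N2713 F38801) (tt N3045 (iv F49000)) (tt N2909 F38802) (tt N2853 (iv F57192)) (tt N2709 F38803) (tt N2844 F57023) (tt N2708 (iv D11751)) (tt N2837 F57024))
theorem Q2911 : ∀ i, i < 2911 → P i := stepQ 2910 Q2910 (allL N2910 (tt N2714 F38804) (tt N3047 (iv F49007)) (tt N2910 F38805) (tt N2754 F38806) (tt N2837 F57018) (tt N2864 F38807) (tt N2836 F57019) (tt N2709 (iv D11752)))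
theorem Q2912 : ∀ i, i < 2912 → P i := stepQ 2911 Q2911 (allL N2911 (tt N2911 F38824) (tt N2716 F38825) (tt N2845 F38826) (tt N2892 (iv F56909)) (tt N2715 (iv D11757)) (tt N2888 (iv F56907)) (tt N2885 (iv F56905)) (tt N2719 F38827))
theorem Q2913 : ∀ i, i < 2913 → P i := stepQ 2912 Q2912 (allL N2912 (tt N2912 F38828) (tt N2717 F38829) (tt N2912 F56179) (tt N2756 F38830) (tt N2885 F56917) (tt N2912 F38831) (tt N2715 (iv D11758)) (tt N2886 (iv F57076)))
theorem Q2914 : ∀ i, i < 2914 → P i := stepQ 2913 Q2913 (allL N2913 (tt N2913 F38863) (tt N2721 F38864) (tt N3048 D15007) (tt N2719 (iv D11767)) (tt N2761 F38865) (tt N2897 (iv F57236)) (tt N2894 (iv F57262)) (tt N2892 F57072))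
theorem Q2915 : ∀ i, i < 2915 → P i := stepQ 2914 Q2914 (allL N2914 (tt N2914 F38866) (tt N2722 F38867) (tt N2847 F38868) (tt N2897 (iv F57235)) (tt N2914 F38869) (tt N2719 (iv D11768)) (tt N2890 (iv F57261)) (tt N2888 F57068))
theorem Q2916 : ∀ i, i < 2916 → P i := stepQ 2915 Q2915 (allL N2915 (tt N2915 F38870) (tt N2723 F38871) (tt N3049 D15011) (tt N2894 F57381) (tt N2720 F38872) (tt N2890 (iv F57260)) (tt N2719 (iv D11769)) (tt N2887 F57382))
theorem Q2917 : ∀ i, i < 2917 → P i := stepQ 2916 Q2916 (allL N2916 (tt N2916 F38873) (tt N2916 F38874) (tt N2720 (iv D11770)) (tt N2916 F38875) (tt N3049 (iv F49118)) (tt N2916 F38876) (tt N2831 F57390) (tt N3050 D15013))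
theorem Q2918 : ∀ i, i < 2918 → P i := stepQ 2917 Q2917 (allL N2917 (tt N2917 F38878) (tt N2724 F38879) (tt N3050 (iv F49125)) (tt N2764 F38880) (tt N2887 F57266) (tt N2917 F38881) (tt N2886 F57267) (tt N2720 (iv D11771)))
theorem Q2919 : ∀ i, i < 2919 → P i := stepQ 2918 Q2918 (allL N2918 (tt N2749 F38909) (tt N2726 F38910) (tt N2776 F38911) (tt N3051 D15024) (tt N2725 (iv D11781)) (tt N3052 D15025) (tt N3053 D15026) (tt N2786 F38912))
theorem Q2920 : ∀ i, i < 2920 → P i := stepQ 2919 Q2919 (allL N2919 (tt N2750 F38913) (tt N2727 F38914) (tt N3054 D15027) (tt N2871 F38915) (tt N3053 (iv F49170)) (tt N2796 F38916) (tt N2725 (iv D11782)) (tt N3055 D15028))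
theorem Q2921 : ∀ i, i < 2921 → P i := stepQ 2920 Q2920 (allL N2920 (tt N2729 F38917) (tt N3051 (iv F49160)) (tt N2920 F38918) (tt N2726 (iv D11783)) (tt N2844 F57295) (tt N2863 (iv F57406)) (tt N2862 (iv F57373)) (tt N2788 F38920))
theorem Q2922 : ∀ i, i < 2922 → P i := stepQ 2921 Q2921 (allL N2921 (tt N2730 F38921) (tt N3052 (iv F49164)) (tt N2728 F38922) (tt N2863 (iv F57405)) (tt N2798 F38923) (tt N2726 (iv D11784)) (tt N2861 (iv F57365)) (tt N2789 F38924))
theorem Q2923 : ∀ i, i < 2923 → P i := stepQ 2922 Q2922 (allL N2922 (tt N2731 F38925) (tt N3053 (iv F49169)) (tt N2922 F38926) (tt N2862 (iv F57372)) (tt N2727 F38927) (tt N2861 (iv F57364)) (tt N2726 (iv D11785)) (tt N2869 F57234))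
theorem Q2924 : ∀ i, i < 2924 → P i := stepQ 2923 Q2923 (allL N2923 (tt N2732 F38928) (tt N3055 (iv F49176)) (tt N2923 F38929) (tt N2856 F57007) (tt N2869 (iv F57051)) (tt N2800 F38931) (tt N2791 F38932) (tt N2727 (iv D11786)))
theorem Q2925 : ∀ i, i < 2925 → P i := stepQ 2924 Q2924 (allL N2924 (tt N2795 F38948) (tt N2734 F38949) (tt N2786 F38950) (tt N3056 D15038) (tt N2733 (iv D11791)) (tt N3057 D15039) (tt N3058 D15040) (tt N2776 F38951))
theorem Q2926 : ∀ i, i < 2926 → P i := stepQ 2925 Q2925 (allL N2925 (tt N2796 F38952) (tt N2735 F38953) (tt N3059 D15041) (tt N2860 F38954) (tt N3058 (iv F49226)) (tt N2750 F38955) (tt N2733 (iv D11792)) (tt N3060 D15042))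
theorem Q2927 : ∀ i, i < 2927 → P i := stepQ 2926 Q2926 (allL N2926 (tt N2737 F38956) (tt N3056 (iv F49216)) (tt N2926 F38957) (tt N2734 (iv D11793)) (tt N2861 F38958) (tt N2799 F57452) (tt N2798 F57453) (tt N2778 F38959))
theorem Q2928 : ∀ i, i < 2928 → P i := stepQ 2927 Q2927 (allL N2927 (tt N2738 F38960) (tt N3057 (iv F49220)) (tt N2736 F38961) (tt N2799 (iv F57426)) (tt N2752 F38962) (tt N2734 (iv D11794)) (tt N2797 (iv F57429)) (tt N2779 F38963))
theorem Q2929 : ∀ i, i < 2929 → P i := stepQ 2928 Q2928 (allL N2928 (tt N2739 F38964) (tt N3058 (iv F49225)) (tt N2769 F38965) (tt N2798 (iv F57432)) (tt N2735 F38966) (tt N2797 (iv F57428)) (tt N2734 (iv D11795)) (tt N2806 F57380))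
theorem Q2930 : ∀ i, i < 2930 → P i := stepQ 2929 Q2929 (allL N2929 (tt N2740 F38967) (tt N3060 (iv F49232)) (tt N2770 F38968) (tt N2864 F38969) (tt N2806 F57324) (tt N2754 F38970) (tt N2781 F38971) (tt N2735 (iv D11796)))
theorem Q2931 : ∀ i, i < 2931 → P i := stepQ 2930 Q2930 (allL N2930 (tt N2786 F38987) (tt N2742 F38988) (tt N2795 F38989) (tt N3061 D15052) (tt N2741 (iv D11801)) (tt N3062 D15053) (tt N3063 D15054) (tt N2749 F38990))
theorem Q2932 : ∀ i, i < 2932 → P i := stepQ 2931 Q2931 (allL N2931 (tt N2787 F38991) (tt N2743 F38992) (tt N3064 D15055) (tt N2848 F57004) (tt N3063 (iv F49282)) (tt N2777 F38994) (tt N2741 (iv D11802)) (tt N3065 D15056))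
theorem Q2933 : ∀ i, i < 2933 → P i := stepQ 2932 Q2932 (allL N2932 (tt N2745 F38995) (tt N3061 (iv F49272)) (tt N2757 F38996) (tt N2742 (iv D11803)) (tt N2834 F56996) (tt N2877 (iv F57147)) (tt N2833 F56997) (tt N2751 F38998))
theorem Q2934 : ∀ i, i < 2934 → P i := stepQ 2933 Q2933 (allL N2933 (tt N2746 F38999) (tt N3062 (iv F49276)) (tt N2744 F39000) (tt N2877 (iv F57146)) (tt N2779 F39001) (tt N2742 (iv D11804)) (tt N2882 (iv F57142)) (tt N2752 F39002))
theorem Q2935 : ∀ i, i < 2935 → P i := stepQ 2934 Q2934 (allL N2934 (tt N2747 F39003) (tt N3063 (iv F49281)) (tt N2934 F39004) (tt N2833 F56991) (tt N2743 F39005) (tt N2882 (iv F57141)) (tt N2742 (iv D11805)) (tt N2852 (iv F57152)))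
theorem Q2936 : ∀ i, i < 2936 → P i := stepQ 2935 Q2935 (allL N2935 (tt N2748 F39006) (tt N3065 (iv F49288)) (tt N2935 F39007) (tt N2836 F56990) (tt N2852 (iv F57151)) (tt N2781 F39009) (tt N2754 F39010) (tt N2743 (iv D11806)))
theorem Q2937 : ∀ i, i < 2937 → P i := stepQ 2936 Q2936 (allL N2936 (tt N3051 (iv F49159)) (tt N2751 F39026) (tt N3066 D15066) (tt N2749 (iv D11811)) (tt N3043 (iv F48992)) (tt N2874 (iv F57421)) (tt N2873 (iv F57439)) (tt N3061 (iv F49274)))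
theorem Q2938 : ∀ i, i < 2938 → P i := stepQ 2937 Q2937 (allL N2937 (tt N3052 (iv F49163)) (tt N2752 F39027) (tt N2802 F39028) (tt N2874 (iv F57420)) (tt N3057 (iv F49222)) (tt N2749 (iv D11812)) (tt N2872 (iv F57425)) (tt N3062 (iv F49279)))
theorem Q2939 : ∀ i, i < 2939 → P i := stepQ 2938 Q2938 (allL N2938 (tt N3053 (iv F49168)) (tt N2753 F39029) (tt N3067 D15070) (tt N2873 (iv F57438)) (tt N2750 F39030) (tt N2872 (iv F57424)) (tt N2749 (iv D11813)) (tt N2879 F57376))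
theorem Q2940 : ∀ i, i < 2940 → P i := stepQ 2939 Q2939 (allL N2939 (tt N3054 (iv F49171)) (tt N2774 F39031) (tt N2750 (iv D11814)) (tt N3068 D15072) (tt N3067 (iv F49336)) (tt N3059 (iv F49229)) (tt N2804 F39032) (tt N3069 D15073))
theorem Q2941 : ∀ i, i < 2941 → P i := stepQ 2940 Q2940 (allL N2940 (tt N3055 (iv F49175)) (tt N2754 F39033) (tt N3069 (iv F49343)) (tt N3047 (iv F49008)) (tt N2879 (iv F57374)) (tt N3060 (iv F49234)) (tt N3065 (iv F49291)) (tt N2750 (iv D11815)))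
theorem Q2942 : ∀ i, i < 2942 → P i := stepQ 2941 Q2941 (allL N2941 (tt N2941 F39053) (tt N2757 F39054) (tt N3070 D15084) (tt N2755 (iv D11825)) (tt N2892 F57071) (tt N2900 F57325) (tt N2891 F57333) (tt N2761 F39055))
theorem Q2943 : ∀ i, i < 2943 → P i := stepQ 2942 Q2942 (allL N2942 (tt N2942 F39056) (tt N2758 F39057) (tt N2811 F39058) (tt N2900 F57338) (tt N2942 F39059) (tt N2755 (iv D11826)) (tt N2904 (iv F57442)) (tt N2762 F39060))
theorem Q2944 : ∀ i, i < 2944 → P i := stepQ 2943 Q2943 (allL N2943 (tt N2943 F39061) (tt N2759 F39062) (tt N3071 D15088) (tt N2891 F57264) (tt N2756 F39063) (tt N2904 (iv F57441)) (tt N2755 (iv D11827)) (tt N2893 (iv F57384)))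
theorem Q2945 : ∀ i, i < 2945 → P i := stepQ 2944 Q2944 (allL N2944 (tt N2944 F39064) (tt N2944 F39065) (tt N2756 (iv D11828)) (tt N2944 F57098) (tt N3071 (iv F49383)) (tt N2944 F39066) (tt N2813 F39067) (tt N3072 D15091))
theorem Q2946 : ∀ i, i < 2946 → P i := stepQ 2945 Q2945 (allL N2945 (tt N2945 F39068) (tt N2760 F39069) (tt N3072 (iv F49395)) (tt N2886 F57265) (tt N2893 (iv F57383)) (tt N2945 F39070) (tt N2764 F39071) (tt N2756 (iv D11829)))
theorem Q2947 : ∀ i, i < 2947 → P i := stepQ 2946 Q2946 (allL N2946 (tt N2946 F39100) (tt N3066 (iv F49327)) (tt N2761 (iv D11839)) (tt N2814 F39101) (tt N3048 (iv F49104)) (tt N2899 (iv F57451)) (tt N2902 (iv F57450)) (tt N3070 (iv F49369)))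
theorem Q2948 : ∀ i, i < 2948 → P i := stepQ 2947 Q2947 (allL N2947 (tt N2947 F39142) (tt N2767 F39143) (tt N3073 D15121) (tt N2765 (iv D11854)) (tt N2947 F39144) (tt N2812 (iv F57528)) (tt N2811 F57519) (tt N2947 F39145))
theorem Q2949 : ∀ i, i < 2949 → P i := stepQ 2948 Q2948 (allL N2948 (tt N2948 F39146) (tt N2768 F39147) (tt N2817 F39148) (tt N2812 (iv F57527)) (tt N2772 F39149) (tt N2765 (iv D11855)) (tt N2810 F57520) (tt N2948 F39150))
theorem Q2950 : ∀ i, i < 2950 → P i := stepQ 2949 Q2949 (allL N2949 (tt N2949 F39151) (tt N2769 F39152) (tt N3074 D15125) (tt N2811 (iv F57503)) (tt N2766 F39153) (tt N2810 (iv F57504)) (tt N2765 (iv D11856)) (tt N2815 F57481))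
theorem Q2951 : ∀ i, i < 2951 → P i := stepQ 2950 Q2950 (allL N2950 (tt N2950 F39154) (tt N3059 (iv F49228)) (tt N2766 (iv D11857)) (tt N2884 (iv F57396)) (tt N3074 (iv F49496)) (tt N2774 F39155) (tt N2819 F39156) (tt N3075 D15128))
theorem Q2952 : ∀ i, i < 2952 → P i := stepQ 2951 Q2951 (allL N2951 (tt N2951 F39157) (tt N2770 F39158) (tt N3075 (iv F49507)) (tt N2951 F39159) (tt N2815 (iv F57465)) (tt N2775 F39160) (tt N2951 F39161) (tt N2766 (iv D11858)))
theorem Q2953 : ∀ i, i < 2953 → P i := stepQ 2952 Q2952 (allL N2952 (tt N2952 F39205) (tt N3067 (iv F49335)) (tt N2773 (iv D11871)) (tt N2829 (iv F57516)) (tt N2774 F39206) (tt N2883 (iv F57510)) (tt N2826 F39207) (tt N2828 F57497))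
theorem Q2954 : ∀ i, i < 2954 → P i := stepQ 2953 Q2953 (allL N2953 (tt N2953 F39212) (tt N3068 (iv F49340)) (tt N2953 F39213) (tt N2774 (iv D11873)) (tt N3076 D15147) (tt N2884 (iv F57397)) (tt N2828 F39214) (tt N3077 D15148))
theorem Q2955 : ∀ i, i < 2955 → P i := stepQ 2954 Q2954 (allL N2954 (tt N2954 F39215) (tt N3069 (iv F49342)) (tt N2775 F39216) (tt N3077 (iv F49577)) (tt N2828 (iv F57464)) (tt N3075 (iv F49508)) (tt N3076 (iv F57458)) (tt N2774 (iv D11874)))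
theorem Q2956 : ∀ i, i < 2956 → P i := stepQ 2955 Q2955 (allL N2955 (tt N2801 F39315) (tt N2778 F39316) (tt N3078 D15186) (tt N2776 (iv D11905)) (tt N2865 F39317) (tt N3079 D15187) (tt N3080 D15188) (tt N3056 (iv F49218)))
theorem Q2957 : ∀ i, i < 2957 → P i := stepQ 2956 Q2956 (allL N2956 (tt N2802 F39318) (tt N2779 F39319) (tt N3052 (iv F49165)) (tt N3079 (iv F49702)) (tt N3062 (iv F49278)) (tt N2776 (iv D11906)) (tt N3081 D15189) (tt N3057 (iv F49223)))
theorem Q2958 : ∀ i, i < 2958 → P i := stepQ 2957 Q2957 (allL N2957 (tt N2803 F39320) (tt N2780 F39321) (tt N3082 D15190) (tt N3080 (iv F49705)) (tt N2777 F39322) (tt N3081 (iv F49709)) (tt N2776 (iv D11907)) (tt N3083 D15191))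
theorem Q2959 : ∀ i, i < 2959 → P i := stepQ 2958 Q2958 (allL N2958 (tt N2804 F39323) (tt N2958 F39324) (tt N2777 (iv D11908)) (tt N3084 D15192) (tt N3082 (iv F49712)) (tt N3064 (iv F49285)) (tt N3054 (iv F49174)) (tt N3085 D15193))
theorem Q2960 : ∀ i, i < 2960 → P i := stepQ 2959 Q2959 (allL N2959 (tt N2805 F39325) (tt N2781 F39326) (tt N3085 (iv F49721)) (tt N2868 F39327) (tt N3083 (iv F49715)) (tt N3065 (iv F49290)) (tt N3060 (iv F49235)) (tt N2777 (iv D11909)))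
theorem Q2961 : ∀ i, i < 2961 → P i := stepQ 2960 Q2960 (allL N2960 (tt N2782 F39328) (tt N3079 (iv F49701)) (tt N2960 F39329) (tt N2779 F39330) (tt N2800 F57360) (tt N2778 (iv D11910)) (tt N2809 F57361) (tt N2799 (iv F57427)))
theorem Q2962 : ∀ i, i < 2962 → P i := stepQ 2961 Q2961 (allL N2961 (tt N2783 F39331) (tt N3080 (iv F49704)) (tt N2830 (iv F57257)) (tt N2780 F39332) (tt N2870 F39333) (tt N2809 (iv F57217)) (tt N2778 (iv D11911)) (tt N2808 (iv F57215)))
theorem Q2963 : ∀ i, i < 2963 → P i := stepQ 2962 Q2962 (allL N2962 (tt N2784 F39334) (tt N3081 (iv F49708)) (tt N2962 F39335) (tt N2809 (iv F57216)) (tt N2882 (iv F57140)) (tt N2780 F39336) (tt N2779 (iv D11912)) (tt N2807 (iv F57249)))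
theorem Q2964 : ∀ i, i < 2964 → P i := stepQ 2963 Q2963 (allL N2963 (tt N2785 F39337) (tt N3083 (iv F49714)) (tt N2963 F39338) (tt N2808 (iv F57214)) (tt N2781 F39339) (tt N2807 (iv F57248)) (tt N2806 (iv F57253)) (tt N2780 (iv D11913)))
theorem Q2965 : ∀ i, i < 2965 → P i := stepQ 2964 Q2964 (allL N2964 (tt N3061 (iv F49271)) (tt N2788 F39356) (tt N3086 D15203) (tt N2786 (iv D11919)) (tt N2842 F57301) (tt N3087 D15204) (tt N2841 F57302) (tt N3051 (iv F49162)))
theorem Q2966 : ∀ i, i < 2966 → P i := stepQ 2965 Q2965 (allL N2965 (tt N3062 (iv F49275)) (tt N2789 F39358) (tt N3057 (iv F49221)) (tt N3087 (iv F49755)) (tt N2802 F39359) (tt N2786 (iv D11920)) (tt N3088 D15206) (tt N3052 (iv F49167)))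
theorem Q2967 : ∀ i, i < 2967 → P i := stepQ 2966 Q2966 (allL N2966 (tt N3063 (iv F49280)) (tt N2790 F39360) (tt N3089 D15207) (tt N2841 (iv F57164)) (tt N2787 F39361) (tt N3088 (iv F49761)) (tt N2786 (iv D11921)) (tt N3090 D15208))
theorem Q2968 : ∀ i, i < 2968 → P i := stepQ 2967 Q2967 (allL N2967 (tt N3064 (iv F49283)) (tt N2819 F39362) (tt N2787 (iv D11922)) (tt N2878 (iv F57116)) (tt N3089 (iv F49763)) (tt N2804 F39363) (tt N3059 (iv F49230)) (tt N3091 D15210))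
theorem Q2969 : ∀ i, i < 2969 → P i := stepQ 2968 Q2968 (allL N2968 (tt N3065 (iv F49287)) (tt N2791 F39364) (tt N3091 (iv F49770)) (tt N2854 F57006) (tt N3090 (iv F49765)) (tt N2805 F39366) (tt N3055 (iv F49179)) (tt N2787 (iv D11923)))
theorem Q2970 : ∀ i, i < 2970 → P i := stepQ 2969 Q2969 (allL N2969 (tt N2792 F39367) (tt N3087 (iv F49754)) (tt N2969 F39368) (tt N2789 F39369) (tt N2864 F57306) (tt N2788 (iv D11924)) (tt N2843 F57307) (tt N2863 (iv F57407)))
theorem Q2971 : ∀ i, i < 2971 → P i := stepQ 2970 Q2970 (allL N2970 (tt N2793 F39373) (tt N3088 (iv F49759)) (tt N2822 F39374) (tt N2843 (iv F57165)) (tt N2808 F39375) (tt N2790 F39376) (tt N2789 (iv D11926)) (tt N2870 F57038))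
theorem Q2972 : ∀ i, i < 2972 → P i := stepQ 2971 Q2971 (allL N2971 (tt N2794 F39377) (tt N3090 (iv F49764)) (tt N2823 F39378) (tt N2839 (iv F57166)) (tt N2791 F39379) (tt N2870 (iv F57037)) (tt N2869 (iv F57052)) (tt N2790 (iv D11927)))
theorem Q2973 : ∀ i, i < 2973 → P i := stepQ 2972 Q2972 (allL N2972 (tt N3056 (iv F49215)) (tt N2797 F39393) (tt N3092 D15221) (tt N2795 (iv D11933)) (tt N2872 F39394) (tt N3058 (iv F57473)) (tt N3057 (iv F57423)) (tt N2801 F39395))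
theorem Q2974 : ∀ i, i < 2974 → P i := stepQ 2973 Q2973 (allL N2973 (tt N3057 (iv F49219)) (tt N2798 F39396) (tt N3062 (iv F49277)) (tt N3058 (iv F57472)) (tt N3052 (iv F49166)) (tt N2795 (iv D11934)) (tt N3056 (iv F57496)) (tt N2802 F39397))
theorem Q2975 : ∀ i, i < 2975 → P i := stepQ 2974 Q2974 (allL N2974 (tt N3058 (iv F49224)) (tt N2799 F39398) (tt N3093 D15225) (tt N3057 (iv F57422)) (tt N2796 F39399) (tt N3056 (iv F57495)) (tt N2795 (iv D11935)) (tt N3079 (iv F57456)))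
theorem Q2976 : ∀ i, i < 2976 → P i := stepQ 2975 Q2975 (allL N2975 (tt N3059 (iv F49227)) (tt N2975 F39400) (tt N2796 (iv D11936)) (tt N3094 D15227) (tt N3093 (iv F49816)) (tt N3054 (iv F49173)) (tt N3064 (iv F49286)) (tt N3095 D15228))
theorem Q2977 : ∀ i, i < 2977 → P i := stepQ 2976 Q2976 (allL N2976 (tt N3060 (iv F49231)) (tt N2800 F39401) (tt N3095 (iv F49823)) (tt N2876 F39402) (tt N3079 (iv F57454)) (tt N3055 (iv F49178)) (tt N2805 F39403) (tt N2796 (iv D11937)))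
theorem Q2978 : ∀ i, i < 2978 → P i := stepQ 2977 Q2977 (allL N2977 (tt N3078 (iv F49697)) (tt N2814 F39432) (tt N2801 (iv D11947)) (tt N3066 (iv F49328)) (tt N2878 F39433) (tt N3096 D15239) (tt N3097 D15240) (tt N3092 (iv F49806)))
theorem Q2979 : ∀ i, i < 2979 → P i := stepQ 2978 Q2978 (allL N2978 (tt N3079 (iv F49700)) (tt N2806 F39434) (tt N3096 (iv F49859)) (tt N2802 F39435) (tt N3060 (iv F57435)) (tt N2801 (iv D11948)) (tt N3083 (iv F57252)) (tt N3058 (iv F57474)))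
theorem Q2980 : ∀ i, i < 2980 → P i := stepQ 2979 Q2979 (allL N2979 (tt N3080 (iv F49703)) (tt N2807 F39436) (tt N3098 D15243) (tt N2803 F39437) (tt N2880 F39438) (tt N3083 (iv F57251)) (tt N2801 (iv D11949)) (tt N3081 (iv F57247)))
theorem Q2981 : ∀ i, i < 2981 → P i := stepQ 2980 Q2980 (allL N2980 (tt N3081 (iv F49707)) (tt N2808 F39439) (tt N3099 D15245) (tt N3083 (iv F57250)) (tt N3088 (iv F49760)) (tt N2803 F39440) (tt N2802 (iv D11950)) (tt N3080 (iv F57359)))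
theorem Q2982 : ∀ i, i < 2982 → P i := stepQ 2981 Q2981 (allL N2981 (tt N3082 (iv F49710)) (tt N2826 F39441) (tt N2803 (iv D11951)) (tt N3100 D15247) (tt N2804 F39442) (tt N3099 (iv F49873)) (tt N3067 (iv F49337)) (tt N3101 D15248))
theorem Q2983 : ∀ i, i < 2983 → P i := stepQ 2982 Q2982 (allL N2982 (tt N3083 (iv F49713)) (tt N2809 F39443) (tt N3101 (iv F49878)) (tt N3081 (iv F57245)) (tt N2805 F39444) (tt N3080 (iv F57358)) (tt N3079 (iv F57455)) (tt N2803 (iv D11952)))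
theorem Q2984 : ∀ i, i < 2984 → P i := stepQ 2983 Q2983 (allL N2983 (tt N3084 (iv F49716)) (tt N2828 F39445) (tt N2879 F57048) (tt N2804 (iv D11953)) (tt N3069 (iv F57367)) (tt N2878 (iv F57117)) (tt N3068 (iv F49341)) (tt N3067 (iv F57470)))
theorem Q2985 : ∀ i, i < 2985 → P i := stepQ 2984 Q2984 (allL N2984 (tt N3085 (iv F49719)) (tt N2829 F39447) (tt N2805 F39448) (tt N3067 (iv F57468)) (tt N3101 (iv F49879)) (tt N3091 (iv F49771)) (tt N3100 (iv F57538)) (tt N2804 (iv D11954)))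
theorem Q2986 : ∀ i, i < 2986 → P i := stepQ 2985 Q2985 (allL N2985 (tt N2985 F39469) (tt N3092 (iv F49804)) (tt N2810 (iv D11961)) (tt N3070 (iv F49368)) (tt N2883 F39470) (tt N3074 (iv F57501)) (tt N3102 D15256) (tt N2814 F39471))
theorem Q2987 : ∀ i, i < 2987 → P i := stepQ 2986 Q2986 (allL N2986 (tt N2986 F39486) (tt N2986 F39487) (tt N2812 (iv D11965)) (tt N3103 D15261) (tt N2813 F39488) (tt N3073 (iv F57526)) (tt N3071 (iv F49384)) (tt N2986 F39489))
theorem Q2988 : ∀ i, i < 2988 → P i := stepQ 2987 Q2987 (allL N2987 (tt N2987 F39519) (tt N3096 (iv F49858)) (tt N2815 F39520) (tt N2899 F57494) (tt N3075 (iv F57457)) (tt N2814 (iv D11973)) (tt N3104 D15270) (tt N3074 (iv F57502)))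
theorem Q2989 : ∀ i, i < 2989 → P i := stepQ 2988 Q2988 (allL N2988 (tt N2988 F39521) (tt N3097 (iv F49860)) (tt N2988 F39522) (tt N2902 F57493) (tt N2884 F39523) (tt N3104 (iv F49955)) (tt N2814 (iv D11974)) (tt N2901 (iv F57514)))
theorem Q2990 : ∀ i, i < 2990 → P i := stepQ 2989 Q2989 (allL N2989 (tt N2989 F39529) (tt N2989 F39530) (tt N2816 (iv D11976)) (tt N3073 (iv F49480)) (tt N2831 F39531) (tt N3103 (iv F57567)) (tt N3049 (iv F57475)) (tt N2989 F39532))
theorem Q2991 : ∀ i, i < 2991 → P i := stepQ 2990 Q2990 (allL N2990 (tt N2990 F39533) (tt N2821 F39534) (tt N3103 (iv F57565)) (tt N2817 F39535) (tt N2990 F39536) (tt N2816 (iv D11977)) (tt N2847 F57391) (tt N2990 F39537))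
theorem Q2992 : ∀ i, i < 2992 → P i := stepQ 2991 Q2991 (allL N2991 (tt N2991 F39542) (tt N2822 F39543) (tt N3102 (iv F57532)) (tt N2847 (iv F57386)) (tt N2825 F39544) (tt N2818 F39545) (tt N2817 (iv D11979)) (tt N3105 D15278))
theorem Q2993 : ∀ i, i < 2993 → P i := stepQ 2992 Q2992 (allL N2992 (tt N2992 F39546) (tt N3089 (iv F49762)) (tt N2818 (iv D11980)) (tt N3048 (iv F57402)) (tt N2819 F39547) (tt N3102 (iv F57534)) (tt N3074 (iv F49497)) (tt N3106 D15280))
theorem Q2994 : ∀ i, i < 2994 → P i := stepQ 2993 Q2993 (allL N2993 (tt N2993 F39548) (tt N2823 F39549) (tt N3106 (iv F49989)) (tt N2845 (iv F57385)) (tt N2820 F39550) (tt N3105 (iv F49985)) (tt N2993 F39551) (tt N2818 (iv D11981)))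
theorem Q2995 : ∀ i, i < 2995 → P i := stepQ 2994 Q2994 (allL N2994 (tt N2994 F39555) (tt N3091 (iv F49769)) (tt N2820 F39556) (tt N2883 (iv F57398)) (tt N3106 (iv F49990)) (tt N2829 F39557) (tt N3107 D15283) (tt N2819 (iv D11983)))
theorem Q2996 : ∀ i, i < 2996 → P i := stepQ 2995 Q2995 (allL N2995 (tt N2824 F39569) (tt N3105 (iv F49983)) (tt N2870 F57213) (tt N2846 (iv F57357)) (tt N2830 F39570) (tt N2823 F39571) (tt N2995 F39572) (tt N2822 (iv D11987)))
theorem Q2997 : ∀ i, i < 2997 → P i := stepQ 2996 Q2996 (allL N2996 (tt N2996 F39586) (tt N3099 (iv F49872)) (tt N2825 (iv D11992)) (tt N3107 (iv F57530)) (tt N3102 (iv F57533)) (tt N2826 F39587) (tt N2883 F57523) (tt N3108 D15294))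
theorem Q2998 : ∀ i, i < 2998 → P i := stepQ 2997 Q2997 (allL N2997 (tt N2997 F39588) (tt N2830 F39589) (tt N3108 (iv F50034)) (tt N2997 F39590) (tt N3105 (iv F49984)) (tt N2827 F39591) (tt N2997 F39592) (tt N2825 (iv D11993)))
theorem Q2999 : ∀ i, i < 2999 → P i := stepQ 2998 Q2998 (allL N2998 (tt N2998 F39593) (tt N3100 (iv F49876)) (tt N2998 F39594) (tt N2826 (iv D11994)) (tt N3077 (iv F57463)) (tt N3107 (iv F57531)) (tt N2829 F57525) (tt N3076 (iv F57541)))
theorem Q3000 : ∀ i, i < 3000 → P i := stepQ 2999 Q2999 (allL N2999 (tt N2999 F39595) (tt N3101 (iv F49877)) (tt N2827 F39596) (tt N3076 (iv F57540)) (tt N2829 F39597) (tt N3108 (iv F50035)) (tt N3077 (iv F57539)) (tt N2826 (iv D11995)))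
theorem Q3001 : ∀ i, i < 3001 → P i := stepQ 3000 Q3000 (allL N3000 (tt N2841 F39668) (tt N2833 F39669) (tt N2858 (iv F57119)) (tt N3063 (iv F57138)) (tt N2832 (iv D12015)) (tt N2881 F56984) (tt N3061 (iv F57144)) (tt N2850 F39671))
theorem Q3002 : ∀ i, i < 3002 → P i := stepQ 3001 Q3001 (allL N3001 (tt N2842 F39672) (tt N2834 F39673) (tt N3109 D15323) (tt N2849 F39674) (tt N3061 (iv F57143)) (tt N2855 F39675) (tt N2832 (iv D12016)) (tt N3043 (iv F57188)))
theorem Q3003 : ∀ i, i < 3003 → P i := stepQ 3002 Q3002 (allL N3002 (tt N2854 F39707) (tt N2836 F39708) (tt N2859 F39709) (tt N3065 (iv F57136)) (tt N2835 (iv D12025)) (tt N2868 F57005) (tt N3047 (iv F57170)) (tt N2848 F39710))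
theorem Q3004 : ∀ i, i < 3004 → P i := stepQ 3003 Q3003 (allL N3003 (tt N2855 F39711) (tt N2837 F39712) (tt N3110 D15337) (tt N2851 F39713) (tt N3047 (iv F57169)) (tt N2842 F39714) (tt N2835 (iv D12026)) (tt N3045 (iv F57185)))
theorem Q3005 : ∀ i, i < 3005 → P i := stepQ 3004 Q3004 (allL N3004 (tt N2850 F39746) (tt N2839 F39747) (tt N2849 (iv F56881)) (tt N3090 (iv F57175)) (tt N2838 (iv D12035)) (tt N2867 (iv F56864)) (tt N2866 (iv F56876)) (tt N2841 F39749))
theorem Q3006 : ∀ i, i < 3006 → P i := stepQ 3005 Q3005 (allL N3005 (tt N2851 F39750) (tt N2840 F39751) (tt N2867 (iv F56874)) (tt N2855 F39752) (tt N2866 (iv F56875)) (tt N2849 F39753) (tt N2838 (iv D12036)) (tt N3044 (iv F56880)))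
theorem Q3007 : ∀ i, i < 3007 → P i := stepQ 3006 Q3006 (allL N3006 (tt N2881 F57034) (tt N2843 F39787) (tt N3044 (iv F48996)) (tt N3088 (iv F57173)) (tt N2868 F57035) (tt N2841 (iv D12046)) (tt N3087 (iv F57412)) (tt N2867 F57036))
theorem Q3008 : ∀ i, i < 3008 → P i := stepQ 3007 Q3007 (allL N3007 (tt N3109 (iv F50138)) (tt N3007 F39790) (tt N2842 (iv D12048)) (tt N3111 D15368) (tt N3086 (iv F57409)) (tt N3110 (iv F50196)) (tt N3046 (iv F49005)) (tt N3112 D15369))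
theorem Q3009 : ∀ i, i < 3009 → P i := stepQ 3008 Q3008 (allL N3008 (tt N3043 F57303) (tt N2844 F39791) (tt N3112 (iv F50310)) (tt N2858 F39792) (tt N3051 (iv F57368)) (tt N3045 (iv F57184)) (tt N3044 (iv F56879)) (tt N2842 (iv D12049)))
theorem Q3010 : ∀ i, i < 3010 → P i := stepQ 3009 Q3009 (allL N3009 (tt N3009 F39859) (tt N2846 F39860) (tt N2888 (iv F56906)) (tt N3105 (iv F57356)) (tt N3009 F39861) (tt N2845 (iv D12070)) (tt N3009 F56187) (tt N2847 F39862))
theorem Q3011 : ∀ i, i < 3011 → P i := stepQ 3010 Q3010 (allL N3010 (tt N3090 (iv F57174)) (tt N2852 F39992) (tt N3111 (iv F57161)) (tt N2850 (iv D12114)) (tt N3065 (iv F57137)) (tt N2880 F56982) (tt N2879 F56983) (tt N3063 (iv F57139)))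
theorem Q3012 : ∀ i, i < 3012 → P i := stepQ 3011 Q3011 (allL N3011 (tt N3044 F57010) (tt N2853 F40001) (tt N2881 (iv F56933)) (tt N3045 (iv F57183)) (tt N2873 F57011) (tt N2858 F40002) (tt N3043 (iv F57187)) (tt N2851 (iv D12118)))
theorem Q3013 : ∀ i, i < 3013 → P i := stepQ 3012 Q3012 (allL N3012 (tt N3047 (iv F57168)) (tt N2856 F40030) (tt N3113 D15475) (tt N3055 (iv F57178)) (tt N2855 F40031) (tt N2876 (iv F57112)) (tt N2854 (iv D12130)) (tt N2871 (iv F57121)))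
theorem Q3014 : ∀ i, i < 3014 → P i := stepQ 3013 Q3013 (allL N3013 (tt N3110 (iv F50194)) (tt N2896 F40032) (tt N2855 (iv D12131)) (tt N3114 D15477) (tt N3113 (iv F50635)) (tt N3109 (iv F50140)) (tt N2875 F40033) (tt N3115 D15478))
theorem Q3015 : ∀ i, i < 3015 → P i := stepQ 3014 Q3014 (allL N3014 (tt N3045 F57304) (tt N2857 F40034) (tt N3115 (iv F50643)) (tt N3044 (iv F56878)) (tt N2871 F57305) (tt N3043 (iv F57186)) (tt N2858 F40035) (tt N2855 (iv D12132)))
theorem Q3016 : ∀ i, i < 3016 → P i := stepQ 3015 Q3015 (allL N3015 (tt N2872 F40467) (tt N2861 F40468) (tt N3116 D15661) (tt N2859 (iv D12276)) (tt N3056 (iv F49217)) (tt N3053 (iv F57370)) (tt N3052 (iv F57419)) (tt N2865 F40469))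
theorem Q3017 : ∀ i, i < 3017 → P i := stepQ 3016 Q3016 (allL N3016 (tt N2873 F40470) (tt N2862 F40471) (tt N2868 F57047) (tt N3053 (iv F57369)) (tt N3044 (iv F48997)) (tt N2859 (iv D12277)) (tt N3051 (iv F57233)) (tt N2866 F40472))
theorem Q3018 : ∀ i, i < 3018 → P i := stepQ 3017 Q3017 (allL N3017 (tt N2874 F40473) (tt N2863 F40474) (tt N3117 D15665) (tt N3052 (iv F57418)) (tt N2860 F40475) (tt N3051 (iv F57232)) (tt N2859 (iv D12278)) (tt N3087 (iv F57413)))
theorem Q3019 : ∀ i, i < 3019 → P i := stepQ 3018 Q3018 (allL N3018 (tt N2875 F40476) (tt N3018 F40477) (tt N2860 (iv D12279)) (tt N3118 D15667) (tt N3117 (iv F51199)) (tt N3046 (iv F49004)) (tt N3110 (iv F50197)) (tt N3119 D15668))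
theorem Q3020 : ∀ i, i < 3020 → P i := stepQ 3019 Q3019 (allL N3019 (tt N2876 F40478) (tt N2864 F40479) (tt N3119 (iv F51208)) (tt N3060 (iv F49233)) (tt N3087 (iv F57411)) (tt N3047 (iv F49009)) (tt N2868 F40480) (tt N2860 (iv D12280)))
theorem Q3021 : ∀ i, i < 3021 → P i := stepQ 3020 Q3020 (allL N3020 (tt N2878 F40509) (tt N3020 F40510) (tt N2865 (iv D12290)) (tt N3064 (iv F57167)) (tt N3078 (iv F49699)) (tt N3084 (iv F57226)) (tt N3094 (iv F57544)) (tt N3116 (iv F51186)))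
theorem Q3022 : ∀ i, i < 3022 → P i := stepQ 3021 Q3021 (allL N3021 (tt N2879 F40511) (tt N2869 F40512) (tt N3084 (iv F57225)) (tt N2866 F40513) (tt N3055 (iv F57231)) (tt N2865 (iv D12291)) (tt N3090 (iv F57177)) (tt N3053 (iv F57371)))
theorem Q3023 : ∀ i, i < 3023 → P i := stepQ 3022 Q3022 (allL N3022 (tt N2880 F40514) (tt N2870 F40515) (tt N3114 (iv F57546)) (tt N2867 F40516) (tt N3080 (iv F49706)) (tt N3090 (iv F57176)) (tt N2865 (iv D12292)) (tt N3088 (iv F57209)))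
theorem Q3024 : ∀ i, i < 3024 → P i := stepQ 3023 Q3023 (allL N3023 (tt N3046 (iv F49002)) (tt N2898 F40563) (tt N2871 (iv D12310)) (tt N3120 D15707) (tt N3115 (iv F57414)) (tt N2875 F40564) (tt N3109 (iv F50141)) (tt N3113 (iv F57180)))
theorem Q3025 : ∀ i, i < 3025 → P i := stepQ 3024 Q3024 (allL N3024 (tt N3116 (iv F51184)) (tt N2883 F40638) (tt N2872 (iv D12339)) (tt N3091 (iv F57172)) (tt N3092 (iv F49805)) (tt N3067 (iv F57469)) (tt N3099 (iv F57529)) (tt N2878 F40639))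
theorem Q3026 : ∀ i, i < 3026 → P i := stepQ 3025 Q3025 (allL N3025 (tt N3117 (iv F51197)) (tt N2899 F40647) (tt N2874 (iv D12343)) (tt N3096 (iv F57515)) (tt N2875 F40648) (tt N3066 (iv F57436)) (tt N3113 (iv F50636)) (tt N3121 D15753))
theorem Q3027 : ∀ i, i < 3027 → P i := stepQ 3026 Q3026 (allL N3026 (tt N3087 (iv F57410)) (tt N2877 F40649) (tt N3121 (iv F51427)) (tt N3062 (iv F57255)) (tt N2876 F40650) (tt N3061 (iv F57135)) (tt N2881 F40651) (tt N2874 (iv D12344)))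
theorem Q3028 : ∀ i, i < 3028 → P i := stepQ 3027 Q3027 (allL N3027 (tt N3118 (iv F51204)) (tt N2901 F40652) (tt N3094 (iv F49821)) (tt N2875 (iv D12345)) (tt N3122 D15754) (tt N3120 (iv F51316)) (tt N3114 (iv F50641)) (tt N3097 (iv F57513)))
theorem Q3029 : ∀ i, i < 3029 → P i := stepQ 3028 Q3028 (allL N3028 (tt N3119 (iv F51206)) (tt N2902 F40653) (tt N2876 F40654) (tt N3097 (iv F57512)) (tt N3121 (iv F51428)) (tt N3113 (iv F57179)) (tt N3066 (iv F57437)) (tt N2875 (iv D12346)))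
theorem Q3030 : ∀ i, i < 3030 → P i := stepQ 3029 Q3029 (allL N3029 (tt N3094 (iv F57543)) (tt N2884 F40685) (tt N3118 (iv F57563)) (tt N3059 (iv F57171)) (tt N3097 (iv F49861)) (tt N3068 (iv F57227)) (tt N2878 (iv D12358)) (tt N3122 (iv F57537)))
theorem Q3031 : ∀ i, i < 3031 → P i := stepQ 3030 Q3030 (allL N3030 (tt N3114 (iv F57545)) (tt N3030 F40690) (tt N2880 (iv D12361)) (tt N3110 (iv F57182)) (tt N3098 (iv F49868)) (tt N3111 (iv F57133)) (tt N3118 (iv F57564)) (tt N3123 D15776))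
theorem Q3032 : ∀ i, i < 3032 → P i := stepQ 3031 Q3031 (allL N3031 (tt N3088 (iv F57208)) (tt N2882 F40691) (tt N3123 (iv F51483)) (tt N2881 F40692) (tt N3081 (iv F57246)) (tt N3063 (iv F57134)) (tt N3062 (iv F57256)) (tt N2880 (iv D12362)))
theorem Q3033 : ∀ i, i < 3033 → P i := stepQ 3032 Q3032 (allL N3032 (tt N3032 F40764) (tt N3122 (iv F57536)) (tt N3032 F40765) (tt N3075 (iv F57403)) (tt N2901 F57524) (tt N3077 (iv F57460)) (tt N3108 (iv F57535)) (tt N2884 (iv D12389)))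
theorem Q3034 : ∀ i, i < 3034 → P i := stepQ 3033 Q3033 (allL N3033 (tt N3033 F44074) (tt N3033 F44075) (tt N2887 (iv D13457)) (tt N2903 F57337) (tt N3050 F57578) (tt N2889 F44076) (tt N3033 F44077) (tt N3049 (iv F57570)))
theorem Q3035 : ∀ i, i < 3035 → P i := stepQ 3034 Q3034 (allL N3034 (tt N3034 F44178) (tt N3034 F44179) (tt N2893 F57332) (tt N2889 (iv D13488)) (tt N3072 F57573) (tt N2903 F57330) (tt N3034 F44181) (tt N3071 (iv F57572)))
theorem Q3036 : ∀ i, i < 3036 → P i := stepQ 3035 Q3035 (allL N3035 (tt N3035 F44182) (tt N3035 F44183) (tt N2890 F44184) (tt N3071 F57571) (tt N3035 F57444) (tt N3049 F57569) (tt N3103 F57568) (tt N2889 (iv D13489)))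
theorem Q3037 : ∀ i, i < 3037 → P i := stepQ 3036 Q3036 (allL N3036 (tt N3036 F44405) (tt N3109 (iv F50139)) (tt N2892 (iv D13558)) (tt N3106 F57551) (tt N3070 (iv F57556)) (tt N2896 F44406) (tt N2898 F44407) (tt N3048 (iv F57557)))
theorem Q3038 : ∀ i, i < 3038 → P i := stepQ 3037 Q3037 (allL N3037 (tt N3037 F44510) (tt N3113 (iv F50634)) (tt N2895 (iv D13591)) (tt N3104 (iv F57554)) (tt N2896 F44511) (tt N2902 F57335) (tt N2899 F44512) (tt N2898 F57336))
theorem Q3039 : ∀ i, i < 3039 → P i := stepQ 3038 Q3038 (allL N3038 (tt N3038 F44517) (tt N3114 (iv F50640)) (tt N3105 (iv F57547)) (tt N2896 (iv D13593)) (tt N3108 F57542) (tt N3106 F57552) (tt N2901 F44518) (tt N3102 (iv F57555)))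
theorem Q3040 : ∀ i, i < 3040 → P i := stepQ 3039 Q3039 (allL N3039 (tt N3039 F44519) (tt N3115 (iv F50642)) (tt N2897 F44520) (tt N3102 (iv F57549)) (tt N2898 F57488) (tt N3048 F57558) (tt N3070 (iv F57562)) (tt N2896 (iv D13594)))
theorem Q3041 : ∀ i, i < 3041 → P i := stepQ 3040 Q3040 (allL N3040 (tt N3040 F45018) (tt N3120 (iv F51315)) (tt N3040 F45019) (tt N2898 (iv D13765)) (tt N3107 F57548) (tt N2901 F45020) (tt N3106 (iv F57550)) (tt N3104 F57553))
theorem Q3042 : ∀ i, i < 3042 → P i := stepQ 3041 Q3041 (allL N3041 (tt N3041 F45176) (tt N3121 (iv F51426)) (tt N2900 F45177) (tt N3074 (iv F57560)) (tt N2902 F45178) (tt N3070 F57561) (tt N3048 F57559) (tt N2899 (iv D13811)))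
theorem Q3043 : ∀ i, i < 3043 → P i := stepQ 3042 Q3042 (allL N3042 (tt N3042 F45250) (tt N3042 F45251) (tt N2904 F45252) (tt N3049 (iv F57575)) (tt N3042 F45253) (tt N3071 F57574) (tt N3073 (iv F57576)) (tt N2903 (iv D13834)))
theorem Q3044 : ∀ i, i < 3044 → P i := stepQ 3043 Q3043 (allL N3043 (tt N3008 (iv F57303)) (tt N2907 F48991) (tt N3124 D17003) (tt N2905 (iv D14979)) (tt N2936 F48992) (tt N3014 F57186) (tt N3011 F57187) (tt N3001 F57188))
theorem Q3045 : ∀ i, i < 3045 → P i := stepQ 3044 Q3044 (allL N3044 (tt N3011 (iv F57010)) (tt N2908 F48995) (tt N3006 F48996) (tt N3014 F56878) (tt N3016 F48997) (tt N2905 (iv D14980)) (tt N3008 F56879) (tt N3005 F56880))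
theorem Q3046 : ∀ i, i < 3046 → P i := stepQ 3045 Q3045 (allL N3045 (tt N3014 (iv F57304)) (tt N2909 F49000) (tt N3125 D17004) (tt N3011 F57183) (tt N2906 F49001) (tt N3008 F57184) (tt N2905 (iv D14981)) (tt N3003 F57185))
theorem Q3047 : ∀ i, i < 3047 → P i := stepQ 3046 Q3046 (allL N3046 (tt N3023 F49002) (tt N3046 F49003) (tt N2906 (iv D14982)) (tt N3126 D17005) (tt N3125 (iv F57589)) (tt N3018 F49004) (tt N3007 F49005) (tt N3127 D17006))
theorem Q3048 : ∀ i, i < 3048 → P i := stepQ 3047 Q3047 (allL N3047 (tt N3012 F57168) (tt N2910 F49007) (tt N3127 (iv F57600)) (tt N2940 F49008) (tt N3003 F57169) (tt N3019 F49009) (tt N3002 F57170) (tt N2906 (iv D14983)))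
theorem Q3049 : ∀ i, i < 3049 → P i := stepQ 3048 Q3048 (allL N3048 (tt N3048 F49102) (tt N3124 (iv F57580)) (tt N2913 (iv D15007)) (tt N2992 F57402) (tt N2946 F49104) (tt N3039 (iv F57558)) (tt N3041 (iv F57559)) (tt N3036 F57557))
theorem Q3050 : ∀ i, i < 3050 → P i := stepQ 3049 Q3049 (allL N3049 (tt N3049 F49116) (tt N3049 F49117) (tt N2915 (iv D15011)) (tt N3042 F57575) (tt N2916 F49118) (tt N3035 (iv F57569)) (tt N2989 F57475) (tt N3033 F57570))
theorem Q3051 : ∀ i, i < 3051 → P i := stepQ 3050 Q3050 (allL N3050 (tt N3050 F49123) (tt N3050 F49124) (tt N2917 F49125) (tt N3050 F49126) (tt N3033 (iv F57578)) (tt N3050 F49127) (tt N3050 F57476) (tt N2916 (iv D15013)))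
theorem Q3052 : ∀ i, i < 3052 → P i := stepQ 3051 Q3051 (allL N3051 (tt N2936 F49159) (tt N2920 F49160) (tt N3128 D17007) (tt N2918 (iv D15024)) (tt N3008 F57368) (tt N3017 F57232) (tt N3016 F57233) (tt N2964 F49162))
theorem Q3053 : ∀ i, i < 3053 → P i := stepQ 3052 Q3052 (allL N3052 (tt N2937 F49163) (tt N2921 F49164) (tt N2956 F49165) (tt N3017 F57418) (tt N2973 F49166) (tt N2918 (iv D15025)) (tt N3015 F57419) (tt N2965 F49167))
theorem Q3054 : ∀ i, i < 3054 → P i := stepQ 3053 Q3053 (allL N3053 (tt N2938 F49168) (tt N2922 F49169) (tt N3129 D17008) (tt N3016 F57369) (tt N2919 F49170) (tt N3015 F57370) (tt N2918 (iv D15026)) (tt N3021 F57371))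
theorem Q3055 : ∀ i, i < 3055 → P i := stepQ 3054 Q3054 (allL N3054 (tt N2939 F49171) (tt N3054 F49172) (tt N2919 (iv D15027)) (tt N3130 D17009) (tt N3129 (iv F57614)) (tt N2975 F49173) (tt N2958 F49174) (tt N3131 D17010))
theorem Q3056 : ∀ i, i < 3056 → P i := stepQ 3055 Q3055 (allL N3055 (tt N2940 F49175) (tt N2923 F49176) (tt N3131 (iv F57625)) (tt N3012 F57178) (tt N3021 F57231) (tt N2976 F49178) (tt N2968 F49179) (tt N2919 (iv D15028)))
theorem Q3057 : ∀ i, i < 3057 → P i := stepQ 3056 Q3056 (allL N3056 (tt N2972 F49215) (tt N2926 F49216) (tt N3132 D17011) (tt N2924 (iv D15038)) (tt N3015 F49217) (tt N2974 F57495) (tt N2973 F57496) (tt N2955 F49218))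
theorem Q3058 : ∀ i, i < 3058 → P i := stepQ 3057 Q3057 (allL N3057 (tt N2973 F49219) (tt N2927 F49220) (tt N2965 F49221) (tt N2974 F57422) (tt N2937 F49222) (tt N2924 (iv D15039)) (tt N2972 F57423) (tt N2956 F49223))
theorem Q3059 : ∀ i, i < 3059 → P i := stepQ 3058 Q3058 (allL N3058 (tt N2974 F49224) (tt N2928 F49225) (tt N3133 D17012) (tt N2973 F57472) (tt N2925 F49226) (tt N2972 F57473) (tt N2924 (iv D15040)) (tt N2978 F57474))
theorem Q3060 : ∀ i, i < 3060 → P i := stepQ 3059 Q3059 (allL N3059 (tt N2975 F49227) (tt N2950 F49228) (tt N2925 (iv D15041)) (tt N3029 F57171) (tt N3133 (iv F57638)) (tt N2939 F49229) (tt N2967 F49230) (tt N3134 D17013))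
theorem Q3061 : ∀ i, i < 3061 → P i := stepQ 3060 Q3060 (allL N3060 (tt N2976 F49231) (tt N2929 F49232) (tt N3134 (iv F57644)) (tt N3019 F49233) (tt N2978 F57435) (tt N2940 F49234) (tt N2959 F49235) (tt N2925 (iv D15042)))
theorem Q3062 : ∀ i, i < 3062 → P i := stepQ 3061 Q3061 (allL N3061 (tt N2964 F49271) (tt N2932 F49272) (tt N3135 D17014) (tt N2930 (iv D15052)) (tt N3001 F57143) (tt N3026 F57135) (tt N3000 F57144) (tt N2936 F49274))
theorem Q3063 : ∀ i, i < 3063 → P i := stepQ 3062 Q3062 (allL N3062 (tt N2965 F49275) (tt N2933 F49276) (tt N2973 F49277) (tt N3026 F57255) (tt N2956 F49278) (tt N2930 (iv D15053)) (tt N3031 F57256) (tt N2937 F49279))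
theorem Q3064 : ∀ i, i < 3064 → P i := stepQ 3063 Q3063 (allL N3063 (tt N2966 F49280) (tt N2934 F49281) (tt N3136 D17015) (tt N3000 F57138) (tt N2931 F49282) (tt N3031 F57134) (tt N2930 (iv D15054)) (tt N3010 F57139))
theorem Q3065 : ∀ i, i < 3065 → P i := stepQ 3064 Q3064 (allL N3064 (tt N2967 F49283) (tt N3064 F49284) (tt N2931 (iv D15055)) (tt N3020 F57167) (tt N3136 (iv F57658)) (tt N2958 F49285) (tt N2975 F49286) (tt N3137 D17016))
theorem Q3066 : ∀ i, i < 3066 → P i := stepQ 3065 Q3065 (allL N3065 (tt N2968 F49287) (tt N2935 F49288) (tt N3137 (iv F57664)) (tt N3002 F57136) (tt N3010 F57137) (tt N2959 F49290) (tt N2940 F49291) (tt N2931 (iv D15056)))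
theorem Q3067 : ∀ i, i < 3067 → P i := stepQ 3066 Q3066 (allL N3066 (tt N3128 (iv F57604)) (tt N2946 F49327) (tt N2936 (iv D15066)) (tt N2977 F49328) (tt N3124 (iv F57582)) (tt N3025 F57436) (tt N3028 F57437) (tt N3135 (iv F57654)))
theorem Q3068 : ∀ i, i < 3068 → P i := stepQ 3067 Q3067 (allL N3067 (tt N3129 (iv F57611)) (tt N2952 F49335) (tt N2938 (iv D15070)) (tt N2984 F57468) (tt N2939 F49336) (tt N3024 F57469) (tt N2981 F49337) (tt N2983 F57470))
theorem Q3069 : ∀ i, i < 3069 → P i := stepQ 3068 Q3068 (allL N3068 (tt N3130 (iv F57618)) (tt N2953 F49340) (tt N3126 (iv F57595)) (tt N2939 (iv D15072)) (tt N3138 D17017) (tt N3029 F57227) (tt N2983 F49341) (tt N3139 D17018))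
theorem Q3070 : ∀ i, i < 3070 → P i := stepQ 3069 Q3069 (allL N3069 (tt N3131 (iv F57623)) (tt N2954 F49342) (tt N2940 F49343) (tt N3139 (iv F57673)) (tt N2983 F57367) (tt N3134 (iv F57647)) (tt N3138 (iv F57670)) (tt N2939 (iv D15073)))
theorem Q3071 : ∀ i, i < 3071 → P i := stepQ 3070 Q3070 (allL N3070 (tt N3070 F49367) (tt N3135 (iv F57649)) (tt N2941 (iv D15084)) (tt N2985 F49368) (tt N3036 F57556) (tt N3041 (iv F57561)) (tt N3039 F57562) (tt N2946 F49369))
theorem Q3072 : ∀ i, i < 3072 → P i := stepQ 3071 Q3071 (allL N3071 (tt N3071 F49381) (tt N3071 F49382) (tt N2943 (iv D15088)) (tt N3035 (iv F57571)) (tt N2944 F49383) (tt N3042 (iv F57574)) (tt N2986 F49384) (tt N3034 F57572))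
theorem Q3073 : ∀ i, i < 3073 → P i := stepQ 3072 Q3072 (allL N3072 (tt N3072 F49393) (tt N3072 F49394) (tt N2945 F49395) (tt N3072 F57577) (tt N3034 (iv F57573)) (tt N3072 F49396) (tt N3072 F49397) (tt N2944 (iv D15091)))
theorem Q3074 : ∀ i, i < 3074 → P i := stepQ 3073 Q3073 (allL N3073 (tt N3073 F49478) (tt N3073 F49479) (tt N2947 (iv D15121)) (tt N2989 F49480) (tt N3073 F49481) (tt N2986 F57526) (tt N3042 F57576) (tt N3073 F49482))
theorem Q3075 : ∀ i, i < 3075 → P i := stepQ 3074 Q3074 (allL N3074 (tt N3074 F49495) (tt N3133 (iv F57636)) (tt N2949 (iv D15125)) (tt N3041 F57560) (tt N2950 F49496) (tt N2985 F57501) (tt N2992 F49497) (tt N2987 F57502))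
theorem Q3076 : ∀ i, i < 3076 → P i := stepQ 3075 Q3075 (allL N3075 (tt N3075 F49506) (tt N3134 (iv F57643)) (tt N2951 F49507) (tt N3032 F57403) (tt N2987 F57457) (tt N2954 F49508) (tt N3140 D17019) (tt N2950 (iv D15128)))
theorem Q3077 : ∀ i, i < 3077 → P i := stepQ 3076 Q3076 (allL N3076 (tt N3076 F49572) (tt N3138 (iv F57668)) (tt N3076 F49573) (tt N2999 F57540) (tt N2953 (iv D15147)) (tt N3140 (iv F57681)) (tt N2954 F57458) (tt N2998 F57541))
theorem Q3078 : ∀ i, i < 3078 → P i := stepQ 3077 Q3077 (allL N3077 (tt N3077 F49575) (tt N3139 (iv F57672)) (tt N3077 F49576) (tt N2954 F49577) (tt N2998 F57463) (tt N3032 F57460) (tt N2999 F57539) (tt N2953 (iv D15148)))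
theorem Q3079 : ∀ i, i < 3079 → P i := stepQ 3078 Q3078 (allL N3078 (tt N2977 F49697) (tt N3078 F49698) (tt N2955 (iv D15186)) (tt N3128 (iv F57606)) (tt N3020 F49699) (tt N3141 D17020) (tt N3142 D17021) (tt N3132 (iv F57634)))
theorem Q3080 : ∀ i, i < 3080 → P i := stepQ 3079 Q3079 (allL N3079 (tt N2978 F49700) (tt N2960 F49701) (tt N3141 (iv F57685)) (tt N2956 F49702) (tt N2976 F57454) (tt N2955 (iv D15187)) (tt N2982 F57455) (tt N2974 F57456))
theorem Q3081 : ∀ i, i < 3081 → P i := stepQ 3080 Q3080 (allL N3080 (tt N2979 F49703) (tt N2961 F49704) (tt N3143 D17022) (tt N2957 F49705) (tt N3022 F49706) (tt N2982 F57358) (tt N2955 (iv D15188)) (tt N2980 F57359))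
theorem Q3082 : ∀ i, i < 3082 → P i := stepQ 3081 Q3081 (allL N3081 (tt N2980 F49707) (tt N2962 F49708) (tt N3144 D17023) (tt N2982 F57245) (tt N3031 F57246) (tt N2957 F49709) (tt N2956 (iv D15189)) (tt N2979 F57247))
theorem Q3083 : ∀ i, i < 3083 → P i := stepQ 3082 Q3082 (allL N3082 (tt N2981 F49710) (tt N3082 F49711) (tt N2957 (iv D15190)) (tt N3145 D17024) (tt N2958 F49712) (tt N3144 (iv F57704)) (tt N3129 (iv F57616)) (tt N3146 D17025))
theorem Q3084 : ∀ i, i < 3084 → P i := stepQ 3083 Q3083 (allL N3083 (tt N2982 F49713) (tt N2963 F49714) (tt N3146 (iv F57712)) (tt N2980 F57250) (tt N2959 F49715) (tt N2979 F57251) (tt N2978 F57252) (tt N2957 (iv D15191)))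
theorem Q3085 : ∀ i, i < 3085 → P i := stepQ 3084 Q3084 (allL N3084 (tt N2983 F49716) (tt N3084 F49717) (tt N3021 F57225) (tt N2958 (iv D15192)) (tt N3131 (iv F57626)) (tt N3020 F57226) (tt N3130 (iv F57622)) (tt N3129 (iv F57617)))
theorem Q3086 : ∀ i, i < 3086 → P i := stepQ 3085 Q3085 (allL N3085 (tt N2984 F49719) (tt N3085 F49720) (tt N2959 F49721) (tt N3129 (iv F57613)) (tt N3146 (iv F57713)) (tt N3137 (iv F57667)) (tt N3145 (iv F57709)) (tt N2958 (iv D15193)))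
theorem Q3087 : ∀ i, i < 3087 → P i := stepQ 3086 Q3086 (allL N3086 (tt N3135 (iv F57648)) (tt N3086 F49752) (tt N2964 (iv D15203)) (tt N3132 (iv F57630)) (tt N3007 F57409) (tt N3147 D17026) (tt N3125 (iv F57591)) (tt N3128 (iv F57610)))
theorem Q3088 : ∀ i, i < 3088 → P i := stepQ 3087 Q3087 (allL N3087 (tt N3026 F57410) (tt N2969 F49754) (tt N3147 (iv F57717)) (tt N2965 F49755) (tt N3019 F57411) (tt N2964 (iv D15204)) (tt N3006 F57412) (tt N3017 F57413))
theorem Q3089 : ∀ i, i < 3089 → P i := stepQ 3088 Q3088 (allL N3088 (tt N3031 F57208) (tt N2970 F49759) (tt N3148 D17027) (tt N3006 F57173) (tt N2980 F49760) (tt N2966 F49761) (tt N2965 (iv D15206)) (tt N3022 F57209))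
theorem Q3090 : ∀ i, i < 3090 → P i := stepQ 3089 Q3089 (allL N3089 (tt N3136 (iv F57655)) (tt N2992 F49762) (tt N2966 (iv D15207)) (tt N3124 (iv F57581)) (tt N2967 F49763) (tt N3148 (iv F57726)) (tt N3133 (iv F57640)) (tt N3149 D17028))
theorem Q3091 : ∀ i, i < 3091 → P i := stepQ 3090 Q3090 (allL N3090 (tt N3010 F57174) (tt N2971 F49764) (tt N3149 (iv F57731)) (tt N3004 F57175) (tt N2968 F49765) (tt N3022 F57176) (tt N3021 F57177) (tt N2966 (iv D15208)))
theorem Q3092 : ∀ i, i < 3092 → P i := stepQ 3091 Q3091 (allL N3091 (tt N3137 (iv F57662)) (tt N2994 F49769) (tt N2968 F49770) (tt N3024 F57172) (tt N3149 (iv F57733)) (tt N2984 F49771) (tt N3150 D17029) (tt N2967 (iv D15210)))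
theorem Q3093 : ∀ i, i < 3093 → P i := stepQ 3092 Q3092 (allL N3092 (tt N3132 (iv F57628)) (tt N2985 F49804) (tt N2972 (iv D15221)) (tt N3135 (iv F57650)) (tt N3024 F49805) (tt N3133 (iv F57639)) (tt N3148 (iv F57727)) (tt N2977 F49806))
theorem Q3094 : ∀ i, i < 3094 → P i := stepQ 3093 Q3093 (allL N3093 (tt N3133 (iv F57635)) (tt N3093 F49815) (tt N2974 (iv D15225)) (tt N3147 (iv F57718)) (tt N2975 F49816) (tt N3132 (iv F57632)) (tt N3136 (iv F57660)) (tt N3141 (iv F57688)))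
theorem Q3095 : ∀ i, i < 3095 → P i := stepQ 3094 Q3094 (allL N3094 (tt N3029 F57543) (tt N3094 F49820) (tt N3027 F49821) (tt N2975 (iv D15227)) (tt N3142 (iv F57692)) (tt N3130 (iv F57621)) (tt N3020 F57544) (tt N3151 D17030))
theorem Q3096 : ∀ i, i < 3096 → P i := stepQ 3095 Q3095 (allL N3095 (tt N3134 (iv F57642)) (tt N3095 F49822) (tt N2976 F49823) (tt N3151 (iv F57743)) (tt N3141 (iv F57687)) (tt N3131 (iv F57627)) (tt N3152 D17031) (tt N2975 (iv D15228)))
theorem Q3097 : ∀ i, i < 3097 → P i := stepQ 3096 Q3096 (allL N3096 (tt N3141 (iv F57683)) (tt N2987 F49858) (tt N2978 F49859) (tt N3025 F57515) (tt N3134 (iv F57646)) (tt N2977 (iv D15239)) (tt N3153 D17032) (tt N3133 (iv F57641)))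
theorem Q3098 : ∀ i, i < 3098 → P i := stepQ 3097 Q3097 (allL N3097 (tt N3142 (iv F57689)) (tt N2988 F49860) (tt N3151 (iv F57742)) (tt N3028 F57512) (tt N3029 F49861) (tt N3153 (iv F57751)) (tt N2977 (iv D15240)) (tt N3027 F57513))
theorem Q3099 : ∀ i, i < 3099 → P i := stepQ 3098 Q3098 (allL N3098 (tt N3143 (iv F57695)) (tt N3098 F49867) (tt N2979 (iv D15243)) (tt N3152 (iv F57748)) (tt N3030 F49868) (tt N3146 (iv F57714)) (tt N3151 (iv F57745)) (tt N3144 (iv F57706)))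
theorem Q3100 : ∀ i, i < 3100 → P i := stepQ 3099 Q3099 (allL N3099 (tt N3144 (iv F57701)) (tt N2996 F49872) (tt N2980 (iv D15245)) (tt N3150 (iv F57737)) (tt N3148 (iv F57725)) (tt N2981 F49873) (tt N3024 F57529) (tt N3143 (iv F57700)))
theorem Q3101 : ∀ i, i < 3101 → P i := stepQ 3100 Q3100 (allL N3100 (tt N3145 (iv F57707)) (tt N2998 F49876) (tt N3152 (iv F57747)) (tt N2981 (iv D15247)) (tt N3139 (iv F57674)) (tt N3150 (iv F57739)) (tt N2984 F57538) (tt N3138 F57671))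
theorem Q3102 : ∀ i, i < 3102 → P i := stepQ 3101 Q3101 (allL N3101 (tt N3146 (iv F57710)) (tt N2999 F49877) (tt N2982 F49878) (tt N3138 (iv F57669)) (tt N2984 F49879) (tt N3143 (iv F57698)) (tt N3139 (iv F57676)) (tt N2981 (iv D15248)))
theorem Q3103 : ∀ i, i < 3103 → P i := stepQ 3102 Q3102 (allL N3102 (tt N3102 F49900) (tt N3148 (iv F57723)) (tt N2991 F57532) (tt N3039 F57549) (tt N2996 F57533) (tt N2992 F57534) (tt N2985 (iv D15256)) (tt N3038 F57555))
theorem Q3104 : ∀ i, i < 3104 → P i := stepQ 3103 Q3103 (allL N3103 (tt N3103 F49920) (tt N3103 F49921) (tt N2990 F57565) (tt N2986 (iv D15261)) (tt N3103 F57566) (tt N2989 F57567) (tt N3035 (iv F57568)) (tt N3103 F49922))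
theorem Q3105 : ∀ i, i < 3105 → P i := stepQ 3104 Q3104 (allL N3104 (tt N3104 F49953) (tt N3153 (iv F57749)) (tt N3104 F49954) (tt N3037 F57554) (tt N3140 (iv F57680)) (tt N2988 F49955) (tt N2987 (iv D15270)) (tt N3040 (iv F57553)))
theorem Q3106 : ∀ i, i < 3106 → P i := stepQ 3105 Q3105 (allL N3105 (tt N3105 F49982) (tt N2995 F49983) (tt N3038 F57547) (tt N3009 F57356) (tt N2997 F49984) (tt N2993 F49985) (tt N3105 F49986) (tt N2991 (iv D15278)))
theorem Q3107 : ∀ i, i < 3107 → P i := stepQ 3106 Q3106 (allL N3106 (tt N3106 F49988) (tt N3149 (iv F57730)) (tt N2993 F49989) (tt N3036 (iv F57551)) (tt N2994 F49990) (tt N3038 (iv F57552)) (tt N3040 F57550) (tt N2992 (iv D15280)))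
theorem Q3108 : ∀ i, i < 3108 → P i := stepQ 3107 Q3107 (allL N3107 (tt N3107 F49997) (tt N3150 (iv F57736)) (tt N3107 F49998) (tt N2996 F57530) (tt N3040 (iv F57548)) (tt N2998 F57531) (tt N2994 (iv D15283)) (tt N3140 (iv F57682)))
theorem Q3109 : ∀ i, i < 3109 → P i := stepQ 3108 Q3108 (allL N3108 (tt N3108 F50033) (tt N3143 (iv F57696)) (tt N2997 F50034) (tt N3140 (iv F57679)) (tt N3038 (iv F57542)) (tt N2999 F50035) (tt N3032 F57535) (tt N2996 (iv D15294)))
theorem Q3110 : ∀ i, i < 3110 → P i := stepQ 3109 Q3109 (allL N3109 (tt N3007 F50138) (tt N3036 F50139) (tt N3001 (iv D15323)) (tt N3149 (iv F57732)) (tt N3135 (iv F57651)) (tt N3013 F50140) (tt N3023 F50141) (tt N3124 (iv F57585)))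
theorem Q3111 : ∀ i, i < 3111 → P i := stepQ 3110 Q3110 (allL N3110 (tt N3013 F50194) (tt N3110 F50195) (tt N3003 (iv D15337)) (tt N3030 F57182) (tt N3127 (iv F57601)) (tt N3007 F50196) (tt N3018 F50197) (tt N3125 (iv F57592)))
theorem Q3112 : ∀ i, i < 3112 → P i := stepQ 3111 Q3111 (allL N3111 (tt N3149 (iv F57729)) (tt N3111 F50307) (tt N3010 F57161) (tt N3007 (iv D15368)) (tt N3137 (iv F57666)) (tt N3030 F57133) (tt N3126 (iv F57597)) (tt N3136 (iv F57661)))
theorem Q3113 : ∀ i, i < 3113 → P i := stepQ 3112 Q3112 (allL N3112 (tt N3124 (iv F57579)) (tt N3112 F50309) (tt N3008 F50310) (tt N3136 (iv F57657)) (tt N3128 (iv F57607)) (tt N3125 (iv F57590)) (tt N3147 (iv F57720)) (tt N3007 (iv D15369)))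
theorem Q3114 : ∀ i, i < 3114 → P i := stepQ 3113 Q3113 (allL N3113 (tt N3127 (iv F57598)) (tt N3037 F50634) (tt N3012 (iv D15475)) (tt N3153 (iv F57750)) (tt N3013 F50635) (tt N3028 F57179) (tt N3025 F50636) (tt N3023 F57180))
theorem Q3115 : ∀ i, i < 3115 → P i := stepQ 3114 Q3114 (allL N3114 (tt N3030 F57545) (tt N3038 F50640) (tt N3022 F57546) (tt N3013 (iv D15477)) (tt N3143 (iv F57697)) (tt N3149 (iv F57734)) (tt N3027 F50641) (tt N3148 (iv F57728)))
theorem Q3116 : ∀ i, i < 3116 → P i := stepQ 3115 Q3115 (allL N3115 (tt N3125 (iv F57586)) (tt N3039 F50642) (tt N3014 F50643) (tt N3148 (iv F57724)) (tt N3023 F57414) (tt N3124 (iv F57583)) (tt N3135 (iv F57653)) (tt N3013 (iv D15478)))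
theorem Q3117 : ∀ i, i < 3117 → P i := stepQ 3116 Q3116 (allL N3116 (tt N3024 F51184) (tt N3116 F51185) (tt N3015 (iv D15661)) (tt N3137 (iv F57665)) (tt N3132 (iv F57631)) (tt N3129 (iv F57615)) (tt N3144 (iv F57705)) (tt N3020 F51186))
theorem Q3118 : ∀ i, i < 3118 → P i := stepQ 3117 Q3117 (allL N3117 (tt N3025 F51197) (tt N3117 F51198) (tt N3017 (iv D15665)) (tt N3141 (iv F57686)) (tt N3018 F51199) (tt N3128 (iv F57608)) (tt N3127 F57603) (tt N3147 (iv F57721)))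
theorem Q3119 : ∀ i, i < 3119 → P i := stepQ 3118 Q3118 (allL N3118 (tt N3027 F51204) (tt N3118 F51205) (tt N3029 F57563) (tt N3018 (iv D15667)) (tt N3151 (iv F57744)) (tt N3126 (iv F57596)) (tt N3030 F57564) (tt N3142 (iv F57693)))
theorem Q3120 : ∀ i, i < 3120 → P i := stepQ 3119 Q3119 (allL N3119 (tt N3028 F51206) (tt N3119 F51207) (tt N3019 F51208) (tt N3142 (iv F57691)) (tt N3147 (iv F57719)) (tt N3127 (iv F57602)) (tt N3128 (iv F57609)) (tt N3018 (iv D15668)))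
theorem Q3121 : ∀ i, i < 3121 → P i := stepQ 3120 Q3120 (allL N3120 (tt N3126 (iv F57593)) (tt N3040 F51315) (tt N3130 (iv F57620)) (tt N3023 (iv D15707)) (tt N3150 (iv F57738)) (tt N3027 F51316) (tt N3149 F57735) (tt N3153 (iv F57752)))
theorem Q3122 : ∀ i, i < 3122 → P i := stepQ 3121 Q3121 (allL N3121 (tt N3147 (iv F57715)) (tt N3041 F51426) (tt N3026 F51427) (tt N3133 (iv F57637)) (tt N3028 F51428) (tt N3135 (iv F57652)) (tt N3124 (iv F57584)) (tt N3025 (iv D15753)))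
theorem Q3123 : ∀ i, i < 3123 → P i := stepQ 3122 Q3122 (allL N3122 (tt N3151 (iv F57740)) (tt N3032 F57536) (tt N3142 (iv F57694)) (tt N3134 (iv F57645)) (tt N3027 (iv D15754)) (tt N3139 (iv F57675)) (tt N3143 (iv F57699)) (tt N3029 F57537))
theorem Q3124 : ∀ i, i < 3124 → P i := stepQ 3123 Q3123 (allL N3123 (tt N3148 (iv F57722)) (tt N3123 F51482) (tt N3031 F51483) (tt N3125 (iv F57588)) (tt N3144 (iv F57703)) (tt N3136 (iv F57659)) (tt N3132 (iv F57633)) (tt N3030 (iv D15776)))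
theorem Q3125 : ∀ i, i < 3125 → P i := stepQ 3124 Q3124 (allL N3124 (tt N3112 F57579) (tt N3048 F57580) (tt N3043 (iv D17003)) (tt N3089 F57581) (tt N3066 F57582) (tt N3115 F57583) (tt N3121 F57584) (tt N3109 F57585))
theorem Q3126 : ∀ i, i < 3126 → P i := stepQ 3125 Q3125 (allL N3125 (tt N3115 F57586) (tt N3125 F57587) (tt N3045 (iv D17004)) (tt N3123 F57588) (tt N3046 F57589) (tt N3112 F57590) (tt N3086 F57591) (tt N3110 F57592))
theorem Q3127 : ∀ i, i < 3127 → P i := stepQ 3126 Q3126 (allL N3126 (tt N3120 F57593) (tt N3126 F57594) (tt N3068 F57595) (tt N3046 (iv D17005)) (tt N3154 D17033) (tt N3118 F57596) (tt N3111 F57597) (tt N3155 D17034))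
theorem Q3128 : ∀ i, i < 3128 → P i := stepQ 3127 Q3127 (allL N3127 (tt N3113 F57598) (tt N3127 F57599) (tt N3047 F57600) (tt N3155 (iv F57763)) (tt N3110 F57601) (tt N3119 F57602) (tt N3117 (iv F57603)) (tt N3046 (iv D17006)))
theorem Q3129 : ∀ i, i < 3129 → P i := stepQ 3128 Q3128 (allL N3128 (tt N3066 F57604) (tt N3128 F57605) (tt N3051 (iv D17007)) (tt N3078 F57606) (tt N3112 F57607) (tt N3117 F57608) (tt N3119 F57609) (tt N3086 F57610))
theorem Q3130 : ∀ i, i < 3130 → P i := stepQ 3129 Q3129 (allL N3129 (tt N3067 F57611) (tt N3129 F57612) (tt N3053 (iv D17008)) (tt N3085 F57613) (tt N3054 F57614) (tt N3116 F57615) (tt N3082 F57616) (tt N3084 F57617))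
theorem Q3131 : ∀ i, i < 3131 → P i := stepQ 3130 Q3130 (allL N3130 (tt N3068 F57618) (tt N3130 F57619) (tt N3120 F57620) (tt N3054 (iv D17009)) (tt N3156 D17035) (tt N3094 F57621) (tt N3084 F57622) (tt N3157 D17036))
theorem Q3132 : ∀ i, i < 3132 → P i := stepQ 3131 Q3131 (allL N3131 (tt N3069 F57623) (tt N3131 F57624) (tt N3055 F57625) (tt N3157 (iv F57777)) (tt N3084 F57626) (tt N3095 F57627) (tt N3156 (iv F57772)) (tt N3054 (iv D17010)))
theorem Q3133 : ∀ i, i < 3133 → P i := stepQ 3132 Q3132 (allL N3132 (tt N3092 F57628) (tt N3132 F57629) (tt N3056 (iv D17011)) (tt N3086 F57630) (tt N3116 F57631) (tt N3093 F57632) (tt N3123 F57633) (tt N3078 F57634))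
theorem Q3134 : ∀ i, i < 3134 → P i := stepQ 3133 Q3133 (allL N3133 (tt N3093 F57635) (tt N3074 F57636) (tt N3058 (iv D17012)) (tt N3121 F57637) (tt N3059 F57638) (tt N3092 F57639) (tt N3089 F57640) (tt N3096 F57641))
theorem Q3135 : ∀ i, i < 3135 → P i := stepQ 3134 Q3134 (allL N3134 (tt N3095 F57642) (tt N3075 F57643) (tt N3060 F57644) (tt N3122 F57645) (tt N3096 F57646) (tt N3069 F57647) (tt N3158 D17037) (tt N3059 (iv D17013)))
theorem Q3136 : ∀ i, i < 3136 → P i := stepQ 3135 Q3135 (allL N3135 (tt N3086 F57648) (tt N3070 F57649) (tt N3061 (iv D17014)) (tt N3092 F57650) (tt N3109 F57651) (tt N3121 F57652) (tt N3115 F57653) (tt N3066 F57654))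
theorem Q3137 : ∀ i, i < 3137 → P i := stepQ 3136 Q3136 (allL N3136 (tt N3089 F57655) (tt N3136 F57656) (tt N3063 (iv D17015)) (tt N3112 F57657) (tt N3064 F57658) (tt N3123 F57659) (tt N3093 F57660) (tt N3111 F57661))
theorem Q3138 : ∀ i, i < 3138 → P i := stepQ 3137 Q3137 (allL N3137 (tt N3091 F57662) (tt N3137 F57663) (tt N3065 F57664) (tt N3116 F57665) (tt N3111 F57666) (tt N3085 F57667) (tt N3154 (iv F57757)) (tt N3064 (iv D17016)))
theorem Q3139 : ∀ i, i < 3139 → P i := stepQ 3138 Q3138 (allL N3138 (tt N3156 (iv F57767)) (tt N3076 F57668) (tt N3154 (iv F57755)) (tt N3101 F57669) (tt N3068 (iv D17017)) (tt N3158 (iv F57786)) (tt N3069 F57670) (tt N3100 (iv F57671)))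
theorem Q3140 : ∀ i, i < 3140 → P i := stepQ 3139 Q3139 (allL N3139 (tt N3157 (iv F57774)) (tt N3077 F57672) (tt N3155 (iv F57762)) (tt N3069 F57673) (tt N3100 F57674) (tt N3122 F57675) (tt N3101 F57676) (tt N3068 (iv D17018)))
theorem Q3141 : ∀ i, i < 3141 → P i := stepQ 3140 Q3140 (allL N3140 (tt N3140 F57677) (tt N3158 (iv F57782)) (tt N3140 F57678) (tt N3108 F57679) (tt N3104 F57680) (tt N3076 F57681) (tt N3075 (iv D17019)) (tt N3107 F57682))
theorem Q3142 : ∀ i, i < 3142 → P i := stepQ 3141 Q3141 (allL N3141 (tt N3096 F57683) (tt N3141 F57684) (tt N3079 F57685) (tt N3117 F57686) (tt N3095 F57687) (tt N3078 (iv D17020)) (tt N3155 (iv F57766)) (tt N3093 F57688))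
theorem Q3143 : ∀ i, i < 3143 → P i := stepQ 3142 Q3142 (allL N3142 (tt N3097 F57689) (tt N3142 F57690) (tt N3122 F57694) (tt N3119 F57691) (tt N3094 F57692) (tt N3155 (iv F57765)) (tt N3078 (iv D17021)) (tt N3118 F57693))
theorem Q3144 : ∀ i, i < 3144 → P i := stepQ 3143 Q3143 (allL N3143 (tt N3098 F57695) (tt N3108 F57696) (tt N3080 (iv D17022)) (tt N3158 (iv F57784)) (tt N3114 F57697) (tt N3101 F57698) (tt N3122 F57699) (tt N3099 F57700))
theorem Q3145 : ∀ i, i < 3145 → P i := stepQ 3144 Q3144 (allL N3144 (tt N3099 F57701) (tt N3144 F57702) (tt N3081 (iv D17023)) (tt N3154 (iv F57756)) (tt N3123 F57703) (tt N3082 F57704) (tt N3116 F57705) (tt N3098 F57706))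
theorem Q3146 : ∀ i, i < 3146 → P i := stepQ 3145 Q3145 (allL N3145 (tt N3100 F57707) (tt N3145 F57708) (tt N3158 (iv F57783)) (tt N3082 (iv D17024)) (tt N3157 (iv F57778)) (tt N3154 F57758) (tt N3085 F57709) (tt N3156 F57773))
theorem Q3147 : ∀ i, i < 3147 → P i := stepQ 3146 Q3146 (allL N3146 (tt N3101 F57710) (tt N3146 F57711) (tt N3083 F57712) (tt N3156 (iv F57770)) (tt N3085 F57713) (tt N3098 F57714) (tt N3157 (iv F57780)) (tt N3082 (iv D17025)))
theorem Q3148 : ∀ i, i < 3148 → P i := stepQ 3147 Q3147 (allL N3147 (tt N3121 F57715) (tt N3147 F57716) (tt N3087 F57717) (tt N3093 F57718) (tt N3119 F57719) (tt N3086 (iv D17026)) (tt N3112 F57720) (tt N3117 F57721))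
theorem Q3149 : ∀ i, i < 3149 → P i := stepQ 3148 Q3148 (allL N3148 (tt N3123 F57722) (tt N3102 F57723) (tt N3088 (iv D17027)) (tt N3115 F57724) (tt N3099 F57725) (tt N3089 F57726) (tt N3092 F57727) (tt N3114 F57728))
theorem Q3150 : ∀ i, i < 3150 → P i := stepQ 3149 Q3149 (allL N3149 (tt N3111 F57729) (tt N3106 F57730) (tt N3090 F57731) (tt N3109 F57732) (tt N3091 F57733) (tt N3114 F57734) (tt N3120 (iv F57735)) (tt N3089 (iv D17028)))
theorem Q3151 : ∀ i, i < 3151 → P i := stepQ 3150 Q3150 (allL N3150 (tt N3154 (iv F57753)) (tt N3107 F57736) (tt N3156 (iv F57769)) (tt N3099 F57737) (tt N3120 F57738) (tt N3100 F57739) (tt N3091 (iv D17029)) (tt N3158 (iv F57787)))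
theorem Q3152 : ∀ i, i < 3152 → P i := stepQ 3151 Q3151 (allL N3151 (tt N3122 F57740) (tt N3151 F57741) (tt N3097 F57742) (tt N3095 F57743) (tt N3118 F57744) (tt N3157 (iv F57779)) (tt N3098 F57745) (tt N3094 (iv D17030)))
theorem Q3153 : ∀ i, i < 3153 → P i := stepQ 3152 Q3152 (allL N3152 (tt N3158 (iv F57781)) (tt N3152 F57746) (tt N3100 F57747) (tt N3098 F57748) (tt N3155 (iv F57764)) (tt N3156 (iv F57771)) (tt N3095 (iv D17031)) (tt N3154 F57759))
theorem Q3154 : ∀ i, i < 3154 → P i := stepQ 3153 Q3153 (allL N3153 (tt N3155 (iv F57760)) (tt N3104 F57749) (tt N3157 (iv F57776)) (tt N3113 F57750) (tt N3158 (iv F57785)) (tt N3097 F57751) (tt N3096 (iv D17032)) (tt N3120 F57752))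
theorem Q3155 : ∀ i, i < 3155 → P i := stepQ 3154 Q3154 (allL N3154 (tt N3150 F57753) (tt N3154 F57754) (tt N3138 F57755) (tt N3144 F57756) (tt N3126 (iv D17033)) (tt N3145 (iv F57758)) (tt N3137 F57757) (tt N3152 (iv F57759)))
theorem Q3156 : ∀ i, i < 3156 → P i := stepQ 3155 Q3155 (allL N3155 (tt N3153 F57760) (tt N3155 F57761) (tt N3139 F57762) (tt N3127 F57763) (tt N3152 F57764) (tt N3142 F57765) (tt N3141 F57766) (tt N3126 (iv D17034)))
theorem Q3157 : ∀ i, i < 3157 → P i := stepQ 3156 Q3156 (allL N3156 (tt N3138 F57767) (tt N3156 F57768) (tt N3150 F57769) (tt N3146 F57770) (tt N3130 (iv D17035)) (tt N3152 F57771) (tt N3131 F57772) (tt N3145 (iv F57773)))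
theorem Q3158 : ∀ i, i < 3158 → P i := stepQ 3157 Q3157 (allL N3157 (tt N3139 F57774) (tt N3157 F57775) (tt N3153 F57776) (tt N3131 F57777) (tt N3145 F57778) (tt N3151 F57779) (tt N3146 F57780) (tt N3130 (iv D17036)))
theorem Q3159 : ∀ i, i < 3159 → P i := stepQ 3158 Q3158 (allL N3158 (tt N3152 F57781) (tt N3140 F57782) (tt N3145 F57783) (tt N3143 F57784) (tt N3153 F57785) (tt N3138 F57786) (tt N3134 (iv D17037)) (tt N3150 F57787))

theorem closedN : ∀ i, i < N → P i := Q3159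

end Cfsg.Agent.Helper17.FiQ1TC
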